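import Mathlib
import Cfsg.Prelude.Def_Blocks
import Cfsg.Agent.Helper15.CliffordCorr

/-!
# The Clifford correspondence: induction from the inertia group is irreducible and injective

For `N ⊴ G`, `θ ∈ Irr(N)`, `T = inertia N θ`:
* `inner_restrict_eq_sum`: `⟨χ_N, θ⟩ = ∑ ξ ∈ Irr(T), ⟨χ_T, ξ⟩ ⟨ξ_N, θ⟩`;
* `clifford_unique_constituent`: `χ_T` has exactly one irreducible constituent lying over `θ`;
* `isIrrCharacter_indFun_inertia`: `ψ ∈ Irr(T | θ) ⟹ ψ^G ∈ Irr(G)`;
* `indFun_inertia_injective`: `ψ ↦ ψ^G` is injective on `Irr(T | θ)`.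
-/

set_option autoImplicit false
set_option linter.unusedSectionVars false

namespace Cfsg.Agent.Helper81

open Cfsg Cfsg.Agent.Helper15
open scoped ComplexConjugate

universe u

variable {G : Type u} [Group G] [Fintype G]

/-- `⟨χ_N, θ⟩ = ∑ ξ ∈ Irr(T), ⟨χ_T, ξ⟩ ⟨ξ_N, θ⟩` for `N ≤ T` and a character `χ` of `G`. -/
theorem inner_restrict_eq_sum (N T : Subgroup G) [Fintype N] [Fintype T] (hNT : N ≤ T)
    [Fintype (IrrCharacter T)] {χ : G → ℂ} (hχ : IsCharacter G χ) (θ : N → ℂ) :
    classInner (fun n : N => χ n) θ =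
      ∑ ξ : IrrCharacter T, classInner (fun t : T => χ t) (ξ : T → ℂ) *
        classInner (resTo N T hNT (ξ : T → ℂ)) θ := by
  have hχT : IsCharacter T (fun t : T => χ t) := Helper74.isCharacter_restrict T hχ
  have hdec := Helper74.isCharacter_eq_sum_irr hχT
  have h1 : (fun n : N => χ n)
      = ∑ ξ : IrrCharacter T, classInner (fun t : T => χ t) (ξ : T → ℂ) •
          resTo N T hNT (ξ : T → ℂ) := by
    have := congrArg (resTo N T hNT) hdec
    rw [resTo_restrict, resTo_finset_sum] at this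
    exact this
  conv_lhs => rw [h1]
  rw [classInner_finset_sum_left]
  refine Finset.sum_congr rfl fun ξ _ => ?_
  rw [classInner_smul_left]

/-- Natural-number version of `inner_restrict_eq_sum`. -/
theorem exists_nat_inner_restrict (N T : Subgroup G) [Fintype N] [Fintype T] (hNT : N ≤ T)
    [Fintype (IrrCharacter T)] {χ : G → ℂ} (hχ : IsCharacter G χ) {θ : N → ℂ}
    (hθ : IsCharacter N θ) :
    ∃ (m f : IrrCharacter T → ℕ) (e : ℕ),
      (∀ ξ : IrrCharacter T, classInner (fun t : T => χ t) (ξ : T → ℂ) = m ξ) ∧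
      (∀ ξ : IrrCharacter T, classInner (resTo N T hNT (ξ : T → ℂ)) θ = f ξ) ∧
      classInner (fun n : N => χ n) θ = e ∧ e = ∑ ξ, m ξ * f ξ := by
  have hχT : IsCharacter T (fun t : T => χ t) := Helper74.isCharacter_restrict T hχ
  choose m hm using fun ξ : IrrCharacter T => Helper74.isCharacter_inner_irr_nat hχT ξ
  choose f hf using fun ξ : IrrCharacter T =>
    isCharacter_inner_nat (isCharacter_resTo N T hNT (Helper74.irr_isCharacter ξ)) hθ
  obtain ⟨e, he⟩ := isCharacter_inner_nat (Helper74.isCharacter_restrict N hχ) hθ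
  refine ⟨m, f, e, hm, hf, he, ?_⟩
  have h := inner_restrict_eq_sum N T hNT hχ θ
  rw [he] at h
  simp only [hm, hf] at h
  exact_mod_cast h

variable (N : Subgroup G) [hN : N.Normal] [Fintype N]

/-- If `ψ' ∈ Irr(T)` is a constituent of `χ_T` carrying the full multiplicity of `θ` in `χ_N`,
then it is the only irreducible constituent of `χ_T` lying over `θ`. -/
theorem clifford_unique_constituent {θ : N → ℂ} (hθ : IsIrrCharacter N θ) (T : Subgroup G)
    [Fintype T] (hNT : N ≤ T) {χ : G → ℂ} (hχ : IsCharacter G χ)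
    {ψ' : T → ℂ} (hψ' : IsIrrCharacter T ψ')
    (hcon' : classInner (fun t : T => χ t) ψ' ≠ 0)
    (hfull : classInner (resTo N T hNT ψ') θ = classInner (fun n : N => χ n) θ)
    {ξ : T → ℂ} (hξ : IsIrrCharacter T ξ) (hconξ : classInner (fun t : T => χ t) ξ ≠ 0)
    (hξθ : classInner (resTo N T hNT ξ) θ ≠ 0) : ξ = ψ' := by
  classical
  let _ := Helper74.irrFintype T
  obtain ⟨m, f, e, hm, hf, he, hsum⟩ :=
    exists_nat_inner_restrict N T hNT hχ (Helper74.isCharacter_of_isIrr hθ)
  by_contra hne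
  let a : IrrCharacter T := ⟨ψ', hψ'⟩
  let b : IrrCharacter T := ⟨ξ, hξ⟩
  have hab : b ≠ a := fun h => hne (congrArg Subtype.val h)
  have hma : m a ≠ 0 := by
    intro h0; apply hcon'
    have := hm a; rw [h0] at this; simpa using this
  have hfa : f a = e := by
    have h1 := hf a
    have h2 : classInner (resTo N T hNT ψ') θ = (e : ℂ) := by rw [hfull, he]
    have h3 : ((f a : ℕ) : ℂ) = (e : ℂ) := by rw [← h1]; exact h2
    exact_mod_cast h3
  have hmb : m b ≠ 0 := by
    intro h0; apply hconξ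
    have := hm b; rw [h0] at this; simpa using this
  have hfb : f b ≠ 0 := by
    intro h0; apply hξθ
    have := hf b; rw [h0] at this; simpa using this
  have h2 : m a * f a + m b * f b ≤ ∑ ξ, m ξ * f ξ := by
    have hsub : ({a, b} : Finset (IrrCharacter T)) ⊆ Finset.univ := Finset.subset_univ _
    have := Finset.sum_le_sum_of_subset (f := fun ξ => m ξ * f ξ) hsub
    rwa [Finset.sum_pair hab.symm] at this
  rw [← hsum, hfa] at h2
  have h3 : e ≤ m a * e := Nat.le_mul_of_pos_left _ (Nat.pos_of_ne_zero hma)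
  have h4 : 0 < m b * f b := Nat.mul_pos (Nat.pos_of_ne_zero hmb) (Nat.pos_of_ne_zero hfb)
  omega

/-- A nonzero character has an irreducible constituent. -/
theorem exists_irr_constituent {Ψ : G → ℂ} (hΨ : IsCharacter G Ψ) (h1 : Ψ 1 ≠ 0) :
    ∃ χ : IrrCharacter G, classInner Ψ (χ : G → ℂ) ≠ 0 := by
  classical
  let _ := Helper74.irrFintype G
  by_contra hcon
  push Not at hcon
  have hdec := Helper74.isCharacter_eq_sum_irr hΨ
  apply h1
  rw [hdec]
  simp [hcon]

/-- **Clifford correspondence**: induction from the inertia group sends `Irr(T | θ)` into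
`Irr(G)`. -/
theorem isIrrCharacter_indFun_inertia {θ : N → ℂ} (hθ : IsIrrCharacter N θ) (T : Subgroup G)
    [Fintype T] (hT : T = inertia N θ) (hNT : N ≤ T) {ψ : T → ℂ} (hψ : IsIrrCharacter T ψ)
    (hψθ : classInner (resTo N T hNT ψ) θ ≠ 0) :
    IsIrrCharacter G (indFun T ψ) ∧
      classInner (fun n : N => indFun T ψ n) θ = classInner (resTo N T hNT ψ) θ := by
  classical
  let _ := Helper74.irrFintype T
  have hψc : IsCharacter T ψ := Helper74.isCharacter_of_isIrr hψ
  have hΨ : IsCharacter G (indFun T ψ) := isCharacter_indFun T hψc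
  have hΨ1 : indFun T ψ 1 ≠ 0 := by
    rw [indFun_apply_one]
    apply mul_ne_zero
    · have : T.index ≠ 0 := Subgroup.index_ne_zero_of_finite
      exact_mod_cast this
    · exact Helper80.IsIrrCharacter.map_one_ne_zero hψ
  obtain ⟨χ, hχcon⟩ := exists_irr_constituent hΨ hΨ1
  have hχc : IsCharacter G (χ : G → ℂ) := Helper74.irr_isCharacter χ
  have hχcf : IsClassFunction G (χ : G → ℂ) := Helper74.irr_isClassFunction χ
  -- `ψ` is a constituent of `χ_T`
  have hcon1 : classInner (fun t : T => (χ : G → ℂ) t) ψ ≠ 0 := by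
    rw [← frobenius_reciprocity' T ψ (χ : G → ℂ) hχcf]
    intro h0
    apply hχcon
    rw [← classInner_conj_symm, h0, map_zero]
  -- `θ` is a constituent of `χ_N`
  obtain ⟨m, f, e, hm, hf, he, hsum⟩ :=
    exists_nat_inner_restrict N T hNT hχc (Helper74.isCharacter_of_isIrr hθ)
  have he0 : classInner (fun n : N => (χ : G → ℂ) n) θ ≠ 0 := by
    rw [he]
    let a : IrrCharacter T := ⟨ψ, hψ⟩
    have hma : m a ≠ 0 := by
      intro h0; apply hcon1
      have := hm a; rw [h0] at this; simpa using this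
    have hfa : f a ≠ 0 := by
      intro h0; apply hψθ
      have := hf a; rw [h0] at this; simpa using this
    have : m a * f a ≤ ∑ ξ, m ξ * f ξ :=
      Finset.single_le_sum (f := fun ξ => m ξ * f ξ) (fun _ _ => Nat.zero_le _) (Finset.mem_univ a)
    have h4 : 0 < m a * f a := Nat.mul_pos (Nat.pos_of_ne_zero hma) (Nat.pos_of_ne_zero hfa)
    have : e ≠ 0 := by omega
    exact_mod_cast this
  obtain ⟨ψ', hψ', hind, hfull⟩ := clifford_correspondence_exists N hθ T hT hNT χ.2 he0
  have hcon' : classInner (fun t : T => (χ : G → ℂ) t) ψ' ≠ 0 := by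
    rw [← frobenius_reciprocity' T ψ' (χ : G → ℂ) hχcf, hind]
    rw [Helper74.irr_inner_self χ]
    exact one_ne_zero
  have heq : ψ = ψ' :=
    clifford_unique_constituent N hθ T hNT hχc hψ' hcon' hfull hψ hcon1 hψθ
  rw [heq, hind]
  exact ⟨χ.2, hfull.symm⟩

/-- **Clifford correspondence**: induction is injective on `Irr(T | θ)`. -/
theorem indFun_inertia_injective {θ : N → ℂ} (hθ : IsIrrCharacter N θ) (T : Subgroup G)
    [Fintype T] (hT : T = inertia N θ) (hNT : N ≤ T) {ψ₁ ψ₂ : T → ℂ}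
    (hψ₁ : IsIrrCharacter T ψ₁) (hψ₂ : IsIrrCharacter T ψ₂)
    (h₁ : classInner (resTo N T hNT ψ₁) θ ≠ 0) (h₂ : classInner (resTo N T hNT ψ₂) θ ≠ 0)
    (h : indFun T ψ₁ = indFun T ψ₂) : ψ₁ = ψ₂ := by
  obtain ⟨hirr, hfull⟩ := isIrrCharacter_indFun_inertia N hθ T hT hNT hψ₁ h₁
  have hχc : IsCharacter G (indFun T ψ₁) := Helper74.isCharacter_of_isIrr hirr
  have hχcf : IsClassFunction G (indFun T ψ₁) := Helper74.isClassFunction_of_isCharacter hχc
  have hself : classInner (indFun T ψ₁) (indFun T ψ₁) = 1 := Helper74.irr_inner_self ⟨_, hirr⟩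
  have hcon1 : classInner (fun t : T => indFun T ψ₁ t) ψ₁ ≠ 0 := by
    rw [← frobenius_reciprocity' T ψ₁ _ hχcf, hself]
    exact one_ne_zero
  have hcon2 : classInner (fun t : T => indFun T ψ₁ t) ψ₂ ≠ 0 := by
    rw [← frobenius_reciprocity' T ψ₂ _ hχcf, ← h, hself]
    exact one_ne_zero
  exact (clifford_unique_constituent N hθ T hNT hχc hψ₁ hcon1 hfull.symm hψ₂ hcon2 h₂).symm

end Cfsg.Agent.Helper81
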