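import Mathlib

/-!
# Schur's lemma in scalar form, class sums, generalized orthogonality

Representation-level lemmas (any finite-dimensional `V` over an algebraically closed field `k`),
built only on Mathlib.  Everything lives in `namespace Cfsg.Agent.Helper81`.
-/

set_option autoImplicit false
set_option linter.unusedSectionVars false

namespace Cfsg.Agent.Helper81

open Representation

section Schur

variable {G : Type*} [Group G] {k : Type*} [Field k] [IsAlgClosed k] {V : Type*} [AddCommGroup V]
  [Module k V] [FiniteDimensional k V]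

/-- Schur's lemma: an endomorphism commuting with an irreducible representation over an
algebraically closed field is a scalar. -/
theorem schur_scalar (ρ : Representation k G V) [ρ.IsIrreducible] (T : V →ₗ[k] V)
    (hT : ∀ g, T ∘ₗ ρ g = ρ g ∘ₗ T) : ∃ c : k, T = c • LinearMap.id := by
  obtain ⟨c, hc⟩ := (IsIrreducible.algebraMap_intertwiningMap_bijective_of_isAlgClosed
    (ρ := ρ)).2 ⟨T, hT⟩
  refine ⟨c, ?_⟩
  have := congrArg IntertwiningMap.toLinearMap hc
  simp at this
  rw [← this]
  rfl

omit [IsAlgClosed k] [FiniteDimensional k V] in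
theorem nontrivial_of_irreducible (ρ : Representation k G V) [ρ.IsIrreducible] : Nontrivial V := by
  by_contra h
  rw [not_nontrivial_iff_subsingleton] at h
  have : Subsingleton (Subrepresentation ρ) := by
    constructor
    intro a b
    ext x
    simp [Subsingleton.elim x 0]
  have h2 : Nontrivial (Subrepresentation ρ) := IsSimpleOrder.toNontrivial
  exact not_subsingleton _ this

omit [IsAlgClosed k] in
theorem finrank_pos_of_irreducible (ρ : Representation k G V) [ρ.IsIrreducible] :
    0 < Module.finrank k V := by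
  have := nontrivial_of_irreducible ρ
  exact Module.finrank_pos

/-- Schur's lemma with the scalar identified via the trace. -/
theorem schur_scalar_trace [CharZero k] (ρ : Representation k G V) [ρ.IsIrreducible] (T : V →ₗ[k] V)
    (hT : ∀ g, T ∘ₗ ρ g = ρ g ∘ₗ T) :
    T = (LinearMap.trace k V T / (Module.finrank k V : k)) • LinearMap.id := by
  obtain ⟨c, hc⟩ := schur_scalar ρ T hT
  have hpos := finrank_pos_of_irreducible ρ
  have hne : (Module.finrank k V : k) ≠ 0 := by exact_mod_cast hpos.ne'
  have htr : LinearMap.trace k V T = c * Module.finrank k V := by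
    rw [hc]; simp
  rw [htr, mul_div_assoc, div_self hne, mul_one]
  exact hc

end Schur

section Averaging

variable {G : Type*} [Group G] [Fintype G] {k : Type*} [Field k] [IsAlgClosed k] {V : Type*}
  [AddCommGroup V] [Module k V] [FiniteDimensional k V]

/-- The `G`-conjugation sum of an endomorphism commutes with the representation. -/
theorem sum_conj_comm (ρ : Representation k G V) (A : Module.End k V) (g : G) :
    (∑ y : G, ρ y * A * ρ y⁻¹) * ρ g = ρ g * (∑ y : G, ρ y * A * ρ y⁻¹) := by
  rw [Finset.sum_mul, Finset.mul_sum]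
  refine Fintype.sum_equiv (Equiv.mulLeft g⁻¹) _ _ ?_
  intro y
  have h1 : ρ g * ρ g⁻¹ = 1 := by rw [← map_mul, mul_inv_cancel, map_one]
  simp only [Equiv.coe_mulLeft, mul_inv_rev, inv_inv, map_mul, mul_assoc]
  rw [← mul_assoc (ρ g) (ρ g⁻¹), h1, one_mul]

theorem trace_sum_conj (ρ : Representation k G V) (A : Module.End k V) :
    LinearMap.trace k V (∑ y : G, ρ y * A * ρ y⁻¹) = (Nat.card G : k) * LinearMap.trace k V A := by
  rw [map_sum]
  have : ∀ y : G, LinearMap.trace k V (ρ y * A * ρ y⁻¹) = LinearMap.trace k V A := by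
    intro y
    rw [LinearMap.trace_mul_comm, ← mul_assoc, ← map_mul]
    simp
  simp [this, Nat.card_eq_fintype_card]

/-- Schur averaging: for an irreducible representation, the `G`-conjugation sum of an
endomorphism `A` is the scalar `|G| tr A / dim V`. -/
theorem sum_conj_eq_scalar [CharZero k] (ρ : Representation k G V) [ρ.IsIrreducible]
    (A : Module.End k V) :
    (∑ y : G, ρ y * A * ρ y⁻¹) =
      ((Nat.card G : k) * LinearMap.trace k V A / (Module.finrank k V : k)) •
        (1 : Module.End k V) := by
  have h := schur_scalar_trace ρ (∑ y : G, ρ y * A * ρ y⁻¹) (sum_conj_comm ρ A)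
  rw [trace_sum_conj] at h
  exact h

/-- Class sums act as scalars in an irreducible representation. -/
theorem sum_conj_apply_eq_scalar [CharZero k] (ρ : Representation k G V) [ρ.IsIrreducible] (x : G) :
    (∑ y : G, ρ (y * x * y⁻¹)) =
      ((Nat.card G : k) * ρ.character x / (Module.finrank k V : k)) • (1 : Module.End k V) := by
  have := sum_conj_eq_scalar ρ (ρ x)
  simp only [character]
  rw [← this]
  refine Finset.sum_congr rfl ?_
  intro y _
  simp [map_mul]

/-- A class-function-weighted sum of the `ρ y` commutes with the representation. -/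
theorem sum_smul_comm (ρ : Representation k G V) (f : G → k)
    (hf : ∀ g h : G, f (h * g * h⁻¹) = f g) (g : G) :
    (∑ y : G, f y • ρ y) * ρ g = ρ g * (∑ y : G, f y • ρ y) := by
  rw [Finset.sum_mul, Finset.mul_sum]
  refine Fintype.sum_equiv (MulAut.conj g⁻¹).toEquiv _ _ ?_
  intro y
  have h1 : ρ g * ρ g⁻¹ = 1 := by rw [← map_mul, mul_inv_cancel, map_one]
  have h2 : f (g⁻¹ * y * g) = f y := by
    have := hf y g⁻¹
    rwa [inv_inv] at this
  simp only [MulEquiv.toEquiv_eq_coe, MulEquiv.coe_toEquiv, MulAut.conj_apply, inv_inv, map_mul,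
    smul_mul_assoc, mul_smul_comm, mul_assoc]
  rw [← mul_assoc (ρ g) (ρ g⁻¹), h1, one_mul, ← mul_assoc g⁻¹ y g, h2]

/-- A class-function-weighted sum of the `ρ y` is a scalar in an irreducible representation. -/
theorem sum_smul_eq_scalar [CharZero k] (ρ : Representation k G V) [ρ.IsIrreducible] (f : G → k)
    (hf : ∀ g h : G, f (h * g * h⁻¹) = f g) :
    (∑ y : G, f y • ρ y) =
      ((∑ y : G, f y * ρ.character y) / (Module.finrank k V : k)) • (1 : Module.End k V) := by
  have h := schur_scalar_trace ρ (∑ y : G, f y • ρ y) (sum_smul_comm ρ f hf)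
  rw [h]
  congr 2
  simp [map_sum, character]

theorem card_ne_zero' [CharZero k] : (Nat.card G : k) ≠ 0 := by
  have : 0 < Nat.card G := Nat.card_pos
  exact_mod_cast this.ne'

/-- First orthogonality, unnormalised, for two irreducible representations. -/
theorem sum_char_mul_char_inv' [CharZero k] {W : Type*} [AddCommGroup W] [Module k W]
    [FiniteDimensional k W] (ρ : Representation k G V) (σ : Representation k G W)
    [ρ.IsIrreducible] [σ.IsIrreducible] [Decidable (Nonempty (σ.Equiv ρ))] :
    ∑ g : G, ρ.character g * σ.character g⁻¹ =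
      if Nonempty (σ.Equiv ρ) then (Nat.card G : k) else 0 := by
  have hne : (Nat.card G : k) ≠ 0 := card_ne_zero'
  have : Invertible (Nat.card G : k) := invertibleOfNonzero hne
  have h := char_orthonormal ρ σ
  split_ifs with hc
  · rw [if_pos hc] at h
    field_simp at h
    exact h
  · rw [if_neg hc] at h
    field_simp at h
    simpa using h

theorem sum_char_mul_char_inv [CharZero k] (ρ : Representation k G V) [ρ.IsIrreducible] :
    ∑ g : G, ρ.character g * ρ.character g⁻¹ = (Nat.card G : k) := by
  classical
  rw [sum_char_mul_char_inv' ρ ρ, if_pos ⟨Representation.Equiv.refl ρ⟩]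

omit [IsAlgClosed k] [FiniteDimensional k V] [Fintype G] in
theorem char_inv_conj (ρ : Representation k G V) (g h : G) :
    ρ.character (h * g * h⁻¹)⁻¹ = ρ.character g⁻¹ := by
  have : (h * g * h⁻¹)⁻¹ = h * g⁻¹ * h⁻¹ := by group
  rw [this, char_conj]

/-- Generalised orthogonality in operator form: `∑_h σ.character h⁻¹ • ρ h` is the scalar
`|G| / dim V` if `σ ≅ ρ` and `0` otherwise. -/
theorem sum_char_inv_smul [CharZero k] {W : Type*} [AddCommGroup W] [Module k W]
    [FiniteDimensional k W] (ρ : Representation k G V) (σ : Representation k G W)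
    [ρ.IsIrreducible] [σ.IsIrreducible] [Decidable (Nonempty (σ.Equiv ρ))] :
    (∑ h : G, σ.character h⁻¹ • ρ h) =
      ((if Nonempty (σ.Equiv ρ) then (Nat.card G : k) else 0) / (Module.finrank k V : k)) •
        (1 : Module.End k V) := by
  rw [sum_smul_eq_scalar ρ (fun h => σ.character h⁻¹) (fun g h => char_inv_conj σ g h),
    ← sum_char_mul_char_inv' ρ σ]
  congr 2
  refine Finset.sum_congr rfl fun g _ => ?_
  ring

/-- Generalised orthogonality relation:
`∑_h χ_ρ(g h) χ_σ(h⁻¹) = |G| χ_ρ(g) / χ_ρ(1)` if `σ ≅ ρ`, and `0` otherwise. -/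
theorem sum_char_mul_char_inv_gen [CharZero k] {W : Type*} [AddCommGroup W] [Module k W]
    [FiniteDimensional k W] (ρ : Representation k G V) (σ : Representation k G W)
    [ρ.IsIrreducible] [σ.IsIrreducible] [Decidable (Nonempty (σ.Equiv ρ))] (g : G) :
    ∑ h : G, ρ.character (g * h) * σ.character h⁻¹ =
      (if Nonempty (σ.Equiv ρ) then (Nat.card G : k) else 0) * ρ.character g /
        (Module.finrank k V : k) := by
  have h := congrArg (fun T => LinearMap.trace k V (ρ g * T)) (sum_char_inv_smul ρ σ)
  simp only [Finset.mul_sum, map_sum, mul_smul_comm, map_smul, smul_eq_mul, mul_one] at h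
  rw [mul_div_right_comm]
  change _ = _ * LinearMap.trace k V (ρ g)
  rw [← h]
  refine Finset.sum_congr rfl fun x _ => ?_
  rw [character, map_mul, mul_comm]

/-- The double sum of `ρ` over all commutators is the scalar `(|G| / dim V)²`. -/
theorem sum_commutator_eq_scalar [CharZero k] (ρ : Representation k G V) [ρ.IsIrreducible] :
    (∑ x : G, ∑ y : G, ρ (x * y * x⁻¹ * y⁻¹)) =
      (((Nat.card G : k) / (Module.finrank k V : k)) ^ 2) • (1 : Module.End k V) := by
  classical
  rw [Finset.sum_comm]
  have h1 : ∀ y : G, ∑ x : G, ρ (x * y * x⁻¹ * y⁻¹) =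
      ((Nat.card G : k) / (Module.finrank k V : k)) • (ρ.character y • ρ y⁻¹) := by
    intro y
    have : ∀ x : G, ρ (x * y * x⁻¹ * y⁻¹) = ρ (x * y * x⁻¹) * ρ y⁻¹ := fun x => map_mul _ _ _
    simp only [this]
    rw [← Finset.sum_mul, sum_conj_apply_eq_scalar, smul_mul_assoc, one_mul, smul_smul]
    congr 1
    ring
  simp only [h1]
  rw [← Finset.smul_sum]
  have h2 : ∑ y : G, ρ.character y • ρ y⁻¹ = ∑ y : G, ρ.character y⁻¹ • ρ y := by
    refine Fintype.sum_equiv (Equiv.inv G) _ _ ?_
    intro y
    simp
  rw [h2, sum_char_inv_smul ρ ρ, if_pos ⟨Representation.Equiv.refl ρ⟩, smul_smul, pow_two]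

/-- Character form of `sum_commutator_eq_scalar`. -/
theorem sum_char_commutator_mul [CharZero k] (ρ : Representation k G V) [ρ.IsIrreducible] (z : G) :
    (∑ x : G, ∑ y : G, ρ.character (x * y * x⁻¹ * y⁻¹ * z)) =
      ((Nat.card G : k) / (Module.finrank k V : k)) ^ 2 * ρ.character z := by
  have h := congrArg (fun T => LinearMap.trace k V (T * ρ z)) (sum_commutator_eq_scalar ρ)
  simp only [Finset.sum_mul, map_sum, smul_mul_assoc, one_mul, map_smul, smul_eq_mul] at h
  rw [character, ← h]
  refine Finset.sum_congr rfl fun x _ => Finset.sum_congr rfl fun y _ => ?_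
  rw [character, map_mul]

end Averaging

end Cfsg.Agent.Helper81
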