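import Mathlib
import Cfsg.Agent.Helper81.Schur

/-!
# Invariant bilinear forms and the Frobenius–Schur theorem (representation level)

For an irreducible representation `ρ` of a finite group on a finite-dimensional space over an
algebraically closed field of characteristic zero:
* invariant bilinear forms are zero or nondegenerate, and unique up to scalars;
* `∑ g, χ(g²)` is `0`, `|G|` or `-|G|`; it is nonzero iff `χ(g⁻¹) = χ(g)` for all `g` iff a nonzero
  invariant form exists; the sign says whether that form is symmetric or alternating.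
-/

set_option autoImplicit false
set_option linter.unusedSectionVars false

namespace Cfsg.Agent.Helper81

open Representation



section Forms

variable {G : Type*} [Group G] {k : Type*} [Field k] {V : Type*} [AddCommGroup V]
  [Module k V]

/-- A bilinear form invariant under a representation. -/
def IsInvariantForm (ρ : Representation k G V) (B : LinearMap.BilinForm k V) : Prop :=
  ∀ g v w, B (ρ g v) (ρ g w) = B v w

theorem IsInvariantForm.apply_left {ρ : Representation k G V} {B : LinearMap.BilinForm k V}
    (hB : IsInvariantForm ρ B) (g : G) (v w : V) : B (ρ g v) w = B v (ρ g⁻¹ w) := by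
  have := hB g v (ρ g⁻¹ w)
  rw [← this, ← Module.End.mul_apply (ρ g) (ρ g⁻¹), ← map_mul]
  simp

theorem IsInvariantForm.flip {ρ : Representation k G V} {B : LinearMap.BilinForm k V}
    (hB : IsInvariantForm ρ B) : IsInvariantForm ρ B.flip := by
  intro g v w
  simp [hB g w v]

theorem IsInvariantForm.smul {ρ : Representation k G V} {B : LinearMap.BilinForm k V}
    (hB : IsInvariantForm ρ B) (c : k) : IsInvariantForm ρ (c • B) := by
  intro g v w
  simp [hB g v w]

/-- A linear map out of an irreducible representation whose kernel is stable is zero or injective. -/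
theorem eq_zero_or_injective_of_ker_stable {W : Type*} [AddCommGroup W] [Module k W]
    (ρ : Representation k G V) [ρ.IsIrreducible] (T : V →ₗ[k] W)
    (h : ∀ g v, T v = 0 → T (ρ g v) = 0) : T = 0 ∨ Function.Injective T := by
  let S : Subrepresentation ρ := ⟨LinearMap.ker T, fun g v hv => by
    simp only [LinearMap.mem_ker] at hv ⊢; exact h g v hv⟩
  rcases eq_bot_or_eq_top S with h1 | h1
  · right
    rw [← LinearMap.ker_eq_bot]
    have : S.toSubmodule = (⊥ : Subrepresentation ρ).toSubmodule := by rw [h1]
    exact this
  · left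
    rw [← LinearMap.ker_eq_top]
    have : S.toSubmodule = (⊤ : Subrepresentation ρ).toSubmodule := by rw [h1]
    exact this

theorem invariantForm_eq_zero_or_injective (ρ : Representation k G V) [ρ.IsIrreducible]
    (B : LinearMap.BilinForm k V) (hB : IsInvariantForm ρ B) : B = 0 ∨ Function.Injective B := by
  apply eq_zero_or_injective_of_ker_stable ρ B
  intro g v hv
  ext w
  rw [hB.apply_left, hv]
  simp

end Forms



section Forms

variable {G : Type*} [Group G] {k : Type*} [Field k] [IsAlgClosed k] {V : Type*} [AddCommGroup V]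
  [Module k V] [FiniteDimensional k V]

/-- An injective bilinear form on a finite-dimensional space, as an equivalence with the dual. -/
noncomputable def formEquiv (B : LinearMap.BilinForm k V) (hB : Function.Injective B) :
    V ≃ₗ[k] Module.Dual k V :=
  LinearMap.linearEquivOfInjective B hB Subspace.dual_finrank_eq.symm

theorem formEquiv_apply (B : LinearMap.BilinForm k V) (hB : Function.Injective B) (v : V) :
    formEquiv B hB v = B v := rfl

/-- Uniqueness of invariant bilinear forms up to scalars on an irreducible representation. -/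
theorem invariantForm_unique (ρ : Representation k G V) [ρ.IsIrreducible]
    (B B' : LinearMap.BilinForm k V) (hB : IsInvariantForm ρ B) (hB' : IsInvariantForm ρ B')
    (hinj : Function.Injective B) : ∃ c : k, B' = c • B := by
  let e := formEquiv B hinj
  let T : V →ₗ[k] V := e.symm.toLinearMap ∘ₗ B'
  have hT : ∀ v w, B (T v) w = B' v w := by
    intro v w
    have : e (T v) = B' v := by simp [T]
    rw [← formEquiv_apply B hinj, this]
  have hcomm : ∀ g, T ∘ₗ ρ g = ρ g ∘ₗ T := by
    intro g
    ext v
    apply hinj
    ext w
    simp only [LinearMap.comp_apply]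
    rw [hT, hB.apply_left, hT, hB'.apply_left]
  obtain ⟨c, hc⟩ := schur_scalar ρ T hcomm
  refine ⟨c, ?_⟩
  ext v w
  rw [← hT, hc]
  simp

end Forms



section FS

variable {G : Type*} [Group G] [Fintype G] {k : Type*} [Field k] {V : Type*} [AddCommGroup V]
  [Module k V]

/-- The sum over the group of the translates of a bilinear form. -/
noncomputable def avgForm (ρ : Representation k G V) (L : LinearMap.BilinForm k V) :
    LinearMap.BilinForm k V := ∑ g : G, L.comp (ρ g) (ρ g)

theorem avgForm_apply (ρ : Representation k G V) (L : LinearMap.BilinForm k V) (v w : V) :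
    avgForm ρ L v w = ∑ g : G, L (ρ g v) (ρ g w) := by
  simp [avgForm, LinearMap.sum_apply]

theorem avgForm_invariant (ρ : Representation k G V) (L : LinearMap.BilinForm k V) :
    IsInvariantForm ρ (avgForm ρ L) := by
  intro h v w
  rw [avgForm_apply, avgForm_apply]
  refine Fintype.sum_equiv (Equiv.mulRight h) _ _ ?_
  intro g
  simp [map_mul]

theorem avgForm_flip (ρ : Representation k G V) (L : LinearMap.BilinForm k V) :
    (avgForm ρ L).flip = avgForm ρ L.flip := by
  ext v w
  simp [avgForm_apply]

variable {ι : Type*} [Fintype ι] [DecidableEq ι]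

theorem char_mul_self_eq (ρ : Representation k G V) (b : Module.Basis ι k V) (g : G) :
    ρ.character (g * g) = ∑ i, ∑ j, (b.coord i) (ρ g (b j)) * (b.coord j) (ρ g (b i)) := by
  rw [character, map_mul, LinearMap.trace_eq_matrix_trace k b, LinearMap.toMatrix_mul, Matrix.trace]
  simp [Matrix.mul_apply, LinearMap.toMatrix_apply]

theorem char_mul_char_eq (ρ : Representation k G V) (b : Module.Basis ι k V) (g : G) :
    ρ.character g * ρ.character g = ∑ i, ∑ j, (b.coord i) (ρ g (b i)) * (b.coord j) (ρ g (b j)) := by
  rw [character, LinearMap.trace_eq_matrix_trace k b, Matrix.trace, Finset.sum_mul_sum]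
  simp [LinearMap.toMatrix_apply]

theorem sum_char_sq_eq (ρ : Representation k G V) (b : Module.Basis ι k V) :
    ∑ g : G, ρ.character (g * g) =
      ∑ i, ∑ j, avgForm ρ (LinearMap.BilinForm.linMulLin (b.coord i) (b.coord j)) (b j) (b i) := by
  simp only [avgForm_apply, LinearMap.BilinForm.linMulLin_apply, char_mul_self_eq ρ b]
  rw [Finset.sum_comm]
  refine Finset.sum_congr rfl fun i _ => ?_
  rw [Finset.sum_comm]

theorem sum_char_mul_char_eq (ρ : Representation k G V) (b : Module.Basis ι k V) :
    ∑ g : G, ρ.character g * ρ.character g =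
      ∑ i, ∑ j, avgForm ρ (LinearMap.BilinForm.linMulLin (b.coord i) (b.coord j)) (b i) (b j) := by
  simp only [avgForm_apply, LinearMap.BilinForm.linMulLin_apply, char_mul_char_eq ρ b]
  rw [Finset.sum_comm]
  refine Finset.sum_congr rfl fun i _ => ?_
  rw [Finset.sum_comm]

end FS



section FS

variable {G : Type*} [Group G] [Fintype G] {k : Type*} [Field k] {V : Type*} [AddCommGroup V]
  [Module k V] [IsAlgClosed k] [FiniteDimensional k V]

theorem fs_sum_eq_zero_of_no_form (ρ : Representation k G V)
    (h : ∀ B, IsInvariantForm ρ B → B = 0) : ∑ g : G, ρ.character (g * g) = 0 := by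
  classical
  rw [sum_char_sq_eq ρ (Module.finBasis k V)]
  simp [h _ (avgForm_invariant ρ _)]

theorem char_inv_eq_of_form (ρ : Representation k G V) [ρ.IsIrreducible]
    (B : LinearMap.BilinForm k V) (hB : IsInvariantForm ρ B) (hne : B ≠ 0) (g : G) :
    ρ.character g⁻¹ = ρ.character g := by
  have hinj : Function.Injective B :=
    (invariantForm_eq_zero_or_injective ρ B hB).resolve_left hne
  let e := formEquiv B hinj
  have h1 : e.conj (ρ g) = Module.Dual.transpose (ρ g⁻¹) := by
    ext φ v
    obtain ⟨w, rfl⟩ := e.surjective φ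
    simp only [LinearEquiv.conj_apply_apply, LinearEquiv.symm_apply_apply]
    rw [formEquiv_apply, hB.apply_left]
    rfl
  rw [character, character, ← LinearMap.trace_transpose' (ρ g⁻¹), ← h1, LinearMap.trace_conj']

end FS



section FS

variable {G : Type*} [Group G] [Fintype G] {k : Type*} [Field k] {V : Type*} [AddCommGroup V]
  [Module k V] [IsAlgClosed k] [FiniteDimensional k V] [CharZero k]

theorem sum_char_mul_char_of_form (ρ : Representation k G V) [ρ.IsIrreducible]
    (B : LinearMap.BilinForm k V) (hB : IsInvariantForm ρ B) (hne : B ≠ 0) :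
    ∑ g : G, ρ.character g * ρ.character g = (Nat.card G : k) := by
  rw [← sum_char_mul_char_inv ρ]
  refine Finset.sum_congr rfl fun g _ => ?_
  rw [char_inv_eq_of_form ρ B hB hne]

theorem fs_flip (ρ : Representation k G V) [ρ.IsIrreducible]
    (B : LinearMap.BilinForm k V) (hB : IsInvariantForm ρ B) (hne : B ≠ 0) :
    B.flip = B ∨ B.flip = -B := by
  have hinj : Function.Injective B :=
    (invariantForm_eq_zero_or_injective ρ B hB).resolve_left hne
  obtain ⟨c, hc⟩ := invariantForm_unique ρ B B.flip hB hB.flip hinj
  have hc' : ∀ v w, B w v = c * B v w := by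
    intro v w
    have := congrArg (fun F : LinearMap.BilinForm k V => F v w) hc
    simpa using this
  have h3 : c * c = 1 := by
    obtain ⟨v, hv⟩ : ∃ v, B v ≠ 0 := by
      by_contra hcon
      push Not at hcon
      exact hne (LinearMap.ext hcon)
    obtain ⟨w, hw⟩ : ∃ w, B v w ≠ 0 := by
      by_contra hcon
      push Not at hcon
      exact hv (LinearMap.ext hcon)
    have h5 : B v w = c * c * B v w := by
      rw [mul_assoc, ← hc' v w, ← hc' w v]
    have h6 : (1 - c * c) * B v w = 0 := by rw [sub_mul, one_mul, ← h5, sub_self]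
    rcases mul_eq_zero.mp h6 with h | h
    · exact (sub_eq_zero.mp h).symm
    · exact absurd h hw
  have h4 : c = 1 ∨ c = -1 := by
    have : (c - 1) * (c + 1) = 0 := by ring_nf; rw [pow_two, h3]; ring
    rcases mul_eq_zero.mp this with h | h
    · left; exact sub_eq_zero.mp h
    · right; exact eq_neg_of_add_eq_zero_left h
  rcases h4 with h | h
  · left; rw [hc, h, one_smul]
  · right; rw [hc, h]; ext v w; simp

end FS



section FS

variable {G : Type*} [Group G] [Fintype G] {k : Type*} [Field k] {V : Type*} [AddCommGroup V]
  [Module k V] [IsAlgClosed k] [FiniteDimensional k V] [CharZero k]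

theorem fs_sum_of_flip (ρ : Representation k G V) [ρ.IsIrreducible]
    (B : LinearMap.BilinForm k V) (hB : IsInvariantForm ρ B) (hne : B ≠ 0) (ε : k)
    (hε : B.flip = ε • B) : ∑ g : G, ρ.character (g * g) = ε * (Nat.card G : k) := by
  classical
  have hinj : Function.Injective B :=
    (invariantForm_eq_zero_or_injective ρ B hB).resolve_left hne
  have hall : ∀ B' : LinearMap.BilinForm k V, IsInvariantForm ρ B' → ∀ v w, B' w v = ε * B' v w := by
    intro B' hB' v w
    obtain ⟨c, rfl⟩ := invariantForm_unique ρ B B' hB hB' hinj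
    have := congrArg (fun F : LinearMap.BilinForm k V => F v w) hε
    simp only [LinearMap.BilinForm.flip_apply, LinearMap.smul_apply, smul_eq_mul] at this ⊢
    rw [this]; ring
  rw [sum_char_sq_eq ρ (Module.finBasis k V), ← sum_char_mul_char_of_form ρ B hB hne,
    sum_char_mul_char_eq ρ (Module.finBasis k V), Finset.mul_sum]
  refine Finset.sum_congr rfl fun i _ => ?_
  rw [Finset.mul_sum]
  refine Finset.sum_congr rfl fun j _ => ?_
  exact hall _ (avgForm_invariant ρ _) _ _

theorem fs_sum_of_symm (ρ : Representation k G V) [ρ.IsIrreducible]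
    (B : LinearMap.BilinForm k V) (hB : IsInvariantForm ρ B) (hne : B ≠ 0)
    (hs : B.flip = B) : ∑ g : G, ρ.character (g * g) = (Nat.card G : k) := by
  have := fs_sum_of_flip ρ B hB hne 1 (by rw [hs, one_smul])
  rwa [one_mul] at this

theorem fs_sum_of_alt (ρ : Representation k G V) [ρ.IsIrreducible]
    (B : LinearMap.BilinForm k V) (hB : IsInvariantForm ρ B) (hne : B ≠ 0)
    (hs : B.flip = -B) : ∑ g : G, ρ.character (g * g) = -(Nat.card G : k) := by
  have := fs_sum_of_flip ρ B hB hne (-1) (by rw [hs]; ext v w; simp)
  rwa [neg_one_mul] at this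

/-- If the character is inverse-invariant, a nonzero invariant bilinear form exists. -/
theorem exists_form_of_char_inv (ρ : Representation k G V) [ρ.IsIrreducible]
    (h : ∀ g : G, ρ.character g⁻¹ = ρ.character g) :
    ∃ B : LinearMap.BilinForm k V, IsInvariantForm ρ B ∧ B ≠ 0 := by
  classical
  by_contra hcon
  push Not at hcon
  have h0 : ∑ g : G, ρ.character g * ρ.character g = 0 := by
    rw [sum_char_mul_char_eq ρ (Module.finBasis k V)]
    simp [hcon _ (avgForm_invariant ρ _)]
  have h1 : ∑ g : G, ρ.character g * ρ.character g = (Nat.card G : k) := by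
    rw [← sum_char_mul_char_inv ρ]
    refine Finset.sum_congr rfl fun g _ => ?_
    rw [h g]
  rw [h0] at h1
  have : 0 < Nat.card G := Nat.card_pos
  have h2 : (Nat.card G : k) ≠ 0 := by exact_mod_cast this.ne'
  exact h2 h1.symm

/-- **Frobenius–Schur**: the sum of `χ(g²)` over the group is `0`, `|G|` or `-|G|`, and it is
nonzero exactly when `χ(g⁻¹) = χ(g)` for all `g`. -/
theorem fs_sum_trichotomy (ρ : Representation k G V) [ρ.IsIrreducible] :
    ((∑ g : G, ρ.character (g * g) = 0) ∧ ¬ (∀ g : G, ρ.character g⁻¹ = ρ.character g)) ∨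
    (((∑ g : G, ρ.character (g * g) = (Nat.card G : k)) ∨
      (∑ g : G, ρ.character (g * g) = -(Nat.card G : k))) ∧
        (∀ g : G, ρ.character g⁻¹ = ρ.character g)) := by
  by_cases hex : ∃ B : LinearMap.BilinForm k V, IsInvariantForm ρ B ∧ B ≠ 0
  · right
    obtain ⟨B, hB, hne⟩ := hex
    refine ⟨?_, char_inv_eq_of_form ρ B hB hne⟩
    rcases fs_flip ρ B hB hne with h | h
    · left; exact fs_sum_of_symm ρ B hB hne h
    · right; exact fs_sum_of_alt ρ B hB hne h
  · left
    refine ⟨?_, ?_⟩
    · apply fs_sum_eq_zero_of_no_form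
      intro B hB
      by_contra hne
      exact hex ⟨B, hB, hne⟩
    · intro h
      exact hex (exists_form_of_char_inv ρ h)

end FS

end Cfsg.Agent.Helper81
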