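import Mathlib
import Cfsg.Prelude.Def_Blocks
import Cfsg.Agent.Helper79.CharBasic
import Cfsg.Agent.Helper81.FrobSchur

/-!
# Frobenius–Schur indicator for `Cfsg.IrrCharacter`

`fsInd χ = |G|⁻¹ ∑ g, χ (g * g)`.  For an irreducible character it is `0`, `1` or `-1`, and it is
nonzero iff `χ` is real-valued.
-/

set_option autoImplicit false
set_option linter.unusedSectionVars false

namespace Cfsg.Agent.Helper81

open Cfsg
open scoped ComplexConjugate

section

variable {G : Type*} [Group G] [Fintype G]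

/-- The Frobenius–Schur indicator of a complex-valued function on a finite group. -/
noncomputable def fsInd (χ : G → ℂ) : ℂ := (Nat.card G : ℂ)⁻¹ * ∑ g : G, χ (g * g)

theorem fsInd_eq_finsum (χ : G → ℂ) :
    fsInd χ = (Nat.card G : ℂ)⁻¹ * ∑ᶠ g : G, χ (g * g) := by
  rw [fsInd, finsum_eq_sum_of_fintype]

/-- A character value is real iff the character takes the same value at the inverse. -/
theorem char_real_iff_inv {V : Type*} [AddCommGroup V] [Module ℂ V] [FiniteDimensional ℂ V]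
    (ρ : Representation ℂ G V) :
    (∀ g : G, (ρ.character g).im = 0) ↔ ∀ g : G, ρ.character g⁻¹ = ρ.character g := by
  constructor
  · intro h g
    rw [Helper79.char_inv]
    exact Complex.conj_eq_iff_im.mpr (h g)
  · intro h g
    have := h g
    rw [Helper79.char_inv] at this
    exact Complex.conj_eq_iff_im.mp this

theorem fsInd_trichotomy_rep {V : Type*} [AddCommGroup V] [Module ℂ V] [FiniteDimensional ℂ V]
    (ρ : Representation ℂ G V) [ρ.IsIrreducible] :
    (fsInd ρ.character = 0 ∧ ¬ (∀ g : G, (ρ.character g).im = 0)) ∨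
    ((fsInd ρ.character = 1 ∨ fsInd ρ.character = -1) ∧ (∀ g : G, (ρ.character g).im = 0)) := by
  have hne : (Nat.card G : ℂ) ≠ 0 := card_ne_zero'
  rw [char_real_iff_inv]
  rcases fs_sum_trichotomy ρ with ⟨h0, hnr⟩ | ⟨h1 | h1, hr⟩
  · left
    exact ⟨by rw [fsInd, h0, mul_zero], hnr⟩
  · right
    exact ⟨Or.inl (by rw [fsInd, h1, inv_mul_cancel₀ hne]), hr⟩
  · right
    exact ⟨Or.inr (by rw [fsInd, h1, mul_neg, inv_mul_cancel₀ hne]), hr⟩

theorem fsInd_trichotomy' {χ : G → ℂ} (hχ : IsIrrCharacter G χ) :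
    (fsInd χ = 0 ∧ ¬ (∀ g : G, (χ g).im = 0)) ∨
    ((fsInd χ = 1 ∨ fsInd χ = -1) ∧ (∀ g : G, (χ g).im = 0)) := by
  obtain ⟨n, ρ, hρ, rfl⟩ := hχ
  have := hρ
  exact fsInd_trichotomy_rep ρ

/-- The Frobenius–Schur indicator of an irreducible character is `0`, `1` or `-1`. -/
theorem fsInd_trichotomy {χ : G → ℂ} (hχ : IsIrrCharacter G χ) :
    fsInd χ = 0 ∨ fsInd χ = 1 ∨ fsInd χ = -1 := by
  rcases fsInd_trichotomy' hχ with ⟨h, _⟩ | ⟨h | h, _⟩
  · exact Or.inl h
  · exact Or.inr (Or.inl h)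
  · exact Or.inr (Or.inr h)

/-- The Frobenius–Schur indicator of an irreducible character is nonzero iff the character is
real-valued. -/
theorem fsInd_ne_zero_iff {χ : G → ℂ} (hχ : IsIrrCharacter G χ) :
    fsInd χ ≠ 0 ↔ ∀ g : G, (χ g).im = 0 := by
  rcases fsInd_trichotomy' hχ with ⟨h, hn⟩ | ⟨h | h, hr⟩
  · simp [h, hn]
  · simp [h, hr]
  · simp [h, hr]

theorem real_of_fsInd_eq_one {χ : G → ℂ} (hχ : IsIrrCharacter G χ) (h : fsInd χ = 1) :
    ∀ g : G, (χ g).im = 0 :=
  (fsInd_ne_zero_iff hχ).mp (by rw [h]; exact one_ne_zero)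

end

end Cfsg.Agent.Helper81
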