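import Mathlib

/-!
# A representation whose endomorphism algebra is one-dimensional is irreducible

Representation-level converse of Schur's lemma (via Maschke), and the consequence: a complex
representation of a finite group whose character has norm one is irreducible.
-/

set_option autoImplicit false
set_option linter.unusedSectionVars false

namespace Cfsg.Agent.Helper81

open Representation
open scoped MonoidAlgebra

section

variable {G : Type*} [Group G] [Fintype G] {k : Type*} [Field k] [NeZero (Nat.card G : k)]
  {V : Type*} [AddCommGroup V] [Module k V]

/-- Converse of Schur's lemma (using Maschke): a nonzero representation of a finite group, in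
non-modular characteristic, whose space of self-intertwiners is one-dimensional is irreducible. -/
theorem isIrreducible_of_finrank_intertwiningMap_eq_one (ρ : Representation k G V) [Nontrivial V]
    (h : Module.finrank k (IntertwiningMap ρ ρ) = 1) : ρ.IsIrreducible := by
  rw [irreducible_iff_isSimpleModule_asModule]
  have hss : IsSemisimpleModule k[G] ρ.asModule := inferInstance
  have hfr : Module.finrank k (Module.End k[G] ρ.asModule) = 1 := by
    rw [← h]
    exact (IntertwiningMap.equivAlgEnd (ρ := ρ)).toLinearEquiv.finrank_eq.symm
  have hnt : Nontrivial ρ.asModule := (inferInstance : Nontrivial V)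
  have hid : (LinearMap.id : Module.End k[G] ρ.asModule) ≠ 0 := by
    intro h0
    obtain ⟨x, hx⟩ := exists_ne (0 : ρ.asModule)
    exact hx (by simpa using congrArg (fun f : Module.End k[G] ρ.asModule => f x) h0)
  rw [isSimpleModule_iff]
  refine { exists_pair_ne := ⟨⊥, ⊤, bot_ne_top⟩, eq_bot_or_eq_top := fun W => ?_ }
  obtain ⟨W', hW'⟩ := exists_isCompl W
  obtain ⟨c, hc⟩ := (finrank_eq_one_iff_of_nonzero' _ hid).mp hfr (W.projection W' hW')
  by_cases hc0 : c = 0
  · left
    rw [hc0, zero_smul] at hc
    rw [← Submodule.range_projection hW', ← hc]
    exact LinearMap.range_zero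
  · right
    have hker : LinearMap.ker (W.projection W' hW') = ⊥ := by
      rw [← hc, LinearMap.ker_eq_bot]
      intro x y hxy
      simp only [LinearMap.smul_apply, LinearMap.id_coe, id_eq] at hxy
      exact smul_right_injective _ hc0 hxy
    rw [Submodule.ker_projection] at hker
    have := hW'.sup_eq_top
    rwa [hker, sup_bot_eq] at this

end

section

variable {G : Type*} [Group G] [Fintype G] {V : Type*} [AddCommGroup V] [Module ℂ V]
  [FiniteDimensional ℂ V]

/-- A complex representation of a finite group whose character has norm one
(`∑ g, χ g * χ g⁻¹ = |G|`) is irreducible. -/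
theorem isIrreducible_of_sum_char_mul_char_inv (ρ : Representation ℂ G V)
    (h : ∑ g : G, ρ.character g * ρ.character g⁻¹ = (Nat.card G : ℂ)) : ρ.IsIrreducible := by
  have hne : (Nat.card G : ℂ) ≠ 0 := by
    have : 0 < Nat.card G := Nat.card_pos
    exact_mod_cast this.ne'
  have : NeZero (Nat.card G : ℂ) := ⟨hne⟩
  have : Invertible (Nat.card G : ℂ) := invertibleOfNonzero hne
  have h1 := card_inv_mul_sum_char_mul_char_eq_finrank ρ ρ
  rw [h, inv_mul_cancel₀ hne] at h1
  have h2 : Module.finrank ℂ (IntertwiningMap ρ ρ) = 1 := by exact_mod_cast h1.symm
  have hnt : Nontrivial V := by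
    by_contra hV
    rw [not_nontrivial_iff_subsingleton] at hV
    have : Subsingleton (IntertwiningMap ρ ρ) := by
      constructor
      intro a b
      ext x
      exact Subsingleton.elim _ _
    rw [Module.finrank_zero_of_subsingleton] at h2
    exact zero_ne_one h2
  exact isIrreducible_of_finrank_intertwiningMap_eq_one ρ h2

end

end Cfsg.Agent.Helper81
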