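import Mathlib
import Cfsg.Prelude.Def_Blocks
import Cfsg.Agent.Helper80.Irr
import Cfsg.Agent.Helper81.Schur
import Cfsg.Agent.Helper81.IrrOfNorm

/-!
# Restriction of representations, and a Gallagher-type lemma

* `isIrreducible_of_isIrrCharacter`: a complex representation whose character is an irreducible
  character is irreducible.
* `isIrreducible_comp_of_le`: if the restriction of `ρ` to a subgroup `M` is irreducible, so is the
  restriction to any `H ≥ M`.
* `linear_eq_one_of_mul_eq`: (Gallagher, linear case) if `ψ ∈ Irr(T)` restricts irreducibly to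
  `M ≤ T`, and `ν : T →* ℂˣ` is trivial on `M` with `ν ψ = ψ`, then `ν = 1`.
-/

set_option autoImplicit false
set_option linter.unusedSectionVars false

namespace Cfsg.Agent.Helper81

open Cfsg Representation

section

variable {G : Type*} [Group G] [Fintype G] {V : Type*} [AddCommGroup V] [Module ℂ V]
  [FiniteDimensional ℂ V]

/-- A complex representation whose character is an irreducible character is irreducible. -/
theorem isIrreducible_of_isIrrCharacter (ρ : Representation ℂ G V)
    (h : IsIrrCharacter G ρ.character) : ρ.IsIrreducible := by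
  obtain ⟨n, σ, hσ, hσρ⟩ := h
  have := hσ
  apply isIrreducible_of_sum_char_mul_char_inv
  rw [← hσρ]
  exact sum_char_mul_char_inv σ

end

section

variable {T : Type*} [Group T] {V : Type*} [AddCommGroup V] [Module ℂ V]

/-- The restriction of a representation to a subgroup. -/
abbrev resRep (ρ : Representation ℂ T V) (H : Subgroup T) : Representation ℂ H V :=
  ρ.comp H.subtype

theorem resRep_apply (ρ : Representation ℂ T V) (H : Subgroup T) (h : H) :
    resRep ρ H h = ρ (h : T) := rfl

theorem resRep_character (ρ : Representation ℂ T V) (H : Subgroup T) (h : H) :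
    (resRep ρ H).character h = ρ.character (h : T) := rfl

/-- If the restriction to `M` is irreducible, so is the restriction to any `H ≥ M`. -/
theorem isIrreducible_resRep_of_le (ρ : Representation ℂ T V) {M H : Subgroup T} (hMH : M ≤ H)
    (h : (resRep ρ M).IsIrreducible) : (resRep ρ H).IsIrreducible := by
  rw [Helper80.isIrreducible_iff] at h ⊢
  refine ⟨h.1, fun W hW => h.2 W ?_⟩
  intro m v hv
  exact hW ⟨(m : T), hMH m.2⟩ v hv

/-- If the restriction to `M` is irreducible, so is the representation itself. -/
theorem isIrreducible_of_resRep (ρ : Representation ℂ T V) {M : Subgroup T}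
    (h : (resRep ρ M).IsIrreducible) : ρ.IsIrreducible := by
  rw [Helper80.isIrreducible_iff] at h ⊢
  refine ⟨h.1, fun W hW => h.2 W ?_⟩
  intro m v hv
  exact hW (m : T) v hv

end

section

variable {T : Type*} [Group T] [Fintype T]

/-- **Gallagher, linear case**: if `ψ ∈ Irr(T)` restricts irreducibly to the subgroup `M`, and the
linear character `ν` is trivial on `M` and satisfies `ν ψ = ψ`, then `ν = 1`. -/
theorem linear_eq_one_of_mul_eq {ψ : T → ℂ} (hψ : IsIrrCharacter T ψ) (M : Subgroup T)
    (hψM : IsIrrCharacter M (fun m : M => ψ m)) (ν : T →* ℂˣ) (hνM : ∀ m ∈ M, ν m = 1)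
    (hνψ : ∀ x : T, (ν x : ℂ) * ψ x = ψ x) (x : T) : ν x = 1 := by
  classical
  obtain ⟨n, ρ, hρ, rfl⟩ := hψ
  have hM : (resRep ρ M).IsIrreducible := by
    have := Fintype.ofFinite M
    apply isIrreducible_of_isIrrCharacter
    exact hψM
  have hH : (resRep ρ ν.ker).IsIrreducible :=
    isIrreducible_resRep_of_le ρ (fun m hm => MonoidHom.mem_ker.mpr (hνM m hm)) hM
  have := hρ
  have hzero : ∀ y : T, y ∉ ν.ker → ρ.character y = 0 := by
    intro y hy
    have h1 := hνψ y
    have h2 : ((ν y : ℂ) - 1) * ρ.character y = 0 := by rw [sub_mul, h1, one_mul, sub_self]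
    rcases mul_eq_zero.mp h2 with h3 | h3
    · exfalso
      apply hy
      rw [MonoidHom.mem_ker]
      exact Units.ext (sub_eq_zero.mp h3)
    · exact h3
  have hT := sum_char_mul_char_inv ρ
  have hK := sum_char_mul_char_inv (resRep ρ ν.ker)
  have hsum : ∑ g : T, ρ.character g * ρ.character g⁻¹ =
      ∑ h : ν.ker, (resRep ρ ν.ker).character h * (resRep ρ ν.ker).character h⁻¹ := by
    have h1 : ∑ g : T, ρ.character g * ρ.character g⁻¹ =
        ∑ g ∈ Finset.univ.filter (fun y : T => y ∈ ν.ker), ρ.character g * ρ.character g⁻¹ := by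
      rw [Finset.sum_filter]
      refine Finset.sum_congr rfl fun y _ => ?_
      split_ifs with hy
      · rfl
      · rw [hzero y hy, zero_mul]
    rw [h1, Finset.sum_subtype (Finset.univ.filter (fun y : T => y ∈ ν.ker))
      (p := fun y => y ∈ ν.ker) (by simp)]
    rfl
  rw [hT, hK] at hsum
  have hcard : Nat.card T = Nat.card ν.ker := by exact_mod_cast hsum
  have htop : ν.ker = ⊤ := (Subgroup.card_eq_iff_eq_top _).mp hcard.symm
  have : x ∈ ν.ker := by rw [htop]; trivial
  exact MonoidHom.mem_ker.mp this

end

end Cfsg.Agent.Helper81
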