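import Mathlib
import Cfsg.Agent.Helper81.Schur
import Cfsg.Agent.Helper81.IrrOfNorm

/-!
# Schur orthogonality for pairings

* `isIrreducible_dual`: the dual of an irreducible complex representation of a finite group is
  irreducible;
* `intertwiningMap_eq_zero_of_char_ne`: an intertwiner between irreducibles with different
  characters vanishes;
* `sum_pairing_eq_zero`: if `σ`, `ρ` are irreducible and `χ_σ ≠ χ_ρ (·⁻¹)`, then
  `∑ n, f (σ n v) * f' (ρ n w) = 0`;
* `sum_trace_mul_eq_zero`: consequently `∑ n, tr (C ∘ σ n ∘ ρ n) = 0` when both act on `V`.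
-/

set_option autoImplicit false
set_option linter.unusedSectionVars false
set_option linter.unusedSimpArgs false
set_option linter.deprecated false

namespace Cfsg.Agent.Helper81

open Representation

section

variable {N : Type*} [Group N] [Fintype N]
  {V : Type*} [AddCommGroup V] [Module ℂ V] [FiniteDimensional ℂ V]
  {W : Type*} [AddCommGroup W] [Module ℂ W] [FiniteDimensional ℂ W]

/-- The dual of an irreducible representation is irreducible. -/
theorem isIrreducible_dual (ρ : Representation ℂ N W) [ρ.IsIrreducible] :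
    ρ.dual.IsIrreducible := by
  apply isIrreducible_of_sum_char_mul_char_inv
  have h := sum_char_mul_char_inv ρ
  rw [← h]
  refine Finset.sum_congr rfl fun g _ => ?_
  rw [char_dual, char_dual, inv_inv, mul_comm]

omit [Fintype N] [FiniteDimensional ℂ V] [FiniteDimensional ℂ W] in
/-- An intertwining map between irreducible representations with different characters is zero. -/
theorem intertwiningMap_eq_zero_of_char_ne (σ : Representation ℂ N V) (τ : Representation ℂ N W)
    [σ.IsIrreducible] [τ.IsIrreducible] (h : σ.character ≠ τ.character)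
    (f : IntertwiningMap σ τ) : f = 0 := by
  rcases IsIrreducible.bijective_or_eq_zero f with hb | h0
  · exact absurd (char_iso (f.ofBijective hb)) h
  · exact h0

/-- Schur orthogonality for pairings. -/
theorem sum_pairing_eq_zero (σ : Representation ℂ N V) (ρ : Representation ℂ N W)
    [σ.IsIrreducible] [ρ.IsIrreducible] (hne : ∃ n, σ.character n ≠ ρ.character n⁻¹)
    (f : Module.Dual ℂ V) (f' : Module.Dual ℂ W) (v : V) (w : W) :
    ∑ n : N, f (σ n v) * f' (ρ n w) = 0 := by
  have := isIrreducible_dual ρ
  -- the intertwiner `T : V → W*`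
  let T : V →ₗ[ℂ] Module.Dual ℂ W :=
    ∑ n : N, (LinearMap.smulRight f (f' ∘ₗ ρ n)) ∘ₗ σ n
  have hT : ∀ v w, T v w = ∑ n : N, f (σ n v) * f' (ρ n w) := by
    intro v w
    simp only [T, LinearMap.sum_apply, LinearMap.comp_apply, LinearMap.smulRight_apply,
      LinearMap.smul_apply, smul_eq_mul]
  have hint : ∀ (m : N) (v : V), T (σ m v) = ρ.dual m (T v) := by
    intro m v
    ext w
    rw [dual_apply, Module.Dual.transpose_apply, LinearMap.comp_apply, hT, hT]
    rw [← Equiv.sum_comp (Equiv.mulRight m⁻¹)]
    refine Finset.sum_congr rfl fun n _ => ?_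
    simp only [Equiv.coe_mulRight, map_mul, Module.End.mul_apply]
    rw [← Module.End.mul_apply (σ m⁻¹) (σ m), ← map_mul, inv_mul_cancel, map_one,
      Module.End.one_apply]
  let F : IntertwiningMap σ ρ.dual := ⟨T, fun m => by ext v : 1; exact hint m v⟩
  have hchar : σ.character ≠ ρ.dual.character := by
    obtain ⟨n, hn⟩ := hne
    intro h
    apply hn
    rw [h, char_dual]
  have hF : F = 0 := intertwiningMap_eq_zero_of_char_ne σ ρ.dual hchar F
  have hT0 : T = 0 := by
    have := congrArg IntertwiningMap.toLinearMap hF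
    exact this
  rw [← hT, hT0]
  rfl

/-- If `σ`, `ρ` are irreducible representations on the same space with `χ_σ ≠ χ_ρ (·⁻¹)`,
then `∑ n, tr (C ∘ σ n ∘ ρ n) = 0` for every endomorphism `C`. -/
theorem sum_trace_mul_eq_zero (σ ρ : Representation ℂ N V)
    [σ.IsIrreducible] [ρ.IsIrreducible] (hne : ∃ n, σ.character n ≠ ρ.character n⁻¹)
    (C : V →ₗ[ℂ] V) :
    ∑ n : N, LinearMap.trace ℂ V (C ∘ₗ σ n ∘ₗ ρ n) = 0 := by
  classical
  let b := Module.finBasis ℂ V
  have key : ∀ n : N, LinearMap.trace ℂ V (C ∘ₗ σ n ∘ₗ ρ n) =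
      ∑ i, ∑ k, (b.coord i ∘ₗ C) (σ n (b k)) * (b.coord k) (ρ n (b i)) := by
    intro n
    rw [LinearMap.trace_eq_matrix_trace ℂ b, Matrix.trace]
    refine Finset.sum_congr rfl fun i _ => ?_
    rw [Matrix.diag_apply, LinearMap.toMatrix_apply, LinearMap.comp_apply, LinearMap.comp_apply]
    conv_lhs => rw [← b.sum_repr (ρ n (b i))]
    rw [map_sum, map_sum, map_sum]
    simp only [map_smul, Finsupp.sum_apply, Module.Basis.coord_apply, LinearMap.comp_apply,
      smul_eq_mul, Finsupp.coe_finset_sum, Finset.sum_apply, Finsupp.coe_smul, Pi.smul_apply]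
    refine Finset.sum_congr rfl fun k _ => ?_
    rw [mul_comm]
  simp_rw [key]
  rw [Finset.sum_comm]
  refine Finset.sum_eq_zero fun i _ => ?_
  rw [Finset.sum_comm]
  refine Finset.sum_eq_zero fun k _ => ?_
  exact sum_pairing_eq_zero σ ρ hne (b.coord i ∘ₗ C) (b.coord k) (b k) (b i)

end

end Cfsg.Agent.Helper81
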