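import Mathlib
import Cfsg.Prelude.Def_Blocks
import Cfsg.Agent.Helper81.Pairing
import Cfsg.Agent.Helper81.FSIrr
import Cfsg.Agent.Helper81.CliffordInd
import Cfsg.Agent.Helper81.Gallagher

/-!
# Frobenius–Schur indicator of a character induced from the inertia group

* `fsInd_indFun`: `ν(ξ^G) = |H|⁻¹ ∑ g : G, ξ°(g²)`;
* `fsInd_indFun_inertia`: if `ξ ∈ Irr(I)` extends the real-valued `φ ∈ Irr(N)`, `I` the inertia
  group of `φ`, then `ν(ξ^G) = ν(ξ)`.
-/

set_option autoImplicit false
set_option linter.unusedSectionVars false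

namespace Cfsg.Agent.Helper81

open Cfsg Cfsg.Agent.Helper15 Representation

universe u

section

variable {G : Type u} [Group G] [Fintype G]

/-- `ν(ξ^G) = |H|⁻¹ ∑ g : G, ξ°(g²)`. -/
theorem fsInd_indFun (H : Subgroup G) (ξ : H → ℂ) :
    fsInd (indFun H ξ) = (Nat.card H : ℂ)⁻¹ * ∑ g : G, extendByZero H ξ (g * g) := by
  have hG : (Nat.card G : ℂ) ≠ 0 := by
    have : 0 < Nat.card G := Nat.card_pos
    exact_mod_cast this.ne'
  unfold fsInd
  simp only [indFun_apply]
  rw [← Finset.mul_sum, Finset.sum_comm]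
  have h1 : ∀ x : G, ∑ g : G, extendByZero H ξ (x⁻¹ * (g * g) * x) =
      ∑ g : G, extendByZero H ξ (g * g) := by
    intro x
    rw [← Equiv.sum_comp (MulAut.conj x).toEquiv (fun g => extendByZero H ξ (x⁻¹ * (g * g) * x))]
    refine Finset.sum_congr rfl fun g _ => ?_
    congr 1
    simp only [MulEquiv.toEquiv_eq_coe, EquivLike.coe_coe, MulAut.conj_apply]
    group
  rw [Finset.sum_congr rfl fun x _ => h1 x, Finset.sum_const, Finset.card_univ, nsmul_eq_mul,
    ← Nat.card_eq_fintype_card]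
  field_simp

/-- Sum over the complement of a subgroup `I ≥ N` vanishes if it vanishes on `N`-cosets. -/
theorem sum_compl_eq_zero_of_coset_sums (N I : Subgroup G) [Fintype N] (hNI : N ≤ I)
    [DecidablePred (· ∈ I)] (F : G → ℂ)
    (h : ∀ g : G, g ∉ I → ∑ n : N, F (g * n) = 0) :
    ∑ g ∈ Finset.univ.filter (fun g : G => g ∉ I), F g = 0 := by
  have hN : (Fintype.card N : ℂ) ≠ 0 := by
    have : 0 < Fintype.card N := Fintype.card_pos
    exact_mod_cast this.ne'
  have h1 : ∀ n : N, ∑ g ∈ Finset.univ.filter (fun g : G => g ∉ I), F (g * n) =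
      ∑ g ∈ Finset.univ.filter (fun g : G => g ∉ I), F g := by
    intro n
    refine Finset.sum_equiv (Equiv.mulRight (n : G)) ?_ ?_
    · intro g
      simp only [Finset.mem_filter, Finset.mem_univ, true_and, Equiv.coe_mulRight]
      rw [I.mul_mem_cancel_right (hNI n.2)]
    · intro g _
      rfl
  have h2 : ∑ n : N, ∑ g ∈ Finset.univ.filter (fun g : G => g ∉ I), F (g * n) = 0 := by
    rw [Finset.sum_comm]
    refine Finset.sum_eq_zero fun g hg => ?_
    exact h g (Finset.mem_filter.mp hg).2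
  rw [Finset.sum_congr rfl fun n _ => h1 n, Finset.sum_const, Finset.card_univ,
    nsmul_eq_mul] at h2
  exact (mul_eq_zero.mp h2).resolve_left hN

end

section

variable {G : Type u} [Group G] [Fintype G] (N : Subgroup G) [hN : N.Normal] [Fintype N]

/-- If `ξ ∈ Irr(I)` extends the real-valued `φ ∈ Irr(N)` and `I` is the inertia group of `φ`,
then the coset sums `∑ n, ξ°((g n)²)` vanish for `g ∉ I`. -/
theorem sum_coset_sq_eq_zero {φ : N → ℂ} (hφ : IsIrrCharacter N φ)
    (hφreal : ∀ n : N, φ n⁻¹ = φ n) (I : Subgroup G) [Fintype I]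
    (hI : I = inertia N φ) (hNI : N ≤ I) {ξ : I → ℂ} (hξ : IsIrrCharacter I ξ)
    (hξφ : resTo N I hNI ξ = φ) (g : G) (hg : g ∉ I) :
    ∑ n : N, extendByZero I ξ (g * n * (g * n)) = 0 := by
  classical
  have hsq : ∀ n : N, g * n * (g * n) = g * g * ((g⁻¹ * n * g⁻¹⁻¹) * n) := by
    intro n; group
  have hconj : ∀ n : N, g⁻¹ * (n : G) * g⁻¹⁻¹ ∈ N := fun n => hN.conj_mem (n : G) n.2 g⁻¹
  by_cases hgg : g * g ∈ I
  · obtain ⟨d, R, hR, rfl⟩ := hξ
    -- the two representations of `N`
    let c : N →* I :=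
      { toFun := fun n => ⟨g⁻¹ * (n : G) * g⁻¹⁻¹, hNI (hconj n)⟩
        map_one' := by ext; simp
        map_mul' := fun a b => by ext; simp [mul_assoc] }
    let σ : Representation ℂ N (Fin d → ℂ) := R.comp c
    let ρ : Representation ℂ N (Fin d → ℂ) := R.comp (Subgroup.inclusion hNI)
    have hρchar : ρ.character = φ := by
      rw [← hξφ]; rfl
    have hσchar : σ.character = conjFun N g⁻¹ φ := by
      rw [← hξφ]; rfl
    have hρirr : ρ.IsIrreducible := by
      apply isIrreducible_of_isIrrCharacter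
      rw [hρchar]; exact hφ
    have hσirr : σ.IsIrreducible := by
      apply isIrreducible_of_isIrrCharacter
      rw [hσchar]; exact isIrrCharacter_conjFun N hφ g⁻¹
    have hne : ∃ n, σ.character n ≠ ρ.character n⁻¹ := by
      rw [hρchar, hσchar]
      have hg' : g⁻¹ ∉ inertia N φ := by
        rw [← hI]
        intro h
        exact hg (by simpa using I.inv_mem h)
      rw [mem_inertia] at hg'
      obtain ⟨n, hn⟩ := Function.ne_iff.mp hg'
      exact ⟨n, by rw [hφreal]; exact hn⟩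
    have key := sum_trace_mul_eq_zero σ ρ hne (R ⟨g * g, hgg⟩)
    rw [← key]
    refine Finset.sum_congr rfl fun n _ => ?_
    have hmem : g * n * (g * n) ∈ I := by
      rw [hsq]
      exact I.mul_mem hgg (I.mul_mem (hNI (hconj n)) (hNI n.2))
    rw [extendByZero_of_mem I _ hmem]
    have : (⟨g * n * (g * n), hmem⟩ : I) = ⟨g * g, hgg⟩ * (c n * Subgroup.inclusion hNI n) := by
      ext
      exact hsq n
    rw [this]
    show LinearMap.trace ℂ _ (R (⟨g * g, hgg⟩ * (c n * Subgroup.inclusion hNI n))) = _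
    have hR2 : R (⟨g * g, hgg⟩ * (c n * Subgroup.inclusion hNI n)) =
        R ⟨g * g, hgg⟩ ∘ₗ σ n ∘ₗ ρ n := by
      rw [map_mul R, map_mul R]
      rfl
    rw [hR2]
  · refine Finset.sum_eq_zero fun n _ => ?_
    apply extendByZero_of_not_mem
    rw [hsq]
    intro h
    apply hgg
    have h2 : (g⁻¹ * (n : G) * g⁻¹⁻¹) * n ∈ I := I.mul_mem (hNI (hconj n)) (hNI n.2)
    exact (I.mul_mem_cancel_right h2).mp h

/-- **Frobenius–Schur indicator and Clifford induction**: if `ξ ∈ Irr(I)` extends the real-valued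
`φ ∈ Irr(N)`, `I` the inertia group of `φ`, then `ν(ξ^G) = ν(ξ)`. -/
theorem fsInd_indFun_inertia {φ : N → ℂ} (hφ : IsIrrCharacter N φ)
    (hφreal : ∀ n : N, φ n⁻¹ = φ n) (I : Subgroup G) [Fintype I]
    (hI : I = inertia N φ) (hNI : N ≤ I) {ξ : I → ℂ} (hξ : IsIrrCharacter I ξ)
    (hξφ : resTo N I hNI ξ = φ) :
    fsInd (indFun I ξ) = fsInd ξ := by
  classical
  rw [fsInd_indFun]
  unfold fsInd
  congr 1
  have hsplit : ∑ g : G, extendByZero I ξ (g * g) =
      ∑ g ∈ Finset.univ.filter (fun g : G => g ∈ I), extendByZero I ξ (g * g) +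
      ∑ g ∈ Finset.univ.filter (fun g : G => g ∉ I), extendByZero I ξ (g * g) :=
    (Finset.sum_filter_add_sum_filter_not _ _ _).symm
  rw [hsplit]
  have h2 : ∑ g ∈ Finset.univ.filter (fun g : G => g ∉ I), extendByZero I ξ (g * g) = 0 :=
    sum_compl_eq_zero_of_coset_sums N I hNI (fun g => extendByZero I ξ (g * g))
      (fun g hg => sum_coset_sq_eq_zero N hφ hφreal I hI hNI hξ hξφ g hg)
  rw [h2, add_zero]
  rw [Finset.sum_subtype (Finset.univ.filter (fun g : G => g ∈ I)) (p := fun g => g ∈ I)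
    (by simp)]
  refine Finset.sum_congr rfl fun i _ => ?_
  have : ((i : G) * (i : G)) = ((i * i : I) : G) := rfl
  rw [this, extendByZero_coe]

end

end Cfsg.Agent.Helper81
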