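import Mathlib
import Cfsg.Agent.Helper81.Schur

/-!
# Sums over squares in an irreducible representation
-/

set_option autoImplicit false
set_option linter.unusedSectionVars false

namespace Cfsg.Agent.Helper81

open Representation

section

variable {G : Type*} [Group G] [Fintype G] {k : Type*} [Field k] [IsAlgClosed k] [CharZero k]
  {V : Type*} [AddCommGroup V] [Module k V] [FiniteDimensional k V]

theorem sum_sq_comm (ρ : Representation k G V) (g : G) :
    (∑ u : G, ρ (u * u)) * ρ g = ρ g * (∑ u : G, ρ (u * u)) := by
  rw [Finset.sum_mul, Finset.mul_sum]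
  refine Fintype.sum_equiv (MulAut.conj g⁻¹).toEquiv _ _ ?_
  intro u
  simp only [MulEquiv.toEquiv_eq_coe, MulEquiv.coe_toEquiv, MulAut.conj_apply, inv_inv]
  rw [← map_mul, ← map_mul]
  congr 1
  group

/-- The sum of `ρ (u * u)` over the group is a scalar in an irreducible representation. -/
theorem sum_sq_eq_scalar (ρ : Representation k G V) [ρ.IsIrreducible] :
    (∑ u : G, ρ (u * u)) =
      ((∑ u : G, ρ.character (u * u)) / (Module.finrank k V : k)) • (1 : Module.End k V) := by
  have h := schur_scalar_trace ρ (∑ u : G, ρ (u * u)) (sum_sq_comm ρ)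
  rw [h]
  congr 2
  simp [map_sum, character]

theorem sum_char_sq_mul (ρ : Representation k G V) [ρ.IsIrreducible] (g : G) :
    ∑ u : G, ρ.character (u * u * g) =
      (∑ u : G, ρ.character (u * u)) / (Module.finrank k V : k) * ρ.character g := by
  have h := congrArg (fun T => LinearMap.trace k V (T * ρ g)) (sum_sq_eq_scalar ρ)
  simp only [Finset.sum_mul, map_sum, smul_mul_assoc, one_mul, map_smul, smul_eq_mul] at h
  change _ = _ * LinearMap.trace k V (ρ g)
  rw [← h]
  refine Finset.sum_congr rfl fun u _ => ?_
  rw [character, map_mul]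

end

end Cfsg.Agent.Helper81
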