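import Mathlib
import Cfsg.Prelude.Def_Blocks
import Cfsg.Agent.Helper79.CharComplete
import Cfsg.Agent.Helper80.Linear
import Cfsg.Agent.Helper81.FSIrr
import Cfsg.Agent.Helper81.Roots

/-!
# Counting square roots with Frobenius–Schur indicators

`card_sqrt`: `#{u | u * u = g} = ∑ χ, fsInd χ * χ g` over the irreducible characters.
-/

set_option autoImplicit false
set_option linter.unusedSectionVars false

namespace Cfsg.Agent.Helper81

open Cfsg
open scoped ComplexConjugate

section

variable {G : Type*} [Group G]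

/-- The principal character is irreducible. -/
theorem isIrrCharacter_one : IsIrrCharacter G (fun _ => (1 : ℂ)) := by
  have := Helper80.isIrrCharacter_of_monoidHom (1 : G →* ℂˣ)
  simpa using this

/-- The principal character as an element of `IrrCharacter G`. -/
noncomputable def trivialIrr (G : Type*) [Group G] : IrrCharacter G :=
  ⟨fun _ => (1 : ℂ), isIrrCharacter_one⟩

@[simp] theorem trivialIrr_apply (g : G) : (trivialIrr G : G → ℂ) g = 1 := rfl

variable [Fintype G]

theorem fsInd_one : fsInd (fun _ : G => (1 : ℂ)) = 1 := by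
  have hG : (Nat.card G : ℂ) ≠ 0 := Helper79.card_ne_zero_complex
  simp [fsInd, Nat.card_eq_fintype_card] at hG ⊢

/-- The regular character: `∑ χ, χ 1 * χ w` is `|G|` at `w = 1` and `0` elsewhere. -/
theorem sum_irr_one_mul [Fintype (IrrCharacter G)] [DecidableEq G] (w : G) :
    ∑ χ : IrrCharacter G, (χ : G → ℂ) 1 * (χ : G → ℂ) w =
      if w = 1 then (Nat.card G : ℂ) else 0 := by
  classical
  have h := Helper79.column_orthogonality (G := G) w 1
  have h1 : ∀ χ : IrrCharacter G, (χ : G → ℂ) w * conj ((χ : G → ℂ) 1) =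
      (χ : G → ℂ) 1 * (χ : G → ℂ) w := by
    intro χ
    rw [Helper79.irr_one χ, Complex.conj_natCast, mul_comm]
  simp only [h1] at h
  rw [h]
  have h2 : IsConj (1 : G) w ↔ w = 1 := isConj_one_right
  have h3 : Nat.card (Subgroup.centralizer ({(1 : G)} : Set G)) = Nat.card G := by
    have : Subgroup.centralizer ({(1 : G)} : Set G) = ⊤ := by
      ext x
      simp [Subgroup.mem_centralizer_iff]
    rw [this, Subgroup.card_top]
  simp only [h2, h3]

theorem irr_sum_sq_mul {χ : G → ℂ} (hχ : IsIrrCharacter G χ) (g : G) :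
    ∑ u : G, χ (u * u * g) = (∑ u : G, χ (u * u)) / χ 1 * χ g := by
  obtain ⟨n, ρ, hρ, rfl⟩ := hχ
  have := hρ
  rw [sum_char_sq_mul ρ g, Representation.char_one]

/-- **Frobenius–Schur count of square roots**. -/
theorem card_sqrt [Fintype (IrrCharacter G)] (g : G) :
    (Nat.card {u : G // u * u = g} : ℂ) = ∑ χ : IrrCharacter G, fsInd (χ : G → ℂ) * (χ : G → ℂ) g := by
  classical
  have hG : (Nat.card G : ℂ) ≠ 0 := Helper79.card_ne_zero_complex
  have hsymm : Nat.card {u : G // u * u = g} = Nat.card {u : G // u * u * g = 1} := by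
    refine Nat.card_congr ⟨fun p => ⟨p.1⁻¹, ?_⟩, fun p => ⟨p.1⁻¹, ?_⟩, ?_, ?_⟩
    · obtain ⟨u, h⟩ := p
      simp only
      subst h; group
    · obtain ⟨u, h⟩ := p
      simp only
      have h2 : g = (u * u)⁻¹ := by
        rw [eq_comm, inv_eq_iff_mul_eq_one]; exact h
      rw [h2]; group
    · intro p; simp
    · intro p; simp
  rw [hsymm]
  have hcount : (Nat.card {u : G // u * u * g = 1} : ℂ) =
      ∑ u : G, if u * u * g = 1 then (1 : ℂ) else 0 := by
    rw [Nat.card_eq_fintype_card, Fintype.card_subtype, Finset.sum_boole]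
  rw [hcount]
  have hind : ∀ u : G, (if u * u * g = 1 then (1 : ℂ) else 0) =
      (Nat.card G : ℂ)⁻¹ * ∑ χ : IrrCharacter G, (χ : G → ℂ) 1 * (χ : G → ℂ) (u * u * g) := by
    intro u
    rw [sum_irr_one_mul]
    split_ifs
    · rw [inv_mul_cancel₀ hG]
    · rw [mul_zero]
  simp only [hind]
  rw [← Finset.mul_sum, Finset.sum_comm, Finset.mul_sum]
  refine Finset.sum_congr rfl fun χ _ => ?_
  rw [← Finset.mul_sum, irr_sum_sq_mul χ.2 g, fsInd]
  have h1 : (χ : G → ℂ) 1 ≠ 0 := Helper79.irr_one_ne_zero χ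
  field_simp

/-- Finsum form of `card_sqrt` for `[Finite G]`. -/
theorem card_sqrt_finsum {G : Type*} [Group G] [Finite G] (g : G) :
    (Nat.card {u : G // u * u = g} : ℂ) =
      ∑ᶠ χ : IrrCharacter G,
        ((Nat.card G : ℂ)⁻¹ * ∑ᶠ u : G, (χ : G → ℂ) (u * u)) * (χ : G → ℂ) g := by
  classical
  have := Fintype.ofFinite G
  have : Finite (IrrCharacter G) := Helper79.irr_finite'
  have := Fintype.ofFinite (IrrCharacter G)
  rw [finsum_eq_sum_of_fintype, card_sqrt]
  refine Finset.sum_congr rfl fun χ _ => ?_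
  rw [fsInd_eq_finsum]

end

end Cfsg.Agent.Helper81
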