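import Mathlib
import Cfsg.Prelude.Def_Blocks
import Cfsg.Agent.Helper81.FSInduced
import Cfsg.Agent.Helper81.RootCount
import Cfsg.Agent.Helper80.CharLevel

/-!
# Permutation characters and Frobenius–Schur indicators

* `fsInd_eq_sum_irr`: `ν(Ψ) = ∑ χ, ⟨Ψ, χ⟩ ν(χ)` for a character `Ψ`;
* `apply_eq_of_constituent`: if `Ψ k = Ψ 1` then every irreducible constituent `χ` of `Ψ`
  satisfies `χ k = χ 1`;
* `fsInd_indFun_one`: `ν((1_H)^G) = |H|⁻¹ #{g | g² ∈ H}`;
* `inner_indFun_one_one`: `⟨(1_H)^G, 1_G⟩ = 1`.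
-/

set_option autoImplicit false
set_option linter.unusedSectionVars false

namespace Cfsg.Agent.Helper81

open Cfsg Cfsg.Agent.Helper15
open scoped ComplexConjugate

universe u

variable {G : Type u} [Group G] [Fintype G]

theorem fsInd_finset_sum {ι : Type*} (s : Finset ι) (c : ι → ℂ) (f : ι → G → ℂ) :
    fsInd (∑ i ∈ s, c i • f i) = ∑ i ∈ s, c i * fsInd (f i) := by
  unfold fsInd
  simp only [Finset.sum_apply, Pi.smul_apply, smul_eq_mul]
  rw [Finset.sum_comm, Finset.mul_sum]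
  refine Finset.sum_congr rfl fun i _ => ?_
  rw [← Finset.mul_sum]
  ring

/-- `ν(Ψ) = ∑ χ, ⟨Ψ, χ⟩ ν(χ)`. -/
theorem fsInd_eq_sum_irr [Fintype (IrrCharacter G)] {Ψ : G → ℂ} (hΨ : IsCharacter G Ψ) :
    fsInd Ψ = ∑ χ : IrrCharacter G, classInner Ψ (χ : G → ℂ) * fsInd (χ : G → ℂ) := by
  conv_lhs => rw [Helper74.isCharacter_eq_sum_irr hΨ]
  exact fsInd_finset_sum _ _ _

/-- If `Ψ k = Ψ 1` for a character `Ψ`, then `χ k = χ 1` for each irreducible constituent. -/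
theorem apply_eq_of_constituent {Ψ : G → ℂ} (hΨ : IsCharacter G Ψ) (k : G) (hk : Ψ k = Ψ 1)
    (χ : IrrCharacter G) (hχ : classInner Ψ (χ : G → ℂ) ≠ 0) :
    (χ : G → ℂ) k = (χ : G → ℂ) 1 := by
  classical
  let _ := Helper74.irrFintype G
  choose m hm using fun ξ : IrrCharacter G => Helper74.isCharacter_inner_irr_nat hΨ ξ
  have hdec := Helper74.isCharacter_eq_sum_irr hΨ
  -- real parts
  have h1 : ∑ ξ : IrrCharacter G, (m ξ : ℝ) * (((ξ : G → ℂ) 1).re - ((ξ : G → ℂ) k).re) = 0 := by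
    have h2 : Ψ 1 - Ψ k = 0 := by rw [hk, sub_self]
    have h3 : Ψ 1 - Ψ k =
        ∑ ξ : IrrCharacter G, (m ξ : ℂ) * ((ξ : G → ℂ) 1 - (ξ : G → ℂ) k) := by
      conv_lhs => rw [hdec]
      simp only [Finset.sum_apply, Pi.smul_apply, smul_eq_mul, hm]
      rw [← Finset.sum_sub_distrib]
      refine Finset.sum_congr rfl fun ξ _ => ?_
      ring
    rw [h3] at h2
    have h4 := congrArg Complex.re h2
    rw [Complex.re_sum] at h4
    simpa [Complex.mul_re] using h4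
  have hnonneg : ∀ ξ : IrrCharacter G,
      0 ≤ (m ξ : ℝ) * (((ξ : G → ℂ) 1).re - ((ξ : G → ℂ) k).re) := by
    intro ξ
    apply mul_nonneg (Nat.cast_nonneg _)
    have hc := Helper74.irr_isCharacter ξ
    have h5 := Helper80.IsCharacter.norm_le hc k
    have h6 : (charDegree (ξ : G → ℂ) : ℝ) = ((ξ : G → ℂ) 1).re := by
      have := Helper74.charDegree_cast hc
      rw [← this]; simp
    have h7 : ((ξ : G → ℂ) k).re ≤ ‖(ξ : G → ℂ) k‖ := Complex.re_le_norm _
    linarith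
  have hzero := (Finset.sum_eq_zero_iff_of_nonneg (fun ξ _ => hnonneg ξ)).mp h1 χ
    (Finset.mem_univ χ)
  have hmχ : (m χ : ℝ) ≠ 0 := by
    intro h0
    apply hχ
    rw [hm χ]
    have : m χ = 0 := by exact_mod_cast h0
    rw [this]; simp
  have hre : ((χ : G → ℂ) k).re = ((χ : G → ℂ) 1).re := by
    rcases mul_eq_zero.mp hzero with h | h
    · exact absurd h hmχ
    · linarith
  have hc := Helper74.irr_isCharacter χ
  have h5 := Helper80.IsCharacter.norm_le hc k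
  have h6 : (charDegree (χ : G → ℂ) : ℂ) = (χ : G → ℂ) 1 := Helper74.charDegree_cast hc
  have h6r : (charDegree (χ : G → ℂ) : ℝ) = ((χ : G → ℂ) 1).re := by
    rw [← h6]; simp
  have h6i : ((χ : G → ℂ) 1).im = 0 := by
    rw [← h6]; simp
  have him : ((χ : G → ℂ) k).im = 0 := by
    have h8 : ‖(χ : G → ℂ) k‖ ^ 2 = ((χ : G → ℂ) k).re ^ 2 + ((χ : G → ℂ) k).im ^ 2 := by
      rw [← Complex.normSq_eq_norm_sq, Complex.normSq_apply]; ring
    have h9 : ‖(χ : G → ℂ) k‖ ^ 2 ≤ (charDegree (χ : G → ℂ) : ℝ) ^ 2 :=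
      pow_le_pow_left₀ (norm_nonneg _) h5 2
    rw [h8, h6r, hre] at h9
    have : ((χ : G → ℂ) k).im ^ 2 ≤ 0 := by linarith
    have h10 : ((χ : G → ℂ) k).im ^ 2 = 0 := le_antisymm this (sq_nonneg _)
    exact pow_eq_zero_iff (two_ne_zero) |>.mp h10
  apply Complex.ext
  · exact hre
  · rw [him, h6i]

/-- `ν((1_H)^G) = |H|⁻¹ #{g | g² ∈ H}`. -/
theorem fsInd_indFun_one (H : Subgroup G) [DecidablePred (· ∈ H)] :
    fsInd (indFun H (fun _ : H => (1 : ℂ))) =
      (Nat.card H : ℂ)⁻¹ * ((Finset.univ.filter (fun g : G => g * g ∈ H)).card : ℂ) := by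
  rw [fsInd_indFun]
  congr 1
  rw [Finset.card_filter]
  push_cast
  refine Finset.sum_congr rfl fun g _ => ?_
  split_ifs with h
  · rw [extendByZero_of_mem H _ h]
  · rw [extendByZero_of_not_mem H _ h]

/-- `⟨(1_H)^G, 1_G⟩ = 1`. -/
theorem inner_indFun_one_one (H : Subgroup G) [Fintype H] :
    classInner (indFun H (fun _ : H => (1 : ℂ))) (fun _ : G => (1 : ℂ)) = 1 := by
  rw [frobenius_reciprocity H _ _ (fun _ _ => rfl)]
  have hH : (Nat.card H : ℂ) ≠ 0 := by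
    have : 0 < Nat.card H := Nat.card_pos
    exact_mod_cast this.ne'
  unfold classInner
  simp only [map_one, mul_one, Finset.sum_const, Finset.card_univ, nsmul_eq_mul]
  rw [← Nat.card_eq_fintype_card]
  field_simp

end Cfsg.Agent.Helper81
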