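import Mathlib
import Cfsg.Prelude.Def_Blocks
import Cfsg.Agent.Helper81.PermChar
import Cfsg.Agent.Helper15.CliffordCorr

/-!
# Kernels of induced characters; Taketa's theorem

* `indFun_apply_eq_of_normal`: if `N ⊴ G`, `N ≤ H` and `φ` is constant `= φ 1` on `N` then
  `φ^G` takes the value `φ^G 1` on `N`;
* `mem_of_indFun_one_eq`: `(1_H)^G g = (1_H)^G 1 → g ∈ H`;
* `apply_eq_of_forall_constituent`: if all constituents `ψ` of `Ψ` have `ψ g = ψ 1` then
  `Ψ g = Ψ 1`;
* `taketa`: M-groups are solvable.
-/

set_option autoImplicit false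
set_option linter.unusedSectionVars false

namespace Cfsg.Agent.Helper81

open Cfsg Cfsg.Agent.Helper15
open scoped ComplexConjugate commutatorElement

universe u

variable {G : Type u} [Group G] [Fintype G]

theorem indFun_apply_eq_of_normal (H : Subgroup G) (φ : H → ℂ) (N : Subgroup G) [hN : N.Normal]
    (hNH : N ≤ H) (hφ : ∀ n (hn : n ∈ N), φ ⟨n, hNH hn⟩ = φ 1) (g : G) (hg : g ∈ N) :
    indFun H φ g = indFun H φ 1 := by
  rw [indFun_apply, indFun_apply]
  congr 1
  refine Finset.sum_congr rfl fun x _ => ?_
  have h1 : x⁻¹ * g * x ∈ N := by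
    have := hN.conj_mem g hg x⁻¹
    rwa [inv_inv] at this
  have h2 : x⁻¹ * 1 * x = ((1 : H) : G) := by simp
  rw [extendByZero_of_mem H _ (hNH h1), h2, extendByZero_coe, hφ _ h1]

theorem mem_of_indFun_one_eq (H : Subgroup G) (g : G)
    (h : indFun H (fun _ : H => (1 : ℂ)) g = indFun H (fun _ : H => (1 : ℂ)) 1) : g ∈ H := by
  classical
  rw [indFun_apply, indFun_apply] at h
  have hH : (Nat.card H : ℂ)⁻¹ ≠ 0 := by
    have : 0 < Nat.card H := Nat.card_pos
    exact inv_ne_zero (by exact_mod_cast this.ne')
  have h1 := mul_left_cancel₀ hH h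
  have h2 : ∀ x : G, extendByZero H (fun _ : H => (1 : ℂ)) (x⁻¹ * 1 * x) = 1 := by
    intro x
    have : x⁻¹ * 1 * x ∈ H := by simp
    rw [extendByZero_of_mem H _ this]
  have h3 : ∀ x : G, extendByZero H (fun _ : H => (1 : ℂ)) (x⁻¹ * g * x) =
      if x⁻¹ * g * x ∈ H then 1 else 0 := by
    intro x
    split_ifs with hx
    · rw [extendByZero_of_mem H _ hx]
    · rw [extendByZero_of_not_mem H _ hx]
  rw [Finset.sum_congr rfl fun x _ => h2 x, Finset.sum_congr rfl fun x _ => h3 x] at h1
  rw [Finset.sum_boole, Finset.sum_const, Finset.card_univ, nsmul_eq_mul, mul_one] at h1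
  have h4 : (Finset.univ.filter fun x : G => x⁻¹ * g * x ∈ H).card = Fintype.card G := by
    exact_mod_cast h1
  have h5 : (Finset.univ.filter fun x : G => x⁻¹ * g * x ∈ H) = Finset.univ :=
    Finset.eq_univ_of_card _ h4
  have h6 : (1 : G) ∈ Finset.univ.filter fun x : G => x⁻¹ * g * x ∈ H := by
    rw [h5]; exact Finset.mem_univ _
  simpa using (Finset.mem_filter.mp h6).2

theorem apply_eq_of_forall_constituent {Ψ : G → ℂ} (hΨ : IsCharacter G Ψ) (g : G)
    (h : ∀ ψ : IrrCharacter G, classInner Ψ (ψ : G → ℂ) ≠ 0 → (ψ : G → ℂ) g = (ψ : G → ℂ) 1) :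
    Ψ g = Ψ 1 := by
  classical
  let _ := Helper74.irrFintype G
  have hdec := Helper74.isCharacter_eq_sum_irr hΨ
  rw [hdec]
  simp only [Finset.sum_apply, Pi.smul_apply, smul_eq_mul]
  refine Finset.sum_congr rfl fun ψ _ => ?_
  by_cases hψ : classInner Ψ (ψ : G → ℂ) = 0
  · rw [hψ, zero_mul, zero_mul]
  · rw [h ψ hψ]

/-- **Taketa's theorem**, key induction: if every irreducible character is monomial, then the
`d`-th derived subgroup lies in the kernel of every irreducible character of degree `≤ d`. -/
theorem taketa_key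
    (hM : ∀ χ : G → ℂ, IsIrrCharacter G χ →
      ∃ (H : Subgroup G) (lam : H →* ℂˣ), χ = indFun H (fun h => (lam h : ℂ))) :
    ∀ d : ℕ, ∀ χ : IrrCharacter G, charDegree (χ : G → ℂ) ≤ d →
      ∀ g ∈ derivedSeries G d, (χ : G → ℂ) g = (χ : G → ℂ) 1 := by
  classical
  intro d
  induction d with
  | zero =>
    intro χ hχ
    exfalso
    have := Helper80.IsIrrCharacter.charDegree_pos χ.2
    omega
  | succ d ih =>
    intro χ hχd g hg
    by_cases hlt : charDegree (χ : G → ℂ) ≤ d
    · exact ih χ hlt g (derivedSeries_antitone G (Nat.le_succ d) hg)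
    · have hdeg : charDegree (χ : G → ℂ) = d + 1 := by omega
      obtain ⟨H, lam, hχ⟩ := hM χ χ.2
      have : Fintype H := Fintype.ofFinite H
      -- the index of `H`
      have hidx : H.index = d + 1 := by
        have h1 := Helper74.charDegree_cast (Helper74.irr_isCharacter χ)
        rw [hdeg] at h1
        have h2 : (χ : G → ℂ) 1 = (H.index : ℂ) := by
          rw [hχ, indFun_apply_one]
          simp
        rw [h2] at h1
        exact_mod_cast h1.symm
      set π : G → ℂ := indFun H (fun _ : H => (1 : ℂ)) with hπ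
      have hπc : IsCharacter G π :=
        isCharacter_indFun H (Helper74.isCharacter_of_isIrr (isIrrCharacter_one (G := H)))
      have hπ1 : π 1 = ((d + 1 : ℕ) : ℂ) := by
        rw [hπ, indFun_apply_one, hidx]; simp
      have hDH : derivedSeries G d ≤ H := by
        rcases Nat.eq_zero_or_pos d with hd0 | hdpos
        · have : H = ⊤ := by
            rw [← Subgroup.index_eq_one, hidx, hd0]
          rw [this]; exact le_top
        · intro x hx
          apply mem_of_indFun_one_eq H x
          apply apply_eq_of_forall_constituent hπc x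
          intro ψ hψcon
          apply ih ψ ?_ x hx
          by_contra hnot
          have hle : d + 1 ≤ charDegree (ψ : G → ℂ) := by omega
          have hψ1 : (ψ : G → ℂ) 1 = (charDegree (ψ : G → ℂ) : ℂ) :=
            (Helper74.charDegree_cast (Helper74.irr_isCharacter ψ)).symm
          have heq := eq_of_constituent_of_degree_le hπc ψ.2 hψcon (d + 1)
            (charDegree (ψ : G → ℂ)) hπ1 hψ1 hle
          -- then `π` is irreducible, but it contains the principal character
          have h11 : classInner π (fun _ : G => (1 : ℂ)) = 1 := by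
            rw [hπ, inner_indFun_one_one]
          have hψtriv : ψ = trivialIrr G := by
            by_contra hne
            have := Helper74.irr_orthonormal ψ (trivialIrr G)
            rw [if_neg hne] at this
            rw [heq] at h11
            rw [show ((trivialIrr G : IrrCharacter G) : G → ℂ) = fun _ => (1 : ℂ) from rfl] at this
            rw [this] at h11
            exact zero_ne_one h11
          have h1 : (ψ : G → ℂ) 1 = 1 := by rw [hψtriv]; rfl
          rw [h1] at hψ1
          have : charDegree (ψ : G → ℂ) = 1 := by exact_mod_cast hψ1.symm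
          omega
      -- the kernel of `lam`, as a subgroup of `G`
      set K : Subgroup G := (MonoidHom.ker lam).map H.subtype with hK
      have hKH : K ≤ H := by
        rintro x ⟨h, -, rfl⟩
        exact h.2
      have hNK : derivedSeries G (d + 1) ≤ K := by
        rw [derivedSeries_succ, Subgroup.commutator_le]
        intro a ha b hb
        refine ⟨⁅(⟨a, hDH ha⟩ : H), ⟨b, hDH hb⟩⁆, ?_, rfl⟩
        rw [SetLike.mem_coe, MonoidHom.mem_ker, map_commutatorElement]
        exact commutatorElement_eq_one_iff_commute.mpr (Commute.all _ _)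
      have := derivedSeries_normal G (d + 1)
      rw [hχ]
      apply indFun_apply_eq_of_normal H _ (derivedSeries G (d + 1)) (hNK.trans hKH) _ g hg
      intro n hn
      obtain ⟨h, hh, hhn⟩ := hNK hn
      have : (⟨n, (hNK.trans hKH) hn⟩ : H) = h := Subtype.ext hhn.symm
      rw [this]
      rw [SetLike.mem_coe, MonoidHom.mem_ker] at hh
      rw [hh, map_one]

/-- **Taketa's theorem**: M-groups are solvable. -/
theorem taketa
    (hM : ∀ χ : G → ℂ, IsIrrCharacter G χ →
      ∃ (H : Subgroup G) (lam : H →* ℂˣ), χ = indFun H (fun h => (lam h : ℂ))) :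
    Group.IsSolvable G := by
  classical
  let _ := Helper74.irrFintype G
  refine ⟨⟨Nat.card G, ?_⟩⟩
  rw [eq_bot_iff]
  intro g hg
  rw [Subgroup.mem_bot]
  have hker : ∀ χ : IrrCharacter G, (χ : G → ℂ) g = (χ : G → ℂ) 1 := by
    intro χ
    apply taketa_key hM (Nat.card G) χ _ g hg
    have h1 := Helper80.IsIrrCharacter.charDegree_sq_le_card χ.2
    have h2 : charDegree (χ : G → ℂ) ≤ charDegree (χ : G → ℂ) ^ 2 := by
      rw [sq]
      exact Nat.le_mul_self _
    omega
  by_contra hg1
  have h1 := sum_irr_one_mul (G := G) g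
  rw [if_neg hg1] at h1
  have h2 := sum_irr_one_mul (G := G) 1
  rw [if_pos rfl] at h2
  have h3 : ∑ χ : IrrCharacter G, (χ : G → ℂ) 1 * (χ : G → ℂ) g =
      ∑ χ : IrrCharacter G, (χ : G → ℂ) 1 * (χ : G → ℂ) 1 :=
    Finset.sum_congr rfl fun χ _ => by rw [hker χ]
  rw [h1, h2] at h3
  have : (Nat.card G : ℂ) ≠ 0 := by
    have : 0 < Nat.card G := Nat.card_pos
    exact_mod_cast this.ne'
  exact this h3.symm

end Cfsg.Agent.Helper81
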