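import Mathlib
import Cfsg.Prelude.Def_Blocks
import Cfsg.Agent.Helper80.Irr

/-!
# Twisting by a linear character

* `twistRep ν ρ`: the representation `g ↦ ν g • ρ g`;
* `isIrrCharacter_twist`: `χ ∈ Irr(G)`, `ν : G →* ℂˣ` ⟹ `ν χ ∈ Irr(G)`;
* `isCharacter_twist`.
-/

set_option autoImplicit false

namespace Cfsg.Agent.Helper81

open Cfsg Representation

section

variable {G : Type*} [Group G] {V : Type*} [AddCommGroup V] [Module ℂ V]

/-- Twist of a representation by a linear character. -/
noncomputable def twistRep (ν : G →* ℂˣ) (ρ : Representation ℂ G V) : Representation ℂ G V where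
  toFun g := ((ν g : ℂˣ) : ℂ) • ρ g
  map_one' := by simp
  map_mul' a b := by
    ext v
    simp only [map_mul, Units.val_mul, LinearMap.smul_apply, Module.End.mul_apply, map_smul]
    rw [smul_smul, mul_comm]

theorem twistRep_apply (ν : G →* ℂˣ) (ρ : Representation ℂ G V) (g : G) :
    twistRep ν ρ g = ((ν g : ℂˣ) : ℂ) • ρ g := rfl

theorem twistRep_character (ν : G →* ℂˣ) (ρ : Representation ℂ G V) (g : G) :
    (twistRep ν ρ).character g = ((ν g : ℂˣ) : ℂ) * ρ.character g := by
  unfold Representation.character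
  rw [twistRep_apply, map_smul, smul_eq_mul]

theorem isIrreducible_twistRep (ν : G →* ℂˣ) (ρ : Representation ℂ G V)
    (h : ρ.IsIrreducible) : (twistRep ν ρ).IsIrreducible := by
  rw [Helper80.isIrreducible_iff] at h ⊢
  refine ⟨h.1, fun W hW => h.2 W ?_⟩
  intro g v hv
  have h1 := hW g v hv
  rw [twistRep_apply, LinearMap.smul_apply] at h1
  have h2 := W.smul_mem (((ν g)⁻¹ : ℂˣ) : ℂ) h1
  rwa [smul_smul, ← Units.val_mul, inv_mul_cancel, Units.val_one, one_smul] at h2

end

section

variable {G : Type*} [Group G]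

/-- The product of an irreducible character with a linear character is irreducible. -/
theorem isIrrCharacter_twist (ν : G →* ℂˣ) {χ : G → ℂ} (hχ : IsIrrCharacter G χ) :
    IsIrrCharacter G (fun g => ((ν g : ℂˣ) : ℂ) * χ g) := by
  obtain ⟨n, ρ, hρ, rfl⟩ := hχ
  exact ⟨n, twistRep ν ρ, isIrreducible_twistRep ν ρ hρ, funext (twistRep_character ν ρ)⟩

/-- The product of a character with a linear character is a character. -/
theorem isCharacter_twist (ν : G →* ℂˣ) {χ : G → ℂ} (hχ : IsCharacter G χ) :
    IsCharacter G (fun g => ((ν g : ℂˣ) : ℂ) * χ g) := by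
  obtain ⟨n, ρ, rfl⟩ := hχ
  exact ⟨n, twistRep ν ρ, funext (twistRep_character ν ρ)⟩

end

end Cfsg.Agent.Helper81
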