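import Mathlib

/-!
# Congruences modulo a prime among algebraic integers of `ℂ`

* `IntModEq p a b`: `a - b = p * w` for an algebraic integer `w`;
* `IntModEq.int_dvd`: for rational integers this is the usual congruence;
* `sum_intModEq_sum_fixedPoints`: for a `p`-group `S` acting on a finite set `X` and an
  `S`-invariant function `f` with algebraic-integer values,
  `∑ x, f x ≡ ∑ x ∈ X^S, f x` modulo `p`.
-/

set_option autoImplicit false

namespace Cfsg.Agent.Helper81

/-- `a ≡ b` modulo `p` in the ring of algebraic integers of `ℂ`. -/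
def IntModEq (p : ℕ) (a b : ℂ) : Prop := ∃ w : ℂ, IsIntegral ℤ w ∧ a - b = (p : ℂ) * w

namespace IntModEq

variable {p : ℕ} {a b c d : ℂ}

theorem refl (p : ℕ) (a : ℂ) : IntModEq p a a := ⟨0, isIntegral_zero, by simp⟩

theorem of_eq (h : a = b) : IntModEq p a b := h ▸ refl p a

theorem symm (h : IntModEq p a b) : IntModEq p b a := by
  obtain ⟨w, hw, h⟩ := h
  exact ⟨-w, hw.neg, by rw [mul_neg, ← h]; ring⟩

theorem trans (h1 : IntModEq p a b) (h2 : IntModEq p b c) : IntModEq p a c := by
  obtain ⟨w, hw, h⟩ := h1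
  obtain ⟨w', hw', h'⟩ := h2
  exact ⟨w + w', hw.add hw', by rw [mul_add, ← h, ← h']; ring⟩

theorem add (h1 : IntModEq p a b) (h2 : IntModEq p c d) : IntModEq p (a + c) (b + d) := by
  obtain ⟨w, hw, h⟩ := h1
  obtain ⟨w', hw', h'⟩ := h2
  exact ⟨w + w', hw.add hw', by rw [mul_add, ← h, ← h']; ring⟩

theorem neg (h1 : IntModEq p a b) : IntModEq p (-a) (-b) := by
  obtain ⟨w, hw, h⟩ := h1
  exact ⟨-w, hw.neg, by rw [mul_neg, ← h]; ring⟩

theorem sub (h1 : IntModEq p a b) (h2 : IntModEq p c d) : IntModEq p (a - c) (b - d) := by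
  rw [sub_eq_add_neg, sub_eq_add_neg]
  exact h1.add h2.neg

theorem mul_left (hc : IsIntegral ℤ c) (h : IntModEq p a b) : IntModEq p (c * a) (c * b) := by
  obtain ⟨w, hw, h⟩ := h
  exact ⟨c * w, hc.mul hw, by rw [← mul_sub, h]; ring⟩

theorem mul_right (hc : IsIntegral ℤ c) (h : IntModEq p a b) : IntModEq p (a * c) (b * c) := by
  rw [mul_comm a, mul_comm b]
  exact h.mul_left hc

theorem mul (hb : IsIntegral ℤ b) (hc : IsIntegral ℤ c) (h1 : IntModEq p a b)
    (h2 : IntModEq p c d) : IntModEq p (a * c) (b * d) :=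
  (h1.mul_right hc).trans (h2.mul_left hb)

theorem sum {ι : Type*} (s : Finset ι) {f g : ι → ℂ} (h : ∀ i ∈ s, IntModEq p (f i) (g i)) :
    IntModEq p (∑ i ∈ s, f i) (∑ i ∈ s, g i) := by
  classical
  induction s using Finset.induction_on with
  | empty => simpa using refl p 0
  | insert i s hi ih =>
    rw [Finset.sum_insert hi, Finset.sum_insert hi]
    exact (h i (Finset.mem_insert_self i s)).add
      (ih fun j hj => h j (Finset.mem_insert_of_mem hj))

/-- A multiple of `p` (by an algebraic integer) is `≡ 0`. -/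
theorem mul_self_zero (hc : IsIntegral ℤ c) : IntModEq p ((p : ℂ) * c) 0 :=
  ⟨c, hc, by simp⟩

theorem of_int_modEq {m n : ℤ} (h : m ≡ n [ZMOD p]) : IntModEq p (m : ℂ) (n : ℂ) := by
  obtain ⟨k, hk⟩ := (Int.modEq_iff_dvd.mp h.symm)
  refine ⟨k, isIntegral_algebraMap (R := ℤ) (A := ℂ) (x := k), ?_⟩
  have : ((m - n : ℤ) : ℂ) = ((p : ℤ) * k : ℤ) := by rw [hk]
  push_cast at this
  exact this

/-- Among rational integers, `IntModEq` is the usual congruence. -/
theorem int_dvd (hp : p ≠ 0) {m n : ℤ} (h : IntModEq p (m : ℂ) (n : ℂ)) : (p : ℤ) ∣ m - n := by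
  obtain ⟨w, hw, h⟩ := h
  have hpc : (p : ℂ) ≠ 0 := by exact_mod_cast hp
  have h1 : w = algebraMap ℚ ℂ (((m - n : ℤ) : ℚ) / (p : ℚ)) := by
    have : w = ((m : ℂ) - n) / p := by rw [h]; field_simp
    rw [this]; simp
  rw [h1, isIntegral_algebraMap_iff (algebraMap ℚ ℂ).injective] at hw
  obtain ⟨k, hk⟩ := IsIntegrallyClosed.algebraMap_eq_of_integral hw
  have hpq : (p : ℚ) ≠ 0 := by exact_mod_cast hp
  have h2 : ((m - n : ℤ) : ℚ) = (k : ℚ) * (p : ℚ) := by
    have : (k : ℚ) = ((m - n : ℤ) : ℚ) / (p : ℚ) := by simpa using hk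
    rw [this]; field_simp
  have h3 : (m - n : ℤ) = k * (p : ℤ) := by exact_mod_cast h2
  exact ⟨k, by rw [h3, mul_comm]⟩

theorem int_modEq (hp : p ≠ 0) {m n : ℤ} (h : IntModEq p (m : ℂ) (n : ℂ)) : m ≡ n [ZMOD p] :=
  (Int.modEq_iff_dvd.mpr (int_dvd hp h.symm))

theorem nat_dvd (hp : p ≠ 0) {m : ℕ} (h : IntModEq p (m : ℂ) 0) : p ∣ m := by
  have h' : IntModEq p ((m : ℤ) : ℂ) ((0 : ℤ) : ℂ) := by simpa using h
  have := int_dvd hp h'
  rw [sub_zero] at this
  exact_mod_cast this

end IntModEq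

section action

open MulAction

variable {p : ℕ} [hp : Fact p.Prime] {S X : Type*} [Group S] [Fintype X] [MulAction S X]

/-- Counting an invariant subset modulo `p`. -/
theorem card_filter_modEq_fixed (hS : IsPGroup p S) (A : Set X) [DecidablePred (· ∈ A)]
    [DecidablePred (· ∈ fixedPoints S X)]
    (hA : ∀ s : S, ∀ x ∈ A, s • x ∈ A) :
    (Finset.univ.filter (· ∈ A)).card ≡
      (Finset.univ.filter (fun x => x ∈ A ∧ x ∈ fixedPoints S X)).card [MOD p] := by
  classical
  let sub : SubMulAction S X := ⟨A, fun s x hx => hA s x hx⟩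
  have h := hS.card_modEq_card_fixedPoints (α := sub)
  have e1 : Nat.card sub = (Finset.univ.filter (· ∈ A)).card := by
    rw [← Fintype.card_subtype, ← Nat.card_eq_fintype_card]
    exact Nat.card_congr (Equiv.refl _)
  have e2 : Nat.card (fixedPoints S sub) =
      (Finset.univ.filter (fun x => x ∈ A ∧ x ∈ fixedPoints S X)).card := by
    rw [← Fintype.card_subtype, ← Nat.card_eq_fintype_card]
    refine Nat.card_congr
      { toFun := fun y => ⟨y.1.1, y.1.2, fun s => congrArg Subtype.val (y.2 s)⟩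
        invFun := fun z => ⟨⟨z.1, z.2.1⟩, fun s => Subtype.ext (z.2.2 s)⟩
        left_inv := fun y => rfl
        right_inv := fun z => rfl }
  rw [e1, e2] at h
  exact h

/-- **Orbit sums modulo `p`.**  For a `p`-group `S` acting on a finite set `X` and an
`S`-invariant function `f` with algebraic-integer values, `∑ x, f x ≡ ∑ x ∈ X^S, f x`. -/
theorem sum_intModEq_sum_fixedPoints (hS : IsPGroup p S) (f : X → ℂ)
    [DecidablePred (· ∈ fixedPoints S X)]
    (hf : ∀ (s : S) (x : X), f (s • x) = f x) (hint : ∀ x, IsIntegral ℤ (f x)) :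
    IntModEq p (∑ x, f x) (∑ x with x ∈ fixedPoints S X, f x) := by
  classical
  have e1 : ∑ x, f x = ∑ v ∈ Finset.univ.image f, ((Finset.univ.filter (fun x => f x = v)).card : ℂ) * v := by
    rw [← Finset.sum_fiberwise_of_maps_to (s := Finset.univ) (t := Finset.univ.image f) (g := f)
      (fun x _ => Finset.mem_image_of_mem f (Finset.mem_univ x))]
    refine Finset.sum_congr rfl fun v _ => ?_
    rw [Finset.sum_congr rfl (fun x hx => (Finset.mem_filter.mp hx).2), Finset.sum_const,
      nsmul_eq_mul]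
  have e2 : ∑ x with x ∈ fixedPoints S X, f x = ∑ v ∈ Finset.univ.image f,
      ((Finset.univ.filter (fun x => f x = v ∧ x ∈ fixedPoints S X)).card : ℂ) * v := by
    rw [← Finset.sum_fiberwise_of_maps_to (s := Finset.univ.filter (· ∈ fixedPoints S X))
      (t := Finset.univ.image f) (g := f)
      (fun x _ => Finset.mem_image_of_mem f (Finset.mem_univ x))]
    refine Finset.sum_congr rfl fun v _ => ?_
    rw [Finset.sum_congr rfl (fun x hx => (Finset.mem_filter.mp hx).2), Finset.sum_const,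
      nsmul_eq_mul]
    congr 2
    rw [Finset.filter_filter]
    congr 1
    ext x
    simp [and_comm]
  rw [e1, e2]
  refine IntModEq.sum _ fun v hv => ?_
  obtain ⟨x, -, rfl⟩ := Finset.mem_image.mp hv
  refine IntModEq.mul_right (hint x) ?_
  have h := card_filter_modEq_fixed hS {y | f y = f x} (fun s y hy => by
    simp only [Set.mem_ofPred_eq] at hy ⊢; rw [hf, hy])
  have h' := IntModEq.of_int_modEq (p := p) (Int.natCast_modEq_iff.mpr h)
  simpa using h'

end action

end Cfsg.Agent.Helper81
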