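import Mathlib
import Cfsg.Prelude.Def_Blocks
import Cfsg.Agent.Helper81.ModP
import Cfsg.Agent.Helper81.Schur
import Cfsg.Agent.Helper74.CharBasic
import Cfsg.Agent.Helper79.CharComplete
import Cfsg.Agent.Helper80.CharLevel
import Cfsg.Agent.Helper80.Degree

/-!
# The Glauberman correspondence for a `p`-group of operators: preliminaries

Abstract setting: a group `S` acts on the finite group `G` by automorphisms
(`MulDistribMulAction S G`), and `ι : C →* G` is an injective homomorphism whose range is the
subgroup of fixed points.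
-/

set_option autoImplicit false
set_option linter.unusedSectionVars false

namespace Cfsg.Agent.Helper81

open Cfsg
open scoped ComplexConjugate

universe u v w

section general

variable {G : Type u} [Group G] [Fintype G]

/-- For an irreducible character, `χ(1) ∑_g χ(g x g⁻¹ y) = |G| χ(x) χ(y)`. -/
theorem irr_sum_conj_mul (χ : IrrCharacter G) (x y : G) :
    (χ : G → ℂ) 1 * ∑ g : G, (χ : G → ℂ) (g * x * g⁻¹ * y) =
      (Nat.card G : ℂ) * (χ : G → ℂ) x * (χ : G → ℂ) y := by
  obtain ⟨χ, n, ρ, hirr, rfl⟩ := χ
  have := hirr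
  have h := sum_conj_apply_eq_scalar ρ x
  have h2 := congrArg (fun T => LinearMap.trace ℂ _ (T * ρ y)) h
  simp only [Finset.sum_mul, map_sum, smul_mul_assoc, one_mul, map_smul, smul_eq_mul] at h2
  have h3 : ∀ g : G, LinearMap.trace ℂ _ (ρ (g * x * g⁻¹) * ρ y) =
      ρ.character (g * x * g⁻¹ * y) := by
    intro g
    rw [Representation.character, map_mul ρ (g * x * g⁻¹) y]
  simp only [h3] at h2
  change ρ.character 1 * ∑ g : G, ρ.character (g * x * g⁻¹ * y) = _
  rw [h2, Representation.char_one]
  have hpos : (Module.finrank ℂ (Fin n → ℂ) : ℂ) ≠ 0 := by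
    have := finrank_pos_of_irreducible ρ
    exact_mod_cast this.ne'
  change _ = _ * ρ.character x * ρ.character y
  simp only [Representation.character]
  field_simp

/-- Expansion of the inner product of two characters along the irreducible characters. -/
theorem classInner_eq_sum_mult [Fintype (IrrCharacter G)] {φ φ' : G → ℂ}
    (hφ' : IsCharacter G φ') :
    classInner φ φ' = ∑ ψ : IrrCharacter G, classInner φ (ψ : G → ℂ) * classInner φ' (ψ : G → ℂ) := by
  conv_lhs => rw [Helper74.isCharacter_eq_sum_irr hφ']
  rw [Helper74.classInner_sum_right]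
  refine Finset.sum_congr rfl fun ψ _ => ?_
  rw [Helper74.classInner_smul_right]
  obtain ⟨m, hm⟩ := Helper74.isCharacter_inner_irr_nat hφ' ψ
  rw [hm, Complex.conj_natCast, mul_comm]

theorem sum_mul_conj_eq_classInner (φ φ' : G → ℂ) :
    ∑ g : G, φ g * conj (φ' g) = (Nat.card G : ℂ) * classInner φ φ' := by
  rw [Helper74.classInner_def, ← mul_assoc, mul_inv_cancel₀, one_mul]
  exact_mod_cast Nat.card_pos.ne'

end general

section fix

variable {G : Type u} [Group G] [Fintype G] {C : Type v} [Group C] [Fintype C]
  {S : Type w} [Group S] [MulDistribMulAction S G]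
  {p : ℕ} [hp : Fact p.Prime] (ι : C →* G)

/-- Orbit sums on `G`, with the fixed points parametrised by `ι`. -/
theorem sum_intModEq_sum_comp (hS : IsPGroup p S) (hinj : Function.Injective ι)
    (hfix : ∀ g : G, g ∈ Set.range ι ↔ ∀ s : S, s • g = g) (f : G → ℂ)
    (hf : ∀ (s : S) (g : G), f (s • g) = f g) (hint : ∀ g, IsIntegral ℤ (f g)) :
    IntModEq p (∑ g, f g) (∑ c : C, f (ι c)) := by
  classical
  have h := sum_intModEq_sum_fixedPoints (p := p) hS f hf hint
  have e : ∑ x with x ∈ MulAction.fixedPoints S G, f x = ∑ c : C, f (ι c) := by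
    rw [← Finset.sum_image (s := Finset.univ) (g := ι) (f := f) (fun a _ b _ hab => hinj hab)]
    refine Finset.sum_congr ?_ fun _ _ => rfl
    ext g
    simp only [Finset.mem_filter, Finset.mem_univ, true_and, Finset.mem_image,
      MulAction.mem_fixedPoints]
    rw [← hfix g]
    rfl
  rwa [e] at h

end fix

end Cfsg.Agent.Helper81
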