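import Mathlib
import Cfsg.Prelude.Def_Blocks
import Cfsg.Agent.Helper81.GlaubP1

/-!
# The Glauberman correspondence for a `p`-group of operators: the congruences
-/

set_option autoImplicit false
set_option linter.unusedSectionVars false

namespace Cfsg.Agent.Helper81

open Cfsg
open scoped ComplexConjugate

universe u v w

section conv

variable {C : Type v} [Group C] [Fintype C]

/-- The convolution of two distinct irreducible characters vanishes. -/
theorem irr_conv_eq_zero {ψ ψ' : IrrCharacter C} (h : ψ ≠ ψ') (z : C) :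
    ∑ x : C, (ψ : C → ℂ) x * (ψ' : C → ℂ) (x⁻¹ * z) = 0 := by
  classical
  obtain ⟨ψ, n, ρ, hρ, rfl⟩ := ψ
  obtain ⟨ψ', n', σ, hσ, rfl⟩ := ψ'
  have := hρ
  have := hσ
  have hgen := sum_char_mul_char_inv_gen ρ σ z
  have hniso : ¬ Nonempty (σ.Equiv ρ) := by
    rintro ⟨e⟩
    apply h
    apply Subtype.ext
    exact (Representation.char_iso e).symm
  rw [if_neg hniso, zero_mul, zero_div] at hgen
  rw [← hgen]
  refine Fintype.sum_equiv (Equiv.mulLeft z⁻¹) _ _ fun x => ?_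
  simp only [Equiv.coe_mulLeft, mul_inv_cancel_left, mul_inv_rev, inv_inv]

/-- `∑_{x,y} φ(xy) conj ψ(x) conj ψ'(y) = 0` for distinct irreducible `ψ`, `ψ'`. -/
theorem sum_mul_conj_conj_eq_zero {ψ ψ' : IrrCharacter C} (h : ψ ≠ ψ') (φ : C → ℂ) :
    ∑ x : C, ∑ y : C, φ (x * y) * conj ((ψ : C → ℂ) x) * conj ((ψ' : C → ℂ) y) = 0 := by
  have h1 : ∀ x : C, ∑ y : C, φ (x * y) * conj ((ψ : C → ℂ) x) * conj ((ψ' : C → ℂ) y) =
      ∑ z : C, φ z * conj ((ψ : C → ℂ) x) * conj ((ψ' : C → ℂ) (x⁻¹ * z)) := by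
    intro x
    refine Fintype.sum_equiv (Equiv.mulLeft x) _ _ fun y => ?_
    simp only [Equiv.coe_mulLeft, inv_mul_cancel_left]
  simp only [h1]
  rw [Finset.sum_comm]
  refine Finset.sum_eq_zero fun z _ => ?_
  have h2 : ∑ x : C, φ z * conj ((ψ : C → ℂ) x) * conj ((ψ' : C → ℂ) (x⁻¹ * z)) =
      φ z * conj (∑ x : C, (ψ : C → ℂ) x * (ψ' : C → ℂ) (x⁻¹ * z)) := by
    rw [map_sum, Finset.mul_sum]
    refine Finset.sum_congr rfl fun x _ => ?_
    rw [map_mul, mul_assoc]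
  rw [h2, irr_conv_eq_zero h, map_zero, mul_zero]

/-- The triple sum `∑_{x,y,c} φ(c x c⁻¹ y) conj ψ(x) conj ψ'(y)` vanishes for distinct
irreducible `ψ`, `ψ'`. -/
theorem sum_conj_mul_conj_conj_eq_zero {ψ ψ' : IrrCharacter C} (h : ψ ≠ ψ') (φ : C → ℂ) :
    ∑ x : C, ∑ y : C, (∑ c : C, φ (c * x * c⁻¹ * y)) * conj ((ψ : C → ℂ) x) *
      conj ((ψ' : C → ℂ) y) = 0 := by
  have hcf := Helper74.isClassFunction_of_isCharacter (Helper74.irr_isCharacter ψ)
  have h1 : ∑ x : C, ∑ y : C, (∑ c : C, φ (c * x * c⁻¹ * y)) * conj ((ψ : C → ℂ) x) *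
      conj ((ψ' : C → ℂ) y) = ∑ c : C, ∑ x : C, ∑ y : C,
        φ (c * x * c⁻¹ * y) * conj ((ψ : C → ℂ) x) * conj ((ψ' : C → ℂ) y) := by
    simp only [Finset.sum_mul]
    refine (Finset.sum_congr rfl fun x _ => Finset.sum_comm).trans ?_
    exact Finset.sum_comm
  rw [h1]
  refine Finset.sum_eq_zero fun c _ => ?_
  rw [← sum_mul_conj_conj_eq_zero h φ]
  refine Fintype.sum_equiv (MulAut.conj c).toEquiv _ _ fun x => ?_
  refine Finset.sum_congr rfl fun y _ => ?_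
  simp only [MulEquiv.toEquiv_eq_coe, MulEquiv.coe_toEquiv, MulAut.conj_apply]
  rw [hcf x c]

end conv

section main

variable {G : Type u} [Group G] [Fintype G] {C : Type v} [Group C] [Fintype C]
  {S : Type w} [Group S] [MulDistribMulAction S G]
  {p : ℕ} [hp : Fact p.Prime] (ι : C →* G)

/-- The multiplicity of `ψ` in the restriction of `χ` along `ι`. -/
noncomputable def mult (χ : IrrCharacter G) (ψ : IrrCharacter C) : ℕ :=
  Classical.choose (Helper74.isCharacter_inner_irr_nat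
    (Helper74.isCharacter_comp ι (Helper74.irr_isCharacter χ)) ψ)

theorem mult_spec (χ : IrrCharacter G) (ψ : IrrCharacter C) :
    classInner ((χ : G → ℂ) ∘ ι) (ψ : C → ℂ) = (mult ι χ ψ : ℂ) :=
  Classical.choose_spec (Helper74.isCharacter_inner_irr_nat
    (Helper74.isCharacter_comp ι (Helper74.irr_isCharacter χ)) ψ)

theorem sum_comp_mul_conj (χ : IrrCharacter G) (ψ : IrrCharacter C) :
    ∑ x : C, (χ : G → ℂ) (ι x) * conj ((ψ : C → ℂ) x) = (Nat.card C : ℂ) * (mult ι χ ψ : ℂ) := by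
  rw [← mult_spec, ← sum_mul_conj_eq_classInner]
  rfl

theorem irr_isIntegral (χ : IrrCharacter G) (g : G) : IsIntegral ℤ ((χ : G → ℂ) g) :=
  Helper80.IsCharacter.isIntegral (Helper74.irr_isCharacter χ) g

theorem irr_conj_isIntegral (χ : IrrCharacter G) (g : G) :
    IsIntegral ℤ (conj ((χ : G → ℂ) g)) := by
  rw [← Helper74.char_inv (Helper74.irr_isCharacter χ)]
  exact irr_isIntegral χ g⁻¹

variable (hS : IsPGroup p S) (hinj : Function.Injective ι)
  (hfix : ∀ g : G, g ∈ Set.range ι ↔ ∀ s : S, s • g = g)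

include hS hinj hfix

theorem card_modEq_card_fix : Nat.card G ≡ Nat.card C [MOD p] := by
  have h := sum_intModEq_sum_comp (p := p) ι hS hinj hfix (fun _ => 1) (fun _ _ => rfl)
    (fun _ => isIntegral_one)
  simp only [Finset.sum_const, Finset.card_univ, nsmul_eq_mul, mul_one] at h
  rw [← Nat.card_eq_fintype_card, ← Nat.card_eq_fintype_card] at h
  have h' : IntModEq p ((Nat.card G : ℤ) : ℂ) ((Nat.card C : ℤ) : ℂ) := by simpa using h
  exact Int.natCast_modEq_iff.mp (IntModEq.int_modEq hp.out.ne_zero h')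

theorem not_dvd_card_fix (hpG : ¬ p ∣ Nat.card G) : ¬ p ∣ Nat.card C := by
  intro h
  apply hpG
  have := card_modEq_card_fix ι hS hinj hfix
  exact (Nat.modEq_zero_iff_dvd.mp (this.trans (Nat.modEq_zero_iff_dvd.mpr h)))

/-- `ι c` is fixed by `S`. -/
theorem smul_comp (s : S) (c : C) : s • ι c = ι c := (hfix (ι c)).mp ⟨c, rfl⟩ s

/-- (a) Two distinct constituents of the restriction of an invariant `χ` cannot both have
multiplicity prime to `p`. -/
theorem dvd_mult_mul_mult (hpG : ¬ p ∣ Nat.card G) (χ : IrrCharacter G)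
    (hχ : ∀ (s : S) (g : G), (χ : G → ℂ) (s • g) = (χ : G → ℂ) g) {ψ ψ' : IrrCharacter C}
    (hne : ψ ≠ ψ') : p ∣ mult ι χ ψ * mult ι χ ψ' := by
  have hpC := not_dvd_card_fix ι hS hinj hfix hpG
  -- the pointwise congruence
  have hpt : ∀ x y : C, IntModEq p
      ((Nat.card G : ℂ) * (χ : G → ℂ) (ι x) * (χ : G → ℂ) (ι y))
      ((χ : G → ℂ) 1 * ∑ c : C, ((χ : G → ℂ) ∘ ι) (c * x * c⁻¹ * y)) := by
    intro x y
    rw [← irr_sum_conj_mul]
    refine IntModEq.mul_left (irr_isIntegral χ 1) ?_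
    have h := sum_intModEq_sum_comp (p := p) ι hS hinj hfix
      (fun g => (χ : G → ℂ) (g * ι x * g⁻¹ * ι y)) (fun s g => by
        have : s • g * ι x * (s • g)⁻¹ * ι y = s • (g * ι x * g⁻¹ * ι y) := by
          rw [smul_mul', smul_mul', smul_mul', smul_inv', smul_comp ι hS hinj hfix,
            smul_comp ι hS hinj hfix]
        rw [this, hχ]) (fun g => irr_isIntegral χ _)
    refine h.trans (IntModEq.of_eq ?_)
    refine Finset.sum_congr rfl fun c _ => ?_
    simp only [Function.comp_apply, map_mul, map_inv]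
  -- sum against `conj ψ x * conj ψ' y`
  have hsum : IntModEq p
      (∑ x : C, ∑ y : C, (Nat.card G : ℂ) * (χ : G → ℂ) (ι x) * (χ : G → ℂ) (ι y) *
        conj ((ψ : C → ℂ) x) * conj ((ψ' : C → ℂ) y))
      (∑ x : C, ∑ y : C, ((χ : G → ℂ) 1 * ∑ c : C, ((χ : G → ℂ) ∘ ι) (c * x * c⁻¹ * y)) *
        conj ((ψ : C → ℂ) x) * conj ((ψ' : C → ℂ) y)) := by
    refine IntModEq.sum _ fun x _ => IntModEq.sum _ fun y _ => ?_
    exact ((hpt x y).mul_right (irr_conj_isIntegral ψ x)).mul_right (irr_conj_isIntegral ψ' y)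
  have hL : ∑ x : C, ∑ y : C, (Nat.card G : ℂ) * (χ : G → ℂ) (ι x) * (χ : G → ℂ) (ι y) *
        conj ((ψ : C → ℂ) x) * conj ((ψ' : C → ℂ) y) =
      (Nat.card G : ℂ) * ((Nat.card C : ℂ) * (mult ι χ ψ : ℂ)) *
        ((Nat.card C : ℂ) * (mult ι χ ψ' : ℂ)) := by
    rw [← sum_comp_mul_conj, ← sum_comp_mul_conj, mul_assoc, Finset.sum_mul_sum, Finset.mul_sum]
    refine Finset.sum_congr rfl fun x _ => ?_
    rw [Finset.mul_sum]
    refine Finset.sum_congr rfl fun y _ => ?_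
    ring
  have hR : ∑ x : C, ∑ y : C, ((χ : G → ℂ) 1 * ∑ c : C, ((χ : G → ℂ) ∘ ι) (c * x * c⁻¹ * y)) *
        conj ((ψ : C → ℂ) x) * conj ((ψ' : C → ℂ) y) = 0 := by
    have := sum_conj_mul_conj_conj_eq_zero hne ((χ : G → ℂ) ∘ ι)
    have h2 : ∑ x : C, ∑ y : C, ((χ : G → ℂ) 1 * ∑ c : C, ((χ : G → ℂ) ∘ ι) (c * x * c⁻¹ * y)) *
        conj ((ψ : C → ℂ) x) * conj ((ψ' : C → ℂ) y) = (χ : G → ℂ) 1 *
        ∑ x : C, ∑ y : C, (∑ c : C, ((χ : G → ℂ) ∘ ι) (c * x * c⁻¹ * y)) *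
          conj ((ψ : C → ℂ) x) * conj ((ψ' : C → ℂ) y) := by
      rw [Finset.mul_sum]
      refine Finset.sum_congr rfl fun x _ => ?_
      rw [Finset.mul_sum]
      refine Finset.sum_congr rfl fun y _ => ?_
      ring
    rw [h2, this, mul_zero]
  rw [hL, hR] at hsum
  have h3 : IntModEq p
      ((Nat.card G * (Nat.card C * mult ι χ ψ) * (Nat.card C * mult ι χ ψ') : ℕ) : ℂ) 0 := by
    push_cast
    exact hsum
  have h4 := IntModEq.nat_dvd hp.out.ne_zero h3
  have hp' := hp.out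
  have h5 : p ∣ Nat.card C * mult ι χ ψ * (Nat.card C * mult ι χ ψ') := by
    rw [mul_assoc] at h4
    exact (hp'.dvd_mul.mp h4).resolve_left hpG
  rcases hp'.dvd_mul.mp h5 with h6 | h6
  · exact Dvd.dvd.mul_right ((hp'.dvd_mul.mp h6).resolve_left hpC) _
  · exact Dvd.dvd.mul_left ((hp'.dvd_mul.mp h6).resolve_left hpC) _

end main

end Cfsg.Agent.Helper81
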