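import Cfsg.Agent.Helper25.BRDefs
import Cfsg.Agent.Helper25.NPCSimple

/-!
# (EXPb) piece for helper25's S0999 / S4701: from the rigid principal block to the group-theoretic
configuration
-/

set_option autoImplicit false
set_option linter.style.haveILetI false
set_option linter.unusedSectionVars false

namespace Cfsg.Agent.Helper81.BR

open Cfsg Cfsg.Agent.Helper25.BR

universe u

/-- the sum of an irreducible character of `G` over a subgroup `H` is `|H|` times a natural
number -/
theorem sum_subgroup_eq {G : Type u} [Group G] [Fintype G] (H : Subgroup G) [Fintype H]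
    (χ : IrrCharacter G) :
    ∃ m : ℕ, ∑ x : H, (χ : G → ℂ) (x : G) = (Nat.card H : ℂ) * (m : ℂ) := by
  obtain ⟨m, hm⟩ := Helper74.isCharacter_inner_irr_nat
    (Helper74.isCharacter_restrict H (Helper74.irr_isCharacter χ)) (Helper79.principalIrr H)
  refine ⟨m, ?_⟩
  unfold classInner at hm
  have hH0 : (Nat.card H : ℂ) ≠ 0 := by
    have : Nat.card H ≠ 0 := Nat.card_pos.ne'
    exact_mod_cast this
  have h1 : ∑ x : H, (χ : G → ℂ) (x : G) =
      ∑ x : H, (χ : G → ℂ) (x : G) *
        (starRingEnd ℂ) ((Helper79.principalIrr H : H → ℂ) x) := by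
    apply Finset.sum_congr rfl
    intro x _
    show _ = _ * (starRingEnd ℂ) (1 : ℂ)
    rw [map_one, mul_one]
  rw [h1, ← hm]
  field_simp

theorem fx_pos_of_hasFP {G : Type u} [Group G] [Finite G] {p : ℕ} {g : G} (h : HasFP p g) :
    0 < fx p g := by
  obtain ⟨Q, hQ⟩ := h
  unfold fx
  haveI : Nonempty (MulAction.fixedBy (Sylow p G) g) := ⟨⟨Q, hQ⟩⟩
  exact Nat.card_pos

theorem fx_eq_zero_of_not_hasFP {G : Type u} [Group G] {p : ℕ} {g : G} (h : ¬ HasFP p g) :
    fx p g = 0 := by
  unfold fx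
  haveI : IsEmpty (MulAction.fixedBy (Sylow p G) g) := ⟨fun ⟨Q, hQ⟩ => h ⟨Q, hQ⟩⟩
  exact Nat.card_of_isEmpty

theorem config_of_rigid {G : Type u} [Group G] [Fintype G] {p e t k : ℕ} [Fact p.Prime]
    {P : Sylow p G} {Xp Xm Y : Finset (IrrCharacter G)} (h : Rigid p e t k P Xp Xm Y)
    (hfx : ∀ g : G, g ≠ 1 → ¬ p ∣ orderOf g →
      (fx p g : ℂ) = (t : ℂ) * (1 - ∑ χ ∈ Xm, (χ : G → ℂ) g))
    (hle : ∀ g : G, g ≠ 1 → ¬ p ∣ orderOf g → HasFP p g → fx p g ≤ t) :
    Config p e t k P := by
  classical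
  have hp : p.Prime := Fact.out
  have ht0 : t ≠ 0 := by have := h.ht; omega
  have ht0' : (t : ℂ) ≠ 0 := by exact_mod_cast ht0
  -- `t ∣ fx g`
  have hdvd : ∀ g : G, g ≠ 1 → ¬ p ∣ orderOf g → t ∣ fx p g := by
    intro g hg1 hg
    have hint : IsIntegral ℤ (∑ χ ∈ Xm, (χ : G → ℂ) g) :=
      IsIntegral.sum _ (fun χ _ => Helper78.isIntegral_irrChar_apply χ.2 g)
    have hX : ∑ χ ∈ Xm, (χ : G → ℂ) g = (((t : ℤ) - (fx p g : ℤ) : ℤ) : ℂ) / (t : ℂ) := by
      have h1 := hfx g hg1 hg
      rw [eq_div_iff ht0']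
      push_cast
      rw [h1]
      ring
    rw [hX] at hint
    have h2 := Helper25.NPCSimple.int_dvd_of_isIntegral_div' ht0 hint
    have h3 : (t : ℤ) ∣ (fx p g : ℤ) := by
      have := dvd_sub (dvd_refl (t : ℤ)) h2
      simpa using this
    exact_mod_cast h3
  have hfixt : ∀ g : G, g ≠ 1 → ¬ p ∣ orderOf g → HasFP p g → fx p g = t := by
    intro g hg1 hg hfp
    obtain ⟨m, hm⟩ := hdvd g hg1 hg
    have h1 := fx_pos_of_hasFP hfp
    have h2 := hle g hg1 hg hfp
    rw [hm] at h1 h2 ⊢
    have hm1 : m = 1 := by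
      rcases m with _ | _ | m
      · simp at h1
      · rfl
      · exfalso
        have : t * (m + 1 + 1) = t * m + t + t := by ring
        omega
    rw [hm1, mul_one]
  have hexp : ∀ H : Subgroup G, Nat.card H ∣ p - 1 → ∀ x ∈ H, HasFP p x := by
    intro H hH
    haveI : Fintype H := Fintype.ofFinite H
    have hreg : ∀ x : H, ¬ p ∣ orderOf (x : G) := by
      intro x hx
      have h1 : orderOf (x : G) ∣ Nat.card H := by
        rw [Subgroup.orderOf_coe]
        exact orderOf_dvd_natCard x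
      have h2 : p ∣ p - 1 := (hx.trans h1).trans hH
      have h3 : 0 < p - 1 := by have := hp.two_le; omega
      have := Nat.le_of_dvd h3 h2
      omega
    -- the sum over `H` is a multiple of `|H|`
    have hsum1 : ∃ M : ℕ, ∑ x : H, ∑ χ ∈ Xm, (χ : G → ℂ) (x : G) =
        (Nat.card H : ℂ) * (M : ℂ) := by
      choose m hm using fun χ : IrrCharacter G => sum_subgroup_eq H χ
      refine ⟨∑ χ ∈ Xm, m χ, ?_⟩
      rw [Finset.sum_comm, Finset.sum_congr rfl (fun χ _ => hm χ), ← Finset.mul_sum]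
      push_cast
      rfl
    have hΞ1 : ∑ χ ∈ Xm, (χ : G → ℂ) ((1 : H) : G) =
        (((1 + (t - 1) * k) * (p - 1) : ℕ) : ℂ) := by
      rw [Subgroup.coe_one, Finset.sum_congr rfl (fun χ hχ => h.degXm χ hχ), Finset.sum_const,
        h.cardXm]
      push_cast
      simp
    have hΞne : ∀ x : H, (x : G) ≠ 1 →
        ∑ χ ∈ Xm, (χ : G → ℂ) (x : G) = if ¬ HasFP p (x : G) then 1 else 0 := by
      intro x hx1
      have h1 := hfx (x : G) hx1 (hreg x)
      by_cases hfp : HasFP p (x : G)
      · rw [if_neg (not_not.mpr hfp)]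
        rw [hfixt _ hx1 (hreg x) hfp] at h1
        have h2 : (t : ℂ) * ∑ χ ∈ Xm, (χ : G → ℂ) (x : G) = 0 := by linear_combination h1
        exact (mul_eq_zero.mp h2).resolve_left ht0'
      · rw [if_pos hfp]
        rw [fx_eq_zero_of_not_hasFP hfp] at h1
        have h2 : (t : ℂ) * (1 - ∑ χ ∈ Xm, (χ : G → ℂ) (x : G)) = 0 := by
          rw [← h1]
          simp
        have h3 := (mul_eq_zero.mp h2).resolve_left ht0'
        linear_combination -h3
    set c : ℕ := (((Finset.univ : Finset H).erase 1).filter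
      (fun x : H => ¬ HasFP p (x : G))).card with hc
    have hsum2 : ∑ x : H, ∑ χ ∈ Xm, (χ : G → ℂ) (x : G) =
        (((1 + (t - 1) * k) * (p - 1) + c : ℕ) : ℂ) := by
      rw [← Finset.add_sum_erase Finset.univ _ (Finset.mem_univ (1 : H)), hΞ1]
      have h1 : ∑ x ∈ (Finset.univ : Finset H).erase 1, ∑ χ ∈ Xm, (χ : G → ℂ) (x : G) =
          ∑ x ∈ (Finset.univ : Finset H).erase 1,
            (if ¬ HasFP p (x : G) then (1 : ℂ) else 0) := by
        apply Finset.sum_congr rfl
        intro x hx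
        apply hΞne x
        intro hx1
        apply Finset.ne_of_mem_erase hx
        exact Subtype.ext hx1
      rw [h1, Finset.sum_boole]
      push_cast
      rfl
    have hclt : c < Nat.card H := by
      have h1 : c ≤ ((Finset.univ : Finset H).erase 1).card := Finset.card_filter_le _ _
      rw [Finset.card_erase_of_mem (Finset.mem_univ _), Finset.card_univ,
        ← Nat.card_eq_fintype_card] at h1
      have h2 : 0 < Nat.card H := Nat.card_pos
      omega
    obtain ⟨M, hM⟩ := hsum1
    have hnat : Nat.card H * M = (1 + (t - 1) * k) * (p - 1) + c := by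
      have h1 : ((Nat.card H * M : ℕ) : ℂ) = (((1 + (t - 1) * k) * (p - 1) + c : ℕ) : ℂ) := by
        rw [← hsum2, hM]
        push_cast
        ring
      exact_mod_cast h1
    have hdc : Nat.card H ∣ c := by
      have h1 : Nat.card H ∣ (1 + (t - 1) * k) * (p - 1) := Dvd.dvd.mul_left hH _
      have h2 : Nat.card H ∣ (1 + (t - 1) * k) * (p - 1) + c := ⟨M, hnat.symm⟩
      exact (Nat.dvd_add_right h1).mp h2
    have hc0 : c = 0 := Nat.eq_zero_of_dvd_of_lt hdc hclt
    intro x hx
    by_cases hx1 : x = 1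
    · subst hx1
      exact ⟨P, one_smul _ _⟩
    · by_contra hfp
      have hmem : (⟨x, hx⟩ : H) ∈ ((Finset.univ : Finset H).erase 1).filter
          (fun x : H => ¬ HasFP p (x : G)) := by
        rw [Finset.mem_filter, Finset.mem_erase]
        refine ⟨⟨?_, Finset.mem_univ _⟩, hfp⟩
        intro h1
        apply hx1
        exact congrArg Subtype.val h1
      have := Finset.card_pos.mpr ⟨_, hmem⟩
      omega
  exact
    { hp2 := h.hp2
      cardP := h.cardP
      cent := h.cent
      cardN := h.cardN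
      het := h.het
      hek := h.hek
      ht := h.ht
      cardG := h.cardG
      exp := hexp
      fixt := hfixt }

end Cfsg.Agent.Helper81.BR
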