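import Mathlib

/-!
# Group-theoretic lemmas for "real characters of degree prime to `p`"

* `pElts p G`: the set of elements of `p`-power order; its closure is normal, of index prime to
  `p`, and behaves well in quotients;
* `comm_of_minimal_normal_solvable`: a solvable minimal normal subgroup is abelian;
* `normal_of_le_abelian_of_sup_eq_top`: a subgroup of an abelian normal subgroup `N` that is
  normalized by a supplement of `N` is normal;
* `exists_sq_mem_centralizer`: a `2`-element not centralizing `N` has a power `s` not centralizing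
  `N` with `s²` centralizing `N`;
* `exists_conj_mem_of_not_dvd_index`: a subgroup of index prime to `p` contains a conjugate of
  every `p`-subgroup.
-/

set_option autoImplicit false

namespace Cfsg.Agent.Helper81

open scoped commutatorElement

section

variable {G : Type*} [Group G]

/-- The elements of `p`-power order. -/
def pElts (p : ℕ) (G : Type*) [Group G] : Set G := {g : G | ∃ k : ℕ, orderOf g = p ^ k}

theorem mem_pElts {p : ℕ} {g : G} : g ∈ pElts p G ↔ ∃ k : ℕ, orderOf g = p ^ k := Iff.rfl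

theorem orderOf_conj_eq (g x : G) : orderOf (g * x * g⁻¹) = orderOf x := by
  have : g * x * g⁻¹ = MulAut.conj g x := rfl
  rw [this, MulEquiv.orderOf_eq]

theorem closure_pElts_normal (p : ℕ) : (Subgroup.closure (pElts p G)).Normal := by
  refine ⟨fun x hx g => ?_⟩
  induction hx using Subgroup.closure_induction with
  | mem y hy =>
    apply Subgroup.subset_closure
    obtain ⟨k, hk⟩ := hy
    exact ⟨k, by rw [orderOf_conj_eq, hk]⟩
  | one => simp
  | mul y z _ _ hy hz =>
    have : g * (y * z) * g⁻¹ = (g * y * g⁻¹) * (g * z * g⁻¹) := by group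
    rw [this]; exact Subgroup.mul_mem _ hy hz
  | inv y _ hy =>
    have : g * y⁻¹ * g⁻¹ = (g * y * g⁻¹)⁻¹ := by group
    rw [this]; exact Subgroup.inv_mem _ hy

theorem sylow_le_closure_pElts {p : ℕ} [Fact p.Prime] (P : Sylow p G) :
    (P : Subgroup G) ≤ Subgroup.closure (pElts p G) := by
  intro x hx
  apply Subgroup.subset_closure
  obtain ⟨k, hk⟩ := (IsPGroup.iff_orderOf.mp P.isPGroup') ⟨x, hx⟩
  refine ⟨k, ?_⟩
  rw [← hk]
  exact (Subgroup.orderOf_mk x hx).symm

theorem isPGroup_le_closure_pElts {p : ℕ} [Fact p.Prime] (P : Subgroup G) (hP : IsPGroup p P) :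
    P ≤ Subgroup.closure (pElts p G) := by
  intro x hx
  apply Subgroup.subset_closure
  obtain ⟨k, hk⟩ := (IsPGroup.iff_orderOf.mp hP) ⟨x, hx⟩
  refine ⟨k, ?_⟩
  rw [← hk]
  exact (Subgroup.orderOf_mk x hx).symm

theorem not_dvd_index_closure_pElts [Finite G] {p : ℕ} [Fact p.Prime] :
    ¬ p ∣ (Subgroup.closure (pElts p G)).index := by
  let P : Sylow p G := default
  intro h
  have h1 : (Subgroup.closure (pElts p G)).index ∣ (P : Subgroup G).index :=
    Subgroup.index_dvd_of_le (sylow_le_closure_pElts P)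
  exact P.not_dvd_index (h.trans h1)

/-- An element of `p`-power order lies in every normal subgroup of index prime to `p`. -/
theorem mem_of_pow_prime_pow_eq_one [Finite G] (p : ℕ) [hp : Fact p.Prime] (N : Subgroup G)
    [N.Normal] (hN : ¬ p ∣ N.index) (y : G) (k : ℕ) (hy : y ^ (p ^ k) = 1) : y ∈ N := by
  rw [← QuotientGroup.eq_one_iff]
  have h1 : ((y : G ⧸ N)) ^ (p ^ k) = 1 := by
    rw [← QuotientGroup.mk_pow, hy]; rfl
  have h2 : ((y : G ⧸ N)) ^ N.index = 1 := by
    rw [Subgroup.index]
    exact pow_card_eq_one'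
  have h3 := pow_gcd_eq_one.mpr ⟨h1, h2⟩
  have hcop : Nat.gcd (p ^ k) N.index = 1 :=
    Nat.Coprime.pow_left k ((Nat.Prime.coprime_iff_not_dvd hp.out).mpr hN)
  rwa [hcop, pow_one] at h3

/-- The `p`-elements of a quotient lie in the image of the subgroup generated by `p`-elements. -/
theorem closure_pElts_quotient_le [Finite G] (p : ℕ) [Fact p.Prime] (N : Subgroup G) [N.Normal] :
    Subgroup.closure (pElts p (G ⧸ N)) ≤
      (Subgroup.closure (pElts p G)).map (QuotientGroup.mk' N) := by
  have hn := closure_pElts_normal (G := G) p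
  have hnorm : ((Subgroup.closure (pElts p G)).map (QuotientGroup.mk' N)).Normal :=
    Subgroup.Normal.map hn _ (QuotientGroup.mk'_surjective N)
  have hidx : ¬ p ∣ ((Subgroup.closure (pElts p G)).map (QuotientGroup.mk' N)).index := by
    intro h
    exact not_dvd_index_closure_pElts (h.trans
      (Subgroup.index_map_dvd _ (QuotientGroup.mk'_surjective N)))
  rw [Subgroup.closure_le]
  rintro y ⟨k, hk⟩
  exact mem_of_pow_prime_pow_eq_one p _ hidx y k (by rw [← hk, pow_orderOf_eq_one])

theorem isSolvable_closure_pElts_quotient [Finite G] (p : ℕ) [Fact p.Prime] (N : Subgroup G)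
    [N.Normal] (h : Group.IsSolvable ↥(Subgroup.closure (pElts p G))) :
    Group.IsSolvable ↥(Subgroup.closure (pElts p (G ⧸ N))) := by
  have := h
  have h1 : Group.IsSolvable ↥((Subgroup.closure (pElts p G)).map (QuotientGroup.mk' N)) :=
    Group.isSolvable_of_surjective
      ((QuotientGroup.mk' N).subgroupMap_surjective (Subgroup.closure (pElts p G)))
  exact Group.isSolvable_of_isSolvable_injective
    (Subgroup.inclusion_injective (closure_pElts_quotient_le p N))

/-- If `G` is generated by `2`-elements, so is every quotient. -/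
theorem closure_pElts_quotient_eq_top (p : ℕ) [hp : Fact p.Prime] (N : Subgroup G) [N.Normal]
    (h : Subgroup.closure (pElts p G) = ⊤) : Subgroup.closure (pElts p (G ⧸ N)) = ⊤ := by
  rw [eq_top_iff]
  have h1 : (⊤ : Subgroup (G ⧸ N)) = (Subgroup.closure (pElts p G)).map (QuotientGroup.mk' N) := by
    rw [h, ← MonoidHom.range_eq_map, MonoidHom.range_eq_top.mpr (QuotientGroup.mk'_surjective N)]
  rw [h1, MonoidHom.map_closure, Subgroup.closure_le]
  rintro _ ⟨g, ⟨k, hk⟩, rfl⟩
  apply Subgroup.subset_closure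
  have hdvd : orderOf (QuotientGroup.mk' N g) ∣ p ^ k := by
    rw [← hk]; exact orderOf_map_dvd _ g
  obtain ⟨j, _, hj⟩ := (Nat.dvd_prime_pow hp.out).mp hdvd
  exact ⟨j, hj⟩

/-- A solvable minimal normal subgroup is abelian. -/
theorem comm_of_minimal_normal_solvable (N : Subgroup G) [hN : N.Normal] (hN1 : N ≠ ⊥)
    (hmin : ∀ M : Subgroup G, M.Normal → M ≤ N → M = ⊥ ∨ M = N) (hsolv : Group.IsSolvable ↥N) :
    ∀ x ∈ N, ∀ y ∈ N, x * y = y * x := by
  have := hsolv
  have hcomm : ⁅N, N⁆ = ⊥ := by
    have hnorm : (⁅N, N⁆ : Subgroup G).Normal := Subgroup.commutator_normal N N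
    have hle : ⁅N, N⁆ ≤ N := Subgroup.commutator_le_left N N
    rcases hmin _ hnorm hle with h | h
    · exact h
    · exfalso
      have : Nontrivial ↥N := by
        rw [Subgroup.nontrivial_iff_ne_bot]; exact hN1
      have hlt := Group.IsSolvable.commutator_lt_top_of_nontrivial ↥N
      have hmap : (_root_.commutator ↥N).map N.subtype = ⁅N, N⁆ := by
        rw [commutator_def, Subgroup.map_commutator, ← MonoidHom.range_eq_map,
          Subgroup.range_subtype]
      have htop : (⊤ : Subgroup ↥N).map N.subtype = N := by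
        rw [← MonoidHom.range_eq_map, Subgroup.range_subtype]
      have : _root_.commutator ↥N = ⊤ := by
        apply Subgroup.map_injective (Subgroup.subtype_injective N)
        rw [hmap, htop, h]
      exact hlt.ne this
  intro x hx y hy
  have h1 := (Subgroup.commutator_eq_bot_iff_le_centralizer (H₁ := N) (H₂ := N)).mp hcomm hx
  exact ((Subgroup.mem_centralizer_iff.mp h1) y hy).symm

/-- A subgroup of an abelian normal subgroup `N` normalized by a supplement of `N` is normal. -/
theorem normal_of_le_abelian_of_sup_eq_top (N H K : Subgroup G) [hN : N.Normal]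
    (hab : ∀ x ∈ N, ∀ y ∈ N, x * y = y * x) (hsup : N ⊔ H = ⊤) (hKN : K ≤ N)
    (hHK : ∀ h ∈ H, ∀ k ∈ K, h * k * h⁻¹ ∈ K) : K.Normal := by
  refine ⟨fun k hk g => ?_⟩
  have hg : g ∈ N ⊔ H := by rw [hsup]; exact Subgroup.mem_top g
  rw [← SetLike.mem_coe, Subgroup.normal_mul] at hg
  obtain ⟨n, hn, h, hh, rfl⟩ := hg
  have h1 := hHK h hh k hk
  have h2 : n * h * k * (n * h)⁻¹ = n * (h * k * h⁻¹) * n⁻¹ := by group
  rw [h2, hab n hn _ (hKN h1)]
  simpa using h1

/-- A `2`-element not centralizing `N` has a power `s` not centralizing `N` with `s²`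
centralizing `N`. -/
theorem exists_sq_mem_centralizer (N : Subgroup G) (t : G) (k : ℕ) (hk : orderOf t = 2 ^ k)
    (ht : t ∉ Subgroup.centralizer (N : Set G)) :
    ∃ s : G, s ∉ Subgroup.centralizer (N : Set G) ∧ s * s ∈ Subgroup.centralizer (N : Set G) := by
  classical
  have hex : ∃ j : ℕ, t ^ (2 ^ j) ∈ Subgroup.centralizer (N : Set G) :=
    ⟨k, by rw [← hk, pow_orderOf_eq_one]; exact Subgroup.one_mem _⟩
  have hj1 : t ^ (2 ^ Nat.find hex) ∈ Subgroup.centralizer (N : Set G) := Nat.find_spec hex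
  have hj0 : Nat.find hex ≠ 0 := by
    intro h0
    rw [h0, pow_zero, pow_one] at hj1
    exact ht hj1
  obtain ⟨i, hi⟩ := Nat.exists_eq_succ_of_ne_zero hj0
  refine ⟨t ^ (2 ^ i), ?_, ?_⟩
  · exact Nat.find_min hex (m := i) (by omega)
  · have : t ^ (2 ^ i) * t ^ (2 ^ i) = t ^ (2 ^ Nat.find hex) := by
      rw [← pow_add, hi, pow_succ]; ring_nf
    rw [this]; exact hj1

/-- A subgroup of index prime to `p` contains a conjugate of every `p`-subgroup. -/
theorem exists_conj_mem_of_not_dvd_index [Finite G] {p : ℕ} [Fact p.Prime] (P : Subgroup G)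
    (hP : IsPGroup p P) (T : Subgroup G) (h : ¬ p ∣ T.index) :
    ∃ y : G, ∀ x ∈ P, y⁻¹ * x * y ∈ T := by
  have h1 : ¬ p ∣ Nat.card (G ⧸ T) := h
  obtain ⟨a, ha⟩ := hP.nonempty_fixed_point_of_prime_not_dvd_card (G ⧸ T) h1
  obtain ⟨y, rfl⟩ := QuotientGroup.mk_surjective a
  refine ⟨y, fun x hx => ?_⟩
  have h2 := ha ⟨x, hx⟩
  have h3 : ((x * y : G) : G ⧸ T) = (y : G ⧸ T) := h2
  rw [eq_comm, QuotientGroup.eq] at h3
  simpa [mul_assoc] using h3

end

end Cfsg.Agent.Helper81
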