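import Mathlib
import Cfsg.Agent.Helper96.StC.Generic
import Cfsg.Agent.Helper96.StC.Basic

/-!
# (T) piece for helper96's S2092 (type `C` Steinberg presentation): `φ` is diagonal and injective
on the torus subgroup `H`
-/

set_option autoImplicit false
set_option linter.unusedSectionVars false
set_option linter.unusedVariables false
set_option linter.unusedSimpArgs false

namespace Cfsg.Agent.Helper81.StCT

open Matrix Cfsg.Agent.Helper96.StN Cfsg.Agent.Helper96.StC

universe u v

/-! ### `2 × 2` blocks inside a big matrix -/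

section blk

variable {I : Type*} [Fintype I] [DecidableEq I] {K : Type*} [Field K]

/-- the matrix which is `!![a, b; c, d]` on the coordinates `p ≠ p'` and the identity elsewhere -/
def blk (p p' : I) (a b c d : K) : Matrix I I K :=
  1 + (Matrix.single p p (a - 1) + Matrix.single p p' b + Matrix.single p' p c +
    Matrix.single p' p' (d - 1))

theorem blk_mul {p p' : I} (hne : p ≠ p') (a b c d a' b' c' d' : K) :
    blk p p' a b c d * blk p p' a' b' c' d' =
      blk p p' (a * a' + b * c') (a * b' + b * d') (c * a' + d * c') (c * b' + d * d') := by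
  unfold blk
  have h1 : a * a' + b * c' - 1 = (a - 1) + (a' - 1) + ((a - 1) * (a' - 1) + b * c') := by ring
  have h2 : a * b' + b * d' = b + b' + ((a - 1) * b' + b * (d' - 1)) := by ring
  have h3 : c * a' + d * c' = c + c' + (c * (a' - 1) + (d - 1) * c') := by ring
  have h4 : c * b' + d * d' - 1 = (d - 1) + (d' - 1) + (c * b' + (d - 1) * (d' - 1)) := by ring
  rw [h1, h2, h3, h4]
  have z1 : ∀ (i l : I) (x y : K), Matrix.single i p x * Matrix.single p' l y = 0 :=
    fun i l x y => Matrix.single_mul_single_of_ne x i p p' hne y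
  have z2 : ∀ (i l : I) (x y : K), Matrix.single i p' x * Matrix.single p l y = 0 :=
    fun i l x y => Matrix.single_mul_single_of_ne x i p' p hne.symm y
  simp only [mul_add, add_mul, mul_one, one_mul, Matrix.single_mul_single_same, z1, z2,
    Matrix.single_add, add_zero, zero_add]
  abel

theorem one_add_single_eq (p p' : I) (t : K) :
    1 + Matrix.single p p' t = blk p p' 1 t 0 1 := by
  simp [blk]

theorem one_add_single_eq' (p p' : I) (t : K) :
    1 + Matrix.single p' p t = blk p p' 1 0 t 1 := by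
  simp [blk]

/-- the matrix of `w(t)` -/
theorem W_mat {p p' : I} (hne : p ≠ p') {t : K} (ht : t ≠ 0) :
    (1 + Matrix.single p p' t) * (1 + Matrix.single p' p (-t⁻¹)) * (1 + Matrix.single p p' t) =
      blk p p' 0 t (-t⁻¹) 0 := by
  rw [one_add_single_eq, one_add_single_eq', blk_mul hne, blk_mul hne]
  congr 1 <;> field_simp <;> ring

/-- the matrix of `h(t) = w(t) w(-1)` -/
theorem H_mat {p p' : I} (hne : p ≠ p') {t : K} (ht : t ≠ 0) :
    blk p p' 0 t (-t⁻¹) 0 * blk p p' 0 (-1) (-(-1 : K)⁻¹) 0 = blk p p' t 0 0 t⁻¹ := by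
  rw [blk_mul hne]
  congr 1 <;> field_simp <;> ring

theorem blk_diag {p p' : I} (hne : p ≠ p') (a d : K) :
    blk p p' a 0 0 d =
      Matrix.diagonal (fun k => if k = p then a else if k = p' then d else 1) := by
  ext r k
  unfold blk
  simp only [Matrix.add_apply, Matrix.one_apply, Matrix.single_apply, Matrix.single_zero,
    Matrix.zero_apply, add_zero, Matrix.diagonal_apply]
  by_cases hrk : r = k
  · subst hrk
    rw [if_pos rfl, if_pos rfl]
    by_cases h1 : r = p
    · subst h1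
      rw [if_pos ⟨rfl, rfl⟩, if_neg (fun h => hne h.1.symm), if_pos rfl]
      ring
    · by_cases h2 : r = p'
      · subst h2
        rw [if_neg (fun h => h1 h.1.symm), if_pos ⟨rfl, rfl⟩, if_neg h1, if_pos rfl]
        ring
      · rw [if_neg (fun h => h1 h.1.symm), if_neg (fun h => h2 h.1.symm), if_neg h1, if_neg h2]
        ring
  · have h3 : ¬ (p = r ∧ p = k) := fun h => hrk (h.1.symm.trans h.2)
    have h4 : ¬ (p' = r ∧ p' = k) := fun h => hrk (h.1.symm.trans h.2)
    rw [if_neg hrk, if_neg h3, if_neg h4, if_neg hrk]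
    ring

end blk

variable {K : Type u} [Field K] {D : Type v} [Group D] {m : ℕ}
  {X : Fin m ⊕ Fin m → Fin m ⊕ Fin m → K → D}

/-! ### (T1) the image of the torus is diagonal -/

theorem phi_H_diag (hM : MonoData X reflPerm cw) (φ : D →* Matrix.symplecticGroup (Fin m) K)
    (hφ : ∀ p q, p ≠ q → ∀ t, (φ (X p q t)).1 = spM p q t) :
    ∀ h ∈ Hsub X, ∀ r k, r ≠ k → (φ h).1 r k = 0 := by
  intro h hh r k hrk
  obtain ⟨pp, hpp⟩ := hM.Hsub_isMono hh
  have hk : k ≠ bar k := (bar_ne k).symm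
  have e := hpp.2 k (bar k) hk 1
  rw [Equiv.Perm.one_apply, Equiv.Perm.one_apply] at e
  have e1 : h * X k (bar k) 1 = X k (bar k) (pp k * (pp (bar k))⁻¹ * 1) * h := by
    rw [← e]; group
  have e2 : (φ (h * X k (bar k) 1)).1 = (φ (X k (bar k) (pp k * (pp (bar k))⁻¹ * 1) * h)).1 := by
    rw [e1]
  rw [map_mul, map_mul] at e2
  have e3 : (φ h).1 * spM k (bar k) (1 : K) =
      spM k (bar k) (pp k * (pp (bar k))⁻¹ * 1) * (φ h).1 := by
    rw [← hφ k (bar k) hk 1, ← hφ k (bar k) hk (pp k * (pp (bar k))⁻¹ * 1)]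
    exact e2
  unfold spM at e3
  rw [if_pos rfl, if_pos rfl, mul_add, add_mul, mul_one, one_mul] at e3
  have e4 := add_left_cancel e3
  have e5 := congrFun (congrFun e4 r) (bar k)
  rw [Matrix.mul_single_apply_same, Matrix.single_mul_apply_of_ne _ _ _ _ _ hrk, mul_one] at e5
  exact e5

/-! ### (T2) injectivity on the torus -/

section inj

variable [Fintype K] (hM : MonoData X reflPerm cw)

include hM

theorem Hd_one (p q : Fin m ⊕ Fin m) : Hd X p q (1 : K) = 1 := by
  unfold Hd
  exact mul_inv_cancel _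

omit [Fintype K] hM in
theorem reflPerm_short_left {p q : Fin m ⊕ Fin m} (hpq : p ≠ q) (hq : q ≠ bar p) :
    reflPerm p q p = q := by
  unfold reflPerm
  rw [if_neg hq, Equiv.Perm.mul_apply]
  have h1 : p ≠ bar p := (bar_ne p).symm
  have h2 : p ≠ bar q := fun h => hq (by rw [h, bar_bar])
  rw [Equiv.swap_apply_of_ne_of_ne h1 h2, Equiv.swap_apply_left]

omit [Fintype K] hM in
theorem reflPerm_short_bar {p q : Fin m ⊕ Fin m} (hpq : p ≠ q) (hq : q ≠ bar p) :
    reflPerm p q (bar p) = bar q := by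
  unfold reflPerm
  rw [if_neg hq, Equiv.Perm.mul_apply, Equiv.swap_apply_left]
  have h1 : bar q ≠ p := fun h => hq (by rw [← h, bar_bar])
  have h2 : bar q ≠ q := bar_ne q
  rw [Equiv.swap_apply_of_ne_of_ne h1 h2]

/-- the coroot relation for a short pair -/
theorem Hd_short {p q : Fin m ⊕ Fin m} (hpq : p ≠ q) (hq : q ≠ bar p) {t : K} (ht : t ≠ 0) :
    Hd X p q t = Hd X p (bar p) t * (Hd X q (bar q) t)⁻¹ := by
  have hpb : p ≠ bar p := (bar_ne p).symm
  have hw := hM.mono p q hpq 1 one_ne_zero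
  -- step 1
  have s1 := hM.conj_Hd hw hpb ht
  rw [reflPerm_short_left hpq hq, reflPerm_short_bar hpq hq] at s1
  -- step 2
  have s2 := isMono_conj_W (hM.Hd_isMono hpb ht) hpq (1 : K)
  rw [Equiv.Perm.one_apply, Equiv.Perm.one_apply] at s2
  have hσ : (reflPerm p (bar p))⁻¹ = Equiv.swap p (bar p) := by
    unfold reflPerm
    rw [if_pos rfl, Equiv.swap_inv]
  have e3 : cw p (bar p) t ((reflPerm p (bar p))⁻¹ p) *
      (cw p (bar p) (1 : K) ((reflPerm p (bar p))⁻¹ p))⁻¹ *
      (cw p (bar p) t ((reflPerm p (bar p))⁻¹ q) *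
        (cw p (bar p) (1 : K) ((reflPerm p (bar p))⁻¹ q))⁻¹)⁻¹ * 1 = t := by
    rw [hσ, Equiv.swap_apply_left, Equiv.swap_apply_of_ne_of_ne hpq.symm hq]
    unfold cw
    simp [hpb.symm, hpq.symm, hq]
  rw [e3] at s2
  -- step 3
  have s3 : W X p q 1 * (W X p q t)⁻¹ = (Hd X p q t)⁻¹ := by
    rw [hM.W_mul_W_inv hpq one_ne_zero ht, one_mul, hM.Hd_inv hpq ht]
  have s4 : Hd X q (bar q) t * (Hd X p (bar p) t)⁻¹ = (Hd X p q t)⁻¹ := by
    rw [← s3, ← s2, ← s1]
    group
  have s5 : Hd X p q t = (Hd X q (bar q) t * (Hd X p (bar p) t)⁻¹)⁻¹ := by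
    rw [s4, inv_inv]
  rw [s5]
  group

/-- `t ↦ h_{i,-i}(t)` as a homomorphism -/
noncomputable def hdHom (i : Fin m) : Kˣ →* D where
  toFun x := Hd X (Sum.inl i) (Sum.inr i) (x : K)
  map_one' := by rw [Units.val_one, Hd_one hM]
  map_mul' x y := by
    rw [Units.val_mul]
    exact hM.Hd_mul (by simp) x.ne_zero y.ne_zero

theorem hdHom_comm :
    Pairwise fun i j : Fin m => ∀ x y, Commute (hdHom hM i x) (hdHom hM j y) := by
  intro i j _ x y
  exact hM.Hd_commute (by simp) (by simp) x.ne_zero y.ne_zero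

/-- the product map `(t_i) ↦ ∏ h_{i,-i}(t_i)` -/
noncomputable def torusHom : (Fin m → Kˣ) →* D :=
  MonoidHom.noncommPiCoprod (hdHom hM) (hdHom_comm hM)

theorem torusHom_mulSingle (i : Fin m) (x : Kˣ) :
    torusHom hM (Pi.mulSingle i x) = Hd X (Sum.inl i) (Sum.inr i) (x : K) := by
  unfold torusHom
  rw [MonoidHom.noncommPiCoprod_mulSingle]
  rfl

theorem Hd_long_mem_range (p : Fin m ⊕ Fin m) {t : K} (ht : t ≠ 0) :
    Hd X p (bar p) t ∈ (torusHom hM).range := by
  have base : ∀ i : Fin m, Hd X (Sum.inl i) (Sum.inr i) t ∈ (torusHom hM).range := by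
    intro i
    exact ⟨Pi.mulSingle i (Units.mk0 t ht), by rw [torusHom_mulSingle]; rfl⟩
  rcases p with i | i
  · exact base i
  · show Hd X (Sum.inr i) (Sum.inl i) t ∈ _
    rw [hM.Hd_swap (i := Sum.inl i) (j := Sum.inr i) (by simp) ht]
    exact inv_mem (base i)

theorem Hsub_le_range : Hsub X ≤ (torusHom hM).range := by
  unfold Hsub
  rw [Subgroup.closure_le]
  rintro g ⟨p, q, hpq, t, ht, rfl⟩
  by_cases hq : q = bar p
  · subst hq
    exact Hd_long_mem_range hM p ht
  · rw [Hd_short hM hpq hq ht]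
    exact mul_mem (Hd_long_mem_range hM p ht) (inv_mem (Hd_long_mem_range hM q ht))

/-- the diagonal matrices `diag(t_1, …, t_m, t_1⁻¹, …, t_m⁻¹)` -/
noncomputable def diagHom (m : ℕ) (K : Type u) [Field K] :
    (Fin m → Kˣ) →* Matrix (Fin m ⊕ Fin m) (Fin m ⊕ Fin m) K where
  toFun t := Matrix.diagonal
    (Sum.elim (fun i => ((t i : Kˣ) : K)) (fun i => (((t i)⁻¹ : Kˣ) : K)))
  map_one' := by
    rw [← Matrix.diagonal_one]
    congr 1
    funext k
    rcases k with i | i <;> simp
  map_mul' s t := by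
    rw [Matrix.diagonal_mul_diagonal]
    congr 1
    funext k
    rcases k with i | i <;> simp [mul_comm]

/-- the image of `h_{p,-p}(t)` -/
theorem phi_Hd_long (φ : D →* Matrix.symplecticGroup (Fin m) K)
    (hφ : ∀ p q, p ≠ q → ∀ t, (φ (X p q t)).1 = spM p q t) (p : Fin m ⊕ Fin m) {t : K}
    (ht : t ≠ 0) :
    (φ (Hd X p (bar p) t)).1 = blk p (bar p) t 0 0 t⁻¹ := by
  have hpb : p ≠ bar p := (bar_ne p).symm
  have hW : ∀ s : K, s ≠ 0 → (φ (W X p (bar p) s)).1 = blk p (bar p) 0 s (-s⁻¹) 0 := by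
    intro s hs
    unfold W
    rw [map_mul, map_mul]
    show (φ (X p (bar p) s)).1 * (φ (X (bar p) p (-s⁻¹))).1 * (φ (X p (bar p) s)).1 = _
    rw [hφ p (bar p) hpb, hφ (bar p) p hpb.symm]
    unfold spM
    rw [if_pos rfl, if_pos (bar_bar p).symm]
    exact W_mat hpb hs
  unfold Hd
  rw [hM.W_inv hpb, map_mul]
  show (φ (W X p (bar p) t)).1 * (φ (W X p (bar p) (-1))).1 = _
  rw [hW t ht, hW (-1) (neg_ne_zero.mpr one_ne_zero)]
  exact H_mat hpb ht

theorem phi_torusHom (φ : D →* Matrix.symplecticGroup (Fin m) K)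
    (hφ : ∀ p q, p ≠ q → ∀ t, (φ (X p q t)).1 = spM p q t) (t : Fin m → Kˣ) :
    (φ (torusHom hM t)).1 = diagHom m K t := by
  have key : (((Matrix.symplecticGroup (Fin m) K).subtype).comp φ).comp (torusHom hM) =
      diagHom m K := by
    apply MonoidHom.pi_ext
    intro i x
    simp only [MonoidHom.coe_comp, Function.comp_apply]
    rw [torusHom_mulSingle]
    show (φ (Hd X (Sum.inl i) (bar (Sum.inl i)) (x : K))).1 = _
    rw [phi_Hd_long hM φ hφ (Sum.inl i) x.ne_zero, blk_diag (bar_ne (Sum.inl i)).symm]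
    show _ = Matrix.diagonal _
    congr 1
    funext k
    rcases k with j | j
    · by_cases hji : j = i
      · subst hji
        simp
      · have h1 : (Sum.inl j : Fin m ⊕ Fin m) ≠ Sum.inl i := fun h => hji (Sum.inl.inj h)
        simp [h1, hji, Pi.mulSingle_apply]
    · by_cases hji : j = i
      · subst hji
        simp
      · have h1 : (Sum.inr j : Fin m ⊕ Fin m) ≠ Sum.inr i := fun h => hji (Sum.inr.inj h)
        simp [h1, hji, Pi.mulSingle_apply]
  exact DFunLike.congr_fun key t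

end inj

theorem phi_injOn_H [Fintype K] (hX : SpRel X) (hM : MonoData X reflPerm cw)
    (φ : D →* Matrix.symplecticGroup (Fin m) K)
    (hφ : ∀ p q, p ≠ q → ∀ t, (φ (X p q t)).1 = spM p q t) :
    ∀ h ∈ Hsub X, φ h = 1 → h = 1 := by
  intro h hh hφh
  obtain ⟨t, rfl⟩ := Hsub_le_range hM hh
  have hd := phi_torusHom hM φ hφ t
  rw [hφh] at hd
  have ht : t = 1 := by
    funext i
    have hii := congrFun (congrFun hd (Sum.inl i)) (Sum.inl i)
    change (1 : Matrix (Fin m ⊕ Fin m) (Fin m ⊕ Fin m) K) (Sum.inl i) (Sum.inl i) =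
      Matrix.diagonal _ (Sum.inl i) (Sum.inl i) at hii
    rw [Matrix.one_apply_eq, Matrix.diagonal_apply_eq, Sum.elim_inl] at hii
    exact Units.ext hii.symm
  rw [ht, map_one]

end Cfsg.Agent.Helper81.StCT
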