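import Mathlib
import Cfsg.Prelude.Def_Blocks
import Cfsg.Agent.Helper15.IndFun
import Cfsg.Agent.Helper25.QuotSum

/-!
# Induction: from the whole group, transitivity, and compatibility with inflation

* `indFun_top`: `indFun ⊤ φ = φ` for a class function `φ`;
* `indFun_trans`: `(φ^H)^G = φ^G` for `B ≤ H ≤ G`;
* `indFun_inflate`: for `N ⊴ G` and `H̄ ≤ G ⧸ N`, induction from the preimage of `H̄` of the
  inflation of `μ` is the inflation of `μ^(G/N)`.
-/

set_option autoImplicit false
set_option linter.unusedSectionVars false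

namespace Cfsg.Agent.Helper81

open Cfsg Cfsg.Agent.Helper15

universe u

variable {G : Type u} [Group G] [Fintype G]

/-- Inducing a class function from the whole group does nothing. -/
theorem indFun_top (φ : (⊤ : Subgroup G) → ℂ)
    (hφ : ∀ (x g : G), φ ⟨x⁻¹ * g * x, Subgroup.mem_top _⟩ = φ ⟨g, Subgroup.mem_top _⟩) :
    indFun (⊤ : Subgroup G) φ = fun g => φ ⟨g, Subgroup.mem_top _⟩ := by
  funext g
  rw [indFun_apply]
  have h1 : ∀ x : G, extendByZero (⊤ : Subgroup G) φ (x⁻¹ * g * x) = φ ⟨g, Subgroup.mem_top _⟩ := by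
    intro x
    rw [extendByZero_of_mem _ _ (Subgroup.mem_top _), hφ]
  rw [Finset.sum_congr rfl fun x _ => h1 x, Finset.sum_const, Finset.card_univ, nsmul_eq_mul,
    Subgroup.card_top, Nat.card_eq_fintype_card]
  have : (Fintype.card G : ℂ) ≠ 0 := by
    have : 0 < Fintype.card G := Fintype.card_pos
    exact_mod_cast this.ne'
  field_simp

/-- Transport of a function on `B ≤ H` to the image of `B` in `G`. -/
noncomputable def mapFun (H : Subgroup G) (B : Subgroup H) (φ : B → ℂ) :
    (B.map H.subtype) → ℂ :=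
  fun b => φ ((B.equivMapOfInjective H.subtype H.subtype_injective).symm b)

theorem mapFun_apply (H : Subgroup G) (B : Subgroup H) (φ : B → ℂ) (b : B) :
    mapFun H B φ ⟨((b : H) : G), Subgroup.mem_map_of_mem _ b.2⟩ = φ b := by
  unfold mapFun
  congr 1
  rw [MulEquiv.symm_apply_eq]
  ext
  rfl

theorem extendByZero_mapFun (H : Subgroup G) (B : Subgroup H) (φ : B → ℂ) (h : H) :
    extendByZero (B.map H.subtype) (mapFun H B φ) (h : G) = extendByZero B φ h := by
  by_cases hb : h ∈ B
  · have hmem : (h : G) ∈ B.map H.subtype := Subgroup.mem_map_of_mem H.subtype hb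
    rw [extendByZero_of_mem B φ hb, extendByZero_of_mem _ _ hmem]
    exact mapFun_apply H B φ ⟨h, hb⟩
  · rw [extendByZero_of_not_mem B φ hb, extendByZero_of_not_mem]
    rintro ⟨h', hh', heq⟩
    apply hb
    have : h' = h := Subtype.ext heq
    rwa [← this]

theorem extendByZero_mapFun_of_not_mem (H : Subgroup G) (B : Subgroup H) (φ : B → ℂ) {y : G}
    (hy : y ∉ H) : extendByZero (B.map H.subtype) (mapFun H B φ) y = 0 := by
  apply extendByZero_of_not_mem
  rintro ⟨h', -, heq⟩
  apply hy
  rw [← heq]
  exact h'.2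

/-- **Transitivity of induction.** -/
theorem indFun_trans (H : Subgroup G) [Fintype H] (B : Subgroup H) (φ : B → ℂ) :
    indFun H (indFun B φ) = indFun (B.map H.subtype) (mapFun H B φ) := by
  classical
  funext g
  have hH : (Nat.card H : ℂ) ≠ 0 := by
    have : 0 < Nat.card H := Nat.card_pos
    exact_mod_cast this.ne'
  have hcard : Nat.card (B.map H.subtype) = Nat.card B :=
    (Nat.card_congr (B.equivMapOfInjective H.subtype H.subtype_injective).toEquiv).symm
  -- the extension by zero of `φ^H`
  have hA : ∀ y : G, extendByZero H (indFun B φ) y =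
      (Nat.card B : ℂ)⁻¹ * ∑ k : H,
        extendByZero (B.map H.subtype) (mapFun H B φ) ((k : G)⁻¹ * y * (k : G)) := by
    intro y
    by_cases hy : y ∈ H
    · rw [extendByZero_of_mem H _ hy, indFun_apply]
      congr 1
      refine Finset.sum_congr rfl fun k _ => ?_
      rw [← extendByZero_mapFun]
      rfl
    · rw [extendByZero_of_not_mem H _ hy]
      symm
      rw [mul_eq_zero]
      right
      refine Finset.sum_eq_zero fun k _ => ?_
      apply extendByZero_mapFun_of_not_mem
      intro hmem
      apply hy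
      have := H.mul_mem (H.mul_mem k.2 hmem) (H.inv_mem k.2)
      simpa [mul_assoc] using this
  rw [indFun_apply, indFun_apply, hcard]
  simp only [hA]
  rw [← Finset.mul_sum, Finset.sum_comm]
  have hB : ∀ k : H, ∑ x : G, extendByZero (B.map H.subtype) (mapFun H B φ)
      ((k : G)⁻¹ * (x⁻¹ * g * x) * (k : G)) =
      ∑ x : G, extendByZero (B.map H.subtype) (mapFun H B φ) (x⁻¹ * g * x) := by
    intro k
    rw [← Equiv.sum_comp (Equiv.mulRight (k : G))
      (fun x => extendByZero (B.map H.subtype) (mapFun H B φ) (x⁻¹ * g * x))]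
    refine Finset.sum_congr rfl fun x _ => ?_
    congr 1
    simp only [Equiv.coe_mulRight, mul_inv_rev, mul_assoc]
  rw [Finset.sum_congr rfl fun k _ => hB k, Finset.sum_const, Finset.card_univ, nsmul_eq_mul,
    ← Nat.card_eq_fintype_card]
  field_simp

/-- Inflation of a function on a subgroup of `G ⧸ N` to its preimage. -/
def inflateFun (N : Subgroup G) [N.Normal] (Hbar : Subgroup (G ⧸ N)) (μ : Hbar → ℂ) :
    (Hbar.comap (QuotientGroup.mk' N)) → ℂ :=
  fun h => μ ⟨QuotientGroup.mk' N (h : G), h.2⟩

theorem extendByZero_inflateFun (N : Subgroup G) [N.Normal] (Hbar : Subgroup (G ⧸ N))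
    (μ : Hbar → ℂ) (y : G) :
    extendByZero (Hbar.comap (QuotientGroup.mk' N)) (inflateFun N Hbar μ) y =
      extendByZero Hbar μ (QuotientGroup.mk' N y) := by
  by_cases hy : y ∈ Hbar.comap (QuotientGroup.mk' N)
  · rw [extendByZero_of_mem _ _ hy, extendByZero_of_mem Hbar μ (Subgroup.mem_comap.mp hy)]
    rfl
  · rw [extendByZero_of_not_mem _ _ hy, extendByZero_of_not_mem Hbar μ]
    intro h
    exact hy (Subgroup.mem_comap.mpr h)

/-- **Induction commutes with inflation.** -/
theorem indFun_inflate (N : Subgroup G) [N.Normal] [Fintype (G ⧸ N)] (Hbar : Subgroup (G ⧸ N))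
    (μ : Hbar → ℂ) (g : G) :
    indFun (Hbar.comap (QuotientGroup.mk' N)) (inflateFun N Hbar μ) g =
      indFun Hbar μ (QuotientGroup.mk' N g) := by
  classical
  have hN : (Nat.card N : ℂ) ≠ 0 := by
    have : 0 < Nat.card N := Nat.card_pos
    exact_mod_cast this.ne'
  have hHb : (Nat.card Hbar : ℂ) ≠ 0 := by
    have : 0 < Nat.card Hbar := Nat.card_pos
    exact_mod_cast this.ne'
  -- the order of the preimage
  have hcard : (Nat.card (Hbar.comap (QuotientGroup.mk' N)) : ℂ) =
      (Nat.card N : ℂ) * (Nat.card Hbar : ℂ) := by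
    have h1 := Helper25.sum_comp_mk N (fun q : G ⧸ N => if q ∈ Hbar then (1 : ℂ) else 0)
    rw [Finset.sum_boole, Finset.sum_boole] at h1
    have h2 : (Finset.univ.filter fun x : G => (x : G ⧸ N) ∈ Hbar).card =
        Nat.card (Hbar.comap (QuotientGroup.mk' N)) := by
      rw [Nat.card_eq_fintype_card, Fintype.card_subtype]
      rfl
    have h3 : (Finset.univ.filter fun q : G ⧸ N => q ∈ Hbar).card = Nat.card Hbar := by
      rw [Nat.card_eq_fintype_card, Fintype.card_subtype]
    rw [h2, h3] at h1
    exact h1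
  rw [indFun_apply, indFun_apply, hcard]
  simp only [extendByZero_inflateFun, map_mul, map_inv]
  have h4 := Helper25.sum_comp_mk N
    (fun q : G ⧸ N => extendByZero Hbar μ (q⁻¹ * (QuotientGroup.mk' N g) * q))
  simp only [QuotientGroup.mk'_apply] at h4 ⊢
  rw [h4]
  field_simp

end Cfsg.Agent.Helper81
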