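import Mathlib
import Cfsg.Prelude.Def_Blocks
import Cfsg.Agent.Helper81.IndTrans
import Cfsg.Agent.Helper81.CliffordInd
import Cfsg.Agent.Helper80.Pullback
import Cfsg.Agent.Helper80.CharLevel
import Cfsg.Agent.Helper3.CharEq
import Cfsg.Agent.Helper15.LinChar

/-!
# Nilpotent groups are M-groups

`isMonomial_of_nilpotent`: every irreducible character of a finite nilpotent group is induced from
a homomorphism of some subgroup into `ℂˣ`.
-/

set_option autoImplicit false
set_option linter.unusedSectionVars false

namespace Cfsg.Agent.Helper81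

open Cfsg Cfsg.Agent.Helper15
open scoped commutatorElement

universe u

/-- `χ` is induced from a homomorphism of some subgroup into `ℂˣ`. -/
def IsMonomial (G : Type u) [Group G] [Fintype G] (χ : G → ℂ) : Prop :=
  ∃ (H : Subgroup G) (lam : H →* ℂˣ), χ = indFun H (fun h => ((lam h : ℂˣ) : ℂ))

section

variable {G : Type u} [Group G] [Fintype G]

/-- A linear character is monomial. -/
theorem isMonomial_of_linear {χ : G → ℂ} (hχ : IsCharacter G χ) (h1 : χ 1 = 1) :
    IsMonomial G χ := by
  refine ⟨⊤, (linCharUnits hχ h1).comp (⊤ : Subgroup G).subtype, ?_⟩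
  rw [indFun_top]
  · funext g
    rfl
  · intro x g
    show χ (x⁻¹ * g * x) = χ g
    have := linChar_conj hχ h1 g x⁻¹
    rwa [inv_inv] at this

/-- Monomiality passes from a quotient to the group. -/
theorem isMonomial_of_quotient (N : Subgroup G) [N.Normal] [Fintype (G ⧸ N)] {χ : G → ℂ}
    {ψ : G ⧸ N → ℂ} (hψ : IsMonomial (G ⧸ N) ψ) (hχψ : ∀ g, χ g = ψ (QuotientGroup.mk' N g)) :
    IsMonomial G χ := by
  obtain ⟨Hbar, μ, rfl⟩ := hψ
  refine ⟨Hbar.comap (QuotientGroup.mk' N), μ.comp ((QuotientGroup.mk' N).subgroupComap Hbar), ?_⟩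
  funext g
  rw [hχψ g, ← indFun_inflate]
  rfl

/-- Monomiality passes up along induction. -/
theorem isMonomial_of_indFun (T : Subgroup G) [Fintype T] {ψ : T → ℂ} (hψ : IsMonomial T ψ) :
    IsMonomial G (indFun T ψ) := by
  obtain ⟨B, μ, rfl⟩ := hψ
  refine ⟨B.map T.subtype,
    μ.comp (B.equivMapOfInjective T.subtype T.subtype_injective).symm.toMonoidHom, ?_⟩
  rw [indFun_trans]
  rfl

/-- A non-commutative nilpotent group has a noncentral element whose commutators are all
central. -/
theorem exists_mem_ucs_two_not_mem_center [Group.IsNilpotent G]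
    (hnc : ∃ a b : G, a * b ≠ b * a) :
    ∃ z : G, z ∉ Subgroup.center G ∧ ∀ y : G, ⁅z, y⁆ ∈ Subgroup.center G := by
  by_contra hcon
  push Not at hcon
  have h21 : ∀ n : ℕ, 1 ≤ n → Subgroup.upperCentralSeries G n = Subgroup.center G := by
    intro n hn
    induction n, hn using Nat.le_induction with
    | base => exact Subgroup.upperCentralSeries_one G
    | succ n hn ih =>
      apply le_antisymm
      · intro z hz
        rw [Subgroup.mem_upperCentralSeries_succ_iff] at hz
        by_contra hzc
        obtain ⟨y, hy⟩ := hcon z hzc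
        apply hy
        rw [← ih]
        exact hz y
      · rw [← ih]
        exact Subgroup.upperCentralSeries_mono G (Nat.le_succ n)
  obtain ⟨n, hn⟩ := (inferInstance : Group.IsNilpotent G).nilpotent'
  obtain ⟨a, b, hab⟩ := hnc
  have htop : Subgroup.center G = ⊤ := by
    rcases Nat.eq_zero_or_pos n with h0 | hpos
    · rw [h0, Subgroup.upperCentralSeries_zero] at hn
      have : a ∈ (⊥ : Subgroup G) := by rw [hn]; trivial
      have hb : b ∈ (⊥ : Subgroup G) := by rw [hn]; trivial
      rw [Subgroup.mem_bot] at this hb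
      exfalso; apply hab; rw [this, hb]
    · rw [← h21 n hpos, hn]
  apply hab
  have : b ∈ Subgroup.center G := by rw [htop]; trivial
  exact Subgroup.mem_center_iff.mp this a

/-- A non-commutative nilpotent group has a normal abelian subgroup not contained in the centre. -/
theorem exists_normal_abelian_not_le_center [Group.IsNilpotent G]
    (hnc : ∃ a b : G, a * b ≠ b * a) :
    ∃ A : Subgroup G, A.Normal ∧ (∀ a ∈ A, ∀ b ∈ A, a * b = b * a) ∧ ¬ A ≤ Subgroup.center G := by
  obtain ⟨z, hz, hzc⟩ := exists_mem_ucs_two_not_mem_center hnc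
  have hcen : ∀ c ∈ Subgroup.center G, ∀ x : G, c * x = x * c :=
    fun c hc x => (Subgroup.mem_center_iff.mp hc x).symm
  let A : Subgroup G :=
    { carrier := {a | ∃ i : ℤ, ∃ c ∈ Subgroup.center G, a = z ^ i * c}
      mul_mem' := by
        rintro _ _ ⟨i, c, hc, rfl⟩ ⟨j, d, hd, rfl⟩
        refine ⟨i + j, c * d, mul_mem hc hd, ?_⟩
        rw [zpow_add]
        calc z ^ i * c * (z ^ j * d) = z ^ i * (c * z ^ j) * d := by group
          _ = z ^ i * (z ^ j * c) * d := by rw [hcen c hc]
          _ = z ^ i * z ^ j * (c * d) := by group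
      one_mem' := ⟨0, 1, one_mem _, by simp⟩
      inv_mem' := by
        rintro _ ⟨i, c, hc, rfl⟩
        refine ⟨-i, c⁻¹, inv_mem hc, ?_⟩
        rw [mul_inv_rev, hcen c⁻¹ (inv_mem hc), zpow_neg] }
  have hmemA : ∀ a, a ∈ A ↔ ∃ i : ℤ, ∃ c ∈ Subgroup.center G, a = z ^ i * c := fun a => Iff.rfl
  refine ⟨A, ⟨?_⟩, ?_, ?_⟩
  · rintro _ ⟨i, c, hc, rfl⟩ g
    -- `g z g⁻¹ = d z` with `d` central
    set d : G := ⁅g, z⁆ with hd
    have hdc : d ∈ Subgroup.center G := by
      have h1 := hzc g
      have h2 : d = ⁅z, g⁆⁻¹ := by rw [hd, commutatorElement_inv]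
      rw [h2]; exact inv_mem h1
    have h3 : g * z * g⁻¹ = d * z := by rw [hd, commutatorElement_def]; group
    have h4 : ∀ i : ℤ, (d * z) ^ i = d ^ i * z ^ i := by
      intro i
      exact (show Commute d z from hcen d hdc z).mul_zpow i
    refine ⟨i, d ^ i * c, mul_mem (zpow_mem hdc i) hc, ?_⟩
    calc g * (z ^ i * c) * g⁻¹ = (g * z * g⁻¹) ^ i * (g * c * g⁻¹) := by
          rw [conj_zpow]; group
      _ = (d * z) ^ i * c := by
          rw [h3]
          congr 1
          rw [← hcen c hc g]; group
      _ = d ^ i * z ^ i * c := by rw [h4]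
      _ = z ^ i * (d ^ i * c) := by
          rw [hcen (d ^ i) (zpow_mem hdc i)]; group
  · rintro _ ⟨i, c, hc, rfl⟩ _ ⟨j, d, hd, rfl⟩
    calc z ^ i * c * (z ^ j * d) = z ^ i * (c * z ^ j) * d := by group
      _ = z ^ i * (z ^ j * c) * d := by rw [hcen c hc]
      _ = z ^ i * z ^ j * (c * d) := by group
      _ = z ^ j * z ^ i * (d * c) := by
          rw [← zpow_add, ← zpow_add, add_comm, hcen c hc d]
      _ = z ^ j * (z ^ i * d) * c := by group
      _ = z ^ j * (d * z ^ i) * c := by rw [hcen d hd]
      _ = z ^ j * d * (z ^ i * c) := by group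
  · intro hle
    apply hz
    apply hle
    exact ⟨1, 1, one_mem _, by simp⟩

end

/-- **Nilpotent groups are M-groups.** -/
theorem isMonomial_of_nilpotent : ∀ (n : ℕ) (G : Type u) [Group G] [Fintype G]
    [Group.IsNilpotent G], Nat.card G = n → ∀ χ : G → ℂ, IsIrrCharacter G χ → IsMonomial G χ := by
  intro n
  induction n using Nat.strong_induction_on with
  | _ n ih =>
    intro G _ _ _ hn χ hχ
    classical
    have hχc : IsCharacter G χ := Helper74.isCharacter_of_isIrr hχ
    by_cases hlin : χ 1 = 1
    · exact isMonomial_of_linear hχc hlin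
    by_cases hfaith : ∀ g : G, χ g = χ 1 → g = 1
    · -- faithful, nonlinear
      -- `G` is not commutative
      have hnc : ∃ a b : G, a * b ≠ b * a := by
        by_contra hcomm
        push Not at hcomm
        apply hlin
        have : IsMulCommutative G := ⟨⟨hcomm⟩⟩
        obtain ⟨d, ρ, hρ, rfl⟩ := hχ
        have := hρ
        rw [Representation.char_one,
          Representation.IsIrreducible.finrank_eq_one_of_isMulCommutative ρ]
        simp
      obtain ⟨A, hAn, hAab, hAZ⟩ := exists_normal_abelian_not_le_center hnc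
      have := hAn
      have : Fintype A := Fintype.ofFinite A
      have hAcomm : IsMulCommutative A :=
        ⟨⟨fun a b => Subtype.ext (hAab a.1 a.2 b.1 b.2)⟩⟩
      -- a linear constituent of `χ_A`
      have hχA : IsCharacter A (fun a : A => χ a) := Helper74.isCharacter_restrict A hχc
      have hχ1 : χ 1 ≠ 0 := Helper80.IsIrrCharacter.map_one_ne_zero hχ
      obtain ⟨lam0, hcon⟩ := exists_irr_constituent hχA (by simpa using hχ1)
      have hlam1 : (lam0 : A → ℂ) 1 = 1 := by
        obtain ⟨d, ρ, hρ, hρl⟩ := lam0.2
        have := hρ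
        rw [← hρl, Representation.char_one,
          Representation.IsIrreducible.finrank_eq_one_of_isMulCommutative ρ]
        simp
      have hlamc : IsCharacter A (lam0 : A → ℂ) := Helper74.irr_isCharacter lam0
      set T : Subgroup G := inertia A (lam0 : A → ℂ) with hT
      have : Fintype T := Fintype.ofFinite T
      have hAT : A ≤ T := le_inertia A (Helper74.isClassFunction_of_isCharacter hlamc)
      obtain ⟨ψ, hψ, hind, -⟩ := clifford_correspondence_exists A lam0.2 T rfl hAT hχ hcon
      by_cases hTtop : T = ⊤
      · -- `lam0` is invariant, so `A` is central: contradiction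
        exfalso
        apply hAZ
        have hinv : ∀ g : G, conjFun A g (lam0 : A → ℂ) = lam0 := by
          intro g
          have : g ∈ T := by rw [hTtop]; trivial
          exact (mem_inertia A _ g).mp this
        have hres := restrict_eq_smul_of_invariant A hχ lam0.2 hcon hinv
        set e := classInner (fun a : A => χ a) (lam0 : A → ℂ) with he
        have he1 : χ 1 = e := by
          have := congrFun hres 1
          simp only [Pi.smul_apply, smul_eq_mul, hlam1, mul_one] at this
          exact this
        intro a ha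
        rw [Subgroup.mem_center_iff]
        intro g
        -- `ρ a` is scalar
        obtain ⟨d, ρ, hρ, hρχ⟩ := hχ
        have hnorm : ‖ρ.character a‖ = (Module.finrank ℂ (Fin d → ℂ) : ℝ) := by
          have h1 := congrFun hres ⟨a, ha⟩
          simp only [Pi.smul_apply, smul_eq_mul] at h1
          rw [hρχ, h1, norm_mul, linChar_norm hlamc hlam1, mul_one, ← he1, ← hρχ,
            Representation.char_one]
          simp
        obtain ⟨ω, hω⟩ := (Helper3.norm_char_eq_iff ρ a (isOfFinOrder_of_finite a)).mp hnorm
        have hcomm : ρ (a * g * a⁻¹ * g⁻¹) = 1 := by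
          have hinv' : ρ a * ρ a⁻¹ = 1 := by rw [← map_mul, mul_inv_cancel, map_one]
          rw [map_mul, map_mul, map_mul]
          have h5 : ρ a * ρ g = ρ g * ρ a := by
            rw [hω]
            ext v
            simp
          rw [h5, mul_assoc (ρ g), hinv', mul_one, ← map_mul, mul_inv_cancel, map_one]
        have h6 : χ (a * g * a⁻¹ * g⁻¹) = χ 1 := by
          rw [← hρχ]
          simp only [Representation.character, hcomm, map_one]
        have h7 := hfaith _ h6
        calc g * a = (a * g * a⁻¹ * g⁻¹)⁻¹ * (a * g) := by group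
          _ = a * g := by rw [h7, inv_one, one_mul]
      · -- proper inertia group: induct
        have hlt : Nat.card T < n := by
          rw [← hn]
          have hle := Subgroup.card_le_card_group T
          have hne : Nat.card T ≠ Nat.card G := fun h =>
            hTtop ((Subgroup.card_eq_iff_eq_top T).mp h)
          omega
        have hψmon := ih (Nat.card T) hlt T rfl ψ hψ
        rw [← hind]
        exact isMonomial_of_indFun T hψmon
    · -- not faithful: pass to the quotient by the kernel
      push Not at hfaith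
      obtain ⟨g0, hg0, hg01⟩ := hfaith
      set K : Subgroup G := Helper80.kerChar χ hχc with hK
      have : Fintype (G ⧸ K) := Fintype.ofFinite _
      have hg0K : g0 ∈ K := (Helper80.mem_kerChar hχc g0).mpr hg0
      obtain ⟨ψ, hψ, hχψ⟩ := Helper80.IsIrrCharacter.exists_descend hχ (QuotientGroup.mk' K)
        (QuotientGroup.mk'_surjective K)
        (fun g hg => (Helper80.mem_kerChar hχc g).mp ((QuotientGroup.eq_one_iff g).mp hg))
      have hlt : Nat.card (G ⧸ K) < n := by
        rw [← hn, ← Subgroup.card_mul_index K]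
        have hK1 : 1 < Nat.card K := by
          rw [Finite.one_lt_card_iff_nontrivial]
          exact ⟨⟨⟨g0, hg0K⟩, 1, fun h => hg01 (congrArg Subtype.val h)⟩⟩
        have hpos : 0 < K.index := Nat.pos_of_ne_zero Subgroup.index_ne_zero_of_finite
        show K.index < Nat.card K * K.index
        nlinarith
      have hψmon := ih (Nat.card (G ⧸ K)) hlt (G ⧸ K) rfl ψ hψ
      exact isMonomial_of_quotient K hψmon hχψ

end Cfsg.Agent.Helper81
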