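import Mathlib

/-! Piece (W8) of helper21's S3797 (WANTED #5260): an odd-order group with an involutory automorphism is
(fixed points)·(inverted elements).  Strengthened form `odd_invol_decomp_zpowers` also records that the inverted
factor is a power of `(x u x⁻¹)⁻¹ u`. -/

set_option autoImplicit false

namespace Cfsg.Agent.Helper81.TH

open Subgroup

/-- strengthened (W8): the inverted factor lies in the cyclic group generated by `(x u x⁻¹)⁻¹ u`. -/
theorem odd_invol_decomp_zpowers {G : Type*} [Group G] [Finite G] (U : Subgroup G) (x : G)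
    (hodd : Odd (Nat.card U))
    (hxU : x ∈ normalizer (U : Set G)) (hx2 : x ^ 2 ∈ centralizer (U : Set G)) {u : G} (hu : u ∈ U) :
    ∃ c ∈ U, ∃ i ∈ U, i ∈ zpowers ((x * u * x⁻¹)⁻¹ * u) ∧
      x * c * x⁻¹ = c ∧ x * i * x⁻¹ = i⁻¹ ∧ u = c * i := by
  have hconjU : ∀ g ∈ U, x * g * x⁻¹ ∈ U := fun g hg => (mem_normalizer_iff.mp hxU g).mp hg
  -- σ² = id on U
  have hσσ : ∀ g ∈ U, x * (x * g * x⁻¹) * x⁻¹ = g := by
    intro g hg
    have h := (mem_centralizer_iff.mp hx2) g hg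
    -- h : g * x^2 = x^2 * g
    have : x * (x * g * x⁻¹) * x⁻¹ = (x ^ 2 * g) * (x⁻¹ * x⁻¹) := by simp [pow_two, mul_assoc]
    rw [this, ← h]
    simp [pow_two, mul_assoc]
  set w : G := (x * u * x⁻¹)⁻¹ * u with hw
  have hwU : w ∈ U := U.mul_mem (U.inv_mem (hconjU u hu)) hu
  -- σ(w) = w⁻¹
  have hσw : x * w * x⁻¹ = w⁻¹ := by
    have h1 : x * w * x⁻¹ = (x * (x * u * x⁻¹) * x⁻¹)⁻¹ * (x * u * x⁻¹) := by
      rw [hw]; simp [mul_assoc]
    rw [h1, hσσ u hu, hw]; simp [mul_assoc]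
  -- odd order of w
  have hwodd : Odd (orderOf w) := by
    have hdvd : orderOf w ∣ Nat.card U := by
      have := orderOf_dvd_natCard (⟨w, hwU⟩ : U)
      rwa [Subgroup.orderOf_mk] at this
    exact Odd.of_dvd_nat hodd hdvd
  obtain ⟨k, hk⟩ := hwodd
  set i : G := w ^ (k + 1) with hi
  have hiU : i ∈ U := U.pow_mem hwU _
  have hi2 : i * i = w := by
    rw [hi, ← pow_add]
    have : k + 1 + (k + 1) = orderOf w + 1 := by omega
    rw [this, pow_succ, pow_orderOf_eq_one, one_mul]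
  have hσi : x * i * x⁻¹ = i⁻¹ := by
    have : x * i * x⁻¹ = (x * w * x⁻¹) ^ (k + 1) := by
      rw [hi]; exact (conj_pow (a := x) (b := w) (i := k + 1)).symm
    rw [this, hσw, inv_pow]
  refine ⟨u * i⁻¹, U.mul_mem hu (U.inv_mem hiU), i, hiU, ?_, ?_, hσi, by simp⟩
  · exact Subgroup.pow_mem _ (mem_zpowers w) _
  · -- σ(u i⁻¹) = σ(u) i = u i⁻¹  ⟸  σ(u) w = u
    have h1 : x * (u * i⁻¹) * x⁻¹ = (x * u * x⁻¹) * (x * i * x⁻¹)⁻¹ := by simp [mul_assoc]
    rw [h1, hσi, inv_inv]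
    have h2 : (x * u * x⁻¹) * w = u := by rw [hw]; simp [mul_assoc]
    calc x * u * x⁻¹ * i = x * u * x⁻¹ * (i * i) * i⁻¹ := by simp [mul_assoc]
      _ = u * i⁻¹ := by rw [hi2, h2]

/-- (W8) an odd-order group with an involutory automorphism is (fixed points)·(inverted elements). -/
theorem odd_invol_decomp {G : Type*} [Group G] [Finite G] (U : Subgroup G) (x : G) (hodd : Odd (Nat.card U))
    (hxU : x ∈ normalizer (U : Set G)) (hx2 : x ^ 2 ∈ centralizer (U : Set G)) {u : G} (hu : u ∈ U) :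
    ∃ c ∈ U, ∃ i ∈ U, x * c * x⁻¹ = c ∧ x * i * x⁻¹ = i⁻¹ ∧ u = c * i := by
  obtain ⟨c, hc, i, hi, -, h1, h2, h3⟩ := odd_invol_decomp_zpowers U x hodd hxU hx2 hu
  exact ⟨c, hc, i, hi, h1, h2, h3⟩

end Cfsg.Agent.Helper81.TH
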