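import Mathlib
import Cfsg.Agent.Helper81.THW8

/-! Piece (W7) of helper21's S3797 (WANTED #5260): four-group generation for a group of odd order.
`U` of odd order, normalized by `x, y` with `x², y², [x,y]` centralizing `U`; then
`U = C_U(x) ⊔ C_U(y) ⊔ C_U(xy)`.  Proof: minimal counterexample; invariant Sylow subgroups (fixed points of two
commuting involutions on a set of odd size) reduce to a `q`-group, where `U' < U` and the abelian quotient is handled
by two applications of (W8). -/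

set_option autoImplicit false
set_option linter.style.haveILetI false

namespace Cfsg.Agent.Helper81.TH

open Subgroup

/-- two commuting involutive permutations of a finite set of odd size have a common fixed point. -/
theorem exists_common_fixed {α : Type*} [Finite α] (hodd : Odd (Nat.card α)) (f g : Equiv.Perm α)
    (hf : ∀ a, f (f a) = a) (hg : ∀ a, g (g a) = a) (hfg : ∀ a, f (g a) = g (f a)) :
    ∃ a, f a = a ∧ g a = a := by
  classical
  cases nonempty_fintype α
  let F : Function.End α := (f : α → α)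
  have hf2 : F ^ 2 ^ 1 = 1 := by
    funext a
    show (F ^ 2 ^ 1) a = a
    rw [pow_one, pow_two]
    exact hf a
  have h1 : Fintype.card α ≡ Fintype.card (Function.fixedPoints (f : α → α)) [MOD 2] :=
    Equiv.Perm.card_fixedPoints_modEq (f := F) (p := 2) (n := 1) hf2
  have hoddF : ¬ 2 ∣ Fintype.card (Function.fixedPoints (f : α → α)) := by
    rw [Nat.card_eq_fintype_card] at hodd
    intro h
    have h2 : Fintype.card α % 2 = 0 := by
      rw [h1]; exact Nat.mod_eq_zero_of_dvd h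
    rcases hodd with ⟨k, hk⟩
    omega
  have hmem : ∀ a, (g a ∈ Function.fixedPoints (f : α → α)) ↔ a ∈ Function.fixedPoints (f : α → α) := by
    intro a
    simp only [Function.mem_fixedPoints, Function.IsFixedPt]
    constructor
    · intro h
      rw [hfg] at h
      exact g.injective h
    · intro h
      rw [hfg, h]
  let g' : Equiv.Perm (Function.fixedPoints (f : α → α)) := g.subtypePerm hmem
  have hg' : g' ^ 2 ^ 1 = 1 := by
    ext a
    simp [g', pow_two, hg]
  obtain ⟨a, ha⟩ := Equiv.Perm.exists_fixed_point_of_prime (p := 2) (n := 1) hoddF hg'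
  refine ⟨a.1, a.2, ?_⟩
  have := congrArg Subtype.val ha
  simpa [g'] using this

section

variable {G : Type*} [Group G]

theorem conj_eq_of_mem_centralizer {U : Subgroup G} {c u : G} (hc : c ∈ centralizer (U : Set G)) (hu : u ∈ U) :
    c * u * c⁻¹ = u := by
  have h := (mem_centralizer_iff.mp hc) u hu
  rw [← h]; simp

theorem mem_centralizer_of_conj_eq {U : Subgroup G} {c : G} (h : ∀ u ∈ U, c * u * c⁻¹ = u) :
    c ∈ centralizer (U : Set G) := by
  rw [mem_centralizer_iff]
  intro u hu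
  have := h u hu
  calc u * c = (c * u * c⁻¹) * c := by rw [this]
    _ = c * u := by simp [mul_assoc]

theorem conj_mem_of_mem_normalizer {U : Subgroup G} {x u : G} (hx : x ∈ normalizer (U : Set G)) (hu : u ∈ U) :
    x * u * x⁻¹ ∈ U := (mem_normalizer_iff.mp hx u).mp hu

/-- conjugations by `x` and `y` commute on `U`. -/
theorem conj_comm_of_comm_mem {U : Subgroup G} {x y : G} (hx : x ∈ normalizer (U : Set G))
    (hy : y ∈ normalizer (U : Set G)) (hxy : x * y * x⁻¹ * y⁻¹ ∈ centralizer (U : Set G)) {u : G} (hu : u ∈ U) :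
    x * (y * u * y⁻¹) * x⁻¹ = y * (x * u * x⁻¹) * y⁻¹ := by
  have hv : y * (x * u * x⁻¹) * y⁻¹ ∈ U := conj_mem_of_mem_normalizer hy (conj_mem_of_mem_normalizer hx hu)
  have h := conj_eq_of_mem_centralizer hxy hv
  rw [← h]
  group

theorem sq_conj_eq {U : Subgroup G} {x : G} (hx2 : x ^ 2 ∈ centralizer (U : Set G)) {u : G} (hu : u ∈ U) :
    x * (x * u * x⁻¹) * x⁻¹ = u := by
  have h := conj_eq_of_mem_centralizer hx2 hu
  calc x * (x * u * x⁻¹) * x⁻¹ = x ^ 2 * u * (x ^ 2)⁻¹ := by
        simp only [pow_two, mul_inv_rev, mul_assoc]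
    _ = u := h

/-- `(xy)²` centralizes `U`. -/
theorem mul_sq_mem_centralizer {U : Subgroup G} {x y : G} (hx : x ∈ normalizer (U : Set G))
    (hy : y ∈ normalizer (U : Set G)) (hx2 : x ^ 2 ∈ centralizer (U : Set G)) (hy2 : y ^ 2 ∈ centralizer (U : Set G))
    (hxy : x * y * x⁻¹ * y⁻¹ ∈ centralizer (U : Set G)) : (x * y) ^ 2 ∈ centralizer (U : Set G) := by
  apply mem_centralizer_of_conj_eq
  intro u hu
  have hyu : y * u * y⁻¹ ∈ U := conj_mem_of_mem_normalizer hy hu
  have h1 : (x * y) ^ 2 * u * ((x * y) ^ 2)⁻¹ = x * (y * (x * (y * u * y⁻¹) * x⁻¹) * y⁻¹) * x⁻¹ := by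
    simp only [pow_two, mul_inv_rev, mul_assoc]
  rw [h1, ← conj_comm_of_comm_mem hx hy hxy hyu, sq_conj_eq hy2 hu, sq_conj_eq hx2 hu]

theorem commutator_self_le (U : Subgroup G) : ⁅U, U⁆ ≤ U := by
  rw [Subgroup.commutator_le]
  intro a ha b hb
  rw [commutatorElement_def]
  exact U.mul_mem (U.mul_mem (U.mul_mem ha hb) (U.inv_mem ha)) (U.inv_mem hb)

/-- the normalizer of `U` normalizes `⁅U, U⁆`. -/
theorem mem_normalizer_commutator {U : Subgroup G} {x : G} (hx : x ∈ normalizer (U : Set G)) :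
    x ∈ normalizer ((⁅U, U⁆ : Subgroup G) : Set G) := by
  have key : ∀ g : G, g ∈ normalizer (U : Set G) → ∀ n ∈ ⁅U, U⁆, g * n * g⁻¹ ∈ ⁅U, U⁆ := by
    intro g hg
    have : ⁅U, U⁆ ≤ (⁅U, U⁆ : Subgroup G).comap (MulAut.conj g).toMonoidHom := by
      rw [Subgroup.commutator_le]
      intro a ha b hb
      rw [Subgroup.mem_comap, map_commutatorElement]
      exact Subgroup.commutator_mem_commutator
        (by simpa using conj_mem_of_mem_normalizer hg ha) (by simpa using conj_mem_of_mem_normalizer hg hb)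
    intro n hn
    simpa using this hn
  rw [mem_normalizer_iff]
  intro n
  refine ⟨key x hx n, fun h => ?_⟩
  have := key x⁻¹ (Subgroup.inv_mem _ hx) _ h
  simpa [mul_assoc] using this

/-- a nontrivial finite `q`-group has a proper commutator subgroup. -/
theorem commutator_ne_of_isPGroup {U : Subgroup G} [Finite U] {q : ℕ} [Fact q.Prime] (hq : IsPGroup q U)
    (hU : U ≠ ⊥) : ⁅U, U⁆ ≠ U := by
  haveI : Nontrivial U := (Subgroup.nontrivial_iff_ne_bot U).mpr hU
  haveI : Group.IsNilpotent U := hq.isNilpotent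
  have hlt : commutator U < ⊤ := Group.IsSolvable.commutator_lt_top_of_nontrivial (G := U)
  have hmap : (commutator U).map U.subtype = ⁅U, U⁆ := by
    rw [commutator_def, Subgroup.map_commutator, ← MonoidHom.range_eq_map, Subgroup.range_subtype]
  intro heq
  apply hlt.ne
  apply Subgroup.map_injective U.subtype_injective
  rw [hmap, heq, ← MonoidHom.range_eq_map, Subgroup.range_subtype]

/-- a subgroup of `K` containing a Sylow `q`-subgroup of `K` for each prime `q` is `K`. -/
theorem le_of_forall_sylow_le' {K₀ K : Subgroup G} [Finite K] (h0 : K₀ ≤ K)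
    (h : ∀ q : ℕ, ∀ _ : Fact q.Prime, ∃ S : Sylow q K, (S : Subgroup K).map K.subtype ≤ K₀) : K ≤ K₀ := by
  have hfin0 : Finite K₀ := Finite.of_injective (Subgroup.inclusion h0) (Subgroup.inclusion_injective h0)
  have hdvd : Nat.card K ∣ Nat.card K₀ := by
    rw [← Nat.factorization_prime_le_iff_dvd Nat.card_pos.ne' Nat.card_pos.ne']
    intro q hq
    have : Fact q.Prime := ⟨hq⟩
    obtain ⟨S, hS⟩ := h q ⟨hq⟩
    rw [← hq.pow_dvd_iff_le_factorization Nat.card_pos.ne', ← S.card_eq_multiplicity]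
    have := Subgroup.card_dvd_of_le hS
    rwa [Subgroup.card_map_of_injective K.subtype_injective] at this
  exact (Subgroup.eq_of_le_of_card_ge h0 (Nat.le_of_dvd Nat.card_pos hdvd)).ge

open scoped Pointwise in
/-- an element of `N(U)` acting trivially on `U` fixes every Sylow subgroup of `U`. -/
theorem smul_sylow_eq_of_trivial {U : Subgroup G} {q : ℕ} (c : normalizer (U : Set G))
    (hc : ∀ s : U, c • s = s) (S : Sylow q U) : c • S = S := by
  apply Sylow.ext
  rw [Sylow.pointwise_smul_def]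
  ext s
  rw [Subgroup.mem_pointwise_smul_iff_inv_smul_mem]
  have : c⁻¹ • s = s := by rw [inv_smul_eq_iff, hc]
  rw [this]

open scoped Pointwise in
/-- an `⟨x, y⟩`-invariant Sylow `q`-subgroup of `U`. -/
theorem exists_invariant_sylow_four [Finite G] (U : Subgroup G) (x y : G) (hodd : Odd (Nat.card U))
    (hx : x ∈ normalizer (U : Set G)) (hy : y ∈ normalizer (U : Set G))
    (hx2 : x ^ 2 ∈ centralizer (U : Set G)) (hy2 : y ^ 2 ∈ centralizer (U : Set G))
    (hxy : x * y * x⁻¹ * y⁻¹ ∈ centralizer (U : Set G)) (q : ℕ) [Fact q.Prime] :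
    ∃ S : Sylow q U,
      (∀ s : U, s ∈ S → ∀ hs : x * (s : G) * x⁻¹ ∈ U, (⟨x * s * x⁻¹, hs⟩ : U) ∈ S) ∧
      (∀ s : U, s ∈ S → ∀ hs : y * (s : G) * y⁻¹ ∈ U, (⟨y * s * y⁻¹, hs⟩ : U) ∈ S) := by
  let gx : normalizer (U : Set G) := ⟨x, hx⟩
  let gy : normalizer (U : Set G) := ⟨y, hy⟩
  have hgx2 : ∀ S : Sylow q U, gx • gx • S = S := by
    intro S
    rw [← mul_smul]
    apply smul_sylow_eq_of_trivial
    intro s
    apply Subtype.ext
    show x * x * (s : G) * (x * x)⁻¹ = s
    have := sq_conj_eq hx2 s.2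
    calc x * x * (s : G) * (x * x)⁻¹ = x * (x * (s : G) * x⁻¹) * x⁻¹ := by
          simp only [mul_inv_rev, mul_assoc]
      _ = s := this
  have hgy2 : ∀ S : Sylow q U, gy • gy • S = S := by
    intro S
    rw [← mul_smul]
    apply smul_sylow_eq_of_trivial
    intro s
    apply Subtype.ext
    show y * y * (s : G) * (y * y)⁻¹ = s
    have := sq_conj_eq hy2 s.2
    calc y * y * (s : G) * (y * y)⁻¹ = y * (y * (s : G) * y⁻¹) * y⁻¹ := by
          simp only [mul_inv_rev, mul_assoc]
      _ = s := this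
  have hgxy : ∀ S : Sylow q U, gx • gy • S = gy • gx • S := by
    intro S
    have h1 : gx * gy = (gx * gy * gx⁻¹ * gy⁻¹) * (gy * gx) := by group
    rw [← mul_smul, ← mul_smul, h1, mul_smul]
    apply smul_sylow_eq_of_trivial
    intro s
    apply Subtype.ext
    show (x * y * x⁻¹ * y⁻¹) * (s : G) * (x * y * x⁻¹ * y⁻¹)⁻¹ = s
    exact conj_eq_of_mem_centralizer hxy s.2
  have hcard : Odd (Nat.card (Sylow q U)) := by
    obtain ⟨S⟩ : Nonempty (Sylow q U) := inferInstance
    exact Odd.of_dvd_nat hodd ((Sylow.card_dvd_index S).trans (Subgroup.index_dvd_card _))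
  obtain ⟨S, hS1, hS2⟩ := exists_common_fixed hcard (MulAction.toPerm gx) (MulAction.toPerm gy)
    (fun S => by simpa using hgx2 S) (fun S => by simpa using hgy2 S) (fun S => by simpa using hgxy S)
  refine ⟨S, ?_, ?_⟩
  · intro s hs hs'
    have h1 : gx • S = S := by simpa using hS1
    have h2 : gx • s ∈ gx • (S : Subgroup U) := Subgroup.smul_mem_pointwise_smul s gx _ hs
    have h3 : gx • (S : Subgroup U) = ((gx • S : Sylow q U) : Subgroup U) := rfl
    rw [h3, h1] at h2
    exact h2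
  · intro s hs hs'
    have h1 : gy • S = S := by simpa using hS2
    have h2 : gy • s ∈ gy • (S : Subgroup U) := Subgroup.smul_mem_pointwise_smul s gy _ hs
    have h3 : gy • (S : Subgroup U) = ((gy • S : Sylow q U) : Subgroup U) := rfl
    rw [h3, h1] at h2
    exact h2

/-- the subgroup generated by the three centralizers. -/
def fourH (U : Subgroup G) (x y : G) : Subgroup G :=
  (U ⊓ centralizer {x}) ⊔ (U ⊓ centralizer {y}) ⊔ (U ⊓ centralizer {x * y})

theorem fourH_mono {U M : Subgroup G} (x y : G) (h : M ≤ U) : fourH M x y ≤ fourH U x y :=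
  sup_le_sup (sup_le_sup (inf_le_inf_right _ h) (inf_le_inf_right _ h)) (inf_le_inf_right _ h)

theorem mem_fourH_of_fix_x {U : Subgroup G} {x y c : G} (hc : c ∈ U) (h : x * c * x⁻¹ = c) : c ∈ fourH U x y := by
  apply (le_sup_left : U ⊓ centralizer {x} ≤ (U ⊓ centralizer {x}) ⊔ (U ⊓ centralizer {y})).trans le_sup_left
  refine Subgroup.mem_inf.mpr ⟨hc, ?_⟩
  rw [Subgroup.mem_centralizer_singleton_iff]
  calc c * x = (x * c * x⁻¹) * x := by rw [h]
    _ = x * c := by simp [mul_assoc]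

theorem mem_fourH_of_fix_y {U : Subgroup G} {x y c : G} (hc : c ∈ U) (h : y * c * y⁻¹ = c) : c ∈ fourH U x y := by
  apply (le_sup_right : U ⊓ centralizer {y} ≤ (U ⊓ centralizer {x}) ⊔ (U ⊓ centralizer {y})).trans le_sup_left
  refine Subgroup.mem_inf.mpr ⟨hc, ?_⟩
  rw [Subgroup.mem_centralizer_singleton_iff]
  calc c * y = (y * c * y⁻¹) * y := by rw [h]
    _ = y * c := by simp [mul_assoc]

theorem mem_fourH_of_fix_xy {U : Subgroup G} {x y c : G} (hc : c ∈ U) (h : (x * y) * c * (x * y)⁻¹ = c) :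
    c ∈ fourH U x y := by
  apply (le_sup_right : U ⊓ centralizer {x * y} ≤ _)
  refine Subgroup.mem_inf.mpr ⟨hc, ?_⟩
  rw [Subgroup.mem_centralizer_singleton_iff]
  calc c * (x * y) = ((x * y) * c * (x * y)⁻¹) * (x * y) := by rw [h]
    _ = (x * y) * c := by simp [mul_assoc]

/-- the `q`-group step: if `⁅U, U⁆ ≤ H` then `U ≤ H`. -/
theorem le_fourH_of_commutator_le [Finite G] (U : Subgroup G) (x y : G) (hodd : Odd (Nat.card U))
    (hx : x ∈ normalizer (U : Set G)) (hy : y ∈ normalizer (U : Set G))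
    (hx2 : x ^ 2 ∈ centralizer (U : Set G)) (hy2 : y ^ 2 ∈ centralizer (U : Set G))
    (hxy : x * y * x⁻¹ * y⁻¹ ∈ centralizer (U : Set G)) (hN : ⁅U, U⁆ ≤ fourH U x y) : U ≤ fourH U x y := by
  set H := fourH U x y with hH
  have hxyN : x * y ∈ normalizer (U : Set G) := Subgroup.mul_mem _ hx hy
  have hxy2 : (x * y) ^ 2 ∈ centralizer (U : Set G) := mul_sq_mem_centralizer hx hy hx2 hy2 hxy
  intro u hu
  obtain ⟨c, hcU, i, hiU, -, hσc, hσi, rfl⟩ := odd_invol_decomp_zpowers U x hodd hx hx2 hu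
  refine H.mul_mem (mem_fourH_of_fix_x hcU hσc) ?_
  -- the inverted part
  set j : G := y * i * y⁻¹ with hj
  have hjU : j ∈ U := conj_mem_of_mem_normalizer hy hiU
  have hτj : y * j * y⁻¹ = i := sq_conj_eq hy2 hiU
  have hσj : x * j * x⁻¹ = j⁻¹ := by
    rw [hj, conj_comm_of_comm_mem hx hy hxy hiU, hσi]
    simp [mul_assoc]
  have hcomm1 : i⁻¹ * j⁻¹ * i * j ∈ ⁅U, U⁆ := by
    have := Subgroup.commutator_mem_commutator (U.inv_mem hiU) (U.inv_mem hjU)
    rwa [commutatorElement_def, inv_inv, inv_inv] at this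
  have hcomm2 : i⁻¹ * j * i * j⁻¹ ∈ ⁅U, U⁆ := by
    have := Subgroup.commutator_mem_commutator (U.inv_mem hiU) hjU
    rwa [commutatorElement_def, inv_inv] at this
  -- P = i * j
  obtain ⟨c₁, hc₁U, k₁, -, hk₁, hτc₁, -, hP⟩ :=
    odd_invol_decomp_zpowers U y hodd hy hy2 (U.mul_mem hiU hjU)
  have hk₁N : k₁ ∈ ⁅U, U⁆ := by
    have h1 : (y * (i * j) * y⁻¹)⁻¹ * (i * j) = i⁻¹ * j⁻¹ * i * j := by
      have : y * (i * j) * y⁻¹ = (y * i * y⁻¹) * (y * j * y⁻¹) := by simp [mul_assoc]
      rw [this, hτj, ← hj]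
      simp [mul_assoc]
    rw [h1] at hk₁
    exact (Subgroup.zpowers_le.mpr hcomm1) hk₁
  -- M = i * j⁻¹
  obtain ⟨c₂, hc₂U, k₂, -, hk₂, hc₂, -, hM⟩ :=
    odd_invol_decomp_zpowers U (x * y) hodd hxyN hxy2 (U.mul_mem hiU (U.inv_mem hjU))
  have hk₂N : k₂ ∈ ⁅U, U⁆ := by
    have h1 : ((x * y) * (i * j⁻¹) * (x * y)⁻¹)⁻¹ * (i * j⁻¹) = i⁻¹ * j * i * j⁻¹ := by
      have : (x * y) * (i * j⁻¹) * (x * y)⁻¹ = (x * (y * i * y⁻¹) * x⁻¹) * (x * (y * j * y⁻¹) * x⁻¹)⁻¹ := by
        simp [mul_assoc]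
      rw [this, hτj, ← hj, hσj, hσi]
      simp [mul_assoc]
    rw [h1] at hk₂
    exact (Subgroup.zpowers_le.mpr hcomm2) hk₂
  have hi2 : i ^ 2 = (i * j) * (i * j⁻¹) * (i⁻¹ * j * i * j⁻¹)⁻¹ := by
    simp [pow_two, mul_assoc]
  have hi2H : i ^ 2 ∈ H := by
    rw [hi2]
    refine H.mul_mem (H.mul_mem ?_ ?_) (H.inv_mem (hN hcomm2))
    · rw [hP]; exact H.mul_mem (mem_fourH_of_fix_y hc₁U hτc₁) (hN hk₁N)
    · rw [hM]; exact H.mul_mem (mem_fourH_of_fix_xy hc₂U hc₂) (hN hk₂N)
  -- odd order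
  have hiodd : Odd (orderOf i) := by
    have hdvd : orderOf i ∣ Nat.card U := by
      have := orderOf_dvd_natCard (⟨i, hiU⟩ : U)
      rwa [Subgroup.orderOf_mk] at this
    exact Odd.of_dvd_nat hodd hdvd
  obtain ⟨m, hm⟩ := exists_pow_eq_self_of_coprime (n := 2) (x := i) (Nat.coprime_two_left.mpr hiodd)
  rw [← hm]
  exact H.pow_mem hi2H m

theorem four_gen_aux [Finite G] (x y : G) :
    ∀ n : ℕ, ∀ U : Subgroup G, Nat.card U = n → Odd (Nat.card U) →
      x ∈ normalizer (U : Set G) → y ∈ normalizer (U : Set G) →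
      x ^ 2 ∈ centralizer (U : Set G) → y ^ 2 ∈ centralizer (U : Set G) →
      x * y * x⁻¹ * y⁻¹ ∈ centralizer (U : Set G) → U ≤ fourH U x y := by
  intro n
  induction n using Nat.strong_induction_on with
  | _ n ih =>
    intro U hn hodd hx hy hx2 hy2 hxy
    -- the induction hypothesis, packaged
    have IH : ∀ M : Subgroup G, M ≤ U → M ≠ U → x ∈ normalizer (M : Set G) → y ∈ normalizer (M : Set G) →
        M ≤ fourH U x y := by
      intro M hMU hne hxM hyM
      have hlt : Nat.card M < n := by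
        rw [← hn]
        refine lt_of_le_of_ne (Subgroup.card_le_of_le hMU) (fun h => hne ?_)
        exact Subgroup.eq_of_le_of_card_ge hMU h.ge
      have hcen : centralizer (U : Set G) ≤ centralizer (M : Set G) := Subgroup.centralizer_le hMU
      have := ih (Nat.card M) hlt M rfl (Odd.of_dvd_nat hodd (Subgroup.card_dvd_of_le hMU)) hxM hyM
        (hcen hx2) (hcen hy2) (hcen hxy)
      exact this.trans (fourH_mono x y hMU)
    by_cases hpg : ∃ q : ℕ, q.Prime ∧ IsPGroup q U
    · obtain ⟨q, hq, hqU⟩ := hpg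
      haveI : Fact q.Prime := ⟨hq⟩
      by_cases hbot : U = ⊥
      · rw [hbot]; exact bot_le
      · apply le_fourH_of_commutator_le U x y hodd hx hy hx2 hy2 hxy
        exact IH ⁅U, U⁆ (commutator_self_le U) (commutator_ne_of_isPGroup hqU hbot)
          (mem_normalizer_commutator hx) (mem_normalizer_commutator hy)
    · apply le_of_forall_sylow_le' (K₀ := fourH U x y) (K := U)
      · exact sup_le (sup_le inf_le_left inf_le_left) inf_le_left
      · intro q hq
        haveI := hq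
        obtain ⟨S, hSx, hSy⟩ := exists_invariant_sylow_four U x y hodd hx hy hx2 hy2 hxy q
        refine ⟨S, ?_⟩
        have hle : (S : Subgroup U).map U.subtype ≤ U := by
          rintro _ ⟨s, -, rfl⟩; exact s.2
        apply IH _ hle
        · intro heq
          apply hpg
          refine ⟨q, hq.out, ?_⟩
          have htop : (S : Subgroup U) = ⊤ := by
            apply Subgroup.map_injective U.subtype_injective
            rw [heq, ← MonoidHom.range_eq_map, Subgroup.range_subtype]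
          intro g
          have hg : g ∈ (S : Subgroup U) := by rw [htop]; trivial
          obtain ⟨k, hk⟩ := S.isPGroup' ⟨g, hg⟩
          exact ⟨k, by simpa [Subtype.ext_iff] using hk⟩
        · apply mem_normalizer_fintype
          rintro _ ⟨s, hs, rfl⟩
          exact ⟨⟨x * s * x⁻¹, conj_mem_of_mem_normalizer hx s.2⟩, hSx s hs _, rfl⟩
        · apply mem_normalizer_fintype
          rintro _ ⟨s, hs, rfl⟩
          exact ⟨⟨y * s * y⁻¹, conj_mem_of_mem_normalizer hy s.2⟩, hSy s hs _, rfl⟩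

/-- (W7) four-group generation for a group of odd order. -/
theorem four_gen [Finite G] (U : Subgroup G) (x y : G) (hodd : Odd (Nat.card U))
    (hx : x ∈ normalizer (U : Set G)) (hy : y ∈ normalizer (U : Set G))
    (hx2 : x ^ 2 ∈ centralizer (U : Set G)) (hy2 : y ^ 2 ∈ centralizer (U : Set G))
    (hxy : x * y * x⁻¹ * y⁻¹ ∈ centralizer (U : Set G)) :
    U = (U ⊓ centralizer {x}) ⊔ (U ⊓ centralizer {y}) ⊔ (U ⊓ centralizer {x * y}) :=
  le_antisymm (four_gen_aux x y _ U rfl hodd hx hy hx2 hy2 hxy)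
    (sup_le (sup_le inf_le_left inf_le_left) inf_le_left)

end

end Cfsg.Agent.Helper81.TH
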