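import Mathlib
import Cfsg.Agent.Helper13.FExtDefs

/-!
# S5975 piece (K3) for helper13: an element of the normalizer of a field subalgebra, a prime
power `r ≠ k` of which centralizes `K`, centralizes `K`
-/

set_option autoImplicit false
set_option linter.style.haveILetI false

namespace Cfsg.Agent.Helper81.FExtK3

open Matrix Cfsg Cfsg.Geo
open Cfsg.Agent.Helper13.FExt

/-- In a Galois extension of prime degree `k`, an automorphism killed by a prime `r ≠ k` is
trivial. -/
theorem aut_eq_one_of_pow {F L : Type*} [Field F] [Field L] [Finite L] [Algebra F L]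
    (k : ℕ) (hk : k.Prime) (hfin : Module.finrank F L = k) (r : ℕ) (hr : r.Prime) (hrk : r ≠ k)
    (σ : L ≃ₐ[F] L) (h : σ ^ r = 1) : σ = 1 := by
  haveI : FiniteDimensional F L := inferInstance
  have hcard : Nat.card (L ≃ₐ[F] L) = k := by
    rw [IsGalois.card_aut_eq_finrank, hfin]
  have h2 : σ ^ k = 1 := by
    rw [← hcard]
    exact pow_card_eq_one'
  have h3 : orderOf σ ∣ Nat.gcd r k :=
    Nat.dvd_gcd (orderOf_dvd_of_pow_eq_one h) (orderOf_dvd_of_pow_eq_one h2)
  have h4 : Nat.gcd r k = 1 := (Nat.coprime_primes hr hk).mpr hrk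
  rw [h4, Nat.dvd_one, orderOf_eq_one_iff] at h3
  exact h3

variable {F : Type*} [Field F] {ι : Type} [Fintype ι] [DecidableEq ι]

/-- conjugation by an element of the normalizer, as an algebra endomorphism of `K` -/
noncomputable def conjHom (K : Subalgebra F (Matrix ι ι F)) (g : GL ι F)
    (hg : g ∈ subalgebraNormalizer K) : ↥K →ₐ[F] ↥K where
  toFun a := ⟨(g : Matrix ι ι F) * a.1 * ((g⁻¹ : GL ι F) : Matrix ι ι F), (hg a.1).mp a.2⟩
  map_one' := by
    apply Subtype.ext
    simp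
  map_mul' a b := by
    apply Subtype.ext
    simp only [Subalgebra.coe_mul]
    have h1 : ((g⁻¹ : GL ι F) : Matrix ι ι F) * (g : Matrix ι ι F) = 1 := by
      rw [← Units.val_mul, inv_mul_cancel, Units.val_one]
    calc (g : Matrix ι ι F) * (a.1 * b.1) * ((g⁻¹ : GL ι F) : Matrix ι ι F)
        = (g : Matrix ι ι F) * a.1 * (((g⁻¹ : GL ι F) : Matrix ι ι F) * (g : Matrix ι ι F))
            * b.1 * ((g⁻¹ : GL ι F) : Matrix ι ι F) := by
          rw [h1]; simp only [mul_one, mul_assoc]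
      _ = _ := by simp only [mul_assoc]
  map_zero' := by
    apply Subtype.ext
    simp
  map_add' a b := by
    apply Subtype.ext
    simp [mul_add, add_mul]
  commutes' c := by
    apply Subtype.ext
    simp only [Subalgebra.coe_algebraMap]
    rw [Algebra.algebraMap_eq_smul_one, mul_smul_comm, mul_one, smul_mul_assoc,
      ← Units.val_mul, mul_inv_cancel, Units.val_one]

theorem conjHom_apply (K : Subalgebra F (Matrix ι ι F)) (g : GL ι F)
    (hg : g ∈ subalgebraNormalizer K) (a : ↥K) :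
    ((conjHom K g hg a : ↥K) : Matrix ι ι F)
      = (g : Matrix ι ι F) * a.1 * ((g⁻¹ : GL ι F) : Matrix ι ι F) := rfl

/-- conjugation, as a group homomorphism from the normalizer to the automorphisms of `K` -/
noncomputable def conjAut (K : Subalgebra F (Matrix ι ι F)) :
    ↥(subalgebraNormalizer K) →* (↥K ≃ₐ[F] ↥K) where
  toFun g := AlgEquiv.ofAlgHom (conjHom K g.1 g.2) (conjHom K g.1⁻¹ (inv_mem g.2))
    (by
      apply AlgHom.ext
      intro a
      apply Subtype.ext
      simp only [AlgHom.comp_apply, conjHom_apply, AlgHom.id_apply, inv_inv]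
      have h1 : ((g.1 : GL ι F) : Matrix ι ι F) * (((g.1)⁻¹ : GL ι F) : Matrix ι ι F) = 1 := by
        rw [← Units.val_mul, mul_inv_cancel, Units.val_one]
      calc ((g.1 : GL ι F) : Matrix ι ι F) * ((((g.1)⁻¹ : GL ι F) : Matrix ι ι F) * a.1
            * ((g.1 : GL ι F) : Matrix ι ι F)) * (((g.1)⁻¹ : GL ι F) : Matrix ι ι F)
          = (((g.1 : GL ι F) : Matrix ι ι F) * (((g.1)⁻¹ : GL ι F) : Matrix ι ι F)) * a.1
            * (((g.1 : GL ι F) : Matrix ι ι F) * (((g.1)⁻¹ : GL ι F) : Matrix ι ι F)) := by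
            simp only [mul_assoc]
        _ = a.1 := by rw [h1, one_mul, mul_one])
    (by
      apply AlgHom.ext
      intro a
      apply Subtype.ext
      simp only [AlgHom.comp_apply, conjHom_apply, AlgHom.id_apply, inv_inv]
      have h1 : (((g.1)⁻¹ : GL ι F) : Matrix ι ι F) * ((g.1 : GL ι F) : Matrix ι ι F) = 1 := by
        rw [← Units.val_mul, inv_mul_cancel, Units.val_one]
      calc (((g.1)⁻¹ : GL ι F) : Matrix ι ι F) * (((g.1 : GL ι F) : Matrix ι ι F) * a.1
            * (((g.1)⁻¹ : GL ι F) : Matrix ι ι F)) * ((g.1 : GL ι F) : Matrix ι ι F)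
          = ((((g.1)⁻¹ : GL ι F) : Matrix ι ι F) * ((g.1 : GL ι F) : Matrix ι ι F)) * a.1
            * ((((g.1)⁻¹ : GL ι F) : Matrix ι ι F) * ((g.1 : GL ι F) : Matrix ι ι F)) := by
            simp only [mul_assoc]
        _ = a.1 := by rw [h1, one_mul, mul_one])
  map_one' := by
    apply AlgEquiv.ext
    intro a
    apply Subtype.ext
    change ((1 : GL ι F) : Matrix ι ι F) * a.1 * (((1 : GL ι F)⁻¹ : GL ι F) : Matrix ι ι F) = a.1
    simp
  map_mul' g h := by
    apply AlgEquiv.ext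
    intro a
    apply Subtype.ext
    change ((g.1 * h.1 : GL ι F) : Matrix ι ι F) * a.1
        * (((g.1 * h.1)⁻¹ : GL ι F) : Matrix ι ι F)
      = ((g.1 : GL ι F) : Matrix ι ι F) * (((h.1 : GL ι F) : Matrix ι ι F) * a.1
          * (((h.1)⁻¹ : GL ι F) : Matrix ι ι F)) * (((g.1)⁻¹ : GL ι F) : Matrix ι ι F)
    simp only [Units.val_mul, _root_.mul_inv_rev, mul_assoc]

theorem conjAut_apply (K : Subalgebra F (Matrix ι ι F)) (g : ↥(subalgebraNormalizer K)) (a : ↥K) :
    ((conjAut K g a : ↥K) : Matrix ι ι F)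
      = ((g.1 : GL ι F) : Matrix ι ι F) * a.1 * (((g.1)⁻¹ : GL ι F) : Matrix ι ι F) := rfl

theorem conjAut_eq_one_iff (K : Subalgebra F (Matrix ι ι F)) (g : ↥(subalgebraNormalizer K)) :
    conjAut K g = 1 ↔ Centralizes K ((g.1 : GL ι F) : Matrix ι ι F) := by
  have h1 : (((g.1)⁻¹ : GL ι F) : Matrix ι ι F) * ((g.1 : GL ι F) : Matrix ι ι F) = 1 := by
    rw [← Units.val_mul, inv_mul_cancel, Units.val_one]
  have h2 : ((g.1 : GL ι F) : Matrix ι ι F) * (((g.1)⁻¹ : GL ι F) : Matrix ι ι F) = 1 := by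
    rw [← Units.val_mul, mul_inv_cancel, Units.val_one]
  constructor
  · intro h a ha
    have h3 := congrArg Subtype.val (DFunLike.congr_fun h ⟨a, ha⟩)
    rw [conjAut_apply] at h3
    have h4 : ((1 : ↥K ≃ₐ[F] ↥K) ⟨a, ha⟩ : ↥K).1 = a := rfl
    rw [h4] at h3
    calc ((g.1 : GL ι F) : Matrix ι ι F) * a
        = ((g.1 : GL ι F) : Matrix ι ι F) * a * ((((g.1)⁻¹ : GL ι F) : Matrix ι ι F)
            * ((g.1 : GL ι F) : Matrix ι ι F)) := by rw [h1, mul_one]
      _ = (((g.1 : GL ι F) : Matrix ι ι F) * a * (((g.1)⁻¹ : GL ι F) : Matrix ι ι F))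
            * ((g.1 : GL ι F) : Matrix ι ι F) := by simp only [mul_assoc]
      _ = a * ((g.1 : GL ι F) : Matrix ι ι F) := by rw [h3]
  · intro h
    apply AlgEquiv.ext
    intro a
    apply Subtype.ext
    rw [conjAut_apply]
    have h4 : ((1 : ↥K ≃ₐ[F] ↥K) a : ↥K).1 = a.1 := rfl
    rw [h4, h a.1 a.2, mul_assoc, h2, mul_one]

/-- (K3) an element of the normalizer, a prime power `r ≠ k` of which centralizes `K`,
centralizes `K`  (`Aut_F(K)` has order `k`) -/
theorem centralizes_of_pow [Fintype F] (k : ℕ) (hk : k.Prime) (K : Subalgebra F (Matrix ι ι F))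
    (hK : IsFieldSubalgebra k K) (y : GL ι F) (hy : y ∈ subalgebraNormalizer K)
    (r : ℕ) (hr : r.Prime) (hrk : r ≠ k)
    (hyr : Centralizes K ((y ^ r : GL ι F) : Matrix ι ι F)) :
    Centralizes K (y : Matrix ι ι F) := by
  classical
  -- `K` is a field
  have hnt : Nontrivial ↥K := by
    by_contra hnt
    rw [not_nontrivial_iff_subsingleton] at hnt
    have := Module.finrank_zero_of_subsingleton (R := F) (M := ↥K)
    rw [hK.finrank_eq] at this
    exact hk.ne_zero this
  have hF : IsField ↥K :=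
    { exists_pair_ne := ⟨0, 1, zero_ne_one⟩
      mul_comm := fun a b => Subtype.ext (hK.comm a.1 a.2 b.1 b.2)
      mul_inv_cancel := fun {a} ha => by
        obtain ⟨b, hb, hab⟩ := hK.inv a.1 a.2 (fun h => ha (Subtype.ext h))
        exact ⟨⟨b, hb⟩, Subtype.ext hab⟩ }
  letI : Field ↥K := hF.toField
  haveI : Finite ↥K := Finite.of_injective (fun a : ↥K => a.1) Subtype.val_injective
  have key := aut_eq_one_of_pow (F := F) (L := ↥K) k hk hK.finrank_eq r hr hrk
    (conjAut K ⟨y, hy⟩) (by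
      rw [← map_pow]
      exact (conjAut_eq_one_iff K _).mpr hyr)
  exact (conjAut_eq_one_iff K ⟨y, hy⟩).mp key

end Cfsg.Agent.Helper81.FExtK3
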