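import Mathlib
import Cfsg.Agent.Helper13.Sp4O.Defs

/-!
# (TCONJE) of helper13's S2281 (n = 2, q odd): `T2S * MeS a b z * T2S⁻¹ = MeS a (b - 2a) z`.
-/

set_option autoImplicit false

namespace Cfsg.Agent.Helper81.Sp4O

open Matrix Cfsg.Agent.Helper13.Sp4O

variable {F : Type*} [Field F]

/-- (TCONJE) -/
theorem T2S_conj_MeS (a b z : F) : T2S * MeS a b z * T2S⁻¹ = MeS a (b - 2 * a) z := by
  rw [mul_inv_eq_iff_eq_mul]
  apply Subtype.ext
  show (T2 : M4 F) * Me a b z = Me a (b - 2 * a) z * T2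
  apply mat_ext4
  all_goals
    rw [← Matrix.mulVec_mulVec, ← Matrix.mulVec_mulVec]
    simp only [Me_mulVec, T2_mulVec]
    apply vec_ext <;> simp [B_apply] <;> ring

end Cfsg.Agent.Helper81.Sp4O
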