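import Mathlib
import Cfsg.Prelude.Def_Blocks
import Cfsg.Prelude.Def_CaseTheorems
import Cfsg.Prelude.Def_Transfer

/-!
# S4840 (Gagola characters of solvable groups): interface

`GagolaData G p N` records the group-theoretic output of the character-theoretic part:
`N` is the unique minimal normal subgroup, an elementary abelian `p`-group whose non-identity
elements form one conjugacy class and have `p`-groups as centralizers.

`LinConcl p Γ` is the conclusion wanted for `Γ = G ⧸ O_p(G)`.
-/

set_option autoImplicit false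

namespace Cfsg.Agent.Helper81.GA

universe u

/-- Output of the character-theoretic part of S4840. -/
structure GagolaData (G : Type u) [Group G] (p : ℕ) (N : Subgroup G) : Prop where
  prime : p.Prime
  normal : N.Normal
  ne_bot : N ≠ ⊥
  comm : ∀ a ∈ N, ∀ b ∈ N, a * b = b * a
  exp : ∀ a ∈ N, a ^ p = 1
  unique_min : ∀ M : Subgroup G, M.Normal → M ≠ ⊥ → N ≤ M
  conj : ∀ x ∈ N, ∀ y ∈ N, x ≠ 1 → y ≠ 1 → IsConj x y
  cent : ∀ x ∈ N, x ≠ 1 → IsPGroup p (Subgroup.centralizer ({x} : Set G))

/-- The conclusion about `Γ = G ⧸ O_p(G)`. -/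
def LinConcl (p : ℕ) (Γ : Type u) [Group Γ] : Prop :=
  Cfsg.HasNormalPComplement p Γ ∧ ∀ Q : Sylow p Γ, IsMulCommutative (Q : Subgroup Γ)

end Cfsg.Agent.Helper81.GA
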