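import Mathlib
import Cfsg.Agent.Helper15.MixDefs

/-! Piece (H1) of helper15's S4017 (WANTED #5926): a `p`-element normalizing but not centralizing a group of order
`p + 1` is transitive on its non-identity elements. -/

set_option autoImplicit false
set_option linter.style.haveILetI false

namespace Cfsg.Agent.Helper81.Mix

open Subgroup Cfsg.Agent.Helper15.Mix

variable {G : Type*} [Group G] [Finite G] {p a : ℕ} {Q : Subgroup G} {x : G}

/-- (H1) -/
theorem trans_of_pelt (hp : p.Prime) (Q : Subgroup G) (hQ : Nat.card Q = p + 1) {g : G}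
    (hg : g ∈ normalizer (Q : Set G)) (hgp : IsPElt p g) (hgc : g ∉ centralizer (Q : Set G)) :
    ∀ u ∈ Q, ∀ v ∈ Q, u ≠ 1 → v ≠ 1 → ∃ k : ℕ, g ^ k * u * (g ^ k)⁻¹ = v := by
  classical
  haveI : Fact p.Prime := ⟨hp⟩
  obtain ⟨j, hj⟩ := hgp
  haveI : Finite (ConjAct G) := Finite.of_equiv G (ConjAct.toConjAct (G := G)).toEquiv
  -- the cyclic group generated by conjugation by `g`
  set c : ConjAct G := ConjAct.toConjAct g with hc
  set Z : Subgroup (ConjAct G) := zpowers c with hZ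
  have hordc : orderOf c = p ^ j := by
    rw [hc, ← hj]
    exact MulEquiv.orderOf_eq (ConjAct.toConjAct (G := G)) g
  have hZp : IsPGroup p Z := by
    apply IsPGroup.of_card (n := j)
    rw [hZ, Nat.card_zpowers, hordc]
  -- elements of `Z` act as conjugation by natural powers of `g`
  have hZact : ∀ z : Z, ∃ k : ℕ, ∀ w : G, z • w = g ^ k * w * (g ^ k)⁻¹ := by
    intro z
    have hz : (z : ConjAct G) ∈ zpowers c := z.2
    rw [← mem_powers_iff_mem_zpowers] at hz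
    obtain ⟨k, hk⟩ := hz
    refine ⟨k, fun w => ?_⟩
    show (z : ConjAct G) • w = _
    have hk' : c ^ k = (z : ConjAct G) := hk
    rw [← hk', ConjAct.smul_def, hc, ← map_pow, ConjAct.ofConjAct_toConjAct]
  -- conjugation preserves `Q \ {1}`
  have hconjQ : ∀ k : ℕ, ∀ w ∈ Q, g ^ k * w * (g ^ k)⁻¹ ∈ Q := by
    intro k w hw
    have hgk : g ^ k ∈ normalizer (Q : Set G) := Subgroup.pow_mem _ hg k
    exact (mem_normalizer_iff.mp hgk w).mp hw
  -- a moved point
  obtain ⟨u₀, hu₀Q, hu₀⟩ : ∃ u₀ ∈ Q, g * u₀ * g⁻¹ ≠ u₀ := by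
    by_contra hcon
    push Not at hcon
    apply hgc
    rw [mem_centralizer_iff]
    intro w hw
    have := hcon w hw
    calc w * g = (g * w * g⁻¹) * g := by rw [this]
      _ = g * w := by simp [mul_assoc]
  have hu₀1 : u₀ ≠ 1 := by
    rintro rfl
    exact hu₀ (by simp)
  -- the orbit of `u₀`
  set O : Set G := MulAction.orbit Z u₀ with hO
  have hOsub : O ⊆ {w : G | w ∈ Q ∧ w ≠ 1} := by
    rintro w ⟨z, rfl⟩
    obtain ⟨k, hk⟩ := hZact z
    refine ⟨?_, ?_⟩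
    · show z • u₀ ∈ Q
      rw [hk]; exact hconjQ k u₀ hu₀Q
    · show z • u₀ ≠ 1
      rw [hk]
      intro h1
      apply hu₀1
      have : u₀ = (g ^ k)⁻¹ * (g ^ k * u₀ * (g ^ k)⁻¹) * (g ^ k) := by group
      rw [this, h1]; simp
  have hX : ({w : G | w ∈ Q ∧ w ≠ 1} : Set G).ncard = p := by
    have h1 : ({w : G | w ∈ Q ∧ w ≠ 1} : Set G) = (Q : Set G) \ {1} := by
      ext w; simp
    rw [h1, Set.ncard_sdiff (by simp)]
    have : (Q : Set G).ncard = p + 1 := by rw [← hQ]; rfl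
    rw [this, Set.ncard_singleton]; omega
  obtain ⟨n, hn⟩ := hZp.card_orbit u₀
  have hOcard : O.ncard = p ^ n := by rw [← hn]; rfl
  have hn0 : n ≠ 0 := by
    rintro rfl
    rw [pow_zero, Set.ncard_eq_one] at hOcard
    obtain ⟨w, hw⟩ := hOcard
    have h1 : u₀ ∈ O := MulAction.mem_orbit_self u₀
    have h2 : g * u₀ * g⁻¹ ∈ O := by
      refine ⟨⟨c, mem_zpowers c⟩, ?_⟩
      show c • u₀ = _
      rw [ConjAct.smul_def, hc, ConjAct.ofConjAct_toConjAct]
    rw [hw, Set.mem_singleton_iff] at h1 h2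
    exact hu₀ (h2.trans h1.symm)
  have hOeq : O = {w : G | w ∈ Q ∧ w ≠ 1} := by
    apply Set.eq_of_subset_of_ncard_le hOsub _ (Set.toFinite _)
    rw [hX, hOcard]
    calc p = p ^ 1 := (pow_one p).symm
      _ ≤ p ^ n := Nat.pow_le_pow_right hp.pos (by omega)
  intro u hu v hv hu1 hv1
  have huO : u ∈ O := by rw [hOeq]; exact ⟨hu, hu1⟩
  have hvO : v ∈ O := by rw [hOeq]; exact ⟨hv, hv1⟩
  obtain ⟨z₁, hz₁⟩ := huO
  obtain ⟨z₂, hz₂⟩ := hvO
  obtain ⟨k, hk⟩ := hZact (z₂ * z₁⁻¹)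
  refine ⟨k, ?_⟩
  rw [← hk u]
  have hz₁' : z₁ • u₀ = u := hz₁
  have hz₂' : z₂ • u₀ = v := hz₂
  rw [← hz₁', ← hz₂', mul_smul, inv_smul_smul]

end Cfsg.Agent.Helper81.Mix
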