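import Mathlib
import Cfsg.Agent.S0071
import Cfsg.Agent.Helper22.Sup

/-! Piece (PA) of helper15's S4017 (WANTED #5926): if every proper subgroup of order divisible by `q` which is not a
`q`-group has order divisible by `p`, and `p > q^a - 1` (`q^a = |G|_q`), then `|G|` is a `{p, q}`-number.
Frobenius' normal `p`-complement theorem (S0071) + Frattini. -/

set_option autoImplicit false
set_option linter.style.haveILetI false
set_option linter.unusedSectionVars false

namespace Cfsg.Agent.Helper81.Mix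

open Subgroup

section

variable {G : Type*} [Group G] [Finite G]

/-- a `p`-element normalizing but not centralizing `Q₁` forces `p + 1 ≤ |Q₁|`. -/
theorem succ_le_card_of_pelt {p : ℕ} (hp : p.Prime) (Q₁ : Subgroup G) {g : G} {j : ℕ}
    (hg : g ∈ normalizer (Q₁ : Set G)) (hgp : orderOf g = p ^ j) (hgc : g ∉ centralizer (Q₁ : Set G)) :
    p + 1 ≤ Nat.card Q₁ := by
  classical
  haveI : Fact p.Prime := ⟨hp⟩
  haveI : Finite (ConjAct G) := Finite.of_equiv G (ConjAct.toConjAct (G := G)).toEquiv
  set c : ConjAct G := ConjAct.toConjAct g with hc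
  set Z : Subgroup (ConjAct G) := zpowers c with hZ
  have hordc : orderOf c = p ^ j := by
    rw [hc, ← hgp]
    exact MulEquiv.orderOf_eq (ConjAct.toConjAct (G := G)) g
  have hZp : IsPGroup p Z := by
    apply IsPGroup.of_card (n := j)
    rw [hZ, Nat.card_zpowers, hordc]
  have hZact : ∀ z : Z, ∃ k : ℕ, ∀ w : G, z • w = g ^ k * w * (g ^ k)⁻¹ := by
    intro z
    have hz : (z : ConjAct G) ∈ zpowers c := z.2
    rw [← mem_powers_iff_mem_zpowers] at hz
    obtain ⟨k, hk⟩ := hz
    refine ⟨k, fun w => ?_⟩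
    show (z : ConjAct G) • w = _
    have hk' : c ^ k = (z : ConjAct G) := hk
    rw [← hk', ConjAct.smul_def, hc, ← map_pow, ConjAct.ofConjAct_toConjAct]
  have hconjQ : ∀ k : ℕ, ∀ w ∈ Q₁, g ^ k * w * (g ^ k)⁻¹ ∈ Q₁ := by
    intro k w hw
    have hgk : g ^ k ∈ normalizer (Q₁ : Set G) := Subgroup.pow_mem _ hg k
    exact (mem_normalizer_iff.mp hgk w).mp hw
  obtain ⟨u₀, hu₀Q, hu₀⟩ : ∃ u₀ ∈ Q₁, g * u₀ * g⁻¹ ≠ u₀ := by
    by_contra hcon
    push Not at hcon
    apply hgc
    rw [mem_centralizer_iff]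
    intro w hw
    have := hcon w hw
    calc w * g = (g * w * g⁻¹) * g := by rw [this]
      _ = g * w := by simp [mul_assoc]
  have hu₀1 : u₀ ≠ 1 := by
    rintro rfl
    exact hu₀ (by simp)
  set O : Set G := MulAction.orbit Z u₀ with hO
  have hOsub : O ⊆ (Q₁ : Set G) \ {1} := by
    rintro w ⟨z, rfl⟩
    obtain ⟨k, hk⟩ := hZact z
    refine ⟨?_, ?_⟩
    · show z • u₀ ∈ Q₁
      rw [hk]; exact hconjQ k u₀ hu₀Q
    · show z • u₀ ∉ ({1} : Set G)
      rw [hk, Set.mem_singleton_iff]
      intro h1
      apply hu₀1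
      have : u₀ = (g ^ k)⁻¹ * (g ^ k * u₀ * (g ^ k)⁻¹) * (g ^ k) := by group
      rw [this, h1]; simp
  have hX : ((Q₁ : Set G) \ {1}).ncard = Nat.card Q₁ - 1 := by
    rw [Set.ncard_sdiff (by simp), Set.ncard_singleton]
    rfl
  obtain ⟨n, hn⟩ := hZp.card_orbit u₀
  have hOcard : O.ncard = p ^ n := by rw [← hn]; rfl
  have hn0 : n ≠ 0 := by
    rintro rfl
    rw [pow_zero, Set.ncard_eq_one] at hOcard
    obtain ⟨w, hw⟩ := hOcard
    have h1 : u₀ ∈ O := MulAction.mem_orbit_self u₀
    have h2 : g * u₀ * g⁻¹ ∈ O := by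
      refine ⟨⟨c, mem_zpowers c⟩, ?_⟩
      show c • u₀ = _
      rw [ConjAct.smul_def, hc, ConjAct.ofConjAct_toConjAct]
    rw [hw, Set.mem_singleton_iff] at h1 h2
    exact hu₀ (h2.trans h1.symm)
  have hle : O.ncard ≤ ((Q₁ : Set G) \ {1}).ncard := Set.ncard_le_ncard hOsub (Set.toFinite _)
  rw [hX, hOcard] at hle
  have hpn : p ≤ p ^ n := by
    calc p = p ^ 1 := (pow_one p).symm
      _ ≤ p ^ n := Nat.pow_le_pow_right hp.pos (by omega)
  have hpos : 0 < Nat.card Q₁ := Nat.card_pos
  omega

/-- a generator decomposition: if `g ^ m₁` and `g ^ m₂` lie in a subgroup and `m₁, m₂` are coprime, so does `g`. -/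
theorem mem_of_pow_mem_of_coprime (C : Subgroup G) {g : G} {m₁ m₂ : ℕ} (hcop : m₁.Coprime m₂)
    (h1 : g ^ m₁ ∈ C) (h2 : g ^ m₂ ∈ C) : g ∈ C := by
  have hb := Nat.gcd_eq_gcd_ab m₁ m₂
  rw [hcop.gcd_eq_one] at hb
  have : g = (g ^ m₁) ^ (Nat.gcdA m₁ m₂) * (g ^ m₂) ^ (Nat.gcdB m₁ m₂) := by
    rw [← zpow_natCast g m₁, ← zpow_natCast g m₂, ← zpow_mul, ← zpow_mul, ← zpow_add, ← hb]
    simp
  rw [this]
  exact C.mul_mem (C.zpow_mem h1 _) (C.zpow_mem h2 _)

end

/-- (PA) -/
theorem partA {G : Type*} [Group G] [Finite G] {p q : ℕ} (hp : p.Prime) (hq : q.Prime) (hpq : p ≠ q)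
    (hpG : p ∣ Nat.card G) (hqG : q ∣ Nat.card G)
    (hmix : ∀ H : Subgroup G, H ≠ ⊤ → ¬ IsPGroup q H → q ∣ Nat.card H → p ∣ Nat.card H)
    (hlarge : q ^ (Nat.card G).factorization q - 1 < p) :
    ∀ r : ℕ, r.Prime → r ∣ Nat.card G → r = p ∨ r = q := by
  intro r hr hrG
  by_contra hcon
  push Not at hcon
  obtain ⟨hrp, hrq⟩ := hcon
  haveI : Fact q.Prime := ⟨hq⟩
  haveI : Fact r.Prime := ⟨hr⟩
  -- (0)
  have h0 : ∀ H : Subgroup G, q ∣ Nat.card H → ¬ IsPGroup q H → ¬ p ∣ Nat.card H → False := by
    intro H h1 h2 h3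
    by_cases hH : H = ⊤
    · subst hH
      apply h3
      rwa [Subgroup.card_top]
    · exact h3 (hmix H hH h2 h1)
  set a := (Nat.card G).factorization q with ha
  obtain ⟨P⟩ : Nonempty (Sylow q G) := inferInstance
  have hPcard : Nat.card P = q ^ a := Sylow.card_eq_multiplicity P
  -- (1) the Frobenius condition
  have hfrob : ∀ n : ℕ, ∀ Q₁ : Subgroup G, Q₁ ≤ (P : Subgroup G) → ∀ g ∈ normalizer (Q₁ : Set G),
      orderOf g = n → Nat.Coprime (orderOf g) q → g ∈ centralizer (Q₁ : Set G) := by
    intro n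
    induction n using Nat.strong_induction_on with
    | _ n ih =>
      intro Q₁ hQ₁P g hgN hgn hgq
      have hnpos : 0 < n := by rw [← hgn]; exact orderOf_pos g
      by_cases hn1 : n = 1
      · have : g = 1 := by rw [← orderOf_eq_one_iff, hgn, hn1]
        rw [this]; exact Subgroup.one_mem _
      set s := n.minFac with hs
      have hsprime : s.Prime := Nat.minFac_prime hn1
      have hsn : s ∣ n := Nat.minFac_dvd n
      have hprod : ordProj[s] n * ordCompl[s] n = n := Nat.ordProj_mul_ordCompl_eq_self n s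
      have hk1 : 1 ≤ n.factorization s := (hsprime.dvd_iff_one_le_factorization hnpos.ne').mp hsn
      have hm1 : 1 < ordProj[s] n := Nat.one_lt_pow (by omega) hsprime.one_lt
      by_cases hm : ordCompl[s] n = 1
      · -- prime power case
        rw [hm, mul_one] at hprod
        by_contra hgc
        have hsq : s ≠ q := by
          rintro rfl
          rw [hgn] at hgq
          exact (Nat.Prime.coprime_iff_not_dvd hsprime).mp hgq.symm hsn
        have hQ₁ne : Q₁ ≠ ⊥ := by
          rintro rfl
          apply hgc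
          rw [mem_centralizer_iff]
          intro h hh
          have : h = 1 := by simpa using hh
          rw [this]; simp
        have hQ₁q : IsPGroup q Q₁ := P.isPGroup'.to_le hQ₁P
        by_cases hsp : s = p
        · -- orbit argument
          have h1 := succ_le_card_of_pelt hp Q₁ hgN (by rw [hgn, ← hprod, hsp]) hgc
          have h2 : Nat.card Q₁ ≤ q ^ a := by
            rw [← hPcard]; exact Subgroup.card_le_of_le hQ₁P
          omega
        · -- the subgroup `⟨g⟩ Q₁`
          have hzle : zpowers g ≤ normalizer (Q₁ : Set G) := by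
            rw [zpowers_le]; exact hgN
          set H := zpowers g ⊔ Q₁ with hH
          have hqH : q ∣ Nat.card H := by
            have h1 : q ∣ Nat.card Q₁ := by
              obtain ⟨k, hk⟩ := (IsPGroup.iff_card.mp hQ₁q)
              rw [hk]
              have : k ≠ 0 := by
                rintro rfl
                rw [pow_zero] at hk
                exact hQ₁ne (Subgroup.card_eq_one.mp hk)
              exact dvd_pow_self q this
            exact h1.trans (Subgroup.card_dvd_of_le le_sup_right)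
          have hnq : ¬ IsPGroup q H := by
            intro hHq
            obtain ⟨k, hk⟩ := hHq ⟨g, (le_sup_left : zpowers g ≤ H) (mem_zpowers g)⟩
            have hk' : g ^ q ^ k = 1 := by
              have := congrArg Subtype.val hk
              simpa using this
            have hdvd : orderOf g ∣ q ^ k := orderOf_dvd_of_pow_eq_one hk'
            rw [hgn] at hdvd
            have : s ∣ q ^ k := hsn.trans hdvd
            exact hsq ((Nat.prime_dvd_prime_iff_eq hsprime hq).mp (hsprime.dvd_of_dvd_pow this))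
          have hpH : ¬ p ∣ Nat.card H := by
            apply Cfsg.Agent.Helper22.not_dvd_card_sup_of_le_normalizer p hp (zpowers g) Q₁ hzle
            · rw [Nat.card_zpowers, hgn, ← hprod]
              intro h
              exact hsp ((Nat.prime_dvd_prime_iff_eq hp hsprime).mp (hp.dvd_of_dvd_pow h)).symm
            · obtain ⟨k, hk⟩ := (IsPGroup.iff_card.mp hQ₁q)
              rw [hk]
              intro h
              exact hpq ((Nat.prime_dvd_prime_iff_eq hp hq).mp (hp.dvd_of_dvd_pow h))
          exact h0 H hqH hnq hpH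
      · -- composite case: split
        set m₁ := ordProj[s] n with hm₁
        set m₂ := ordCompl[s] n with hm₂
        have hm₂pos : 0 < m₂ := Nat.ordCompl_pos s hnpos.ne'
        have hm₂1 : 1 < m₂ := by omega
        have hcop : m₁.Coprime m₂ := by
          rw [hm₁]
          exact Nat.Coprime.pow_left _ (Nat.coprime_ordCompl hsprime hnpos.ne')
        have ho1 : orderOf (g ^ m₁) = m₂ := by
          rw [orderOf_pow' g (by omega : m₁ ≠ 0), hgn]
          have : Nat.gcd n m₁ = m₁ := Nat.gcd_eq_right (Dvd.intro _ hprod)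
          rw [this]
        have ho2 : orderOf (g ^ m₂) = m₁ := by
          rw [orderOf_pow' g (by omega : m₂ ≠ 0), hgn]
          have : Nat.gcd n m₂ = m₂ := Nat.gcd_eq_right (Dvd.intro_left _ hprod)
          rw [this]
          exact Nat.div_eq_of_eq_mul_left (by omega) hprod.symm
        have hlt1 : m₂ < n := by
          rw [← hprod]; nlinarith
        have hlt2 : m₁ < n := by
          rw [← hprod]; nlinarith
        have hc1 : g ^ m₁ ∈ centralizer (Q₁ : Set G) := by
          apply ih m₂ hlt1 Q₁ hQ₁P (g ^ m₁) (Subgroup.pow_mem _ hgN _) ho1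
          rw [ho1]
          rw [hgn] at hgq
          exact Nat.Coprime.coprime_dvd_left (Dvd.intro_left _ hprod) hgq
        have hc2 : g ^ m₂ ∈ centralizer (Q₁ : Set G) := by
          apply ih m₁ hlt2 Q₁ hQ₁P (g ^ m₂) (Subgroup.pow_mem _ hgN _) ho2
          rw [ho2]
          rw [hgn] at hgq
          exact Nat.Coprime.coprime_dvd_left (Dvd.intro _ hprod) hgq
        exact mem_of_pow_mem_of_coprime _ hcop hc1 hc2
  -- (2) the normal complement
  obtain ⟨K, hKn, hKc⟩ := (Cfsg.Agent.S0071.result P).mpr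
    (fun Q₁ hQ₁ g hg hgq => hfrob _ Q₁ hQ₁ g hg rfl hgq)
  haveI := hKn
  have hcardKP : Nat.card K * Nat.card P = Nat.card G := hKc.card_mul_card
  have hapos : a ≠ 0 := by
    have := (hq.dvd_iff_one_le_factorization Nat.card_pos.ne').mp hqG
    omega
  have hqK : ¬ q ∣ Nat.card K := by
    intro h
    have h1 : q ^ (a + 1) ∣ Nat.card G := by
      rw [← hcardKP, hPcard, pow_succ, mul_comm]
      exact Nat.mul_dvd_mul_right h _
    exact Nat.pow_succ_factorization_not_dvd Nat.card_pos.ne' hq h1
  have hrK : r ∣ Nat.card K := by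
    rw [← hcardKP, hPcard] at hrG
    rcases (Nat.Prime.dvd_mul hr).mp hrG with h | h
    · exact h
    · exact absurd ((Nat.prime_dvd_prime_iff_eq hr hq).mp (hr.dvd_of_dvd_pow h)) hrq
  obtain ⟨R⟩ : Nonempty (Sylow r K) := inferInstance
  set R' : Subgroup G := (R : Subgroup K).map K.subtype with hR'
  have hR'card : Nat.card R' = Nat.card R := Subgroup.card_map_of_injective K.subtype_injective
  have hrR' : r ∣ Nat.card R' := by
    rw [hR'card]; exact R.dvd_card_of_dvd_card hrK
  have hR'r : IsPGroup r R' := R.isPGroup'.map K.subtype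
  have hfrat : normalizer (R' : Set G) ⊔ K = ⊤ := Sylow.normalizer_sup_eq_top R
  set N := normalizer (R' : Set G) with hN
  have hqN : q ∣ Nat.card N := by
    have h1 : K.relIndex N = K.index := by
      rw [← Subgroup.relIndex_sup_right N K, hfrat, Subgroup.relIndex_top_right]
    have h2 : K.index = q ^ a := by
      have h3 := K.card_mul_index
      rw [← hcardKP, hPcard] at h3
      exact Nat.eq_of_mul_eq_mul_left Nat.card_pos h3
    have h4 : K.relIndex N ∣ Nat.card N := Subgroup.relIndex_dvd_card K N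
    rw [h1, h2] at h4
    exact (dvd_pow_self q hapos).trans h4
  obtain ⟨y', hy'⟩ := exists_prime_orderOf_dvd_card' (G := N) q hqN
  set y : G := (y' : G) with hy
  have hyord : orderOf y = q := by rw [hy, Subgroup.orderOf_coe, hy']
  have hzle : zpowers y ≤ normalizer (R' : Set G) := by
    rw [zpowers_le]; exact y'.2
  set H := zpowers y ⊔ R' with hH
  have hqH : q ∣ Nat.card H := by
    have h1 : Nat.card (zpowers y) = q := by rw [Nat.card_zpowers, hyord]
    have := Subgroup.card_dvd_of_le (le_sup_left : zpowers y ≤ H)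
    rwa [h1] at this
  have hnq : ¬ IsPGroup q H := by
    intro hHq
    obtain ⟨z', hz'⟩ := exists_prime_orderOf_dvd_card' (G := R') r hrR'
    have hzH : (z' : G) ∈ H := (le_sup_right : R' ≤ H) z'.2
    obtain ⟨k, hk⟩ := hHq ⟨(z' : G), hzH⟩
    have hk' : (z' : G) ^ q ^ k = 1 := by
      have := congrArg Subtype.val hk
      simpa using this
    have hdvd : orderOf (z' : G) ∣ q ^ k := orderOf_dvd_of_pow_eq_one hk'
    rw [Subgroup.orderOf_coe, hz'] at hdvd
    exact hrq ((Nat.prime_dvd_prime_iff_eq hr hq).mp (hr.dvd_of_dvd_pow hdvd))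
  have hpH : ¬ p ∣ Nat.card H := by
    apply Cfsg.Agent.Helper22.not_dvd_card_sup_of_le_normalizer p hp (zpowers y) R' hzle
    · rw [Nat.card_zpowers, hyord]
      intro h
      exact hpq ((Nat.prime_dvd_prime_iff_eq hp hq).mp h)
    · obtain ⟨k, hk⟩ := (IsPGroup.iff_card.mp hR'r)
      rw [hk]
      intro h
      exact hrp ((Nat.prime_dvd_prime_iff_eq hp hr).mp (hp.dvd_of_dvd_pow h)).symm
  exact h0 H hqH hnq hpH

end Cfsg.Agent.Helper81.Mix
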