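import Cfsg.Agent.Helper57.BH.Defs

/-!
# (C1) of helper57's S4503: a non-exceptional character of the principal block is constant on
`p`-singular elements.
-/

set_option autoImplicit false
set_option linter.style.haveILetI false
set_option linter.unusedVariables false
set_option linter.unusedSectionVars false

namespace Cfsg.Agent.Helper81.BH

open Cfsg Cfsg.Agent.Helper16 Cfsg.Agent.Helper16.DefOne Cfsg.Agent.Helper82.DefOne
  Cfsg.Agent.Helper77.DefOne Cfsg.Agent.Helper57.BH
open scoped ComplexConjugate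

universe u

variable {G : Type u} [Group G] [Fintype G] {p : ℕ} [Fact p.Prime] (P : Sylow p G)

/-- a `p`-singular element is conjugate to a (`p`-singular) element of `C_G(P)`. -/
theorem exists_conj_mem_cen (hP : Nat.card P = p) (g : G) (hg : p ∣ orderOf g) :
    ∃ (x : G) (c : cen P), (c : G) = x * g * x⁻¹ ∧ p ∣ orderOf c := by
  obtain ⟨Q, hQ⟩ := Helper70.DefOneXG.exists_sylow_centralizer P hP hg
  obtain ⟨x, hx⟩ := MulAction.exists_smul_eq G Q P
  have hmem : x * g * x⁻¹ ∈ cen P := by
    rw [Subgroup.mem_centralizer_iff]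
    intro y hy
    have hy' : y ∈ ((x • Q : Sylow p G) : Subgroup G) := by rw [hx]; exact hy
    rw [Sylow.coe_subgroup_smul, Subgroup.mem_smul_pointwise_iff_exists] at hy'
    obtain ⟨q, hq, rfl⟩ := hy'
    have hcomm := (Subgroup.mem_centralizer_iff.mp hQ) q hq
    simp only [MulAut.smul_def, MulAut.conj_apply]
    calc x * q * x⁻¹ * (x * g * x⁻¹) = x * (q * g) * x⁻¹ := by group
      _ = x * (g * q) * x⁻¹ := by rw [hcomm]
      _ = x * g * x⁻¹ * (x * q * x⁻¹) := by group
  refine ⟨x, ⟨x * g * x⁻¹, hmem⟩, rfl, ?_⟩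
  rw [Subgroup.orderOf_mk]
  have : orderOf (x * g * x⁻¹) = orderOf g := by
    have h := (SemiconjBy.conj_mk x g).orderOf_eq
    exact h.symm
  rw [this]
  exact hg

/-- (C1) a non-exceptional character of the principal block is constant on `p`-singular
elements -/
theorem apply_singular_X0 (hP : Nat.card P = p) {X Y : Set (IrrCharacter G)}
    {ε : IrrCharacter G → ℤ} {δ : ℤ} (D : IsRData P (oneIrr P) X Y ε δ)
    (χ : IrrCharacter G) (hχ : χ ∈ X) (g : G) (hg : p ∣ orderOf g) :
    (χ : G → ℂ) g = (ε χ : ℂ) := by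
  obtain ⟨x, c, hc, hcp⟩ := exists_conj_mem_cen P hP g hg
  have h1 := D.valX χ hχ c hcp
  rw [orbit_oneIrr, finsum_mem_singleton] at h1
  have h2 : (χ : G → ℂ) (c : G) = (χ : G → ℂ) g := by
    rw [hc]
    exact Helper79.irr_isClassFunction χ g x
  rw [← h2, h1]
  show (ε χ : ℂ) * 1 = _
  rw [mul_one]

end Cfsg.Agent.Helper81.BH
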