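import Cfsg.Agent.Helper57.BH.Defs
import Cfsg.Agent.Helper81.BHC1

/-!
# (C2) of helper57's S4503: the exceptional characters of the principal block sum to `-δ` on
`p`-singular elements.
-/

set_option autoImplicit false
set_option linter.style.haveILetI false
set_option linter.unusedVariables false
set_option linter.unusedSectionVars false

namespace Cfsg.Agent.Helper81.BH

open Cfsg Cfsg.Agent.Helper16 Cfsg.Agent.Helper16.DefOne Cfsg.Agent.Helper82.DefOne
  Cfsg.Agent.Helper77.DefOne Cfsg.Agent.Helper57.BH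
open scoped ComplexConjugate

universe u

variable {G : Type u} [Group G] [Fintype G] {p : ℕ} [Fact p.Prime] (P : Sylow p G)

open Classical in
/-- the rows of an exceptional character of the principal block vanish off `Z1`. -/
theorem rowZ_eq_zero_of_not_mem_Z1 (hP : Nat.card P = p)
    [((P : Subgroup G).subgroupOf (nor P)).Normal] (hmod : ModCount p P)
    {X Y : Set (IrrCharacter G)} {ε : IrrCharacter G → ℤ} {δ : ℤ}
    (D : IsRData P (oneIrr P) X Y ε δ) (ψ : IrrCharacter G) (hψ : ψ ∈ X ∪ Y)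
    (φ : IrrCharacter (cen P)) (hφ : φ ∉ Z1 P) : rowZ P ψ φ = 0 := by
  by_cases h1 : IsCanon P φ
  · unfold rowZ
    rw [can_eq_self P hP φ h1, sub_self]
  · have h2 : can P φ ≠ oneIrr P := fun h => hφ ⟨h, h1⟩
    by_contra hne
    have hR1 : ψ ∈ Rset P (can P φ) := ⟨φ, rfl, hne⟩
    have hR2 : ψ ∈ Rset P (oneIrr P) := by rw [D.union]; exact hψ
    have hdis := Rset_disjoint P hP hmod (oneIrr P) (can P φ) (isCanon_oneIrr P)
      (isCanon_can P hP φ) (by
        rintro ⟨n, hn⟩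
        rw [smul_oneIrr] at hn
        exact h2 hn.symm)
    exact Set.disjoint_left.mp hdis hR2 hR1

open Classical in
/-- the sum over `Z1` of the values at a `p`-singular element of `C` is `-1`. -/
theorem finsum_Z1_apply_singular (hP : Nat.card P = p) (c : cen P) (hc : p ∣ orderOf c) :
    ∑ᶠ φ ∈ Z1 P, (φ : cen P → ℂ) c = -1 := by
  haveI : Finite (IrrCharacter (cen P)) := Helper79.irr_finite'
  haveI : Fintype (IrrCharacter (cen P)) := Fintype.ofFinite _
  have hfib := finsum_fibre_apply_singular P hP (oneIrr P) (isCanon_oneIrr P) c hc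
  have hsplit : {φ : IrrCharacter (cen P) | can P φ = oneIrr P} = Z1 P ∪ {oneIrr P} := by
    ext φ
    simp only [Set.mem_ofPred_eq, Set.mem_union, Set.mem_singleton_iff]
    constructor
    · intro h
      by_cases h1 : IsCanon P φ
      · right
        rw [← h, can_eq_self P hP φ h1]
      · left
        exact ⟨h, h1⟩
    · rintro (h | h)
      · exact h.1
      · rw [h]
        exact can_eq_self P hP _ (isCanon_oneIrr P)
  have hdisj : Disjoint (Z1 P) ({oneIrr P} : Set (IrrCharacter (cen P))) := by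
    rw [Set.disjoint_singleton_right]
    intro h
    exact h.2 (isCanon_oneIrr P)
  rw [hsplit, finsum_mem_union hdisj (Set.toFinite _) (Set.toFinite _), finsum_mem_singleton] at hfib
  have h1 : ((oneIrr P : IrrCharacter (cen P)) : cen P → ℂ) c = 1 := rfl
  rw [h1] at hfib
  exact eq_neg_of_add_eq_zero_left hfib

open Classical in
/-- for `φ ∈ Z1` the rows of the exceptional characters at `φ` sum to `δ`. -/
theorem finsum_Y_rowZ (hP : Nat.card P = p) {X Y : Set (IrrCharacter G)}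
    {ε : IrrCharacter G → ℤ} {δ : ℤ} (D : IsRData P (oneIrr P) X Y ε δ)
    (φ : IrrCharacter (cen P)) (hφ : φ ∈ Z1 P) :
    ∑ᶠ ψ ∈ Y, (rowZ P ψ φ : ℂ) = (δ : ℂ) := by
  haveI : Finite (IrrCharacter G) := Helper79.irr_finite'
  obtain ⟨ψ₀, hψ₀, hne⟩ := D.exY φ hφ.1 hφ.2
  have hval : rowZ P ψ₀ φ = δ := by
    obtain ⟨φ₀, h1, h2, h3⟩ := D.rowY ψ₀ hψ₀
    have h4 := h3 φ hφ.1 hφ.2
    by_cases hn : ∃ n : nor P, n • φ = φ₀
    · rw [h4, if_pos hn]
    · rw [h4, if_neg hn] at hne
      exact absurd rfl hne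
  have hother : ∀ ψ ∈ Y, ψ ≠ ψ₀ → (rowZ P ψ φ : ℂ) = 0 := by
    intro ψ hψ hne'
    have : rowZ P ψ φ = 0 := by
      by_contra h
      exact hne' (D.uniqY ψ hψ ψ₀ hψ₀ φ hφ.1 hφ.2 h hne)
    rw [this, Int.cast_zero]
  have hsplit : Y = {ψ₀} ∪ (Y \ {ψ₀}) := by
    ext ψ
    simp only [Set.mem_union, Set.mem_singleton_iff, Set.mem_sdiff]
    constructor
    · intro h
      by_cases h1 : ψ = ψ₀
      · exact Or.inl h1
      · exact Or.inr ⟨h, h1⟩
    · rintro (h | h)
      · rw [h]; exact hψ₀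
      · exact h.1
  rw [hsplit, finsum_mem_union (by
      rw [Set.disjoint_singleton_left]
      intro h
      exact h.2 rfl) (Set.toFinite _) (Set.toFinite _), finsum_mem_singleton, hval]
  rw [finsum_mem_congr rfl (fun ψ hψ => hother ψ hψ.1 hψ.2), finsum_mem_zero, add_zero]

open Classical in
/-- (C2) on `C_G(P)` -/
theorem finsum_Y0_singular_cen (hP : Nat.card P = p)
    [((P : Subgroup G).subgroupOf (nor P)).Normal] (hmod : ModCount p P)
    {X Y : Set (IrrCharacter G)} {ε : IrrCharacter G → ℤ} {δ : ℤ}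
    (D : IsRData P (oneIrr P) X Y ε δ) (c : cen P) (hc : p ∣ orderOf c) :
    ∑ᶠ ψ ∈ Y, (ψ : G → ℂ) (c : G) = -(δ : ℂ) := by
  haveI : Finite (IrrCharacter G) := Helper79.irr_finite'
  haveI : Finite (IrrCharacter (cen P)) := Helper79.irr_finite'
  haveI : Fintype (IrrCharacter (cen P)) := Fintype.ofFinite _
  have hYfin : Y.Finite := Set.toFinite Y
  have hZfin : (Z1 P).Finite := Set.toFinite _
  -- values from the rows
  have h1 : ∀ ψ ∈ Y, (ψ : G → ℂ) (c : G) =
      ∑ φ ∈ hZfin.toFinset, (rowZ P ψ φ : ℂ) * (φ : cen P → ℂ) c := by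
    intro ψ hψ
    rw [apply_singular_eq P hP ψ c hc, finsum_eq_sum_of_fintype]
    symm
    apply Finset.sum_subset (Finset.subset_univ _)
    intro φ _ hφ
    have hφ' : φ ∉ Z1 P := fun h => hφ (hZfin.mem_toFinset.mpr h)
    rw [rowZ_eq_zero_of_not_mem_Z1 P hP hmod D ψ (Or.inr hψ) φ hφ', Int.cast_zero, zero_mul]
  rw [finsum_mem_congr rfl h1, finsum_mem_eq_finite_toFinset_sum _ hYfin, Finset.sum_comm]
  have h2 : ∀ φ ∈ hZfin.toFinset, ∑ ψ ∈ hYfin.toFinset, (rowZ P ψ φ : ℂ) * (φ : cen P → ℂ) c =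
      (δ : ℂ) * (φ : cen P → ℂ) c := by
    intro φ hφ
    rw [← Finset.sum_mul, ← finsum_mem_eq_finite_toFinset_sum _ hYfin,
      finsum_Y_rowZ P hP D φ (hZfin.mem_toFinset.mp hφ)]
  rw [Finset.sum_congr rfl h2, ← Finset.mul_sum, ← finsum_mem_eq_finite_toFinset_sum _ hZfin,
    finsum_Z1_apply_singular P hP c hc]
  ring

/-- (C2) the exceptional characters of the principal block sum to `-δ` on `p`-singular
elements -/
theorem finsum_Y0_singular (hP : Nat.card P = p)
    [((P : Subgroup G).subgroupOf (nor P)).Normal] (hmod : ModCount p P)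
    {X Y : Set (IrrCharacter G)} {ε : IrrCharacter G → ℤ} {δ : ℤ}
    (D : IsRData P (oneIrr P) X Y ε δ) (g : G) (hg : p ∣ orderOf g) :
    ∑ᶠ ψ ∈ Y, (ψ : G → ℂ) g = -(δ : ℂ) := by
  obtain ⟨x, c, hc, hcp⟩ := exists_conj_mem_cen P hP g hg
  have h2 : ∀ ψ : IrrCharacter G, (ψ : G → ℂ) g = (ψ : G → ℂ) (c : G) := by
    intro ψ
    rw [hc]
    exact (Helper79.irr_isClassFunction ψ g x).symm
  rw [finsum_mem_congr rfl (fun ψ _ => h2 ψ)]
  exact finsum_Y0_singular_cen P hP hmod D c hcp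

end Cfsg.Agent.Helper81.BH
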