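import Cfsg.Agent.Helper57.BH.Defs
import Cfsg.Agent.Helper81.BHC2
import Cfsg.Agent.Helper48.BHAC
import Cfsg.Agent.Helper48.BHAR

/-!
# (C4) of helper57's S4503: the `P`-sums of the characters of the principal block.
-/

set_option autoImplicit false
set_option linter.style.haveILetI false
set_option linter.unusedVariables false
set_option linter.unusedSectionVars false

namespace Cfsg.Agent.Helper81.BH

open Cfsg Cfsg.Agent.Helper16 Cfsg.Agent.Helper16.DefOne Cfsg.Agent.Helper82.DefOne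
  Cfsg.Agent.Helper77.DefOne Cfsg.Agent.Helper57.BH
open scoped ComplexConjugate

universe u

variable {G : Type u} [Group G] [Fintype G] {p : ℕ} [Fact p.Prime] (P : Sylow p G)

/-- `pSum` as a sum over the subtype. -/
theorem pSum_eq_sum (F : G → ℂ) [Fintype (P : Subgroup G)] :
    pSum P F = ∑ x : (P : Subgroup G), F (x : G) := by
  unfold pSum
  rw [← finsum_eq_sum_of_fintype]
  exact (finsum_set_coe_eq_finsum_mem (s := ((P : Subgroup G) : Set G)) (f := F)).symm

/-- a sum over `P` with a distinguished term at `1`. -/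
theorem sum_P_split [Fintype (P : Subgroup G)] (hP : Nat.card P = p) (F : G → ℂ) (v : ℂ)
    (h : ∀ x : G, x ∈ (P : Subgroup G) → x ≠ 1 → F x = v) :
    ∑ x : (P : Subgroup G), F (x : G) = F 1 + ((p : ℂ) - 1) * v := by
  classical
  have hp : p.Prime := Fact.out
  rw [← Finset.add_sum_erase Finset.univ _ (Finset.mem_univ (1 : (P : Subgroup G)))]
  congr 1
  rw [Finset.sum_congr rfl (g := fun _ => v)]
  · rw [Finset.sum_const, Finset.card_erase_of_mem (Finset.mem_univ _), Finset.card_univ,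
      ← Nat.card_eq_fintype_card, show Nat.card (P : Subgroup G) = p from hP, nsmul_eq_mul,
      Nat.cast_sub hp.one_le, Nat.cast_one]
  · intro x hx
    have hx1 : x ≠ 1 := Finset.ne_of_mem_erase hx
    exact h x x.2 (fun h1 => hx1 (Subtype.ext h1))

/-- (C4) the `P`-sum of a non-exceptional character of the principal block -/
theorem pSum_X0 (hP : Nat.card P = p) {X Y : Set (IrrCharacter G)}
    {ε : IrrCharacter G → ℤ} {δ : ℤ} (D : IsRData P (oneIrr P) X Y ε δ)
    (χ : IrrCharacter G) (hχ : χ ∈ X) :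
    pSum P (χ : G → ℂ) = (charDegree (χ : G → ℂ) : ℂ) + ((p : ℂ) - 1) * (ε χ : ℂ) := by
  haveI : Fintype (P : Subgroup G) := Fintype.ofFinite _
  rw [pSum_eq_sum, sum_P_split P hP (χ : G → ℂ) (ε χ : ℂ), irr_one_eq_natCast χ]
  intro x hx hx1
  apply apply_singular_X0 P hP D χ hχ x
  have := dvd_orderOf_of_mem P hP x hx hx1
  rwa [Subgroup.orderOf_mk] at this

/-- the sum over `P` of a non-canonical irreducible character of `C_G(P)` vanishes. -/
theorem sum_P_of_not_isCanon [Fintype (P : Subgroup G)] (hP : Nat.card P = p)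
    (φ : IrrCharacter (cen P)) (h : ¬ IsCanon P φ) :
    ∑ x : (P : Subgroup G), (φ : cen P → ℂ) ⟨(x : G), le_cen P hP x.2⟩ = 0 := by
  classical
  haveI : Fintype (cen P) := Fintype.ofFinite _
  unfold IsCanon at h
  push Not at h
  obtain ⟨y, hyP, hy⟩ := h
  have hyc : y ∈ Subgroup.center (cen P) := by
    rw [Subgroup.mem_center_iff]
    intro g
    apply Subtype.ext
    have := (Subgroup.mem_centralizer_iff.mp g.2) (y : G) hyP
    simpa using this.symm
  obtain ⟨cst, hcst⟩ := irr_central_mul φ hyc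
  have hc1 : cst ≠ 1 := by
    intro h1
    have := hcst 1
    rw [mul_one, h1, one_mul] at this
    exact hy this
  set S := ∑ x : (P : Subgroup G), (φ : cen P → ℂ) ⟨(x : G), le_cen P hP x.2⟩ with hS
  have hS2 : S = cst * S := by
    rw [hS, Finset.mul_sum, ← Equiv.sum_comp (Equiv.mulLeft (⟨(y : G), hyP⟩ : (P : Subgroup G)))]
    refine Finset.sum_congr rfl fun x _ => ?_
    rw [← hcst]
    rfl
  have : (1 - cst) * S = 0 := by linear_combination hS2
  rcases mul_eq_zero.mp this with h0 | h0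
  · exact absurd (by linear_combination -h0) hc1
  · exact h0

open Classical in
/-- (C4) the `P`-sum of an exceptional character of the principal block -/
theorem pSum_Y0 (hP : Nat.card P = p)
    [((P : Subgroup G).subgroupOf (nor P)).Normal] (hmod : ModCount p P)
    {X Y : Set (IrrCharacter G)} {ε : IrrCharacter G → ℤ} {δ : ℤ}
    (D : IsRData P (oneIrr P) X Y ε δ) (ψ : IrrCharacter G) (hψ : ψ ∈ Y) :
    pSum P (ψ : G → ℂ) =
      (charDegree (ψ : G → ℂ) : ℂ) - (δ : ℂ) * ((cen P).relIndex (nor P) : ℂ) := by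
  haveI : Fintype (P : Subgroup G) := Fintype.ofFinite _
  haveI : Fintype (cen P) := Fintype.ofFinite _
  haveI : Finite (IrrCharacter (cen P)) := Helper79.irr_finite'
  haveI : Fintype (IrrCharacter (cen P)) := Fintype.ofFinite _
  have hp : p.Prime := Fact.out
  obtain ⟨φ₀, h1, h2, hrow⟩ := D.rowY ψ hψ
  have hrows := Helper48.BH.rowZ_eq_of_mem_Y P hP hmod (oneIrr P) (isCanon_oneIrr P) D ψ hψ φ₀ h1 h2
    hrow
  set O : Set (IrrCharacter (cen P)) := MulAction.orbit (nor P) φ₀ with hO
  have hOfin : O.Finite := Set.toFinite O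
  have hcardO : hOfin.toFinset.card = (cen P).relIndex (nor P) := by
    rw [← Helper48.BH.card_orbit_of_not_isCanon P hP φ₀ h2, ← Set.ncard_eq_toFinset_card _ hOfin]
    exact (Nat.card_coe_set_eq _).symm
  have hOnc : ∀ φ ∈ O, ¬ IsCanon P φ := by
    rintro φ ⟨n, rfl⟩
    exact Helper48.BH.not_isCanon_smul P hP n φ₀ h2
  have hOone : ∀ φ ∈ O, (φ : cen P → ℂ) 1 = 1 := by
    rintro φ ⟨n, rfl⟩
    have h3 : can P (n • φ₀) = oneIrr P := by
      rw [can_smul P hP, h1, smul_oneIrr]
    have h4 := can_apply_regular P hP (n • φ₀) 1 (by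
      rw [orderOf_one]; exact hp.not_dvd_one)
    rw [h4, h3]
    rfl
  -- the values on `P`
  have hval : ∀ x : (P : Subgroup G), (ψ : G → ℂ) (x : G) =
      (if x = 1 then (ψ : G → ℂ) 1 - (δ : ℂ) * ((cen P).relIndex (nor P) : ℂ) else 0) +
        (δ : ℂ) * ∑ φ ∈ hOfin.toFinset, (φ : cen P → ℂ) ⟨(x : G), le_cen P hP x.2⟩ := by
    intro x
    by_cases hx : x = 1
    · subst hx
      rw [if_pos rfl]
      have : ∑ φ ∈ hOfin.toFinset, (φ : cen P → ℂ) ⟨((1 : (P : Subgroup G)) : G),
          le_cen P hP (1 : (P : Subgroup G)).2⟩ = ((cen P).relIndex (nor P) : ℂ) := by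
        rw [Finset.sum_congr rfl (g := fun _ => (1 : ℂ))]
        · rw [Finset.sum_const, hcardO, nsmul_eq_mul, mul_one]
        · intro φ hφ
          exact hOone φ (hOfin.mem_toFinset.mp hφ)
      rw [this]
      simp
    · rw [if_neg hx, zero_add]
      have hx1 : (x : G) ≠ 1 := fun h => hx (Subtype.ext h)
      have hc := dvd_orderOf_of_mem P hP (x : G) x.2 hx1
      have h3 : (ψ : G → ℂ) (x : G) = ∑ᶠ φ : IrrCharacter (cen P), (rowZ P ψ φ : ℂ) *
          (φ : cen P → ℂ) ⟨(x : G), le_cen P hP x.2⟩ :=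
        apply_singular_eq P hP ψ ⟨(x : G), le_cen P hP x.2⟩ hc
      rw [h3, finsum_eq_sum_of_fintype, Finset.mul_sum]
      symm
      rw [← Finset.sum_subset (Finset.subset_univ hOfin.toFinset)]
      · refine Finset.sum_congr rfl fun φ hφ => ?_
        rw [hrows φ, if_pos (hOfin.mem_toFinset.mp hφ)]
      · intro φ _ hφ
        have hφ' : φ ∉ O := fun h => hφ (hOfin.mem_toFinset.mpr h)
        rw [hrows φ, if_neg hφ', Int.cast_zero, zero_mul]
  rw [pSum_eq_sum, Finset.sum_congr rfl (fun x _ => hval x), Finset.sum_add_distrib,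
    Finset.sum_ite_eq' Finset.univ (1 : (P : Subgroup G)), if_pos (Finset.mem_univ _),
    ← Finset.mul_sum, Finset.sum_comm]
  rw [Finset.sum_congr rfl (g := fun _ => (0 : ℂ)) (fun φ hφ =>
    sum_P_of_not_isCanon P hP φ (hOnc φ (hOfin.mem_toFinset.mp hφ)))]
  rw [Finset.sum_const_zero, mul_zero, add_zero, irr_one_eq_natCast ψ]

end Cfsg.Agent.Helper81.BH
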