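import Cfsg.Agent.Helper57.BP.PartI

/-!
# (P09) of helper16's S4705: the `P`-fixed part of the restriction to `N = N_G(P)` of a character
is a character of `N`, and `p ξ(n) = ∑_{x ∈ P} χ(x n)`.
-/

set_option autoImplicit false
set_option linter.style.haveILetI false
set_option linter.unusedVariables false
set_option linter.unusedSectionVars false

namespace Cfsg.Agent.Helper81.B66

open Cfsg Cfsg.Agent.Helper16 Cfsg.Agent.Helper16.DefOne Cfsg.Agent.Helper82.DefOne
  Cfsg.Agent.Helper77.DefOne Cfsg.Agent.Helper57.BH Cfsg.Agent.Helper57.BP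
open scoped ComplexConjugate

universe u

/-- natural multiples of characters are characters -/
theorem isCharacter_nsmul_P09 {H : Type u} [Group H] {χ : H → ℂ} (hχ : IsCharacter H χ) (e : ℕ) :
    IsCharacter H (e • χ) := by
  induction e with
  | zero => simpa using Helper74.isCharacter_zero
  | succ e ih =>
    rw [succ_nsmul]
    exact Helper74.isCharacter_add ih hχ

/-- finite sums of characters are characters -/
theorem isCharacter_fsum_P09 {H : Type u} [Group H] {ι : Type*} (s : Finset ι) (f : ι → H → ℂ)
    (h : ∀ i ∈ s, IsCharacter H (f i)) : IsCharacter H (∑ i ∈ s, f i) := by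
  classical
  induction s using Finset.induction_on with
  | empty => simpa using Helper74.isCharacter_zero
  | insert a s ha ih =>
    rw [Finset.sum_insert ha]
    exact Helper74.isCharacter_add (h a (Finset.mem_insert_self a s))
      (ih fun i hi => h i (Finset.mem_insert_of_mem hi))

variable {G : Type u} [Group G] [Fintype G] {p : ℕ} [Fact p.Prime] (P : Sylow p G)

/-- (P09) the `P`-fixed part of the restriction to `N` of a character is a character of `N` -/
theorem exists_fixed_part (hP : Nat.card P = p) [((P : Subgroup G).subgroupOf (nor P)).Normal]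
    (χ : G → ℂ) (hχ : IsCharacter G χ) :
    ∃ ξ : nor P → ℂ, IsCharacter (nor P) ξ ∧
      ∀ n : nor P, (p : ℂ) * ξ n = ∑ᶠ x ∈ ((P : Subgroup G) : Set G), χ (x * (n : G)) := by
  classical
  haveI : Fintype (nor P) := Fintype.ofFinite _
  haveI : Finite (IrrCharacter (nor P)) := Helper79.irr_finite'
  haveI : Fintype (IrrCharacter (nor P)) := Fintype.ofFinite _
  haveI : Fintype ((P : Subgroup G).subgroupOf (nor P)) := Fintype.ofFinite _
  haveI : Fintype (P : Subgroup G) := Fintype.ofFinite _
  have hPN : (P : Subgroup G) ≤ nor P := by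
    rw [nor_eq_normalizer P hP]
    exact Subgroup.le_normalizer
  have hcardQ : Nat.card ((P : Subgroup G).subgroupOf (nor P)) = p :=
    (Nat.card_congr (Subgroup.subgroupOfEquivOfLe hPN).toEquiv).trans hP
  have hres : IsCharacter (nor P) (fun n : nor P => χ n) :=
    Helper74.isCharacter_restrict (nor P) hχ
  have hsum := Helper74.isCharacter_eq_sum_irr hres
  choose a ha using fun η : IrrCharacter (nor P) => Helper74.isCharacter_inner_irr_nat hres η
  let S : Finset (IrrCharacter (nor P)) := Finset.univ.filter
    (fun η => ∀ u ∈ (P : Subgroup G).subgroupOf (nor P), (η : nor P → ℂ) u = (η : nor P → ℂ) 1)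
  refine ⟨∑ η ∈ S, (a η) • (η : nor P → ℂ), ?_, ?_⟩
  · apply isCharacter_fsum_P09
    intro η _
    exact isCharacter_nsmul_P09 (Helper74.irr_isCharacter η) (a η)
  · intro n
    -- the right-hand side as a sum over `Q = P ∩ N`
    have h1 : ∑ᶠ x ∈ ((P : Subgroup G) : Set G), χ (x * (n : G)) =
        ∑ z : (P : Subgroup G).subgroupOf (nor P), χ (((z : nor P) : G) * (n : G)) := by
      have e := Equiv.sum_comp (Subgroup.subgroupOfEquivOfLe hPN).toEquiv
        (fun x : (P : Subgroup G) => χ ((x : G) * (n : G)))
      have e' : ∑ z : (P : Subgroup G).subgroupOf (nor P), χ (((z : nor P) : G) * (n : G)) =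
          ∑ x : (P : Subgroup G), χ ((x : G) * (n : G)) := e
      rw [e', ← finsum_eq_sum_of_fintype]
      exact (finsum_set_coe_eq_finsum_mem (s := ((P : Subgroup G) : Set G))
        (f := fun x => χ (x * (n : G)))).symm
    rw [h1]
    have h2 : ∀ z : (P : Subgroup G).subgroupOf (nor P), χ (((z : nor P) : G) * (n : G)) =
        ∑ η : IrrCharacter (nor P), (a η : ℂ) * (η : nor P → ℂ) ((z : nor P) * n) := by
      intro z
      have h := congrFun hsum ((z : nor P) * n)
      rw [Finset.sum_apply] at h
      have h' : χ (((z : nor P) : G) * (n : G)) =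
          ∑ η : IrrCharacter (nor P), (classInner (fun n : nor P => χ n) (η : nor P → ℂ) •
            (η : nor P → ℂ)) ((z : nor P) * n) := h
      rw [h']
      refine Finset.sum_congr rfl (fun η _ => ?_)
      rw [Pi.smul_apply, ha η, smul_eq_mul]
    rw [Finset.sum_congr rfl (fun z _ => h2 z), Finset.sum_comm]
    have h3 : ∀ η : IrrCharacter (nor P),
        ∑ z : (P : Subgroup G).subgroupOf (nor P), (a η : ℂ) * (η : nor P → ℂ) ((z : nor P) * n) =
          if η ∈ S then (p : ℂ) * ((a η : ℂ) * (η : nor P → ℂ) n) else 0 := by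
      intro η
      rw [← Finset.mul_sum]
      by_cases hη : ∀ u ∈ (P : Subgroup G).subgroupOf (nor P),
          (η : nor P → ℂ) u = (η : nor P → ℂ) 1
      · have hmem : η ∈ S := Finset.mem_filter.2 ⟨Finset.mem_univ _, hη⟩
        rw [if_pos hmem, Helper16.sum_normal_translate_of_ker η _ hη n, hcardQ]
        ring
      · have hmem : η ∉ S := fun h => hη (Finset.mem_filter.1 h).2
        rw [if_neg hmem, Helper16.sum_normal_translate_of_not_ker η _ hη n, mul_zero]
    rw [Finset.sum_congr rfl (fun η _ => h3 η), ← Finset.sum_filter, Finset.filter_mem_eq_inter,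
      Finset.univ_inter, Finset.sum_apply, Finset.mul_sum]
    refine Finset.sum_congr rfl (fun η _ => ?_)
    rw [Pi.smul_apply, nsmul_eq_mul]

end Cfsg.Agent.Helper81.B66
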