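import Mathlib
import Cfsg.Agent.Helper16.DefOneSetup
import Cfsg.Agent.Helper79.CharComplete
import Cfsg.Agent.Helper15.IndFun
import Cfsg.Agent.S0146

/-! Piece (REL) of helper16's defect-one engine (WANTED #5588): the expansion of the induced differences
`(φ - can φ)^G = ∑_χ rowZ χ φ • χ`, and the resulting relation on `p`-regular elements. -/

set_option autoImplicit false
set_option linter.style.haveILetI false
set_option linter.unusedSectionVars false

namespace Cfsg.Agent.Helper81.DefOne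

open Cfsg Cfsg.Agent.Helper16 Cfsg.Agent.Helper16.DefOne

universe u

variable {G : Type u} [Group G] [Fintype G] {p : ℕ} [Fact p.Prime] (P : Sylow p G)

/-- the coefficient of `χ` in `(φ - can φ)^G` is `rowZ χ φ`. -/
theorem classInner_indFun_sub_can [Fintype (cen P)] (φ : IrrCharacter (cen P)) (χ : IrrCharacter G) :
    classInner (indFun (cen P) (fun c => (φ : cen P → ℂ) c - (can P φ : cen P → ℂ) c)) (χ : G → ℂ)
      = (rowZ P χ φ : ℂ) := by
  rw [Cfsg.Agent.S0146.result (cen P) _ (χ : G → ℂ) (Helper79.irr_isClassFunction χ)]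
  have h : (fun c : cen P => (φ : cen P → ℂ) c - (can P φ : cen P → ℂ) c)
      = (φ : cen P → ℂ) - (can P φ : cen P → ℂ) := rfl
  rw [h, Helper74.classInner_sub_left, ← Helper74.classInner_conj_symm _ (φ : cen P → ℂ),
    ← Helper74.classInner_conj_symm _ (can P φ : cen P → ℂ), ← mult_cast, ← mult_cast]
  unfold rowZ
  push_cast
  simp

/-- (REL-a) `(φ - can φ)^G = ∑_χ rowZ χ φ • χ` -/
theorem indFun_sub_can_apply (φ : IrrCharacter (cen P)) (g : G) :
    indFun (cen P) (fun c => (φ : cen P → ℂ) c - (can P φ : cen P → ℂ) c) g =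
      ∑ᶠ χ : IrrCharacter G, (rowZ P χ φ : ℂ) * (χ : G → ℂ) g := by
  classical
  haveI : Fintype (cen P) := Fintype.ofFinite _
  haveI : Finite (IrrCharacter G) := Helper79.irr_finite
  haveI : Fintype (IrrCharacter G) := Fintype.ofFinite _
  have hF := Helper79.classFunction_expansion
    (Helper15.isClassFunction_indFun (cen P) (fun c => (φ : cen P → ℂ) c - (can P φ : cen P → ℂ) c))
  rw [finsum_eq_sum_of_fintype]
  have hg := congrFun hF g
  rw [hg, Finset.sum_apply]
  apply Finset.sum_congr rfl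
  intro χ _
  rw [Pi.smul_apply, smul_eq_mul, classInner_indFun_sub_can]

/-- (REL-b), primed version: the relation on `p`-regular elements -/
theorem finsum_rowZ_mul_apply_regular'
    (hreg : ∀ (φ : IrrCharacter (cen P)) (x : cen P), ¬ p ∣ orderOf x →
      (φ : cen P → ℂ) x = (can P φ : cen P → ℂ) x)
    (φ : IrrCharacter (cen P)) (g : G) (hg : ¬ p ∣ orderOf g) :
    ∑ᶠ χ : IrrCharacter G, (rowZ P χ φ : ℂ) * (χ : G → ℂ) g = 0 := by
  rw [← indFun_sub_can_apply P φ g]
  unfold indFun
  rw [Finset.sum_eq_zero, mul_zero]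
  intro x _
  by_cases hx : x⁻¹ * g * x ∈ cen P
  · have h1 := extendByZero_apply_mem (cen P)
      (fun c => (φ : cen P → ℂ) c - (can P φ : cen P → ℂ) c) ⟨x⁻¹ * g * x, hx⟩
    have h1' : extendByZero (cen P) (fun c => (φ : cen P → ℂ) c - (can P φ : cen P → ℂ) c) (x⁻¹ * g * x)
        = (φ : cen P → ℂ) ⟨x⁻¹ * g * x, hx⟩ - (can P φ : cen P → ℂ) ⟨x⁻¹ * g * x, hx⟩ := h1
    rw [h1', sub_eq_zero]
    apply hreg
    have h2 : orderOf (⟨x⁻¹ * g * x, hx⟩ : cen P) = orderOf g := by
      rw [Subgroup.orderOf_mk]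
      have hsc : SemiconjBy x (x⁻¹ * g * x) g := by
        show x * (x⁻¹ * g * x) = g * x
        simp [mul_assoc]
      exact hsc.orderOf_eq
    rw [h2]
    exact hg
  · exact extendByZero_apply_not_mem (cen P) _ hx

end Cfsg.Agent.Helper81.DefOne
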