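import Mathlib
import Cfsg.Agent.Helper16.DefOneSetup
import Cfsg.Agent.Helper79.CharBasic

/-! Piece (VAL-c) of helper16's defect-one engine (WANTED #5588): a character whose rows are constant `s` over the
orbit of `θ` and zero elsewhere has the values `-s ∑_{θ' ∈ orbit} θ'` on the `p`-singular elements of `C`. -/

set_option autoImplicit false
set_option linter.style.haveILetI false
set_option linter.unusedVariables false
set_option linter.unusedSectionVars false

namespace Cfsg.Agent.Helper81.DefOne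

open Cfsg Cfsg.Agent.Helper16 Cfsg.Agent.Helper16.DefOne

universe u

variable {G : Type u} [Group G] [Fintype G] {p : ℕ} [Fact p.Prime] (P : Sylow p G)

/-- a `finsum` over a set in a fintype as a filtered `Finset` sum. -/
theorem finsum_mem_eq_sum_filter' {α M : Type*} [Fintype α] [AddCommMonoid M] (S : Set α) [DecidablePred (· ∈ S)]
    (f : α → M) : ∑ᶠ a ∈ S, f a = ∑ a ∈ Finset.univ.filter (· ∈ S), f a := by
  apply finsum_mem_eq_sum_of_inter_support_eq
  congr 1
  ext a
  simp

open Classical in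
/-- (VAL-c), primed version with the skeleton lemmas as hypotheses. -/
theorem apply_singular_of_rows'
    (hval : ∀ (χ : IrrCharacter G) (c : cen P), p ∣ orderOf c →
      (χ : G → ℂ) (c : G) = ∑ᶠ φ : IrrCharacter (cen P), (rowZ P χ φ : ℂ) * (φ : cen P → ℂ) c)
    (hfib : ∀ θ, IsCanon P θ → ∀ c : cen P, p ∣ orderOf c →
      ∑ᶠ φ ∈ {φ : IrrCharacter (cen P) | can P φ = θ}, (φ : cen P → ℂ) c = 0)
    (hcanon : ∀ φ, IsCanon P (can P φ))
    (hself : ∀ θ, IsCanon P θ → can P θ = θ)
    (hcsm : ∀ (n : nor P) θ, IsCanon P θ → IsCanon P (n • θ))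
    (hcan_smul : ∀ (n : nor P) φ, can P (n • φ) = n • can P φ)
    (hrow_smul : ∀ χ (n : nor P) φ, rowZ P χ (n • φ) = rowZ P χ φ)
    (χ : IrrCharacter G) (θ : IrrCharacter (cen P)) (hθ : IsCanon P θ) (s : ℤ)
    (hrow : ∀ φ : IrrCharacter (cen P), can P φ = θ → ¬ IsCanon P φ → rowZ P χ φ = s)
    (hzero : ∀ φ : IrrCharacter (cen P), (¬ ∃ n : nor P, n • θ = can P φ) → rowZ P χ φ = 0)
    (c : cen P) (hc : p ∣ orderOf c) :
    (χ : G → ℂ) (c : G) = -(s : ℂ) * ∑ᶠ θ' ∈ MulAction.orbit (nor P) θ, (θ' : cen P → ℂ) c := by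
  haveI : Finite (IrrCharacter (cen P)) := Helper79.irr_finite'
  haveI : Fintype (IrrCharacter (cen P)) := Fintype.ofFinite _
  set O : Set (IrrCharacter (cen P)) := MulAction.orbit (nor P) θ with hO
  -- the rows
  have hrowval : ∀ φ : IrrCharacter (cen P),
      rowZ P χ φ = if (¬ IsCanon P φ ∧ can P φ ∈ O) then s else 0 := by
    intro φ
    by_cases h1 : IsCanon P φ
    · rw [if_neg (fun h => h.1 h1)]
      unfold rowZ
      rw [hself φ h1, sub_self]
    · by_cases h2 : can P φ ∈ O
      · rw [if_pos ⟨h1, h2⟩]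
        obtain ⟨n, hn⟩ := h2
        have hn' : n • θ = can P φ := hn
        rw [← hrow_smul χ n⁻¹ φ]
        apply hrow
        · rw [hcan_smul, ← hn', inv_smul_smul]
        · intro h3
          apply h1
          have := hcsm n _ h3
          rwa [smul_inv_smul] at this
      · rw [if_neg (fun h => h2 h.2)]
        apply hzero
        rintro ⟨n, hn⟩
        exact h2 ⟨n, hn⟩
  rw [hval χ c hc, finsum_eq_sum_of_fintype, finsum_mem_eq_sum_filter']
  -- rewrite the rows
  have h1 : ∑ φ : IrrCharacter (cen P), (rowZ P χ φ : ℂ) * (φ : cen P → ℂ) c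
      = (s : ℂ) * ∑ φ ∈ Finset.univ.filter (fun φ : IrrCharacter (cen P) => ¬ IsCanon P φ ∧ can P φ ∈ O),
          (φ : cen P → ℂ) c := by
    rw [Finset.mul_sum, Finset.sum_filter]
    apply Finset.sum_congr rfl
    intro φ _
    rw [hrowval φ]
    split_ifs <;> simp
  rw [h1]
  -- fibrewise
  have h2 : ∑ φ ∈ Finset.univ.filter (fun φ : IrrCharacter (cen P) => ¬ IsCanon P φ ∧ can P φ ∈ O),
        (φ : cen P → ℂ) c
      = ∑ θ' ∈ Finset.univ.filter (· ∈ O),
          ∑ φ ∈ (Finset.univ.filter (fun φ : IrrCharacter (cen P) => ¬ IsCanon P φ ∧ can P φ ∈ O)).filter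
            (fun φ => can P φ = θ'), (φ : cen P → ℂ) c := by
    rw [Finset.sum_fiberwise_of_maps_to]
    intro φ hφ
    simp only [Finset.mem_filter, Finset.mem_univ, true_and] at hφ ⊢
    exact hφ.2
  rw [h2]
  have h3 : ∀ θ' ∈ Finset.univ.filter (· ∈ O),
      ∑ φ ∈ (Finset.univ.filter (fun φ : IrrCharacter (cen P) => ¬ IsCanon P φ ∧ can P φ ∈ O)).filter
            (fun φ => can P φ = θ'), (φ : cen P → ℂ) c = -((θ' : cen P → ℂ) c) := by
    intro θ' hθ'
    simp only [Finset.mem_filter, Finset.mem_univ, true_and] at hθ'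
    have hθ'c : IsCanon P θ' := by
      obtain ⟨n, hn⟩ := hθ'
      have hn' : n • θ = θ' := hn
      rw [← hn']
      exact hcsm n θ hθ
    have hfibre := hfib θ' hθ'c c hc
    rw [finsum_mem_eq_sum_filter'] at hfibre
    have hsplit := Finset.sum_filter_add_sum_filter_not
      (Finset.univ.filter (· ∈ {φ : IrrCharacter (cen P) | can P φ = θ'})) (fun φ => IsCanon P φ)
      (fun φ => (φ : cen P → ℂ) c)
    rw [hfibre] at hsplit
    have hA : (Finset.univ.filter (· ∈ {φ : IrrCharacter (cen P) | can P φ = θ'})).filter (fun φ => IsCanon P φ)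
        = {θ'} := by
      ext φ
      simp only [Finset.mem_filter, Finset.mem_univ, true_and, Set.mem_ofPred_eq, Finset.mem_singleton]
      constructor
      · rintro ⟨h, hc'⟩
        rw [← h, hself φ hc']
      · rintro rfl
        exact ⟨hself _ hθ'c, hθ'c⟩
    have hB : (Finset.univ.filter (· ∈ {φ : IrrCharacter (cen P) | can P φ = θ'})).filter
          (fun φ => ¬ IsCanon P φ)
        = (Finset.univ.filter (fun φ : IrrCharacter (cen P) => ¬ IsCanon P φ ∧ can P φ ∈ O)).filter
            (fun φ => can P φ = θ') := by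
      ext φ
      simp only [Finset.mem_filter, Finset.mem_univ, true_and, Set.mem_ofPred_eq]
      constructor
      · rintro ⟨h, hc'⟩
        exact ⟨⟨hc', h ▸ hθ'⟩, h⟩
      · rintro ⟨⟨hc', -⟩, h⟩
        exact ⟨h, hc'⟩
    rw [hA, hB, Finset.sum_singleton] at hsplit
    exact eq_neg_of_add_eq_zero_right hsplit
  rw [Finset.sum_congr rfl h3, Finset.sum_neg_distrib]
  ring

end Cfsg.Agent.Helper81.DefOne
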