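import Mathlib
import Cfsg.Prelude.Def_Blocks
import Cfsg.Agent.Helper74.CharBasic
import Cfsg.Agent.Helper15.IndChar

/-!
# The complex conjugate of an irreducible character is irreducible
-/

set_option autoImplicit false

namespace Cfsg.Agent.Helper81

open Cfsg
open scoped ComplexConjugate

theorem isIrrCharacter_conj {G : Type*} [Group G] [Finite G] {χ : G → ℂ}
    (hχ : IsIrrCharacter G χ) : IsIrrCharacter G (fun g => conj (χ g)) := by
  classical
  have := Fintype.ofFinite G
  have hc : IsCharacter G (fun g => conj (χ g)) :=
    Helper74.isCharacter_conj (Helper74.isCharacter_of_isIrr hχ)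
  rw [Helper15.isIrrCharacter_iff_inner_self hc]
  have h1 : classInner χ χ = 1 := Helper74.irr_inner_self ⟨χ, hχ⟩
  rw [← h1]
  unfold classInner
  congr 1
  refine Finset.sum_congr rfl fun g _ => ?_
  simp [mul_comm]

/-- Complex conjugation as a permutation of the irreducible characters. -/
noncomputable def irrConj (G : Type*) [Group G] [Finite G] : Equiv.Perm (IrrCharacter G) where
  toFun χ := ⟨fun g => conj ((χ : G → ℂ) g), isIrrCharacter_conj χ.2⟩
  invFun χ := ⟨fun g => conj ((χ : G → ℂ) g), isIrrCharacter_conj χ.2⟩
  left_inv χ := by apply Subtype.ext; funext g; simp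
  right_inv χ := by apply Subtype.ext; funext g; simp

@[simp] theorem irrConj_apply {G : Type*} [Group G] [Finite G] (χ : IrrCharacter G) (g : G) :
    (irrConj G χ : G → ℂ) g = conj ((χ : G → ℂ) g) := rfl

theorem irrConj_eq_self_iff {G : Type*} [Group G] [Finite G] (χ : IrrCharacter G) :
    irrConj G χ = χ ↔ ∀ g : G, ((χ : G → ℂ) g).im = 0 := by
  constructor
  · intro h g
    have := congrArg (fun ψ : IrrCharacter G => (ψ : G → ℂ) g) h
    simp only [irrConj_apply] at this
    exact Complex.conj_eq_iff_im.mp this
  · intro h
    apply Subtype.ext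
    funext g
    exact Complex.conj_eq_iff_im.mpr (h g)

end Cfsg.Agent.Helper81
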