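import Mathlib
import Cfsg.Prelude.Def_Blocks
import Cfsg.Agent.Helper15.ConjChar
import Cfsg.Agent.Helper81.ConjIrr

/-!
# The action of `G` on the irreducible characters and the conjugacy classes of a normal subgroup

For `K ⊴ G`:
* `irrMulAction K : MulAction G (IrrCharacter K)`, `(g • θ) k = θ (g⁻¹ k g)`;
* `clsMulAction K : MulAction G (ConjClasses K)`, `g • mk k = mk (g k g⁻¹)`;
* `clsInv K : Equiv.Perm (ConjClasses K)`, `mk k ↦ mk k⁻¹`;
* `fix_of_odd`: an involution commuting with an action in which a normal subgroup of odd index acts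
  trivially.
These are plain definitions (not instances); use `letI`.
-/

set_option autoImplicit false
set_option linter.unusedSectionVars false

namespace Cfsg.Agent.Helper81

open Cfsg
open scoped ComplexConjugate

universe u

variable {G : Type u} [Group G] (K : Subgroup G) [hK : K.Normal]

/-- `G` acts on the irreducible characters of a normal subgroup: `(g • θ) k = θ (g⁻¹ k g)`. -/
@[reducible] noncomputable def irrMulAction : MulAction G (IrrCharacter K) where
  smul g θ := ⟨Helper15.conjFun K g⁻¹ (θ : K → ℂ), Helper15.isIrrCharacter_conjFun K θ.2 g⁻¹⟩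
  one_smul θ := by
    apply Subtype.ext
    change Helper15.conjFun K (1 : G)⁻¹ (θ : K → ℂ) = θ
    rw [inv_one, Helper15.conjFun_one]
  mul_smul g h θ := by
    apply Subtype.ext
    change Helper15.conjFun K (g * h)⁻¹ (θ : K → ℂ) =
      Helper15.conjFun K g⁻¹ (Helper15.conjFun K h⁻¹ (θ : K → ℂ))
    rw [mul_inv_rev, Helper15.conjFun_mul]

theorem irrMulAction_smul_apply (g : G) (θ : IrrCharacter K) (k : K) :
    ((letI := irrMulAction K; g • θ : IrrCharacter K) : K → ℂ) k =
      (θ : K → ℂ) ⟨g⁻¹ * k * g, by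
        have := hK.conj_mem (k : G) k.2 g⁻¹
        rwa [inv_inv] at this⟩ := by
  change Helper15.conjFun K g⁻¹ (θ : K → ℂ) k = _
  rw [Helper15.conjFun_apply]
  have hh : ∀ a b : K, a = b → (θ : K → ℂ) a = (θ : K → ℂ) b := fun a b h => by rw [h]
  apply hh
  apply Subtype.ext
  change g⁻¹ * (k : G) * g⁻¹⁻¹ = g⁻¹ * k * g
  rw [inv_inv]

/-- `G` acts on the conjugacy classes of a normal subgroup. -/
@[reducible] noncomputable def clsMulAction : MulAction G (ConjClasses K) where
  smul g c := ConjClasses.map (MulAut.conjNormal g : K ≃* K).toMonoidHom c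
  one_smul c := by
    obtain ⟨k, rfl⟩ := ConjClasses.exists_rep c
    change ConjClasses.mk ((MulAut.conjNormal (1 : G) : K ≃* K) k) = _
    congr 1
    apply Subtype.ext
    simp
  mul_smul g h c := by
    obtain ⟨k, rfl⟩ := ConjClasses.exists_rep c
    change ConjClasses.mk ((MulAut.conjNormal (g * h) : K ≃* K) k) =
      ConjClasses.mk ((MulAut.conjNormal g : K ≃* K) ((MulAut.conjNormal h : K ≃* K) k))
    congr 1
    apply Subtype.ext
    simp [mul_assoc]

theorem clsMulAction_smul_mk (g : G) (k : K) :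
    (letI := clsMulAction K; g • ConjClasses.mk k : ConjClasses K) =
      ConjClasses.mk ⟨g * k * g⁻¹, hK.conj_mem (k : G) k.2 g⟩ := by
  change ConjClasses.mk ((MulAut.conjNormal g : K ≃* K) k) = _
  congr 1

theorem isConj_inv_inv {H : Type*} [Group H] {a b : H} (h : IsConj a b) : IsConj a⁻¹ b⁻¹ := by
  rw [isConj_iff] at h ⊢
  obtain ⟨c, rfl⟩ := h
  exact ⟨c, by group⟩

/-- Inversion on conjugacy classes. -/
noncomputable def clsInv (H : Type*) [Group H] : Equiv.Perm (ConjClasses H) where
  toFun c := Quotient.map (fun k : H => k⁻¹) (fun _ _ h => isConj_inv_inv h) c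
  invFun c := Quotient.map (fun k : H => k⁻¹) (fun _ _ h => isConj_inv_inv h) c
  left_inv c := by
    obtain ⟨k, rfl⟩ := ConjClasses.exists_rep c
    change ConjClasses.mk (k⁻¹)⁻¹ = ConjClasses.mk k
    rw [inv_inv]
  right_inv c := by
    obtain ⟨k, rfl⟩ := ConjClasses.exists_rep c
    change ConjClasses.mk (k⁻¹)⁻¹ = ConjClasses.mk k
    rw [inv_inv]

@[simp] theorem clsInv_mk {H : Type*} [Group H] (k : H) :
    clsInv H (ConjClasses.mk k) = ConjClasses.mk k⁻¹ := rfl

theorem clsInv_eq_self_iff {H : Type*} [Group H] (k : H) :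
    clsInv H (ConjClasses.mk k) = ConjClasses.mk k ↔ IsConj k k⁻¹ := by
  rw [clsInv_mk, ConjClasses.mk_eq_mk_iff_isConj, isConj_comm]

/-- An involution commuting with a group action in which a normal subgroup of odd index acts
trivially: `ι (g • x) = x` forces `g • x = x` and `ι x = x`. -/
theorem fix_of_odd {Ω : Type*} [MulAction G Ω] (ι : Ω → Ω) (hι : ∀ x, ι (ι x) = x)
    (hcomm : ∀ (g : G) (x : Ω), ι (g • x) = g • ι x)
    (htriv : ∀ k ∈ K, ∀ x : Ω, k • x = x) (hodd : Odd K.index) (g : G) (x : Ω)
    (h : ι (g • x) = x) : g • x = x ∧ ι x = x := by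
  have h1 : g • x = ι x := by rw [← h, hι, h]
  have h2 : (g * g) • x = x := by rw [mul_smul, h1, ← hcomm, h]
  have h3 : g ^ K.index ∈ K := Subgroup.pow_index_mem K g
  obtain ⟨j, hj⟩ := hodd
  have h4 : ∀ n : ℕ, ((g * g) ^ n) • x = x := by
    intro n
    induction n with
    | zero => simp
    | succ n ih => rw [pow_succ, mul_smul, h2, ih]
  have h5 : g • x = x := by
    have h6 : g ^ K.index = (g * g) ^ j * g := by
      rw [hj, pow_succ, pow_mul, pow_two]
    have h7 := htriv _ h3 x
    rw [h6, mul_smul] at h7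
    have h8 : (g * g) ^ j • (g • x) = g • ((g * g) ^ j • x) := by
      rw [← mul_smul, ← mul_smul]
      congr 1
      have : Commute ((g * g) ^ j) g := ((Commute.refl g).mul_left (Commute.refl g)).pow_left j
      exact this.eq
    rw [h8, h4] at h7
    exact h7
  exact ⟨h5, by rw [← h1, h5]⟩

end Cfsg.Agent.Helper81
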