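import Mathlib
import Cfsg.Agent.Helper19.FH.Defs

/-! Piece (OR) of helper19's S1142 (Feit–Higman; WANTED #5717): orthogonality of the trace functions of two Hecke
pairs without intertwiners.  The "Casimir" operator `Φ Z = ∑_w q_w⁻¹ T_w Z S_{w⁻¹}` intertwines, so it vanishes, and
`pair = ∑_{i,j} (Φ E_{ij})_{ij}`.  The degenerate case `n` odd, `a ≠ b` (all generators are `-1`) is treated
separately. -/

set_option autoImplicit false
set_option linter.style.haveILetI false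

namespace Cfsg.Agent.Helper81.FH

open Cfsg.Agent.Helper19.FH Matrix

/-! ### reversed alternating words -/

/-- the reversed alternating word: `ralt a b k = rev (alt a b k)`. -/
def ralt {M : Type*} [Monoid M] (a b : M) : ℕ → M
  | 0 => 1
  | (k + 1) => ralt b a k * a

theorem ralt_zero {M : Type*} [Monoid M] (a b : M) : ralt a b 0 = 1 := rfl

theorem ralt_succ {M : Type*} [Monoid M] (a b : M) (k : ℕ) : ralt a b (k + 1) = ralt b a k * a := rfl

/-- appending on the right. -/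
theorem alt_succ_right {M : Type*} [Monoid M] (a b : M) (k : ℕ) :
    alt a b (k + 1) = alt a b k * (if Even k then a else b) := by
  induction k generalizing a b with
  | zero => simp [alt_succ]
  | succ k ih =>
    rw [alt_succ, ih b a, ← mul_assoc, ← alt_succ]
    congr 1
    by_cases hk : Even k
    · have : ¬ Even (k + 1) := by rw [Nat.even_add_one]; exact not_not.mpr hk
      rw [if_pos hk, if_neg this]
    · have : Even (k + 1) := by rw [Nat.even_add_one]; exact hk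
      rw [if_neg hk, if_pos this]

theorem ralt_eq {M : Type*} [Monoid M] (a b : M) (k : ℕ) :
    ralt a b k = if Even k then alt b a k else alt a b k := by
  induction k generalizing a b with
  | zero => simp [ralt_zero]
  | succ k ih =>
    rw [ralt_succ, ih b a]
    by_cases hk : Even k
    · have : ¬ Even (k + 1) := by rw [Nat.even_add_one]; exact not_not.mpr hk
      rw [if_pos hk, if_neg this, alt_succ_right, if_pos hk]
    · have : Even (k + 1) := by rw [Nat.even_add_one]; exact hk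
      rw [if_neg hk, if_pos this, alt_succ_right, if_neg hk]

theorem ralt_braid {M : Type*} [Monoid M] (a b : M) (n : ℕ) (h : alt a b n = alt b a n) :
    ralt a b n = ralt b a n := by
  rw [ralt_eq, ralt_eq]
  by_cases hn : Even n
  · rw [if_pos hn, if_pos hn, h]
  · rw [if_neg hn, if_neg hn, h]

theorem trace_ralt {κ : Type*} [Fintype κ] [DecidableEq κ] (s₁ s₂ : Matrix κ κ ℝ) (k : ℕ) :
    Matrix.trace (ralt s₁ s₂ k) = Matrix.trace (alt s₁ s₂ k) := by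
  rw [ralt_eq]
  by_cases hk : Even k
  · rw [if_pos hk]
    cases k with
    | zero => rfl
    | succ j =>
      have hj : ¬ Even j := by
        rw [Nat.even_add_one] at hk; exact hk
      rw [alt_succ_right, if_neg hj, alt_succ, Matrix.trace_mul_comm]
  · rw [if_neg hk]

/-! ### weights -/

theorem wt_zero (a b : ℝ) : wt a b 0 = 1 := by simp [wt]

theorem wt_succ (a b : ℝ) (k : ℕ) : wt a b (k + 1) = a * wt b a k := by
  unfold wt
  have h1 : (k + 1 + 1) / 2 = k / 2 + 1 := by omega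
  rw [h1, pow_succ]
  ring

theorem wt_ne_zero {a b : ℝ} (ha : a ≠ 0) (hb : b ≠ 0) (k : ℕ) : wt a b k ≠ 0 := by
  unfold wt
  exact mul_ne_zero (pow_ne_zero _ ha) (pow_ne_zero _ hb)

theorem wt_comm_of_even (a b : ℝ) {n : ℕ} (hn : Even n) : wt a b n = wt b a n := by
  obtain ⟨m, rfl⟩ := hn
  unfold wt
  have h1 : (m + m + 1) / 2 = m := by omega
  have h2 : (m + m) / 2 = m := by omega
  rw [h1, h2, mul_comm]

/-! ### the basic intertwining identity -/

section Basic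

variable {ι κ : Type*} [Fintype ι] [Fintype κ] [DecidableEq ι] [DecidableEq κ]

/-- if `t`, `s` satisfy the same quadratic relation then `M + a⁻¹ t M s` intertwines. -/
theorem quad_intertwine {a : ℝ} (ha : a ≠ 0) (t : Matrix ι ι ℝ) (s : Matrix κ κ ℝ)
    (ht : t * t = a • (1 : Matrix ι ι ℝ) + (a - 1) • t) (hs : s * s = a • (1 : Matrix κ κ ℝ) + (a - 1) • s)
    (M : Matrix ι κ ℝ) :
    t * (M + a⁻¹ • (t * M * s)) = (M + a⁻¹ • (t * M * s)) * s := by
  have h1 : t * (t * M * s) = (t * t) * M * s := by simp only [Matrix.mul_assoc]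
  have h2 : (t * M * s) * s = t * M * (s * s) := by simp only [Matrix.mul_assoc]
  rw [Matrix.mul_add, Matrix.add_mul, Matrix.mul_smul, Matrix.smul_mul, h1, h2, ht, hs]
  simp only [Matrix.add_mul, Matrix.mul_add, Matrix.smul_mul, Matrix.mul_smul, Matrix.one_mul, Matrix.mul_one,
    smul_add, smul_smul]
  rw [inv_mul_cancel₀ ha, one_smul, one_smul]
  abel

theorem trace_mul_single_mul (A : Matrix ι ι ℝ) (B : Matrix κ κ ℝ) (i : ι) (j : κ) :
    (A * Matrix.single i j (1 : ℝ) * B) i j = A i i * B j j := by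
  rw [Matrix.mul_apply, Finset.sum_eq_single j]
  · rw [Matrix.mul_single_apply_same, mul_one]
  · intro l _ hl
    rw [Matrix.mul_single_apply_of_ne _ _ _ _ _ hl, zero_mul]
  · intro h; exact absurd (Finset.mem_univ j) h

theorem sum_single_eq_trace_mul (A : Matrix ι ι ℝ) (B : Matrix κ κ ℝ) :
    ∑ i : ι, ∑ j : κ, (A * Matrix.single i j (1 : ℝ) * B) i j = Matrix.trace A * Matrix.trace B := by
  simp only [trace_mul_single_mul, Matrix.trace, Matrix.diag_apply]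
  rw [Finset.sum_mul_sum]

end Basic

/-! ### the Casimir operator -/

section Main

variable {ι κ : Type*} [Fintype ι] [Fintype κ] [DecidableEq ι] [DecidableEq κ]

/-- the Casimir operator `Φ Z = ∑_w q_w⁻¹ T_w Z S_{w⁻¹}`. -/
noncomputable def Phi (n : ℕ) (a b : ℝ) (t₁ t₂ : Matrix ι ι ℝ) (s₁ s₂ : Matrix κ κ ℝ) (Z : Matrix ι κ ℝ) :
    Matrix ι κ ℝ :=
  ∑ k ∈ Finset.range (n + 1), (wt a b k)⁻¹ • (alt t₁ t₂ k * Z * ralt s₁ s₂ k) +
    ∑ k ∈ Finset.Ico 1 n, (wt b a k)⁻¹ • (alt t₂ t₁ k * Z * ralt s₂ s₁ k)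

theorem Phi_eq₁ (n : ℕ) (hn : 1 ≤ n) (a b : ℝ) (t₁ t₂ : Matrix ι ι ℝ) (s₁ s₂ : Matrix κ κ ℝ)
    (Z : Matrix ι κ ℝ) :
    Phi n a b t₁ t₂ s₁ s₂ Z = ∑ k ∈ Finset.range n, (wt b a k)⁻¹ •
      ((alt t₂ t₁ k * Z * ralt s₂ s₁ k) + a⁻¹ • (t₁ * (alt t₂ t₁ k * Z * ralt s₂ s₁ k) * s₁)) := by
  unfold Phi
  have h2 : ∀ k, (wt b a k)⁻¹ • a⁻¹ • (t₁ * (alt t₂ t₁ k * Z * ralt s₂ s₁ k) * s₁)
      = (wt a b (k + 1))⁻¹ • (alt t₁ t₂ (k + 1) * Z * ralt s₁ s₂ (k + 1)) := by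
    intro k
    rw [wt_succ, alt_succ, ralt_succ, mul_inv, smul_smul, mul_comm (wt b a k)⁻¹]
    simp only [Matrix.mul_assoc]
  have h0 : (wt a b 0)⁻¹ • (alt t₁ t₂ 0 * Z * ralt s₁ s₂ 0) = Z := by
    rw [wt_zero, alt_zero, ralt_zero, inv_one, one_smul, Matrix.one_mul, Matrix.mul_one]
  have h0' : (wt b a 0)⁻¹ • (alt t₂ t₁ 0 * Z * ralt s₂ s₁ 0) = Z := by
    rw [wt_zero, alt_zero, ralt_zero, inv_one, one_smul, Matrix.one_mul, Matrix.mul_one]
  have hB : ∑ k ∈ Finset.range n, (wt b a k)⁻¹ • (alt t₂ t₁ k * Z * ralt s₂ s₁ k)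
      = Z + ∑ k ∈ Finset.Ico 1 n, (wt b a k)⁻¹ • (alt t₂ t₁ k * Z * ralt s₂ s₁ k) := by
    rw [Finset.range_eq_Ico, Finset.sum_eq_sum_Ico_succ_bot (by omega : 0 < n), h0']
  simp only [smul_add, Finset.sum_add_distrib, h2]
  rw [Finset.sum_range_succ', h0, hB]
  abel

theorem Phi_eq₂ (n : ℕ) (hn : 1 ≤ n) (a b : ℝ) (t₁ t₂ : Matrix ι ι ℝ) (s₁ s₂ : Matrix κ κ ℝ)
    (hw : wt a b n = wt b a n) (ht : alt t₁ t₂ n = alt t₂ t₁ n) (hs : ralt s₁ s₂ n = ralt s₂ s₁ n)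
    (Z : Matrix ι κ ℝ) :
    Phi n a b t₁ t₂ s₁ s₂ Z = ∑ k ∈ Finset.range n, (wt a b k)⁻¹ •
      ((alt t₁ t₂ k * Z * ralt s₁ s₂ k) + b⁻¹ • (t₂ * (alt t₁ t₂ k * Z * ralt s₁ s₂ k) * s₂)) := by
  unfold Phi
  have h2 : ∀ k, (wt a b k)⁻¹ • b⁻¹ • (t₂ * (alt t₁ t₂ k * Z * ralt s₁ s₂ k) * s₂)
      = (wt b a (k + 1))⁻¹ • (alt t₂ t₁ (k + 1) * Z * ralt s₂ s₁ (k + 1)) := by
    intro k
    rw [wt_succ, alt_succ, ralt_succ, mul_inv, smul_smul, mul_comm (wt a b k)⁻¹]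
    simp only [Matrix.mul_assoc]
  simp only [smul_add, Finset.sum_add_distrib, h2]
  rw [Finset.sum_range_succ]
  have h3 : ∑ k ∈ Finset.range n, (wt b a (k + 1))⁻¹ • (alt t₂ t₁ (k + 1) * Z * ralt s₂ s₁ (k + 1))
      = ∑ k ∈ Finset.Ico 1 n, (wt b a k)⁻¹ • (alt t₂ t₁ k * Z * ralt s₂ s₁ k)
        + (wt b a n)⁻¹ • (alt t₂ t₁ n * Z * ralt s₂ s₁ n) := by
    rw [← Finset.sum_Ico_succ_top hn, Finset.sum_Ico_eq_sum_range]
    apply Finset.sum_congr (by simp)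
    intro k _
    rw [add_comm 1 k]
  rw [h3, hw, ht, hs]
  abel

theorem Phi_intertwine₁ (n : ℕ) (hn : 1 ≤ n) (a b : ℝ) (ha : a ≠ 0) (t₁ t₂ : Matrix ι ι ℝ)
    (s₁ s₂ : Matrix κ κ ℝ)
    (ht : t₁ * t₁ = a • (1 : Matrix ι ι ℝ) + (a - 1) • t₁) (hs : s₁ * s₁ = a • (1 : Matrix κ κ ℝ) + (a - 1) • s₁)
    (Z : Matrix ι κ ℝ) :
    t₁ * Phi n a b t₁ t₂ s₁ s₂ Z = Phi n a b t₁ t₂ s₁ s₂ Z * s₁ := by
  rw [Phi_eq₁ n hn, Matrix.mul_sum, Matrix.sum_mul]
  apply Finset.sum_congr rfl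
  intro k _
  rw [Matrix.mul_smul, Matrix.smul_mul, quad_intertwine ha t₁ s₁ ht hs]

theorem Phi_intertwine₂ (n : ℕ) (hn : 1 ≤ n) (a b : ℝ) (hb : b ≠ 0) (t₁ t₂ : Matrix ι ι ℝ)
    (s₁ s₂ : Matrix κ κ ℝ)
    (hw : wt a b n = wt b a n) (hbt : alt t₁ t₂ n = alt t₂ t₁ n) (hbs : alt s₁ s₂ n = alt s₂ s₁ n)
    (ht : t₂ * t₂ = b • (1 : Matrix ι ι ℝ) + (b - 1) • t₂) (hs : s₂ * s₂ = b • (1 : Matrix κ κ ℝ) + (b - 1) • s₂)
    (Z : Matrix ι κ ℝ) :
    t₂ * Phi n a b t₁ t₂ s₁ s₂ Z = Phi n a b t₁ t₂ s₁ s₂ Z * s₂ := by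
  rw [Phi_eq₂ n hn a b t₁ t₂ s₁ s₂ hw hbt (ralt_braid s₁ s₂ n hbs), Matrix.mul_sum, Matrix.sum_mul]
  apply Finset.sum_congr rfl
  intro k _
  rw [Matrix.mul_smul, Matrix.smul_mul, quad_intertwine hb t₂ s₂ ht hs]

/-- the trace of the family `Z ↦ ∑_k c_k • A_k Z B_k`. -/
theorem sum_single_family {α : Type*} (S : Finset α) (c : α → ℝ) (A : α → Matrix ι ι ℝ) (B : α → Matrix κ κ ℝ) :
    ∑ i : ι, ∑ j : κ, (∑ k ∈ S, c k • (A k * Matrix.single i j (1 : ℝ) * B k)) i j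
      = ∑ k ∈ S, c k * (Matrix.trace (A k) * Matrix.trace (B k)) := by
  simp only [Matrix.sum_apply, Matrix.smul_apply, smul_eq_mul]
  have h1 : ∀ i : ι, ∑ j : κ, ∑ k ∈ S, c k * (A k * Matrix.single i j (1 : ℝ) * B k) i j
      = ∑ k ∈ S, ∑ j : κ, c k * (A k * Matrix.single i j (1 : ℝ) * B k) i j := fun i => Finset.sum_comm
  simp only [h1]
  rw [Finset.sum_comm]
  apply Finset.sum_congr rfl
  intro k _
  rw [← sum_single_eq_trace_mul, Finset.mul_sum]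
  apply Finset.sum_congr rfl
  intro i _
  rw [Finset.mul_sum]

theorem pair_eq_sum_Phi (n : ℕ) (a b : ℝ) (t₁ t₂ : Matrix ι ι ℝ) (s₁ s₂ : Matrix κ κ ℝ) :
    pair n a b t₁ t₂ s₁ s₂
      = ∑ i : ι, ∑ j : κ, (Phi n a b t₁ t₂ s₁ s₂ (Matrix.single i j (1 : ℝ))) i j := by
  unfold Phi pair pairF
  simp only [Matrix.add_apply, Finset.sum_add_distrib]
  rw [sum_single_family, sum_single_family]
  simp only [trace_ralt]

end Main

/-! ### the degenerate case and the theorem -/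

section Final

variable {ι κ : Type*} [Fintype ι] [Fintype κ] [DecidableEq ι] [DecidableEq κ]

theorem isUnit_of_quad {a : ℝ} (ha : a ≠ 0) (t : Matrix ι ι ℝ)
    (ht : t * t = a • (1 : Matrix ι ι ℝ) + (a - 1) • t) : IsUnit t := by
  have h1 : t * (a⁻¹ • (t - (a - 1) • (1 : Matrix ι ι ℝ))) = 1 := by
    rw [Matrix.mul_smul, Matrix.mul_sub, ht, Matrix.mul_smul, Matrix.mul_one, add_sub_cancel_right, smul_smul,
      inv_mul_cancel₀ ha, one_smul]
  have h2 : (a⁻¹ • (t - (a - 1) • (1 : Matrix ι ι ℝ))) * t = 1 := by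
    rw [Matrix.smul_mul, Matrix.sub_mul, ht, Matrix.smul_mul, Matrix.one_mul, add_sub_cancel_right, smul_smul,
      inv_mul_cancel₀ ha, one_smul]
  exact ⟨⟨t, _, h1, h2⟩, rfl⟩

theorem isUnit_alt {t₁ t₂ : Matrix ι ι ℝ} (h1 : IsUnit t₁) (h2 : IsUnit t₂) (k : ℕ) : IsUnit (alt t₁ t₂ k) := by
  induction k generalizing t₁ t₂ with
  | zero => exact isUnit_one
  | succ k ih => rw [alt_succ]; exact h1.mul (ih h2 h1)

/-- degenerate case: `n` odd and `a ≠ b` force both generators to be `-1`. -/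
theorem eq_neg_one_of_odd {n : ℕ} (hn : ¬ Even n) {a b : ℝ} (ha : a ≠ 0) (hb : b ≠ 0) (hab : a ≠ b)
    (t₁ t₂ : Matrix ι ι ℝ) (ht : IsHeckePair n a b t₁ t₂) : t₁ = -1 ∧ t₂ = -1 := by
  obtain ⟨m, rfl⟩ : ∃ m, n = m + 1 := by
    cases n with
    | zero => exact absurd Even.zero hn
    | succ m => exact ⟨m, rfl⟩
  have hm : Even m := by
    by_contra h
    exact hn (by rw [Nat.even_add_one]; exact h)
  set g := alt t₂ t₁ m with hg
  have hgu : IsUnit g := isUnit_alt (isUnit_of_quad hb t₂ ht.sq₂) (isUnit_of_quad ha t₁ ht.sq₁) m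
  -- t₁ g = g t₂
  have hbraid : t₁ * g = g * t₂ := by
    have h1 := ht.braid
    rw [alt_succ, alt_succ_right, if_pos hm] at h1
    exact h1
  -- (1 + t₁) g = 0
  have h2 : (t₁ * t₁) * g = g * (t₂ * t₂) := by
    calc (t₁ * t₁) * g = t₁ * (t₁ * g) := by rw [Matrix.mul_assoc]
      _ = t₁ * (g * t₂) := by rw [hbraid]
      _ = (t₁ * g) * t₂ := by rw [Matrix.mul_assoc]
      _ = g * (t₂ * t₂) := by rw [hbraid, Matrix.mul_assoc]
  rw [ht.sq₁, ht.sq₂] at h2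
  have h3 : (a - b) • ((1 + t₁) * g) = 0 := by
    have h4 : a • g + (a - 1) • (t₁ * g) = b • g + (b - 1) • (t₁ * g) := by
      have := h2
      simp only [Matrix.add_mul, Matrix.mul_add, Matrix.smul_mul, Matrix.mul_smul, Matrix.one_mul,
        Matrix.mul_one] at this
      rw [← hbraid] at this
      exact this
    have h5 : (a - b) • ((1 + t₁) * g) = (a • g + (a - 1) • (t₁ * g)) - (b • g + (b - 1) • (t₁ * g)) := by
      rw [Matrix.add_mul, Matrix.one_mul, smul_add, sub_smul, sub_smul, sub_smul, sub_smul, one_smul]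
      abel
    rw [h5, h4, sub_self]
  have h6 : (1 + t₁) * g = 0 := by
    rcases smul_eq_zero.mp h3 with h | h
    · exact absurd (sub_eq_zero.mp h) hab
    · exact h
  have ht₁ : t₁ = -1 := by
    have := (hgu.mul_left_eq_zero).mp h6
    exact eq_neg_of_add_eq_zero_right this
  refine ⟨ht₁, ?_⟩
  have h7 : g * (1 + t₂) = 0 := by
    rw [Matrix.mul_add, Matrix.mul_one, ← hbraid, ht₁]
    simp
  have := (hgu.mul_right_eq_zero).mp h7
  exact eq_neg_of_add_eq_zero_right this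

/-- (OR) orthogonality from the absence of intertwiners -/
theorem pair_eq_zero
    (n : ℕ) (hn : 1 ≤ n) (a b : ℝ) (ha : a ≠ 0) (hb : b ≠ 0)
    (t₁ t₂ : Matrix ι ι ℝ) (s₁ s₂ : Matrix κ κ ℝ)
    (ht : IsHeckePair n a b t₁ t₂) (hs : IsHeckePair n a b s₁ s₂)
    (hno : ∀ Y : Matrix ι κ ℝ, t₁ * Y = Y * s₁ → t₂ * Y = Y * s₂ → Y = 0) :
    pair n a b t₁ t₂ s₁ s₂ = 0 := by
  by_cases hcase : Even n ∨ a = b
  · have hw : wt a b n = wt b a n := by
      rcases hcase with h | h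
      · exact wt_comm_of_even a b h
      · rw [h]
    rw [pair_eq_sum_Phi]
    apply Finset.sum_eq_zero
    intro i _
    apply Finset.sum_eq_zero
    intro j _
    have hZ : Phi n a b t₁ t₂ s₁ s₂ (Matrix.single i j (1 : ℝ)) = 0 :=
      hno _ (Phi_intertwine₁ n hn a b ha t₁ t₂ s₁ s₂ ht.sq₁ hs.sq₁ _)
        (Phi_intertwine₂ n hn a b hb t₁ t₂ s₁ s₂ hw ht.braid hs.braid ht.sq₂ hs.sq₂ _)
    rw [hZ]
    rfl
  · push Not at hcase
    obtain ⟨hodd, hab⟩ := hcase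
    obtain ⟨ht₁, ht₂⟩ := eq_neg_one_of_odd hodd ha hb hab t₁ t₂ ht
    obtain ⟨hs₁, hs₂⟩ := eq_neg_one_of_odd hodd ha hb hab s₁ s₂ hs
    have hall : ∀ Y : Matrix ι κ ℝ, Y = 0 := by
      intro Y
      apply hno Y
      · rw [ht₁, hs₁]; simp
      · rw [ht₂, hs₂]; simp
    by_cases hι : IsEmpty ι
    · unfold pair pairF
      simp [Matrix.trace_eq_zero_of_isEmpty]
    · have hκ : IsEmpty κ := by
        by_contra hκ
        rw [not_isEmpty_iff] at hι hκ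
        obtain ⟨i⟩ := hι
        obtain ⟨j⟩ := hκ
        have := hall (Matrix.single i j (1 : ℝ))
        have h1 := congrFun (congrFun this i) j
        simp at h1
      unfold pair pairF
      simp [Matrix.trace_eq_zero_of_isEmpty]

end Final

end Cfsg.Agent.Helper81.FH
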