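import Mathlib
import Cfsg.Agent.Helper5.SuBN.Defs

set_option autoImplicit false

namespace Cfsg.Agent.Helper81.SuBNN3

open Matrix Cfsg.Agent.Helper5.SuBN

variable {F : Type*} [Field F] {n : ℕ} {σ : F →+* F}

/-- a monomial matrix of the unitary group normalises the torus -/
theorem conj_mem_Tsub (m : UG n σ) (hm : m ∈ Mono n σ) (t : UG n σ) (ht : t ∈ Tsub n σ) :
    m * t * m⁻¹ ∈ Tsub n σ := by
  obtain ⟨π, hπ⟩ := (mem_Mono_iff m).1 hm
  rw [mem_Tsub_iff] at ht ⊢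
  intro a' b' hab
  obtain ⟨a, rfl⟩ := π.surjective a'
  obtain ⟨b, rfl⟩ := π.surjective b'
  have hab' : a ≠ b := fun h => hab (by rw [h])
  rw [mono_conj_apply' m π hπ t a b, ht a b hab', mul_zero, zero_mul]

end Cfsg.Agent.Helper81.SuBNN3
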