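import Mathlib
import Cfsg.Agent.Helper5.SuBN.Defs

set_option autoImplicit false

namespace Cfsg.Agent.Helper81.SuBNS1

open Matrix Cfsg.Agent.Helper5.SuBN

variable {F : Type*} [Field F] {n : ℕ} {σ : F →+* F}

/-- the square of a distinguished representative of a simple reflection lies in the torus -/
theorem sq_mem_Tsub (c : F) (s : UG n σ) (hs : s ∈ Sset n σ c) : s * s ∈ Tsub n σ := by
  obtain ⟨k, hk⟩ := hs
  rw [mem_Tsub_iff]
  intro a b hab
  rw [mat_mul, hk, Matrix.mul_apply]
  apply Finset.sum_eq_zero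
  intro i _
  rw [sMat_apply, sMat_apply]
  by_cases hi : i = sPerm k b
  · have hai : a ≠ sPerm k i := by
      intro h
      apply hab
      rw [h, hi, sPerm_sPerm]
    rw [if_neg hai, zero_mul]
  · rw [if_neg hi, mul_zero]

end Cfsg.Agent.Helper81.SuBNS1
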