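import Mathlib
import Cfsg.Prelude.Def_Blocks
import Cfsg.Agent.Helper79.CharComplete

/-!
# Brauer's permutation lemma

* `brauer_perm_abstract`: if an invertible (rectangular) matrix `X` satisfies
  `X (σ i) (τ c) = X i c` for permutations `σ`, `τ` of its row and column index sets, then `σ` and
  `τ` have the same number of fixed points.
* `charTable`, `charTableInv`: the character table of a finite group as a matrix indexed by
  `IrrCharacter G` and `ConjClasses G`, and its inverse.
* `brauer_perm`: Brauer's permutation lemma for `IrrCharacter G` and `ConjClasses G`.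
-/

set_option autoImplicit false
set_option linter.unusedSectionVars false

namespace Cfsg.Agent.Helper81

open Cfsg
open scoped ComplexConjugate

theorem brauer_perm_abstract {I C R : Type*} [Fintype I] [Fintype C] [DecidableEq I] [DecidableEq C]
    [Field R] [CharZero R]
    (X : Matrix I C R) (Y : Matrix C I R) (hXY : X * Y = 1) (hYX : Y * X = 1)
    (σ : Equiv.Perm I) (τ : Equiv.Perm C) (h : ∀ i c, X (σ i) (τ c) = X i c) :
    Fintype.card {i // σ i = i} = Fintype.card {c // τ c = c} := by
  let S : Matrix I I R := Matrix.of fun i j => if σ i = j then 1 else 0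
  let T : Matrix C C R := Matrix.of fun c' c => if τ c' = c then 1 else 0
  have hSX : S * X = X * T := by
    ext i c
    simp only [Matrix.mul_apply, S, T, Matrix.of_apply, ite_mul, one_mul, zero_mul, mul_ite, mul_one, mul_zero]
    rw [Finset.sum_ite_eq, if_pos (Finset.mem_univ _)]
    rw [Finset.sum_eq_single (τ.symm c)]
    · rw [if_pos (by simp)]
      have := h i (τ.symm c)
      rwa [Equiv.apply_symm_apply] at this
    · intro b _ hb
      rw [if_neg]
      intro hb'
      apply hb
      rw [← hb', Equiv.symm_apply_apply]
    · intro hn; exact absurd (Finset.mem_univ _) hn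
  have hS : S = X * T * Y := by
    rw [← hSX, Matrix.mul_assoc, hXY, Matrix.mul_one]
  have htr : S.trace = T.trace := by
    rw [hS, Matrix.trace_mul_cycle, hYX, Matrix.one_mul]
  have h1 : S.trace = (Fintype.card {i // σ i = i} : R) := by
    simp only [Matrix.trace, Matrix.diag, S, Matrix.of_apply]
    rw [Finset.sum_boole, Fintype.card_subtype]
  have h2 : T.trace = (Fintype.card {c // τ c = c} : R) := by
    simp only [Matrix.trace, Matrix.diag, T, Matrix.of_apply]
    rw [Finset.sum_boole, Fintype.card_subtype]
  rw [h1, h2] at htr
  exact_mod_cast htr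

section table

variable {G : Type*} [Group G] [Fintype G] [Fintype (IrrCharacter G)] [Fintype (ConjClasses G)]

/-- The character table as a matrix. -/
noncomputable def charTable (G : Type*) [Group G] : Matrix (IrrCharacter G) (ConjClasses G) ℂ :=
  fun χ c => (χ : G → ℂ) c.out

/-- The inverse of the character table. -/
noncomputable def charTableInv (G : Type*) [Group G] : Matrix (ConjClasses G) (IrrCharacter G) ℂ :=
  fun c χ => (Nat.card (Subgroup.centralizer ({c.out} : Set G)) : ℂ)⁻¹ * conj ((χ : G → ℂ) c.out)

omit [Fintype G] [Fintype (IrrCharacter G)] [Fintype (ConjClasses G)] in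
theorem isConj_out_mk (g : G) : IsConj (ConjClasses.mk g).out g := by
  rw [← ConjClasses.mk_eq_mk_iff_isConj]
  exact Quotient.out_eq _

omit [Fintype G] [Fintype (IrrCharacter G)] [Fintype (ConjClasses G)] in
theorem charTable_mk (χ : IrrCharacter G) (g : G) :
    charTable G χ (ConjClasses.mk g) = (χ : G → ℂ) g := by
  unfold charTable
  exact (Helper79.isClassFunction_iff_isConj.1 (Helper79.irr_isClassFunction χ)) _ _ (isConj_out_mk g)

theorem charTableInv_mul_charTable [DecidableEq (ConjClasses G)] :
    charTableInv G * charTable G = 1 := by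
  classical
  ext c c'
  simp only [Matrix.mul_apply, charTableInv, charTable, Matrix.one_apply]
  have hc : (Nat.card (Subgroup.centralizer ({c.out} : Set G)) : ℂ) ≠ 0 := by
    have : 0 < Nat.card (Subgroup.centralizer ({c.out} : Set G)) := Nat.card_pos
    exact_mod_cast this.ne'
  have h := Helper79.column_orthogonality (G := G) c'.out c.out
  have h2 : ∑ χ : IrrCharacter G, (Nat.card (Subgroup.centralizer ({c.out} : Set G)) : ℂ)⁻¹ *
      conj ((χ : G → ℂ) c.out) * (χ : G → ℂ) c'.out =
      (Nat.card (Subgroup.centralizer ({c.out} : Set G)) : ℂ)⁻¹ *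
        ∑ χ : IrrCharacter G, (χ : G → ℂ) c'.out * conj ((χ : G → ℂ) c.out) := by
    rw [Finset.mul_sum]
    refine Finset.sum_congr rfl fun χ _ => ?_
    ring
  rw [h2, h]
  have h3 : IsConj c.out c'.out ↔ c = c' := by
    rw [← ConjClasses.mk_eq_mk_iff_isConj]
    have e1 : ConjClasses.mk c.out = c := Quotient.out_eq c
    have e2 : ConjClasses.mk c'.out = c' := Quotient.out_eq c'
    rw [e1, e2]
  by_cases hcc : c = c'
  · rw [if_pos (h3.mpr hcc), if_pos hcc, inv_mul_cancel₀ hc]
  · rw [if_neg (fun hh => hcc (h3.mp hh)), if_neg hcc, mul_zero]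

theorem charTable_mul_charTableInv [DecidableEq (IrrCharacter G)] :
    charTable G * charTableInv G = 1 := by
  classical
  have e : IrrCharacter G ≃ ConjClasses G := by
    apply Fintype.equivOfCardEq
    have := Helper79.card_irr_eq_card_conjClasses (G := G)
    rwa [Nat.card_eq_fintype_card, Nat.card_eq_fintype_card] at this
  rw [Matrix.mul_eq_one_comm_of_equiv e]
  convert charTableInv_mul_charTable (G := G)

/-- **Brauer's permutation lemma**: permutations of the irreducible characters and of the
conjugacy classes that are compatible with the character table have equally many fixed points. -/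
theorem brauer_perm (σ : Equiv.Perm (IrrCharacter G)) (τ : Equiv.Perm (ConjClasses G))
    (h : ∀ (χ : IrrCharacter G) (g g' : G), τ (ConjClasses.mk g) = ConjClasses.mk g' →
      (σ χ : G → ℂ) g' = (χ : G → ℂ) g) :
    Nat.card {χ // σ χ = χ} = Nat.card {c // τ c = c} := by
  classical
  rw [Nat.card_eq_fintype_card, Nat.card_eq_fintype_card]
  refine brauer_perm_abstract (charTable G) (charTableInv G) (charTable_mul_charTableInv (G := G))
    (charTableInv_mul_charTable (G := G)) σ τ ?_
  intro χ c
  obtain ⟨g, rfl⟩ := ConjClasses.exists_rep c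
  obtain ⟨g', hg'⟩ := ConjClasses.exists_rep (τ (ConjClasses.mk g))
  rw [← hg', charTable_mk, charTable_mk]
  exact h χ g g' hg'.symm

end table

end Cfsg.Agent.Helper81
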