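import Cfsg.Agent.Helper16.DefOne.Principal
import Cfsg.Agent.Helper76.CharCentral

/-!
# (PB) piece for helper25's S0999 / S4701: the principal block of a group with a Sylow
`p`-subgroup of order `p`, with the values of the exceptional characters on `P` when `C_G(P) = P`
-/

set_option autoImplicit false
set_option linter.style.haveILetI false
set_option linter.unusedSectionVars false

namespace Cfsg.Agent.Helper81.BR

open Cfsg Cfsg.Agent.Helper16 Cfsg.Agent.Helper16.DefOne Cfsg.Agent.Helper82.DefOne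
  Cfsg.Agent.Helper77.DefOne

universe u

variable {G : Type u} [Group G] [Fintype G] {p : ℕ} [Fact p.Prime] (P : Sylow p G)

theorem coe_mem_of_cen_eq (hC : cen P = (P : Subgroup G)) (c : cen P) :
    (c : G) ∈ (P : Subgroup G) := by
  exact hC.le c.2

theorem comm_of_cen_eq (hC : cen P = (P : Subgroup G)) (a b : cen P) : a * b = b * a := by
  apply Subtype.ext
  have hb := coe_mem_of_cen_eq P hC b
  have h := Subgroup.mem_centralizer_iff.mp a.2 (b : G) hb
  exact h.symm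

theorem irr_one_of_cen_eq (hC : cen P = (P : Subgroup G)) (φ : IrrCharacter (cen P)) :
    (φ : cen P → ℂ) 1 = 1 :=
  Helper76.irr_one_of_comm (comm_of_cen_eq P hC) φ.2

theorem eq_oneIrr_of_isCanon (hC : cen P = (P : Subgroup G)) (φ : IrrCharacter (cen P))
    (h : IsCanon P φ) : φ = oneIrr P := by
  apply Subtype.ext
  funext c
  rw [h c (coe_mem_of_cen_eq P hC c), irr_one_of_cen_eq P hC φ]
  rfl

theorem can_eq_oneIrr (hP : Nat.card P = p) (hC : cen P = (P : Subgroup G))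
    (φ : IrrCharacter (cen P)) : can P φ = oneIrr P :=
  eq_oneIrr_of_isCanon P hC _ (isCanon_can P hP φ)

theorem card_cen_of_eq (hP : Nat.card P = p) (hC : cen P = (P : Subgroup G)) :
    Nat.card (cen P) = p := by
  exact (congrArg (fun H : Subgroup G => Nat.card H) hC).trans hP

/-- orthogonality of the irreducible characters of `C_G(P) = P`, as a sum -/
theorem sum_mul_conj (hP : Nat.card P = p) (hC : cen P = (P : Subgroup G)) [Fintype (cen P)]
    (φ φ' : IrrCharacter (cen P)) :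
    ∑ c : cen P, (φ : cen P → ℂ) c * (starRingEnd ℂ) ((φ' : cen P → ℂ) c) =
      if φ = φ' then (p : ℂ) else 0 := by
  classical
  have h := Helper79.classInner_irr φ φ'
  unfold classInner at h
  rw [card_cen_of_eq P hP hC] at h
  have hp0 : (p : ℂ) ≠ 0 := by
    have : p ≠ 0 := (Fact.out : p.Prime).ne_zero
    exact_mod_cast this
  have h2 : ∑ c : cen P, (φ : cen P → ℂ) c * (starRingEnd ℂ) ((φ' : cen P → ℂ) c) =
      (p : ℂ) * (if φ = φ' then 1 else 0) := by
    rw [← h]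
    field_simp
  rw [h2]
  split_ifs <;> simp

theorem finsum_P_eq_sum_cen (hC : cen P = (P : Subgroup G)) [Fintype (cen P)] (f : G → ℂ) :
    ∑ᶠ u : (P : Subgroup G), f (u : G) = ∑ c : cen P, f (c : G) := by
  rw [← finsum_eq_sum_of_fintype]
  exact (finsum_comp_equiv (MulEquiv.subgroupCongr hC).toEquiv
    (f := fun u : (P : Subgroup G) => f (u : G))).symm

/-- the two sums over `P` for a character which is `δ` times a sum of `e` non-trivial linear
characters on `P \ 1` -/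
theorem sums_of_rows (hP : Nat.card P = p) (hC : cen P = (P : Subgroup G)) [Fintype (cen P)]
    (θ : IrrCharacter G) (δ : ℤ) (hδ : δ = 1 ∨ δ = -1) (e : ℕ)
    (O : Finset (IrrCharacter (cen P))) (hOcard : O.card = e) (hO1 : oneIrr P ∉ O)
    (hval : ∀ c : cen P, c ≠ 1 →
      (θ : G → ℂ) (c : G) = (δ : ℂ) * ∑ φ ∈ O, (φ : cen P → ℂ) c) :
    (∑ c : cen P, (θ : G → ℂ) (c : G) = (θ : G → ℂ) 1 - (δ : ℂ) * (e : ℂ)) ∧
    (∑ c : cen P, (Complex.normSq ((θ : G → ℂ) (c : G)) : ℂ) =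
      (θ : G → ℂ) 1 ^ 2 + (e : ℂ) * ((p : ℂ) - (e : ℂ))) := by
  classical
  set S : cen P → ℂ := fun c => ∑ φ ∈ O, (φ : cen P → ℂ) c with hS
  have hS1 : S 1 = (e : ℂ) := by
    show ∑ φ ∈ O, (φ : cen P → ℂ) 1 = (e : ℂ)
    rw [Finset.sum_congr rfl (fun φ _ => irr_one_of_cen_eq P hC φ), Finset.sum_const, hOcard]
    simp
  have hSsum : ∑ c : cen P, S c = 0 := by
    show ∑ c : cen P, ∑ φ ∈ O, (φ : cen P → ℂ) c = 0
    rw [Finset.sum_comm]
    apply Finset.sum_eq_zero
    intro φ hφ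
    have h := sum_mul_conj P hP hC φ (oneIrr P)
    have hne : φ ≠ oneIrr P := by
      rintro rfl
      exact hO1 hφ
    rw [if_neg hne] at h
    rw [← h]
    apply Finset.sum_congr rfl
    intro c _
    show _ = (φ : cen P → ℂ) c * (starRingEnd ℂ) (1 : ℂ)
    rw [map_one, mul_one]
  have hSsq : ∑ c : cen P, S c * (starRingEnd ℂ) (S c) = (e : ℂ) * (p : ℂ) := by
    have h1 : ∀ c : cen P, S c * (starRingEnd ℂ) (S c) =
        ∑ φ ∈ O, ∑ φ' ∈ O, (φ : cen P → ℂ) c * (starRingEnd ℂ) ((φ' : cen P → ℂ) c) := by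
      intro c
      show (∑ φ ∈ O, (φ : cen P → ℂ) c) * (starRingEnd ℂ) (∑ φ ∈ O, (φ : cen P → ℂ) c) = _
      rw [map_sum, Finset.sum_mul_sum]
    rw [Finset.sum_congr rfl (fun c _ => h1 c), Finset.sum_comm]
    have h2 : ∀ φ ∈ O, ∑ c : cen P, ∑ φ' ∈ O,
        (φ : cen P → ℂ) c * (starRingEnd ℂ) ((φ' : cen P → ℂ) c) = (p : ℂ) := by
      intro φ hφ
      rw [Finset.sum_comm]
      rw [Finset.sum_congr rfl (fun φ' _ => sum_mul_conj P hP hC φ φ')]
      rw [Finset.sum_ite_eq O φ]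
      rw [if_pos hφ]
    rw [Finset.sum_congr rfl h2, Finset.sum_const, hOcard]
    simp
  have hδδ : (δ : ℂ) * (δ : ℂ) = 1 := by
    rcases hδ with h | h <;> rw [h] <;> norm_num
  have hconjδ : (starRingEnd ℂ) (δ : ℂ) = (δ : ℂ) := map_intCast (starRingEnd ℂ) δ
  have hSerase : ∑ c ∈ (Finset.univ : Finset (cen P)).erase 1, S c = -(e : ℂ) := by
    have h := Finset.add_sum_erase (Finset.univ : Finset (cen P)) S (Finset.mem_univ 1)
    rw [hSsum, hS1] at h
    linear_combination h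
  have hSsqerase : ∑ c ∈ (Finset.univ : Finset (cen P)).erase 1, S c * (starRingEnd ℂ) (S c) =
      (e : ℂ) * (p : ℂ) - (e : ℂ) * (e : ℂ) := by
    have h := Finset.add_sum_erase (Finset.univ : Finset (cen P))
      (fun c => S c * (starRingEnd ℂ) (S c)) (Finset.mem_univ 1)
    rw [hSsq] at h
    simp only [hS1, map_natCast] at h
    linear_combination h
  constructor
  · rw [← Finset.add_sum_erase (Finset.univ : Finset (cen P)) _ (Finset.mem_univ 1)]
    have h1 : ∑ c ∈ (Finset.univ : Finset (cen P)).erase 1, (θ : G → ℂ) (c : G) =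
        ∑ c ∈ (Finset.univ : Finset (cen P)).erase 1, (δ : ℂ) * S c := by
      apply Finset.sum_congr rfl
      intro c hc
      exact hval c (Finset.ne_of_mem_erase hc)
    rw [h1, ← Finset.mul_sum, hSerase]
    show (θ : G → ℂ) 1 + _ = _
    ring
  · rw [← Finset.add_sum_erase (Finset.univ : Finset (cen P)) _ (Finset.mem_univ 1)]
    have h1 : ∑ c ∈ (Finset.univ : Finset (cen P)).erase 1,
        (Complex.normSq ((θ : G → ℂ) (c : G)) : ℂ) =
        ∑ c ∈ (Finset.univ : Finset (cen P)).erase 1, S c * (starRingEnd ℂ) (S c) := by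
      apply Finset.sum_congr rfl
      intro c hc
      rw [hval c (Finset.ne_of_mem_erase hc), ← Complex.mul_conj, map_mul, hconjδ]
      show (δ : ℂ) * S c * ((δ : ℂ) * (starRingEnd ℂ) (S c)) = _
      calc (δ : ℂ) * S c * ((δ : ℂ) * (starRingEnd ℂ) (S c))
          = ((δ : ℂ) * (δ : ℂ)) * (S c * (starRingEnd ℂ) (S c)) := by ring
        _ = S c * (starRingEnd ℂ) (S c) := by rw [hδδ, one_mul]
    rw [h1, hSsqerase]
    show (Complex.normSq ((θ : G → ℂ) 1) : ℂ) + _ = _
    rw [irr_one_eq_natCast θ, Complex.normSq_natCast]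
    push_cast
    ring

open Classical in
/-- the extra information on the principal block when `C_G(P) = P` -/
theorem extra_of_cen_eq (hP : Nat.card P = p) (hC : cen P = (P : Subgroup G))
    (X Y : Set (IrrCharacter G)) (δ : ℤ) (hδ : δ = 1 ∨ δ = -1) (e : ℕ)
    (hin : inertia P (oneIrr P) = e) (hXY : Rset P (oneIrr P) = X ∪ Y)
    (hYrow : ∀ ψ ∈ Y, ∃ φ₀ : IrrCharacter (cen P), can P φ₀ = oneIrr P ∧ ¬ IsCanon P φ₀ ∧
      ∀ φ : IrrCharacter (cen P), can P φ = oneIrr P → ¬ IsCanon P φ →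
        rowZ P ψ φ = if ∃ n : nor P, n • φ = φ₀ then δ else 0) :
    (∀ θ ∈ Y, ∑ᶠ u : (P : Subgroup G), (θ : G → ℂ) (u : G) =
      (θ : G → ℂ) 1 - (δ : ℂ) * (e : ℂ)) ∧
    (∀ θ ∈ Y, ∑ᶠ u : (P : Subgroup G), (Complex.normSq ((θ : G → ℂ) (u : G)) : ℂ) =
      (θ : G → ℂ) 1 ^ 2 + (e : ℂ) * ((p : ℂ) - (e : ℂ))) ∧
    (∀ ψ : IrrCharacter G, ψ ∉ X → ψ ∉ Y → ∀ u : G, u ∈ (P : Subgroup G) → u ≠ 1 →
      (ψ : G → ℂ) u = 0) := by
  classical
  haveI : Fintype (cen P) := Fintype.ofFinite _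
  haveI : Finite (IrrCharacter (cen P)) := Helper79.irr_finite'
  letI : Fintype (IrrCharacter (cen P)) := Fintype.ofFinite _
  -- the values of an exceptional character on `P \ 1`
  have key : ∀ θ ∈ Y, ∃ O : Finset (IrrCharacter (cen P)), O.card = e ∧ oneIrr P ∉ O ∧
      ∀ c : cen P, c ≠ 1 →
        (θ : G → ℂ) (c : G) = (δ : ℂ) * ∑ φ ∈ O, (φ : cen P → ℂ) c := by
    intro θ hθ
    obtain ⟨φ₀, -, hφ₀n, hrow⟩ := hYrow θ hθ
    let O : Finset (IrrCharacter (cen P)) :=
      Finset.univ.filter (fun φ => ∃ n : nor P, n • φ = φ₀)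
    have hmemO : ∀ φ, φ ∈ O ↔ ∃ n : nor P, n • φ = φ₀ := by
      intro φ
      simp [O]
    have hrows : ∀ φ : IrrCharacter (cen P),
        rowZ P θ φ = if φ ∈ O then δ else 0 := by
      intro φ
      by_cases hcan : IsCanon P φ
      · have h1 : rowZ P θ φ = 0 := by
          unfold rowZ
          rw [can_eq_self P hP φ hcan, sub_self]
        have h2 : φ ∉ O := by
          rw [hmemO]
          rintro ⟨n, hn⟩
          apply hφ₀n
          rw [← hn]
          exact isCanon_smul P hP n φ hcan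
        rw [h1, if_neg h2]
      · rw [hrow φ (can_eq_oneIrr P hP hC φ) hcan]
        by_cases h : ∃ n : nor P, n • φ = φ₀
        · rw [if_pos h, if_pos ((hmemO φ).mpr h)]
        · rw [if_neg h, if_neg (fun h' => h ((hmemO φ).mp h'))]
    refine ⟨O, ?_, ?_, ?_⟩
    · have hcard := card_orbit_in_fibre P hP φ₀ hφ₀n
      rw [can_eq_oneIrr P hP hC φ₀, hin] at hcard
      rw [← hcard, ← Nat.card_eq_finsetCard O]
      apply Nat.card_congr
      refine Equiv.subtypeEquivRight (fun ψ => ?_)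
      rw [hmemO]
      constructor
      · intro h
        exact ⟨can_eq_oneIrr P hP hC ψ, h⟩
      · intro h
        exact h.2
    · rw [hmemO]
      rintro ⟨n, hn⟩
      apply hφ₀n
      rw [← hn, smul_oneIrr]
      exact isCanon_oneIrr P
    · intro c hc1
      have hcG : (c : G) ≠ 1 := by
        intro h
        apply hc1
        exact Subtype.ext h
      have hsing : p ∣ orderOf c :=
        dvd_orderOf_of_mem P hP (c : G) (coe_mem_of_cen_eq P hC c) hcG
      rw [apply_singular_eq P hP θ c hsing, finsum_eq_sum_of_fintype, Finset.mul_sum,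
        Finset.sum_filter]
      apply Finset.sum_congr rfl
      intro φ _
      rw [hrows φ]
      by_cases h : φ ∈ O
      · rw [if_pos h, if_pos ((hmemO φ).mp h)]
      · rw [if_neg h, if_neg (fun h' => h ((hmemO φ).mpr h'))]
        push_cast
        ring
  refine ⟨?_, ?_, ?_⟩
  · intro θ hθ
    obtain ⟨O, hOcard, hO1, hval⟩ := key θ hθ
    rw [finsum_P_eq_sum_cen P hC]
    exact (sums_of_rows P hP hC θ δ hδ e O hOcard hO1 hval).1
  · intro θ hθ
    obtain ⟨O, hOcard, hO1, hval⟩ := key θ hθ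
    rw [finsum_P_eq_sum_cen P hC (fun g => (Complex.normSq ((θ : G → ℂ) g) : ℂ))]
    exact (sums_of_rows P hP hC θ δ hδ e O hOcard hO1 hval).2
  · intro ψ hψX hψY u hu hu1
    have hrow0 : ∀ φ : IrrCharacter (cen P), rowZ P ψ φ = 0 := by
      intro φ
      by_contra hne
      have hmem : ψ ∈ Rset P (oneIrr P) := ⟨φ, can_eq_oneIrr P hP hC φ, hne⟩
      rw [hXY] at hmem
      rcases hmem with h | h
      · exact hψX h
      · exact hψY h
    have h := apply_singular_eq P hP ψ ⟨u, le_cen P hP hu⟩ (dvd_orderOf_of_mem P hP u hu hu1)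
    rw [h]
    apply finsum_eq_zero_of_forall_eq_zero
    intro φ
    rw [hrow0 φ]
    simp

/-- **(PB)** the principal block of a group with a Sylow `p`-subgroup of order `p`
(`Helper16.DefOne.principal_structure`), with the values of the exceptional characters on `P`
in the case `C_G(P) = P`. -/
theorem principal_plus {G : Type u} [Group G] [Fintype G] {p : ℕ} [Fact p.Prime]
    (M : Ideal AlgInt) (P : Sylow p G) (hM : IsPModular p M) (hP : Nat.card P = p) (e : ℕ)
    (he : (Subgroup.centralizer ((P : Subgroup G) : Set G)).relIndex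
      (Subgroup.normalizer ((P : Subgroup G) : Set G)) = e) :
    ∃ X Y : Set (IrrCharacter G), principalBlock M G = X ∪ Y ∧ Disjoint X Y ∧ Nat.card X = e ∧
      Nat.card Y = (p - 1) / e ∧ ∃ (εX : IrrCharacter G → ℤ) (ε : ℤ),
      (∀ χ ∈ X, (εX χ = 1 ∨ εX χ = -1) ∧ (charDegree (χ : G → ℂ) : ℤ) ≡ εX χ [ZMOD p] ∧
        ∀ x : G, x ∈ (P : Subgroup G) → x ≠ 1 → ∀ y : G,
          y ∈ Subgroup.centralizer ((P : Subgroup G) : Set G) → ¬ p ∣ orderOf y →
          (χ : G → ℂ) (x * y) = (εX χ : ℂ)) ∧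
      (ε = 1 ∨ ε = -1) ∧ (∀ θ ∈ Y, (charDegree (θ : G → ℂ) : ℤ) ≡ ε * (e : ℤ) [ZMOD p]) ∧
      (∀ θ ∈ Y, ∀ θ' ∈ Y, ∀ g : G, ¬ p ∣ orderOf g → (θ : G → ℂ) g = (θ' : G → ℂ) g) ∧
      (∀ θ ∈ Y, ∀ g : G, ¬ p ∣ orderOf g →
        (ε : ℂ) * (θ : G → ℂ) g = ∑ᶠ χ ∈ X, (εX χ : ℂ) * (χ : G → ℂ) g) ∧
      (Subgroup.centralizer ((P : Subgroup G) : Set G) = (P : Subgroup G) →
        (∀ θ ∈ Y, ∑ᶠ u : (P : Subgroup G), (θ : G → ℂ) (u : G) =
          (θ : G → ℂ) 1 - (ε : ℂ) * (e : ℂ)) ∧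
        (∀ θ ∈ Y, ∑ᶠ u : (P : Subgroup G), (Complex.normSq ((θ : G → ℂ) (u : G)) : ℂ) =
          (θ : G → ℂ) 1 ^ 2 + (e : ℂ) * ((p : ℂ) - (e : ℂ))) ∧
        (∀ ψ : IrrCharacter G, ψ ∉ X → ψ ∉ Y → ∀ u : G, u ∈ (P : Subgroup G) → u ≠ 1 →
          (ψ : G → ℂ) u = 0)) := by
  classical
  haveI := normal_subgroupOf_nor P hP
  have hnor := nor_eq_normalizer P hP
  have hmod : ModCount p P := Helper24.DefOneMZ2.module_count M hM P hP hnor
  have hin : inertia P (oneIrr P) = e := by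
    rw [inertia_oneIrr P hP, hnor]
    exact he
  obtain ⟨X, Y, ε, δ, hXY, hdisj, hcX, hcY, hε, hδ, hval, hdegX, hdegY, hrel, -, hYrow⟩ :=
    Rset_main P hP hmod (oneIrr P) (isCanon_oneIrr P)
  have hepos : 0 < e := by
    rw [← hin]
    exact inertia_pos P hP _
  have hfe : (cen P).relIndex (nor P) = e := by
    rw [hnor]; exact he
  refine ⟨X, Y, ?_, hdisj, by rw [hcX, hin], by rw [hcY, hin], ε, δ, ?_, hδ, ?_, ?_, hrel, ?_⟩
  · rw [Cfsg.Agent.Helper77.DefOne.principalBlock_eq_Rset M P hM hP, hXY]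
  · intro χ hχ
    refine ⟨hε χ, ?_, ?_⟩
    · have h1 := hdegX χ hχ
      rw [hin, hfe, Nat.div_self hepos, charDegree_oneIrr] at h1
      simpa using h1
    · intro x hx hx1 y hy hyr
      have h1 := hval χ hχ ⟨x * y, (cen P).mul_mem (le_cen P hP hx) hy⟩
        (dvd_orderOf_mul P hP x hx hx1 y hy hyr)
      rw [orbit_oneIrr, finsum_mem_singleton] at h1
      rw [h1]
      show (ε χ : ℂ) * 1 = _
      rw [mul_one]
  · intro θ hθ
    have h1 := hdegY θ hθ
    rw [hfe, charDegree_oneIrr] at h1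
    simpa using h1
  · intro θ hθ θ' hθ' g hg
    have h1 := hrel θ hθ g hg
    have h2 := hrel θ' hθ' g hg
    have hδne : (δ : ℂ) ≠ 0 := by
      rcases hδ with h | h <;> rw [h] <;> norm_num
    apply mul_left_cancel₀ hδne
    rw [h1, h2]
  · intro hC
    exact extra_of_cen_eq P hP hC X Y δ hδ e hin hXY hYrow

end Cfsg.Agent.Helper81.BR
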