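import Mathlib
import Cfsg.Agent.Helper25.Bli.Defs

/-!
# (L2) of helper25's S4484 farm (#10854): `‖u - α‖ ≤ 1` for a unitary `u` all of whose eigenvalues
are within distance `1` of `α`

`u - α • 1` is normal, so its norm is its spectral radius; in finite dimension the spectrum consists
of eigenvalues.
-/

set_option autoImplicit false
set_option linter.unusedSectionVars false
set_option linter.unusedVariables false

namespace Cfsg.Agent.Helper81.Bli

open Module Module.End Cfsg.Agent.Helper25.Bli

variable {G : Type*} [Group G] {V : Type*} [NormedAddCommGroup V] [InnerProductSpace ℂ V]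
  [FiniteDimensional ℂ V]

/-- (L2) -/
theorem norm_sub_smul_le_one (u : unitary (V →L[ℂ] V)) (α : ℂ)
    (h : ∀ β : ℂ, HasEigenvalue ((u : V →L[ℂ] V) : V →ₗ[ℂ] V) β → ‖β - α‖ ≤ 1) :
    ‖(u : V →L[ℂ] V) - α • (1 : V →L[ℂ] V)‖ ≤ 1 := by
  set a : V →L[ℂ] V := (u : V →L[ℂ] V) - α • (1 : V →L[ℂ] V) with ha
  have hu1 : star (u : V →L[ℂ] V) * (u : V →L[ℂ] V) = 1 := Unitary.coe_star_mul_self u
  have hu2 : (u : V →L[ℂ] V) * star (u : V →L[ℂ] V) = 1 := Unitary.coe_mul_star_self u
  have hnormal : IsStarNormal a := by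
    refine ⟨?_⟩
    show star a * a = a * star a
    rw [ha, star_sub, star_smul, star_one]
    simp only [sub_mul, mul_sub, smul_mul_assoc, mul_smul_comm, one_mul, mul_one, hu1, hu2]
    simp only [smul_sub]
    rw [smul_comm α (star α) (1 : V →L[ℂ] V)]
    abel
  have hsr := IsStarNormal.spectralRadius_eq_nnnorm a
  have hle : spectralRadius ℂ a ≤ 1 := by
    unfold spectralRadius
    apply iSup₂_le
    intro k hk
    have hk' : k + α ∈ spectrum ℂ (u : V →L[ℂ] V) := by
      rw [spectrum.mem_iff] at hk ⊢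
      convert hk using 1
      rw [ha, map_add, Algebra.algebraMap_eq_smul_one, Algebra.algebraMap_eq_smul_one]
      abel_nf
    have hk'' : k + α ∈ spectrum ℂ ((u : V →L[ℂ] V) : V →ₗ[ℂ] V) := by
      have h3 := AlgEquiv.spectrum_eq (Module.End.toContinuousLinearMap V)
        ((u : V →L[ℂ] V) : V →ₗ[ℂ] V)
      have h5 : (Module.End.toContinuousLinearMap V) ((u : V →L[ℂ] V) : V →ₗ[ℂ] V)
          = (u : V →L[ℂ] V) := by
        ext v
        rfl
      rw [h5] at h3
      rw [← h3]
      exact hk'
    have hev := (Module.End.hasEigenvalue_iff_mem_spectrum).2 hk''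
    have h4 := h (k + α) hev
    rw [add_sub_cancel_right] at h4
    exact_mod_cast h4
  rw [hsr] at hle
  exact_mod_cast hle

end Cfsg.Agent.Helper81.Bli
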