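import Mathlib
import Cfsg.Agent.Helper25.Bli.Defs

/-!
# (L5a) of helper25's S4484 farm (#10854): an element `y ≠ 1` of a simple group moves a block
-/

set_option autoImplicit false
set_option linter.unusedSectionVars false
set_option linter.unusedVariables false

namespace Cfsg.Agent.Helper81.Bli

open Module Module.End Cfsg.Agent.Helper25.Bli

variable {G : Type*} [Group G] {V : Type*} [NormedAddCommGroup V] [InnerProductSpace ℂ V]
  [FiniteDimensional ℂ V]

theorem L5a_act_mul (Φ : G →* unitary (V →L[ℂ] V)) (g h : G) :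
    act Φ (g * h) = (act Φ g).comp (act Φ h) := by
  apply LinearMap.ext
  intro v
  simp [act, map_mul]

theorem L5a_act_one (Φ : G →* unitary (V →L[ℂ] V)) : act Φ 1 = LinearMap.id := by
  apply LinearMap.ext
  intro v
  simp [act]

theorem L5a_map_mul (Φ : G →* unitary (V →L[ℂ] V)) (g h : G) (W : Submodule ℂ V) :
    W.map (act Φ (g * h)) = (W.map (act Φ h)).map (act Φ g) := by
  rw [L5a_act_mul, Submodule.map_comp]

/-- (L5a) -/
theorem exists_moved [IsSimpleGroup G] (Φ : G →* unitary (V →L[ℂ] V))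
    (𝒲 : Set (Submodule ℂ V)) (h2 : ∃ W ∈ 𝒲, ∃ W' ∈ 𝒲, W ≠ W')
    (hinv : ∀ g : G, ∀ W ∈ 𝒲, W.map (act Φ g) ∈ 𝒲)
    (htr : ∀ W ∈ 𝒲, ∀ W' ∈ 𝒲, ∃ g : G, W.map (act Φ g) = W') (y : G) (hy : y ≠ 1) :
    ∃ W ∈ 𝒲, W.map (act Φ y) ≠ W := by
  by_contra hcon
  have hyfix : ∀ W ∈ 𝒲, W.map (act Φ y) = W := by
    intro W hW
    by_contra h
    exact hcon ⟨W, hW, h⟩
  have hone : ∀ W : Submodule ℂ V, W.map (act Φ 1) = W := by
    intro W
    rw [L5a_act_one, Submodule.map_id]
  let N : Subgroup G :=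
    { carrier := {g | ∀ W ∈ 𝒲, W.map (act Φ g) = W}
      one_mem' := fun W _ => hone W
      mul_mem' := by
        intro a b ha hb W hW
        rw [L5a_map_mul, hb W hW, ha W hW]
      inv_mem' := by
        intro a ha W hW
        have h1 : W.map (act Φ (a⁻¹ * a)) = W := by rw [inv_mul_cancel]; exact hone W
        rw [L5a_map_mul, ha W hW] at h1
        exact h1 }
  have hNmem : ∀ g : G, g ∈ N ↔ ∀ W ∈ 𝒲, W.map (act Φ g) = W := fun g => Iff.rfl
  have hNn : N.Normal := by
    constructor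
    intro n hn g
    rw [hNmem] at hn ⊢
    intro W hW
    rw [L5a_map_mul, L5a_map_mul, hn _ (hinv g⁻¹ W hW), ← L5a_map_mul, mul_inv_cancel]
    exact hone W
  have hyN : y ∈ N := hyfix
  have hNtop : N = ⊤ := by
    rcases hNn.eq_bot_or_eq_top with h | h
    · exfalso
      rw [h, Subgroup.mem_bot] at hyN
      exact hy hyN
    · exact h
  obtain ⟨W, hW, W', hW', hne⟩ := h2
  obtain ⟨g, hg⟩ := htr W hW W' hW'
  have hgN : g ∈ N := by rw [hNtop]; exact Subgroup.mem_top g
  exact hne ((hgN W hW).symm.trans hg)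

end Cfsg.Agent.Helper81.Bli
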