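import Mathlib
import Cfsg.Prelude.Def_Blocks
import Cfsg.Agent.Helper81.GlaubP2
import Cfsg.Agent.Helper81.RootCount

/-!
# The Glauberman correspondence for a `p`-group of operators: the correspondence
-/

set_option autoImplicit false
set_option linter.unusedSectionVars false

namespace Cfsg.Agent.Helper81

open Cfsg
open scoped ComplexConjugate

universe u v w

theorem IntModEq.natCast_zmod_eq {p : ℕ} (hp : p ≠ 0) {a b : ℕ}
    (h : IntModEq p (a : ℂ) (b : ℂ)) : (a : ZMod p) = (b : ZMod p) := by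
  have h' : IntModEq p ((a : ℤ) : ℂ) ((b : ℤ) : ℂ) := by simpa using h
  have := IntModEq.int_modEq hp h'
  have h2 := (ZMod.intCast_eq_intCast_iff _ _ p).mpr this
  simpa using h2

/-- The action of `S` on the irreducible characters of `G`: `(s • χ) g = χ (s⁻¹ • g)`. -/
@[reducible] noncomputable def irrSMulAction (S : Type w) (G : Type u) [Group S] [Group G]
    [MulDistribMulAction S G] : MulAction S (IrrCharacter G) where
  smul s χ := ⟨fun g => (χ : G → ℂ) (s⁻¹ • g),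
    Helper80.IsIrrCharacter.comp_surjective χ.2 (MulDistribMulAction.toMonoidHom G s⁻¹)
      (MulAction.surjective s⁻¹)⟩
  one_smul χ := Subtype.ext (funext fun g => by
    change (χ : G → ℂ) ((1 : S)⁻¹ • g) = _
    rw [inv_one, one_smul])
  mul_smul s t χ := Subtype.ext (funext fun g => by
    change (χ : G → ℂ) ((s * t)⁻¹ • g) = (χ : G → ℂ) (t⁻¹ • s⁻¹ • g)
    rw [mul_inv_rev, mul_smul])

theorem irrSMulAction_apply {S : Type w} {G : Type u} [Group S] [Group G]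
    [MulDistribMulAction S G] (s : S) (χ : IrrCharacter G) (g : G) :
    ((letI := irrSMulAction S G; s • χ : IrrCharacter G) : G → ℂ) g = (χ : G → ℂ) (s⁻¹ • g) :=
  rfl

section main

variable {G : Type u} [Group G] [Fintype G] {C : Type v} [Group C] [Fintype C]
  {S : Type w} [Group S] [MulDistribMulAction S G]
  {p : ℕ} [hp : Fact p.Prime] (ι : C →* G) [Fintype (IrrCharacter C)]

variable (hS : IsPGroup p S) (hinj : Function.Injective ι)
  (hfix : ∀ g : G, g ∈ Set.range ι ↔ ∀ s : S, s • g = g)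

include hS hinj hfix

/-- `|G| [χ, χ'] ≡ |C| ∑_ψ m_ψ m'_ψ` for invariant `χ`, `χ'`. -/
theorem inner_intModEq (χ χ' : IrrCharacter G)
    (hχ : ∀ (s : S) (g : G), (χ : G → ℂ) (s • g) = (χ : G → ℂ) g)
    (hχ' : ∀ (s : S) (g : G), (χ' : G → ℂ) (s • g) = (χ' : G → ℂ) g) :
    IntModEq p ((Nat.card G : ℂ) * classInner (χ : G → ℂ) (χ' : G → ℂ))
      ((Nat.card C : ℂ) * ∑ ψ : IrrCharacter C, (mult ι χ ψ : ℂ) * (mult ι χ' ψ : ℂ)) := by
  have h := sum_intModEq_sum_comp (p := p) ι hS hinj hfix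
    (fun g => (χ : G → ℂ) g * conj ((χ' : G → ℂ) g)) (fun s g => by rw [hχ, hχ'])
    (fun g => (irr_isIntegral χ g).mul (irr_conj_isIntegral χ' g))
  rw [sum_mul_conj_eq_classInner] at h
  have e : ∑ c : C, (χ : G → ℂ) (ι c) * conj ((χ' : G → ℂ) (ι c)) =
      (Nat.card C : ℂ) * ∑ ψ : IrrCharacter C, (mult ι χ ψ : ℂ) * (mult ι χ' ψ : ℂ) := by
    have := sum_mul_conj_eq_classInner ((χ : G → ℂ) ∘ ι) ((χ' : G → ℂ) ∘ ι)
    simp only [Function.comp_apply] at this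
    rw [this, classInner_eq_sum_mult (Helper74.isCharacter_comp ι (Helper74.irr_isCharacter χ'))]
    simp only [mult_spec]
  rwa [e] at h

theorem card_fix_ne_zero (hpG : ¬ p ∣ Nat.card G) : ((Nat.card C : ℕ) : ZMod p) ≠ 0 := by
  rw [Ne, ZMod.natCast_eq_zero_iff]
  exact not_dvd_card_fix ι hS hinj hfix hpG

/-- (b) `∑_ψ m_ψ² ≡ 1` modulo `p`. -/
theorem sum_mult_sq (hpG : ¬ p ∣ Nat.card G) (χ : IrrCharacter G)
    (hχ : ∀ (s : S) (g : G), (χ : G → ℂ) (s • g) = (χ : G → ℂ) g) :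
    ∑ ψ : IrrCharacter C, (mult ι χ ψ : ZMod p) * (mult ι χ ψ : ZMod p) = 1 := by
  have h := inner_intModEq ι hS hinj hfix χ χ hχ hχ
  rw [Helper74.irr_inner_self, mul_one] at h
  have h' : IntModEq p ((Nat.card G : ℕ) : ℂ)
      ((Nat.card C * ∑ ψ : IrrCharacter C, mult ι χ ψ * mult ι χ ψ : ℕ) : ℂ) := by
    push_cast
    exact h
  have h2 := IntModEq.natCast_zmod_eq hp.out.ne_zero h'
  have h3 : ((Nat.card G : ℕ) : ZMod p) = ((Nat.card C : ℕ) : ZMod p) :=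
    (ZMod.natCast_eq_natCast_iff _ _ p).mpr (card_modEq_card_fix ι hS hinj hfix)
  rw [h3] at h2
  push_cast at h2
  have h4 := card_fix_ne_zero ι hS hinj hfix hpG
  exact (mul_left_cancel₀ h4 (by rw [mul_one]; exact h2)).symm

/-- (c) `∑_ψ m_ψ m'_ψ ≡ 0` modulo `p` for distinct invariant `χ`, `χ'`. -/
theorem sum_mult_mul_mult (hpG : ¬ p ∣ Nat.card G) (χ χ' : IrrCharacter G) (hne : χ ≠ χ')
    (hχ : ∀ (s : S) (g : G), (χ : G → ℂ) (s • g) = (χ : G → ℂ) g)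
    (hχ' : ∀ (s : S) (g : G), (χ' : G → ℂ) (s • g) = (χ' : G → ℂ) g) :
    ∑ ψ : IrrCharacter C, (mult ι χ ψ : ZMod p) * (mult ι χ' ψ : ZMod p) = 0 := by
  have h := inner_intModEq ι hS hinj hfix χ χ' hχ hχ'
  rw [Helper74.irr_inner_ne hne, mul_zero] at h
  have h' : IntModEq p ((0 : ℕ) : ℂ)
      ((Nat.card C * ∑ ψ : IrrCharacter C, mult ι χ ψ * mult ι χ' ψ : ℕ) : ℂ) := by
    push_cast
    exact h
  have h2 := IntModEq.natCast_zmod_eq hp.out.ne_zero h'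
  push_cast at h2
  have h4 := card_fix_ne_zero ι hS hinj hfix hpG
  exact (mul_eq_zero.mp h2.symm).resolve_left h4

theorem mult_zmod_eq_zero_of_ne (hpG : ¬ p ∣ Nat.card G) (χ : IrrCharacter G)
    (hχ : ∀ (s : S) (g : G), (χ : G → ℂ) (s • g) = (χ : G → ℂ) g) {β ψ : IrrCharacter C}
    (hβ : ¬ p ∣ mult ι χ β) (hne : ψ ≠ β) : (mult ι χ ψ : ZMod p) = 0 := by
  rw [ZMod.natCast_eq_zero_iff]
  have := dvd_mult_mul_mult ι hS hinj hfix hpG χ hχ hne
  exact (hp.out.dvd_mul.mp this).resolve_right hβ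

/-- Existence of a constituent with multiplicity prime to `p`. -/
theorem exists_mult_not_dvd (hpG : ¬ p ∣ Nat.card G) (χ : IrrCharacter G)
    (hχ : ∀ (s : S) (g : G), (χ : G → ℂ) (s • g) = (χ : G → ℂ) g) :
    ∃ β : IrrCharacter C, ¬ p ∣ mult ι χ β := by
  by_contra hcon
  push Not at hcon
  have h := sum_mult_sq ι hS hinj hfix hpG χ hχ
  have h0 : ∀ ψ : IrrCharacter C, (mult ι χ ψ : ZMod p) = 0 := fun ψ =>
    (ZMod.natCast_eq_zero_iff _ _).mpr (hcon ψ)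
  simp only [h0, mul_zero, Finset.sum_const_zero] at h
  exact zero_ne_one h

theorem mult_unique (hpG : ¬ p ∣ Nat.card G) (χ : IrrCharacter G)
    (hχ : ∀ (s : S) (g : G), (χ : G → ℂ) (s • g) = (χ : G → ℂ) g) {β β' : IrrCharacter C}
    (hβ : ¬ p ∣ mult ι χ β) (hβ' : ¬ p ∣ mult ι χ β') : β' = β := by
  by_contra hne
  have := mult_zmod_eq_zero_of_ne ι hS hinj hfix hpG χ hχ hβ hne
  rw [ZMod.natCast_eq_zero_iff] at this
  exact hβ' this

/-- (ii) the multiplicity is `≡ ±1`. -/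
theorem mult_sq_eq_one (hpG : ¬ p ∣ Nat.card G) (χ : IrrCharacter G)
    (hχ : ∀ (s : S) (g : G), (χ : G → ℂ) (s • g) = (χ : G → ℂ) g) {β : IrrCharacter C}
    (hβ : ¬ p ∣ mult ι χ β) : (mult ι χ β : ZMod p) * (mult ι χ β : ZMod p) = 1 := by
  classical
  have h := sum_mult_sq ι hS hinj hfix hpG χ hχ
  rw [Finset.sum_eq_single β] at h
  · exact h
  · intro ψ _ hne
    rw [mult_zmod_eq_zero_of_ne ι hS hinj hfix hpG χ hχ hβ hne, mul_zero]
  · intro h; exact absurd (Finset.mem_univ β) h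

theorem mult_pm_one (hpG : ¬ p ∣ Nat.card G) (χ : IrrCharacter G)
    (hχ : ∀ (s : S) (g : G), (χ : G → ℂ) (s • g) = (χ : G → ℂ) g) {β : IrrCharacter C}
    (hβ : ¬ p ∣ mult ι χ β) :
    ((mult ι χ β : ℕ) : ℤ) ≡ 1 [ZMOD p] ∨ ((mult ι χ β : ℕ) : ℤ) ≡ -1 [ZMOD p] := by
  have h := mult_sq_eq_one ι hS hinj hfix hpG χ hχ hβ
  have h1 : ((mult ι χ β : ZMod p) - 1) * ((mult ι χ β : ZMod p) + 1) = 0 := by
    ring_nf
    rw [sq, h]
    ring
  rcases mul_eq_zero.mp h1 with h2 | h2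
  · left
    rw [← ZMod.intCast_eq_intCast_iff]
    push_cast
    exact sub_eq_zero.mp h2
  · right
    rw [← ZMod.intCast_eq_intCast_iff]
    push_cast
    exact eq_neg_of_add_eq_zero_left h2

/-- (iii) injectivity. -/
theorem corr_injective (hpG : ¬ p ∣ Nat.card G) (χ χ' : IrrCharacter G)
    (hχ : ∀ (s : S) (g : G), (χ : G → ℂ) (s • g) = (χ : G → ℂ) g)
    (hχ' : ∀ (s : S) (g : G), (χ' : G → ℂ) (s • g) = (χ' : G → ℂ) g) {β : IrrCharacter C}
    (hβ : ¬ p ∣ mult ι χ β) (hβ' : ¬ p ∣ mult ι χ' β) : χ = χ' := by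
  classical
  by_contra hne
  have h := sum_mult_mul_mult ι hS hinj hfix hpG χ χ' hne hχ hχ'
  rw [Finset.sum_eq_single β] at h
  · rcases mul_eq_zero.mp h with h1 | h1
    · exact hβ ((ZMod.natCast_eq_zero_iff _ _).mp h1)
    · exact hβ' ((ZMod.natCast_eq_zero_iff _ _).mp h1)
  · intro ψ _ hψ
    rw [mult_zmod_eq_zero_of_ne ι hS hinj hfix hpG χ hχ hβ hψ, zero_mul]
  · intro h; exact absurd (Finset.mem_univ β) h

end main

end Cfsg.Agent.Helper81
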