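import Mathlib
import Cfsg.Prelude.Def_Blocks
import Cfsg.Agent.Helper81.GlaubP3

/-!
# The Glauberman correspondence for a `p`-group of operators: surjectivity
-/

set_option autoImplicit false
set_option linter.unusedSectionVars false

namespace Cfsg.Agent.Helper81

open Cfsg
open scoped ComplexConjugate

universe u v w

section main

variable {G : Type u} [Group G] [Fintype G] {C : Type v} [Group C] [Fintype C]
  {S : Type w} [Group S] [MulDistribMulAction S G]
  {p : ℕ} [hp : Fact p.Prime] (ι : C →* G) [Fintype (IrrCharacter G)]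

/-- `|C| ∑_χ χ(1) m_{χβ} = |G| β(1)` (Frobenius reciprocity at the identity). -/
theorem sum_degree_mul_mult (hinj : Function.Injective ι) (β : IrrCharacter C) :
    ∑ χ : IrrCharacter G, (χ : G → ℂ) 1 * ((Nat.card C : ℂ) * (mult ι χ β : ℂ)) =
      (Nat.card G : ℂ) * (β : C → ℂ) 1 := by
  classical
  simp only [← sum_comp_mul_conj, Finset.mul_sum]
  rw [Finset.sum_comm]
  have h1 : ∀ c : C, ∑ χ : IrrCharacter G, (χ : G → ℂ) 1 * ((χ : G → ℂ) (ι c) *
      conj ((β : C → ℂ) c)) = (if c = 1 then (Nat.card G : ℂ) else 0) * conj ((β : C → ℂ) c) := by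
    intro c
    have := sum_irr_one_mul (G := G) (ι c)
    have hc : ι c = 1 ↔ c = 1 := by
      constructor
      · intro h; exact hinj (by rw [h, map_one])
      · intro h; rw [h, map_one]
    simp only [hc] at this
    rw [← this, Finset.sum_mul]
    refine Finset.sum_congr rfl fun χ _ => ?_
    ring
  simp only [h1]
  rw [Finset.sum_eq_single 1]
  · rw [if_pos rfl, Helper79.irr_one β, Complex.conj_natCast]
  · intro c _ hc
    rw [if_neg hc, zero_mul]
  · intro h; exact absurd (Finset.mem_univ _) h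

variable (hS : IsPGroup p S) (hinj : Function.Injective ι)
  (hfix : ∀ g : G, g ∈ Set.range ι ↔ ∀ s : S, s • g = g)

include hS hinj hfix

theorem mult_smul (s : S) (χ : IrrCharacter G) (β : IrrCharacter C) :
    mult ι (letI := irrSMulAction S G; s • χ : IrrCharacter G) β = mult ι χ β := by
  have h1 := mult_spec ι (letI := irrSMulAction S G; s • χ : IrrCharacter G) β
  have h2 := mult_spec ι χ β
  have h3 : ((letI := irrSMulAction S G; s • χ : IrrCharacter G) : G → ℂ) ∘ ι =
      (χ : G → ℂ) ∘ ι := by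
    funext c
    simp only [Function.comp_apply, irrSMulAction_apply]
    rw [smul_comp ι hS hinj hfix]
  rw [h3, h2] at h1
  exact_mod_cast h1.symm

/-- (iv) surjectivity. -/
theorem corr_surjective (hpG : ¬ p ∣ Nat.card G) (β : IrrCharacter C) :
    ∃ χ : IrrCharacter G, (∀ (s : S) (g : G), (χ : G → ℂ) (s • g) = (χ : G → ℂ) g) ∧
      ¬ p ∣ mult ι χ β := by
  classical
  by_contra hcon
  push Not at hcon
  letI := irrSMulAction S G
  have hP := sum_intModEq_sum_fixedPoints (p := p) (S := S) (X := IrrCharacter G) hS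
    (fun χ => (χ : G → ℂ) 1 * ((Nat.card C : ℂ) * (mult ι χ β : ℂ)))
    (fun s χ => by
      rw [mult_smul ι hS hinj hfix, irrSMulAction_apply, smul_one])
    (fun χ => (irr_isIntegral χ 1).mul
      ((isIntegral_algebraMap (R := ℤ) (A := ℂ) (x := (Nat.card C : ℤ))).mul
        (isIntegral_algebraMap (R := ℤ) (A := ℂ) (x := (mult ι χ β : ℤ)))))
  rw [sum_degree_mul_mult ι hinj β] at hP
  have hfixed : IntModEq p (∑ χ : IrrCharacter G with χ ∈ MulAction.fixedPoints S (IrrCharacter G),
      (χ : G → ℂ) 1 * ((Nat.card C : ℂ) * (mult ι χ β : ℂ))) 0 := by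
    have h0 : (0 : ℂ) = ∑ χ : IrrCharacter G with χ ∈ MulAction.fixedPoints S (IrrCharacter G),
        (0 : ℂ) := by simp
    rw [h0]
    refine IntModEq.sum _ fun χ hχ => ?_
    have hχ' := (Finset.mem_filter.mp hχ).2
    have hinv : ∀ (s : S) (g : G), (χ : G → ℂ) (s • g) = (χ : G → ℂ) g := by
      intro s g
      have := hχ' s⁻¹
      have h2 := congrArg (fun ψ : IrrCharacter G => (ψ : G → ℂ) g) this
      simp only [irrSMulAction_apply, inv_inv] at h2
      exact h2
    obtain ⟨k, hk⟩ := hcon χ hinv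
    rw [hk]
    push_cast
    have : (χ : G → ℂ) 1 * ((Nat.card C : ℂ) * ((p : ℂ) * (k : ℂ))) =
        (p : ℂ) * ((χ : G → ℂ) 1 * ((Nat.card C : ℂ) * (k : ℂ))) := by ring
    rw [this]
    refine IntModEq.mul_self_zero ?_
    exact (irr_isIntegral χ 1).mul
      ((isIntegral_algebraMap (R := ℤ) (A := ℂ) (x := (Nat.card C : ℤ))).mul
        (isIntegral_algebraMap (R := ℤ) (A := ℂ) (x := (k : ℤ))))
  have h1 := hP.trans hfixed
  rw [Helper79.irr_one β] at h1
  have h2 : IntModEq p ((Nat.card G * charDegree (β : C → ℂ) : ℕ) : ℂ) 0 := by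
    push_cast
    exact h1
  have h3 := IntModEq.nat_dvd hp.out.ne_zero h2
  have h4 : p ∣ charDegree (β : C → ℂ) := (hp.out.dvd_mul.mp h3).resolve_left hpG
  have h5 := Helper80.IsIrrCharacter.charDegree_dvd_card β.2
  exact not_dvd_card_fix ι hS hinj hfix hpG (h4.trans h5)

end main

end Cfsg.Agent.Helper81
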