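import Mathlib
import Cfsg.Prelude.Def_Blocks
import Cfsg.Agent.Helper81.GlaubP4

/-!
# The Glauberman correspondence for a `p`-group of operators: subgroups of an ambient group
-/

set_option autoImplicit false
set_option linter.unusedSectionVars false

namespace Cfsg.Agent.Helper81

open Cfsg
open scoped ComplexConjugate

universe u

section ambient

variable {Γ : Type u} [Group Γ] (G S : Subgroup Γ)

/-- The conjugation action of `S` on `G`, when `S` normalises `G`. -/
@[reducible] def conjMulDistribMulAction (hnorm : ∀ s ∈ S, ∀ g ∈ G, s * g * s⁻¹ ∈ G) :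
    MulDistribMulAction S G where
  smul s g := ⟨s * g * s⁻¹, hnorm s s.2 g g.2⟩
  one_smul g := Subtype.ext (by
    change ((1 : S) : Γ) * g * ((1 : S) : Γ)⁻¹ = g
    simp)
  mul_smul s t g := Subtype.ext (by
    change ((s * t : S) : Γ) * g * ((s * t : S) : Γ)⁻¹ = (s : Γ) * ((t : Γ) * g * (t : Γ)⁻¹) * (s : Γ)⁻¹
    simp [mul_assoc])
  smul_mul s g h := Subtype.ext (by
    change (s : Γ) * ((g * h : G) : Γ) * (s : Γ)⁻¹ =
      ((s : Γ) * g * (s : Γ)⁻¹) * ((s : Γ) * h * (s : Γ)⁻¹)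
    simp [mul_assoc])
  smul_one s := Subtype.ext (by
    change (s : Γ) * ((1 : G) : Γ) * (s : Γ)⁻¹ = ((1 : G) : Γ)
    simp)

theorem conjMulDistribMulAction_smul_coe (hnorm : ∀ s ∈ S, ∀ g ∈ G, s * g * s⁻¹ ∈ G)
    (s : S) (g : G) :
    ((letI := conjMulDistribMulAction G S hnorm; s • g : G) : Γ) = s * g * (s : Γ)⁻¹ := rfl

/-- Invariance in the statement's form is invariance under the conjugation action. -/
theorem invariant_iff (hnorm : ∀ s ∈ S, ∀ g ∈ G, s * g * s⁻¹ ∈ G) (χ : G → ℂ) :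
    (∀ s ∈ S, ∀ g g' : G, (g' : Γ) = s * g * s⁻¹ → χ g' = χ g) ↔
      ∀ (s : S) (g : G), χ (letI := conjMulDistribMulAction G S hnorm; s • g : G) = χ g := by
  constructor
  · intro h s g
    exact h s s.2 g _ rfl
  · intro h s hs g g' hg'
    have := h ⟨s, hs⟩ g
    have e : (letI := conjMulDistribMulAction G S hnorm; (⟨s, hs⟩ : S) • g : G) = g' :=
      Subtype.ext hg'.symm
    rwa [e] at this

theorem range_inclusion_iff (hnorm : ∀ s ∈ S, ∀ g ∈ G, s * g * s⁻¹ ∈ G) (C : Subgroup Γ)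
    (hC : C = G ⊓ Subgroup.centralizer (S : Set Γ)) (hCG : C ≤ G) (g : G) :
    g ∈ Set.range (Subgroup.inclusion hCG) ↔
      ∀ s : S, (letI := conjMulDistribMulAction G S hnorm; s • g : G) = g := by
  constructor
  · rintro ⟨c, rfl⟩ s
    apply Subtype.ext
    have hc : (c : Γ) ∈ Subgroup.centralizer (S : Set Γ) := by
      have h1 : (c : Γ) ∈ C := c.2
      have h2 : (c : Γ) ∈ G ⊓ Subgroup.centralizer (S : Set Γ) := hC ▸ h1
      exact h2.2
    have := Subgroup.mem_centralizer_iff.mp hc s s.2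
    change (s : Γ) * (c : Γ) * (s : Γ)⁻¹ = (c : Γ)
    rw [this, mul_inv_cancel_right]
  · intro h
    have hg : (g : Γ) ∈ C := by
      rw [hC]
      refine ⟨g.2, ?_⟩
      change (g : Γ) ∈ Subgroup.centralizer (S : Set Γ)
      rw [Subgroup.mem_centralizer_iff]
      intro s hs
      have := congrArg Subtype.val (h ⟨s, hs⟩)
      change s * (g : Γ) * s⁻¹ = (g : Γ) at this
      calc s * (g : Γ) = s * (g : Γ) * s⁻¹ * s := by group
        _ = (g : Γ) * s := by rw [this]
    exact ⟨⟨g, hg⟩, rfl⟩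

end ambient

end Cfsg.Agent.Helper81
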