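import Mathlib
import Cfsg.Agent.Helper81.ModP

/-!
# Coprime action of a `p`-group: conjugacy classes

`S` (a `p`-group) acts on the finite group `G` of order prime to `p`, `ι : C →* G` is injective
with range the fixed points.  Every `S`-invariant class of `G` contains a fixed point, and two
fixed points conjugate in `G` are conjugate in `C`.
-/

set_option autoImplicit false
set_option linter.unusedSectionVars false

namespace Cfsg.Agent.Helper81

universe u v w

section

variable {G : Type u} [Group G] [Fintype G]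

theorem card_filter_carrier_dvd (K : ConjClasses G) [DecidablePred (· ∈ K.carrier)] :
    (Finset.univ.filter (· ∈ K.carrier)).card ∣ Nat.card G := by
  classical
  obtain ⟨g₀, rfl⟩ := ConjClasses.exists_rep K
  have h := MulAction.card_orbit_mul_card_stabilizer_eq_card_group (ConjAct G) g₀
  have h1 : Fintype.card (MulAction.orbit (ConjAct G) g₀) =
      (Finset.univ.filter (· ∈ (ConjClasses.mk g₀).carrier)).card := by
    rw [← Fintype.card_subtype]
    apply Fintype.card_congr
    rw [ConjAct.orbit_eq_carrier_conjClasses]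
  have h2 : Fintype.card (ConjAct G) = Nat.card G := by
    rw [Nat.card_eq_fintype_card]
    exact Fintype.card_congr ConjAct.ofConjAct.toEquiv
  rw [h1, h2] at h
  exact ⟨_, h.symm⟩

theorem card_filter_conj_eq_dvd (x y g₀ : G) (h₀ : g₀ * x * g₀⁻¹ = y)
    [DecidablePred fun g : G => g * x * g⁻¹ = y] :
    (Finset.univ.filter (fun g : G => g * x * g⁻¹ = y)).card ∣ Nat.card G := by
  classical
  have h1 : (Finset.univ.filter (fun g : G => g * x * g⁻¹ = y)) =
      (Finset.univ.filter (fun g : G => g ∈ Subgroup.centralizer ({x} : Set G))).map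
        (Equiv.mulLeft g₀).toEmbedding := by
    ext g
    simp only [Finset.mem_filter, Finset.mem_univ, true_and, Finset.mem_map,
      Equiv.coe_toEmbedding, Equiv.coe_mulLeft]
    constructor
    · intro hg
      refine ⟨g₀⁻¹ * g, ?_, by group⟩
      rw [Subgroup.mem_centralizer_iff]
      intro z hz
      rw [Set.mem_singleton_iff] at hz
      subst hz
      have : g * z * g⁻¹ = g₀ * z * g₀⁻¹ := hg.trans h₀.symm
      calc z * (g₀⁻¹ * g) = g₀⁻¹ * (g₀ * z * g₀⁻¹) * g := by group
        _ = g₀⁻¹ * (g * z * g⁻¹) * g := by rw [this]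
        _ = g₀⁻¹ * g * z := by group
    · rintro ⟨c, hc, rfl⟩
      rw [Subgroup.mem_centralizer_iff] at hc
      have := hc x (Set.mem_singleton x)
      calc g₀ * c * x * (g₀ * c)⁻¹ = g₀ * (c * x) * c⁻¹ * g₀⁻¹ := by group
        _ = g₀ * (x * c) * c⁻¹ * g₀⁻¹ := by rw [this]
        _ = g₀ * x * g₀⁻¹ := by group
        _ = y := h₀
  rw [h1, Finset.card_map, ← Fintype.card_subtype, ← Nat.card_eq_fintype_card]
  exact Subgroup.card_subgroup_dvd_card _

end

section fix

variable {G : Type u} [Group G] [Fintype G] {C : Type v} [Group C]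
  {S : Type w} [Group S] [MulDistribMulAction S G]
  {p : ℕ} [hp : Fact p.Prime] (ι : C →* G)
  (hS : IsPGroup p S) (hinj : Function.Injective ι)
  (hfix : ∀ g : G, g ∈ Set.range ι ↔ ∀ s : S, s • g = g) (hpG : ¬ p ∣ Nat.card G)

include hS hfix hpG

/-- An `S`-invariant subset of `G` whose size divides `|G|` (and is non-zero) contains a fixed
point. -/
theorem exists_fixed_of_card_dvd (A : Set G) [DecidablePred (· ∈ A)]
    (hA : ∀ s : S, ∀ x ∈ A, s • x ∈ A)
    (hcard : (Finset.univ.filter (· ∈ A)).card ∣ Nat.card G) :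
    ∃ c : C, ι c ∈ A := by
  classical
  have h := card_filter_modEq_fixed (p := p) hS A hA
  have hne : (Finset.univ.filter (fun x => x ∈ A ∧ x ∈ MulAction.fixedPoints S G)).card ≠ 0 := by
    intro h0
    rw [h0] at h
    exact hpG ((Nat.modEq_zero_iff_dvd.mp h).trans hcard)
  obtain ⟨x, hx⟩ := Finset.card_pos.mp (Nat.pos_of_ne_zero hne)
  simp only [Finset.mem_filter, Finset.mem_univ, true_and, MulAction.mem_fixedPoints] at hx
  obtain ⟨c, rfl⟩ := (hfix x).mpr hx.2
  exact ⟨c, hx.1⟩

/-- Every `S`-invariant class of `G` contains a fixed point. -/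
theorem exists_fixed_in_class (K : ConjClasses G)
    (hK : ∀ (s : S) (g : G), ConjClasses.mk g = K → ConjClasses.mk (s • g) = K) :
    ∃ c : C, ConjClasses.mk (ι c) = K := by
  classical
  obtain ⟨c, hc⟩ := exists_fixed_of_card_dvd ι hS hfix hpG K.carrier
    (fun s x hx => by
      rw [ConjClasses.mem_carrier_iff_mk_eq] at hx ⊢
      exact hK s x hx)
    (card_filter_carrier_dvd K)
  exact ⟨c, ConjClasses.mem_carrier_iff_mk_eq.mp hc⟩

include hinj

/-- Fixed points conjugate in `G` are conjugate in `C`. -/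
theorem isConj_of_isConj_comp {c c' : C} (h : IsConj (ι c) (ι c')) : IsConj c c' := by
  classical
  obtain ⟨g₀, hg₀⟩ := isConj_iff.mp h
  have hfixed : ∀ (s : S) (d : C), s • ι d = ι d := fun s d => (hfix (ι d)).mp ⟨d, rfl⟩ s
  obtain ⟨d, hd⟩ := exists_fixed_of_card_dvd ι hS hfix hpG {g | g * ι c * g⁻¹ = ι c'}
    (fun s g hg => by
      simp only [Set.mem_ofPred_eq] at hg ⊢
      have : s • g * ι c * (s • g)⁻¹ = s • (g * ι c * g⁻¹) := by
        rw [smul_mul', smul_mul', smul_inv', hfixed]
      rw [this, hg, hfixed])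
    (by
      have := card_filter_conj_eq_dvd (ι c) (ι c') g₀ hg₀
      convert this using 2
      ext g
      simp)
  simp only [Set.mem_ofPred_eq] at hd
  rw [isConj_iff]
  refine ⟨d, hinj ?_⟩
  rw [map_mul, map_mul, map_inv, hd]

end fix

end Cfsg.Agent.Helper81
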