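import Mathlib
import Cfsg.Prelude.Def_Blocks
import Cfsg.Agent.Helper81.GlaubP4
import Cfsg.Agent.Helper81.GlaubCls

/-!
# The Glauberman correspondence for a `p`-group of operators, as bijections

* `glaubEquiv`: invariant irreducible characters of `G` ≃ irreducible characters of `C`;
* `clsEquiv`: classes of `C` ≃ invariant classes of `G`;
* naturality of both with respect to compatible maps.
-/

set_option autoImplicit false
set_option linter.unusedSectionVars false

namespace Cfsg.Agent.Helper81

open Cfsg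
open scoped ComplexConjugate

universe u v w

section

variable {G : Type u} [Group G] [Fintype G] {C : Type v} [Group C] [Fintype C]
  {S : Type w} [Group S] [MulDistribMulAction S G]
  {p : ℕ} [hp : Fact p.Prime] (ι : C →* G)
  (hS : IsPGroup p S) (hinj : Function.Injective ι)
  (hfix : ∀ g : G, g ∈ Set.range ι ↔ ∀ s : S, s • g = g) (hpG : ¬ p ∣ Nat.card G)

/-- The `S`-invariant irreducible characters. -/
abbrev InvIrr (S : Type w) (G : Type u) [Group S] [Group G] [MulDistribMulAction S G] : Type u :=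
  {χ : IrrCharacter G // ∀ (s : S) (g : G), (χ : G → ℂ) (s • g) = (χ : G → ℂ) g}

/-- The `S`-invariant conjugacy classes. -/
abbrev InvCls (S : Type w) (G : Type u) [Group S] [Group G] [MulDistribMulAction S G] : Type u :=
  {K : ConjClasses G // ∀ (s : S) (g : G), ConjClasses.mk g = K → ConjClasses.mk (s • g) = K}

include hS hinj hfix hpG in
theorem exists_mult_not_dvd' (χ : InvIrr S G) : ∃ β : IrrCharacter C, ¬ p ∣ mult ι χ.1 β := by
  let _ := Helper74.irrFintype C
  exact exists_mult_not_dvd ι hS hinj hfix hpG χ.1 χ.2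

/-- The Glauberman correspondent of an invariant irreducible character. -/
noncomputable def glaubFun (χ : InvIrr S G) : IrrCharacter C :=
  Classical.choose (exists_mult_not_dvd' ι hS hinj hfix hpG χ)

theorem glaubFun_spec (χ : InvIrr S G) : ¬ p ∣ mult ι χ.1 (glaubFun ι hS hinj hfix hpG χ) :=
  Classical.choose_spec (exists_mult_not_dvd' ι hS hinj hfix hpG χ)

theorem glaubFun_eq_iff (χ : InvIrr S G) (β : IrrCharacter C) :
    glaubFun ι hS hinj hfix hpG χ = β ↔ ¬ p ∣ mult ι χ.1 β := by
  let _ := Helper74.irrFintype C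
  constructor
  · rintro rfl
    exact glaubFun_spec ι hS hinj hfix hpG χ
  · intro h
    exact mult_unique ι hS hinj hfix hpG χ.1 χ.2 h (glaubFun_spec ι hS hinj hfix hpG χ)

theorem glaubFun_bijective : Function.Bijective (glaubFun ι hS hinj hfix hpG) := by
  let _ := Helper74.irrFintype C
  let _ := Helper74.irrFintype G
  constructor
  · intro χ χ' h
    apply Subtype.ext
    refine corr_injective ι hS hinj hfix hpG χ.1 χ'.1 χ.2 χ'.2
      (β := glaubFun ι hS hinj hfix hpG χ) (glaubFun_spec ι hS hinj hfix hpG χ) ?_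
    rw [h]
    exact glaubFun_spec ι hS hinj hfix hpG χ'
  · intro β
    obtain ⟨χ, hχ, hβ⟩ := corr_surjective ι hS hinj hfix hpG β
    exact ⟨⟨χ, hχ⟩, (glaubFun_eq_iff ι hS hinj hfix hpG ⟨χ, hχ⟩ β).mpr hβ⟩

/-- The Glauberman correspondence as a bijection. -/
noncomputable def glaubEquiv : InvIrr S G ≃ IrrCharacter C :=
  Equiv.ofBijective _ (glaubFun_bijective ι hS hinj hfix hpG)

theorem glaubEquiv_eq_iff (χ : InvIrr S G) (β : IrrCharacter C) :
    glaubEquiv ι hS hinj hfix hpG χ = β ↔ ¬ p ∣ mult ι χ.1 β :=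
  glaubFun_eq_iff ι hS hinj hfix hpG χ β

/-- Naturality: maps `a` on the invariant characters and `b` on `Irr C` preserving
multiplicities commute with the correspondence. -/
theorem glaubEquiv_natural (a : InvIrr S G → InvIrr S G) (b : IrrCharacter C → IrrCharacter C)
    (hab : ∀ (χ : InvIrr S G) (β : IrrCharacter C), mult ι (a χ).1 (b β) = mult ι χ.1 β)
    (χ : InvIrr S G) :
    glaubEquiv ι hS hinj hfix hpG (a χ) = b (glaubEquiv ι hS hinj hfix hpG χ) := by
  rw [glaubEquiv_eq_iff, hab, ← glaubEquiv_eq_iff ι hS hinj hfix hpG]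

/-! ### classes -/

include hfix in
theorem smul_comp' (s : S) (c : C) : s • ι c = ι c := (hfix (ι c)).mp ⟨c, rfl⟩ s

/-- The class of `G` containing a class of `C`. -/
def clsFun (L : ConjClasses C) : InvCls S G :=
  ⟨ConjClasses.map ι L, by
    intro s g hg
    obtain ⟨c, rfl⟩ := ConjClasses.exists_rep L
    change ConjClasses.mk g = ConjClasses.mk (ι c) at hg
    change ConjClasses.mk (s • g) = ConjClasses.mk (ι c)
    rw [ConjClasses.mk_eq_mk_iff_isConj, isConj_comm, isConj_iff] at hg ⊢
    obtain ⟨h, rfl⟩ := hg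
    refine ⟨s • h, ?_⟩
    rw [smul_mul', smul_mul', smul_inv', smul_comp' ι hfix]⟩

theorem clsFun_mk (c : C) : (clsFun ι hfix (S := S) (ConjClasses.mk c)).1 = ConjClasses.mk (ι c) :=
  rfl

include hS hinj hpG in
theorem clsFun_bijective : Function.Bijective (clsFun ι hfix (S := S)) := by
  constructor
  · intro L L' h
    obtain ⟨c, rfl⟩ := ConjClasses.exists_rep L
    obtain ⟨c', rfl⟩ := ConjClasses.exists_rep L'
    have h' := congrArg Subtype.val h
    rw [clsFun_mk, clsFun_mk, ConjClasses.mk_eq_mk_iff_isConj] at h'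
    rw [ConjClasses.mk_eq_mk_iff_isConj]
    exact isConj_of_isConj_comp ι hS hinj hfix hpG h'
  · intro K
    obtain ⟨c, hc⟩ := exists_fixed_in_class ι hS hfix hpG K.1 K.2
    exact ⟨ConjClasses.mk c, Subtype.ext hc⟩

/-- Classes of the fixed-point subgroup ≃ invariant classes. -/
noncomputable def clsEquiv : ConjClasses C ≃ InvCls S G :=
  Equiv.ofBijective _ (clsFun_bijective ι hS hinj hfix hpG)

theorem clsEquiv_mk (c : C) :
    (clsEquiv ι hS hinj hfix hpG (ConjClasses.mk c)).1 = ConjClasses.mk (ι c) := rfl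

end

end Cfsg.Agent.Helper81
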