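import Mathlib
import Cfsg.Prelude.Def_Blocks
import Cfsg.Agent.Helper81.GlaubEquiv

/-!
# Coprime action: passing to the fixed points of a normal `p`-subgroup of operators

`S` acts on `G`, `R ⊴ S` is a `p`-group and `p ∤ |G|`.  With `C = C_G(R)` (on which `S ⧸ R`
acts), the `S`-invariant irreducible characters (classes) of `G` are equinumerous with the
`S ⧸ R`-invariant irreducible characters (classes) of `C`.
-/

set_option autoImplicit false
set_option linter.unusedSectionVars false

namespace Cfsg.Agent.Helper81

open Cfsg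
open scoped ComplexConjugate

universe u v w

theorem classInner_comp_equiv {C : Type v} [Group C] [Fintype C] (e : C ≃ C) (f g : C → ℂ) :
    classInner (f ∘ e) (g ∘ e) = classInner f g := by
  simp only [Helper74.classInner_def, Function.comp_apply]
  congr 1
  exact Fintype.sum_equiv e _ _ fun _ => rfl

theorem irrSMul_eq_self_iff {S : Type w} {G : Type u} [Group S] [Group G]
    [MulDistribMulAction S G] (χ : IrrCharacter G) :
    (∀ s : S, (letI := irrSMulAction S G; s • χ : IrrCharacter G) = χ) ↔
      ∀ (s : S) (g : G), (χ : G → ℂ) (s • g) = (χ : G → ℂ) g := by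
  constructor
  · intro h s g
    have h2 := congrArg (fun ψ : IrrCharacter G => (ψ : G → ℂ) g) (h s⁻¹)
    simp only [irrSMulAction_apply, inv_inv] at h2
    exact h2
  · intro h s
    apply Subtype.ext
    funext g
    rw [irrSMulAction_apply, h]

/-- A class is invariant under an automorphism as soon as one representative is mapped into it. -/
theorem cls_inv_iff_rep {S : Type w} {G : Type u} [Group S] [Group G]
    [MulDistribMulAction S G] (s : S) (g₀ : G) :
    (∀ g : G, ConjClasses.mk g = ConjClasses.mk g₀ → ConjClasses.mk (s • g) = ConjClasses.mk g₀) ↔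
      ConjClasses.mk (s • g₀) = ConjClasses.mk g₀ := by
  constructor
  · intro h; exact h g₀ rfl
  · intro h g hg
    rw [← h]
    rw [ConjClasses.mk_eq_mk_iff_isConj, isConj_iff] at hg ⊢
    obtain ⟨c, hc⟩ := hg
    refine ⟨s • c, ?_⟩
    rw [← hc, smul_mul', smul_mul', smul_inv']

section step

variable {S : Type w} [Group S] {G : Type u} [Group G] [Fintype G] [MulDistribMulAction S G]
  (R : Subgroup S) [hRn : R.Normal] [Fintype (FixedPoints.subgroup R G)]
  {p : ℕ} [hp : Fact p.Prime] (hR : IsPGroup p R) (hpG : ¬ p ∣ Nat.card G)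

theorem fix_range (g : G) :
    g ∈ Set.range (FixedPoints.subgroup R G).subtype ↔ ∀ r : R, r • g = g := by
  rw [Subgroup.coe_subtype, Subtype.range_coe]
  rfl

/-- `S` acts on the `R`-invariant irreducible characters. -/
noncomputable def invIrrSMul (s : S) (χ : InvIrr R G) : InvIrr R G :=
  ⟨(letI := irrSMulAction S G; s • χ.1 : IrrCharacter G), by
    intro r g
    rw [irrSMulAction_apply, irrSMulAction_apply]
    have hmem : s⁻¹ * (r : S) * s ∈ R := by
      have := hRn.conj_mem (r : S) r.2 s⁻¹
      rwa [inv_inv] at this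
    have h1 : s⁻¹ • (r • g) = (⟨s⁻¹ * (r : S) * s, hmem⟩ : R) • (s⁻¹ • g) := by
      change s⁻¹ • ((r : S) • g) = (s⁻¹ * (r : S) * s) • (s⁻¹ • g)
      rw [← mul_smul, ← mul_smul]
      congr 1
      group
    rw [h1, χ.2]⟩

theorem invIrrSMul_val (s : S) (χ : InvIrr R G) :
    (invIrrSMul R s χ).1 = (letI := irrSMulAction S G; s • χ.1 : IrrCharacter G) := rfl

theorem mult_smul_smul (s : S) (χ : IrrCharacter G) (β : IrrCharacter (FixedPoints.subgroup R G)) :
    mult (FixedPoints.subgroup R G).subtype
      (letI := irrSMulAction S G; s • χ : IrrCharacter G)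
      (letI := irrSMulAction (S ⧸ R) (FixedPoints.subgroup R G); (s : S ⧸ R) • β :
        IrrCharacter (FixedPoints.subgroup R G)) =
    mult (FixedPoints.subgroup R G).subtype χ β := by
  have h1 := mult_spec (FixedPoints.subgroup R G).subtype
      (letI := irrSMulAction S G; s • χ : IrrCharacter G)
      (letI := irrSMulAction (S ⧸ R) (FixedPoints.subgroup R G); (s : S ⧸ R) • β :
        IrrCharacter (FixedPoints.subgroup R G))
  have h2 := mult_spec (FixedPoints.subgroup R G).subtype χ β
  rw [← classInner_comp_equiv (MulAction.toPerm ((s : S ⧸ R)⁻¹))] at h2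
  have h3 : (((letI := irrSMulAction S G; s • χ : IrrCharacter G) : G → ℂ) ∘
      (FixedPoints.subgroup R G).subtype) =
      ((χ : G → ℂ) ∘ (FixedPoints.subgroup R G).subtype) ∘
        (MulAction.toPerm ((s : S ⧸ R)⁻¹) :
          Equiv.Perm (FixedPoints.subgroup R G)) := by
    funext c
    rfl
  have h4 : (((letI := irrSMulAction (S ⧸ R) (FixedPoints.subgroup R G); (s : S ⧸ R) • β :
        IrrCharacter (FixedPoints.subgroup R G)) : (FixedPoints.subgroup R G) → ℂ)) =
      (β : (FixedPoints.subgroup R G) → ℂ) ∘ (MulAction.toPerm ((s : S ⧸ R)⁻¹) :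
          Equiv.Perm (FixedPoints.subgroup R G)) := by
    funext c
    rfl
  rw [h3, h4, h2] at h1
  exact_mod_cast h1.symm

include hR hpG

/-- The character side. -/
theorem card_invIrr_step :
    Nat.card (InvIrr S G) = Nat.card (InvIrr (S ⧸ R) (FixedPoints.subgroup R G)) := by
  have hinj : Function.Injective (FixedPoints.subgroup R G).subtype := Subtype.val_injective
  have hfix := fix_range (G := G) R
  let e := glaubEquiv (FixedPoints.subgroup R G).subtype hR hinj hfix hpG
  -- (1)
  have e1 : InvIrr S G ≃ {χ : InvIrr R G // ∀ s : S, invIrrSMul R s χ = χ} :=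
    { toFun := fun χ => ⟨⟨χ.1, fun r g => χ.2 (r : S) g⟩, fun s => by
        apply Subtype.ext
        rw [invIrrSMul_val]
        exact (irrSMul_eq_self_iff χ.1).mpr χ.2 s⟩
      invFun := fun χ => ⟨χ.1.1, (irrSMul_eq_self_iff χ.1.1).mp fun s => by
        have := congrArg Subtype.val (χ.2 s)
        rwa [invIrrSMul_val] at this⟩
      left_inv := fun χ => rfl
      right_inv := fun χ => rfl }
  -- (2)
  have e2 : {χ : InvIrr R G // ∀ s : S, invIrrSMul R s χ = χ} ≃
      {β : IrrCharacter (FixedPoints.subgroup R G) // ∀ s : S,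
        (letI := irrSMulAction (S ⧸ R) (FixedPoints.subgroup R G); (s : S ⧸ R) • β :
          IrrCharacter (FixedPoints.subgroup R G)) = β} :=
    e.subtypeEquiv (fun χ => by
      refine forall_congr' fun s => ?_
      have hnat := glaubEquiv_natural (FixedPoints.subgroup R G).subtype hR hinj hfix hpG
        (invIrrSMul R s)
        (fun β => (letI := irrSMulAction (S ⧸ R) (FixedPoints.subgroup R G); (s : S ⧸ R) • β :
          IrrCharacter (FixedPoints.subgroup R G)))
        (fun χ β => mult_smul_smul R s χ.1 β) χ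
      change _ ↔ _ = e χ
      rw [← hnat]
      exact (e.apply_eq_iff_eq).symm)
  -- (3)
  have e3 : {β : IrrCharacter (FixedPoints.subgroup R G) // ∀ s : S,
        (letI := irrSMulAction (S ⧸ R) (FixedPoints.subgroup R G); (s : S ⧸ R) • β :
          IrrCharacter (FixedPoints.subgroup R G)) = β} ≃
      InvIrr (S ⧸ R) (FixedPoints.subgroup R G) :=
    { toFun := fun β => ⟨β.1, (irrSMul_eq_self_iff β.1).mp fun q => by
        obtain ⟨s, rfl⟩ := QuotientGroup.mk_surjective q
        exact β.2 s⟩
      invFun := fun β => ⟨β.1, fun s => (irrSMul_eq_self_iff β.1).mpr β.2 (s : S ⧸ R)⟩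
      left_inv := fun β => rfl
      right_inv := fun β => rfl }
  rw [Nat.card_congr e1, Nat.card_congr e2, Nat.card_congr e3]

/-- The class side. -/
theorem card_invCls_step :
    Nat.card (InvCls S G) = Nat.card (InvCls (S ⧸ R) (FixedPoints.subgroup R G)) := by
  have hinj : Function.Injective (FixedPoints.subgroup R G).subtype := Subtype.val_injective
  have hfix := fix_range (G := G) R
  let e := clsEquiv (FixedPoints.subgroup R G).subtype hR hinj hfix hpG
  have e1 : InvCls S G ≃ {K : InvCls R G // ∀ (s : S) (g : G),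
      ConjClasses.mk g = K.1 → ConjClasses.mk (s • g) = K.1} :=
    { toFun := fun K => ⟨⟨K.1, fun r g => K.2 (r : S) g⟩, K.2⟩
      invFun := fun K => ⟨K.1.1, K.2⟩
      left_inv := fun K => rfl
      right_inv := fun K => rfl }
  have e2 : {L : ConjClasses (FixedPoints.subgroup R G) // ∀ (s : S)
      (c : FixedPoints.subgroup R G), ConjClasses.mk c = L →
        ConjClasses.mk ((s : S ⧸ R) • c) = L} ≃
      {K : InvCls R G // ∀ (s : S) (g : G),
        ConjClasses.mk g = K.1 → ConjClasses.mk (s • g) = K.1} :=
    e.subtypeEquiv (fun L => by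
      obtain ⟨c₀, rfl⟩ := ConjClasses.exists_rep L
      refine forall_congr' fun s => ?_
      change _ ↔ ∀ g : G, ConjClasses.mk g = ConjClasses.mk (c₀ : G) →
        ConjClasses.mk (s • g) = ConjClasses.mk (c₀ : G)
      rw [cls_inv_iff_rep, cls_inv_iff_rep]
      rw [ConjClasses.mk_eq_mk_iff_isConj, ConjClasses.mk_eq_mk_iff_isConj]
      constructor
      · intro h
        exact (FixedPoints.subgroup R G).subtype.map_isConj h
      · intro h
        exact isConj_of_isConj_comp (FixedPoints.subgroup R G).subtype hR hinj hfix hpG h)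
  have e3 : {L : ConjClasses (FixedPoints.subgroup R G) // ∀ (s : S)
      (c : FixedPoints.subgroup R G), ConjClasses.mk c = L →
        ConjClasses.mk ((s : S ⧸ R) • c) = L} ≃
      InvCls (S ⧸ R) (FixedPoints.subgroup R G) :=
    { toFun := fun L => ⟨L.1, fun q c hc => by
        obtain ⟨s, rfl⟩ := QuotientGroup.mk_surjective q
        exact L.2 s c hc⟩
      invFun := fun L => ⟨L.1, fun s c hc => L.2 (s : S ⧸ R) c hc⟩
      left_inv := fun L => rfl
      right_inv := fun L => rfl }
  rw [Nat.card_congr e1, ← Nat.card_congr e2, Nat.card_congr e3]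

end step

end Cfsg.Agent.Helper81
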