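import Mathlib
import Cfsg.Prelude.Def_Blocks
import Cfsg.Agent.Helper81.GlaubStep
import Cfsg.Agent.Helper1.SZ

/-!
# Coprime action of a solvable group: invariant characters and invariant classes

If the finite solvable group `S` acts on the finite group `G` with `(|S|, |G|) = 1`, then the
number of `S`-invariant irreducible characters of `G` equals the number of `S`-invariant classes.
-/

set_option autoImplicit false
set_option linter.unusedSectionVars false

namespace Cfsg.Agent.Helper81

open Cfsg

universe u w

theorem card_invIrr_eq_card_invCls_aux (n : ℕ) :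
    ∀ (S : Type w) [Group S] [Finite S] (G : Type u) [Group G] [Finite G]
      [MulDistribMulAction S G],
      Nat.card S = n → Group.IsSolvable S → (Nat.card G).Coprime (Nat.card S) →
      Nat.card (InvIrr S G) = Nat.card (InvCls S G) := by
  induction n using Nat.strong_induction_on with
  | _ n ih =>
  intro S _ _ G _ _ _ hn hsolv hcop
  classical
  by_cases htriv : Subsingleton S
  · have e1 : InvIrr S G ≃ IrrCharacter G :=
      Equiv.subtypeUnivEquiv (fun χ s g => by rw [Subsingleton.elim s 1, one_smul])
    have e2 : InvCls S G ≃ ConjClasses G :=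
      Equiv.subtypeUnivEquiv (fun K s g hg => by rw [Subsingleton.elim s 1, one_smul]; exact hg)
    have := Fintype.ofFinite G
    rw [Nat.card_congr e1, Nat.card_congr e2, Helper79.card_irr_eq_card_conjClasses]
  · have : Nontrivial S := not_subsingleton_iff_nontrivial.mp htriv
    have := hsolv
    obtain ⟨p, hp, R, hRn, hRbot, hR⟩ := Helper1.exists_normal_pSubgroup S
    have : Fact p.Prime := ⟨hp⟩
    have hRcard : 1 < Nat.card R := R.one_lt_card_iff_ne_bot.mpr hRbot
    have hmul : Nat.card S = Nat.card (S ⧸ R) * Nat.card R :=
      Subgroup.card_eq_card_quotient_mul_card_subgroup R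
    have hpS : p ∣ Nat.card S := by
      obtain ⟨k, hk⟩ := hR.exists_card_eq
      have hk0 : k ≠ 0 := by
        rintro rfl
        rw [pow_zero] at hk
        omega
      rw [hmul, hk]
      exact Dvd.dvd.mul_left (dvd_pow_self p hk0) _
    have hpG : ¬ p ∣ Nat.card G := fun h => by
      have := Nat.dvd_gcd h hpS
      rw [hcop] at this
      exact hp.one_lt.ne' (Nat.dvd_one.mp this)
    have := Fintype.ofFinite G
    have := Fintype.ofFinite (FixedPoints.subgroup R G)
    rw [card_invIrr_step R hR hpG, card_invCls_step R hR hpG]
    have hqpos : 0 < Nat.card (S ⧸ R) := Nat.card_pos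
    refine ih (Nat.card (S ⧸ R)) ?_ (S ⧸ R) (FixedPoints.subgroup R G) rfl inferInstance ?_
    · rw [← hn, hmul]
      nlinarith
    · refine Nat.Coprime.coprime_dvd_left (Subgroup.card_subgroup_dvd_card _) ?_
      exact Nat.Coprime.coprime_dvd_right ⟨_, hmul⟩ hcop

/-- If the finite solvable group `S` acts coprimely on the finite group `G`, the numbers of
`S`-invariant irreducible characters and of `S`-invariant classes of `G` agree. -/
theorem card_invIrr_eq_card_invCls (S : Type w) [Group S] [Finite S] (G : Type u) [Group G]
    [Finite G] [MulDistribMulAction S G] (hsolv : Group.IsSolvable S)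
    (hcop : (Nat.card G).Coprime (Nat.card S)) :
    Nat.card (InvIrr S G) = Nat.card (InvCls S G) :=
  card_invIrr_eq_card_invCls_aux _ S G rfl hsolv hcop

end Cfsg.Agent.Helper81
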