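import Cfsg.Agent.Helper81.FS_S3c
import Cfsg.Agent.Helper47.FS_S3b

/-!
# Fong-Swan farm (architect helper25, S4440), leaf (S3c), VERBATIM statements (via helper47's (S3b))
-/

set_option autoImplicit false
set_option linter.unusedSectionVars false
set_option linter.unusedVariables false

namespace Cfsg.Agent.Helper81.FS

open Cfsg Cfsg.Agent.Helper16 Cfsg.Agent.Helper16.DT Cfsg.Agent.Helper25.FS

universe u

variable {p : ℕ} [Fact p.Prime] {M : Ideal AlgInt} [M.IsMaximal] {G : Type u} [Group G]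

section ST3

variable [Fintype G] (N : Subgroup G) [hN : N.Normal] [Fintype N] {d : ℕ}
  (Y : Representation ℂ N (Fin d → ℂ))

/-- (S3c) Gallagher over `EG N Y ⧸ N1 N Y` -/
theorem exists_gallagher (hY : Y.IsIrreducible) [Finite (EG N Y)] (hN1 : (N1 N Y).Normal)
    (χ' : IrrCharacter (EG N Y))
    (h : ∃ c : ℂ, c ≠ 0 ∧ ∀ x : N1 N Y, (χ' : EG N Y → ℂ) x = c * thetaExt N Y x) :
    ∃ β : IrrCharacter (EG N Y ⧸ N1 N Y),
      (χ' : EG N Y → ℂ) = thetaExt N Y * ((β : EG N Y ⧸ N1 N Y → ℂ) ∘ QuotientGroup.mk) :=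
  exists_gallagher_of N Y
    ⟨(Cfsg.Agent.Helper47.FS.isIrrCharacter_thetaExt N Y hY).1,
      (Cfsg.Agent.Helper47.FS.isIrrCharacter_thetaExt N Y hY).2.1⟩ hN1 χ' h

/-- (S3c) conversely. -/
theorem isIrrCharacter_thetaExt_mul (hY : Y.IsIrreducible) [Finite (EG N Y)]
    (hN1 : (N1 N Y).Normal) (β : IrrCharacter (EG N Y ⧸ N1 N Y)) :
    IsIrrCharacter (EG N Y)
      (thetaExt N Y * ((β : EG N Y ⧸ N1 N Y → ℂ) ∘ QuotientGroup.mk)) :=
  isIrrCharacter_thetaExt_mul_of N Y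
    ⟨(Cfsg.Agent.Helper47.FS.isIrrCharacter_thetaExt N Y hY).1,
      (Cfsg.Agent.Helper47.FS.isIrrCharacter_thetaExt N Y hY).2.1⟩ hN1 β

end ST3

end Cfsg.Agent.Helper81.FS
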