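-- helper81 for helper84 (S2282), piece (UWP): the powers of the nilpotent part of `UW'`, from the action of `UW'` on
-- the basis (the facts of (UWA), bundled as a hypothesis).
import Mathlib
import Cfsg.Agent.Helper84.RUn.Defs

set_option autoImplicit false
set_option linter.unusedSectionVars false
set_option linter.unusedVariables false

namespace Cfsg.Agent.Helper81.RUn

open Matrix Cfsg.Agent.Helper84.PSU Cfsg.Agent.Helper84.RUn

variable {K : Type*} [Field K] {j : ℕ}

local notation "Vec" => (I (j + 2) 1 → K)
local notation "Mat" => Matrix (I (j + 2) 1) (I (j + 2) 1) K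

variable (bar : K →+* K)

/-- the action of `UW'` on the basis: the facts of (UWA) -/
structure UWFacts (c : K) : Prop where
  hE1 : UWM bar c *ᵥ (vE i1 : Vec) = vE i1
  hF1 : UWM bar c *ᵥ (vF i1 : Vec) = vF i1
  hE : ∀ l : Fin (j + 2), 1 ≤ l.val → UWM bar c *ᵥ (vE l : Vec) = pE l
  hW : UWM bar c *ᵥ (vW : Vec) = vW - sE
  hFm : UWM bar c *ᵥ (vF im : Vec) = vF im + vW + c • sE
  hF : ∀ (l : Fin (j + 2)) (hl : 1 ≤ l.val) (hl' : l.val < j + 1),
    UWM bar c *ᵥ (vF l : Vec) = vF l - vF ⟨l.val + 1, by omega⟩

/-! ### linearity of `NU` -/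

theorem NU_smul (c a : K) (x : Vec) : NU bar c (a • x) = a • NU bar c x := by
  unfold NU
  rw [Matrix.mulVec_smul, smul_sub]

theorem NU_zero (c : K) : NU bar c (0 : Vec) = 0 := by
  unfold NU
  rw [Matrix.mulVec_zero, sub_zero]

theorem NU_iter_zero_vec (c : K) (n : ℕ) : (NU bar c)^[n] (0 : Vec) = 0 := by
  induction n with
  | zero => rfl
  | succ n ih => rw [Function.iterate_succ_apply', ih, NU_zero]

theorem NU_apply (c : K) (x : Vec) (z : I (j + 2) 1) :
    NU bar c x z = ∑ y, NU bar c (bv y) z * x y := by
  unfold NU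
  simp only [Pi.sub_apply, mulVec_bv, sub_mul, Finset.sum_sub_distrib]
  congr 1
  rw [Finset.sum_eq_single z]
  · rw [bv_apply, if_pos rfl, one_mul]
  · intro y _ hy
    rw [bv_apply, if_neg (Ne.symm hy), zero_mul]
  · intro h
    exact absurd (Finset.mem_univ _) h

/-! ### the levels -/

/-- the level of an index: `f_2 < f_3 < ... < f_m < w < e_m < ... < e_2`; `e_1`, `f_1` get level `0` -/
def lev : I (j + 2) 1 → ℕ
  | Sum.inl i => if i.val = 0 then 0 else 2 * j + 3 - i.val
  | Sum.inr (Sum.inl _) => j + 1
  | Sum.inr (Sum.inr i) => i.val - 1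

/-- the index of level `k` -/
def idx (k : ℕ) : I (j + 2) 1 :=
  if h : k ≤ j then fI ⟨k + 1, by omega⟩
  else if h2 : k = j + 1 then wI 0
  else eI ⟨2 * j + 3 - k, by omega⟩

/-- the leading coefficient of `N` at level `k` -/
def eps (K : Type*) [Field K] (j k : ℕ) : K :=
  if k < j then -1 else if k = j then 1 else if k = j + 1 then -1 else 1

theorem lev_idx (k : ℕ) (hk : k ≤ 2 * j + 2) : lev (idx k : I (j + 2) 1) = k := by
  unfold idx
  split_ifs with h1 h2
  · show k + 1 - 1 = k
    omega
  · show j + 1 = k
    omega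
  · show (if 2 * j + 3 - k = 0 then 0 else 2 * j + 3 - (2 * j + 3 - k)) = k
    rw [if_neg (by omega)]
    omega

theorem eq_idx_of_lev (y : I (j + 2) 1) (h1 : y ≠ eI i1) (h2 : y ≠ fI i1) : y = idx (lev y) := by
  rcases y with i | a | i
  · have hi : i.val ≠ 0 := by
      intro h
      apply h1
      show Sum.inl i = Sum.inl i1
      congr 1
      exact Fin.ext h
    have hi2 := i.2
    unfold idx
    show Sum.inl i = _
    have hl : lev (Sum.inl i : I (j + 2) 1) = 2 * j + 3 - i.val := by
      show (if i.val = 0 then 0 else 2 * j + 3 - i.val) = _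
      rw [if_neg hi]
    rw [hl, dif_neg (by omega), dif_neg (by omega)]
    show Sum.inl i = Sum.inl _
    congr 1
    apply Fin.ext
    show i.val = 2 * j + 3 - (2 * j + 3 - i.val)
    omega
  · unfold idx
    have hl : lev (Sum.inr (Sum.inl a) : I (j + 2) 1) = j + 1 := rfl
    rw [hl, dif_neg (by omega), dif_pos rfl]
    show Sum.inr (Sum.inl a) = Sum.inr (Sum.inl 0)
    congr 2
    exact Subsingleton.elim _ _
  · have hi : i.val ≠ 0 := by
      intro h
      apply h2
      show Sum.inr (Sum.inr i) = Sum.inr (Sum.inr i1)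
      congr 2
      exact Fin.ext h
    have hi2 := i.2
    unfold idx
    have hl : lev (Sum.inr (Sum.inr i) : I (j + 2) 1) = i.val - 1 := rfl
    rw [hl, dif_pos (by omega)]
    show Sum.inr (Sum.inr i) = Sum.inr (Sum.inr _)
    congr 2
    apply Fin.ext
    show i.val = i.val - 1 + 1
    omega

/-! ### the columns of `N` -/

section facts

variable {bar} {c : K} (h : UWFacts (j := j) bar c)
include h

theorem NU_vE1 : NU bar c (vE i1 : Vec) = 0 := by
  unfold NU
  rw [h.hE1, sub_self]

theorem NU_vF1 : NU bar c (vF i1 : Vec) = 0 := by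
  unfold NU
  rw [h.hF1, sub_self]

theorem NU_vE (l : Fin (j + 2)) (hl : 1 ≤ l.val) : NU bar c (vE l : Vec) = pE l - vE l := by
  unfold NU
  rw [h.hE l hl]

theorem NU_vW : NU bar c (vW : Vec) = -sE := by
  unfold NU
  rw [h.hW]
  abel

theorem NU_vFm : NU bar c (vF im : Vec) = vW + c • sE := by
  unfold NU
  rw [h.hFm]
  abel

theorem NU_vF (l : Fin (j + 2)) (hl : 1 ≤ l.val) (hl' : l.val < j + 1) :
    NU bar c (vF l : Vec) = -vF ⟨l.val + 1, by omega⟩ := by
  unfold NU
  rw [h.hF l hl hl']
  abel

/-- `N` raises the level strictly -/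
theorem NU_bv_low (y z : I (j + 2) 1) (hzy : lev z ≤ lev y) : NU bar c (bv y : Vec) z = 0 := by
  rcases y with l | a | l
  · by_cases hl : l.val = 0
    · have hl1 : l = i1 := Fin.ext hl
      subst hl1
      have := NU_vE1 h
      unfold vE at this
      rw [this]
      rfl
    · have h1 := NU_vE h l (by omega)
      unfold vE at h1
      rw [h1, Pi.sub_apply, bv_apply]
      have hlev : lev (Sum.inl l : I (j + 2) 1) = 2 * j + 3 - l.val := by
        show (if l.val = 0 then 0 else 2 * j + 3 - l.val) = _
        rw [if_neg hl]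
      rw [hlev] at hzy
      have hl2 := l.2
      rcases z with i | b | i
      · have hi2 := i.2
        show (if 1 ≤ i.val ∧ i.val ≤ l.val then (1 : K) else 0) - _ = 0
        by_cases hi : i.val = 0
        · rw [if_neg (by omega), if_neg, sub_zero]
          intro hh
          have := Sum.inl.inj hh
          rw [this] at hi
          exact hl hi
        · have hlevi : lev (Sum.inl i : I (j + 2) 1) = 2 * j + 3 - i.val := by
            show (if i.val = 0 then 0 else 2 * j + 3 - i.val) = _
            rw [if_neg hi]
          rw [hlevi] at hzy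
          by_cases hil : i = l
          · subst hil
            rw [if_pos ⟨by omega, le_refl _⟩, if_pos rfl, sub_self]
          · have hne : i.val ≠ l.val := fun hh => hil (Fin.ext hh)
            rw [if_neg (by omega), if_neg, sub_zero]
            intro hh
            exact hil (Sum.inl.inj hh)
      · show (0 : K) - _ = 0
        rw [if_neg (by simp), sub_zero]
      · show (0 : K) - _ = 0
        rw [if_neg (by simp), sub_zero]
  · have ha : a = 0 := Subsingleton.elim _ _
    subst ha
    have h1 := NU_vW h
    unfold vW at h1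
    rw [h1, Pi.neg_apply]
    have hlev : lev (Sum.inr (Sum.inl 0) : I (j + 2) 1) = j + 1 := rfl
    rw [hlev] at hzy
    rcases z with i | b | i
    · have hi2 := i.2
      show -(if 1 ≤ i.val then (1 : K) else 0) = 0
      by_cases hi : i.val = 0
      · rw [if_neg (by omega), neg_zero]
      · exfalso
        have hlevi : lev (Sum.inl i : I (j + 2) 1) = 2 * j + 3 - i.val := by
          show (if i.val = 0 then 0 else 2 * j + 3 - i.val) = _
          rw [if_neg hi]
        rw [hlevi] at hzy
        omega
    · show -(0 : K) = 0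
      exact neg_zero
    · show -(0 : K) = 0
      exact neg_zero
  · have hl2 := l.2
    have hlev : lev (Sum.inr (Sum.inr l) : I (j + 2) 1) = l.val - 1 := rfl
    rw [hlev] at hzy
    by_cases hl : l.val = 0
    · have hl1 : l = i1 := Fin.ext hl
      subst hl1
      have := NU_vF1 h
      unfold vF at this
      rw [this]
      rfl
    · by_cases hlm : l.val = j + 1
      · have hl1 : l = im := Fin.ext hlm
        subst hl1
        have h1 := NU_vFm h
        unfold vF at h1
        rw [h1, Pi.add_apply, Pi.smul_apply, smul_eq_mul]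
        unfold vW
        rw [bv_apply]
        rcases z with i | b | i
        · have hi2 := i.2
          rw [if_neg (by simp), zero_add]
          show c * (if 1 ≤ i.val then (1 : K) else 0) = 0
          by_cases hi : i.val = 0
          · rw [if_neg (by omega), mul_zero]
          · exfalso
            have hlevi : lev (Sum.inl i : I (j + 2) 1) = 2 * j + 3 - i.val := by
              show (if i.val = 0 then 0 else 2 * j + 3 - i.val) = _
              rw [if_neg hi]
            rw [hlevi] at hzy
            omega
        · exfalso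
          have hlevb : lev (Sum.inr (Sum.inl b) : I (j + 2) 1) = j + 1 := rfl
          rw [hlevb] at hzy
          omega
        · rw [if_neg (by simp)]
          show (0 : K) + c * 0 = 0
          rw [mul_zero, add_zero]
      · have h1 := NU_vF h l (by omega) (by omega)
        unfold vF at h1
        rw [h1, Pi.neg_apply, bv_apply]
        rcases z with i | b | i
        · rw [if_neg (by simp), neg_zero]
        · rw [if_neg (by simp), neg_zero]
        · have hlevi : lev (Sum.inr (Sum.inr i) : I (j + 2) 1) = i.val - 1 := rfl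
          rw [hlevi] at hzy
          rw [if_neg, neg_zero]
          intro hh
          have h2 := Sum.inr.inj (Sum.inr.inj hh)
          have h3 : i.val = l.val + 1 := by rw [h2]
          omega

/-- the leading coefficients of `N` -/
theorem NU_bv_idx (k : ℕ) (hk : k ≤ 2 * j + 1) :
    NU bar c (bv (idx k) : Vec) (idx (k + 1)) = eps K j k := by
  unfold eps
  by_cases h1 : k < j
  · rw [if_pos h1]
    have hi : (idx k : I (j + 2) 1) = fI ⟨k + 1, by omega⟩ := by
      unfold idx
      rw [dif_pos (by omega)]
    have hi' : (idx (k + 1) : I (j + 2) 1) = fI ⟨k + 1 + 1, by omega⟩ := by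
      unfold idx
      rw [dif_pos (by omega)]
    rw [hi, hi']
    have h2 := NU_vF h ⟨k + 1, by omega⟩ (by simp) (by simp; omega)
    unfold vF at h2
    rw [h2, Pi.neg_apply, bv_apply, if_pos rfl]
  · rw [if_neg h1]
    by_cases h2 : k = j
    · rw [if_pos h2]
      subst h2
      have hi : (idx k : I (k + 2) 1) = fI im := by
        unfold idx
        rw [dif_pos (le_refl _)]
        rfl
      have hi' : (idx (k + 1) : I (k + 2) 1) = wI 0 := by
        unfold idx
        rw [dif_neg (by omega), dif_pos rfl]
      rw [hi, hi']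
      have h3 := NU_vFm h
      unfold vF at h3
      rw [h3, Pi.add_apply, Pi.smul_apply, smul_eq_mul]
      unfold vW
      rw [bv_apply, if_pos rfl]
      show (1 : K) + c * 0 = 1
      rw [mul_zero, add_zero]
    · rw [if_neg h2]
      by_cases h3 : k = j + 1
      · rw [if_pos h3]
        subst h3
        have hi : (idx (j + 1) : I (j + 2) 1) = wI 0 := by
          unfold idx
          rw [dif_neg (by omega), dif_pos rfl]
        have hi' : (idx (j + 1 + 1) : I (j + 2) 1) = eI ⟨j + 1, by omega⟩ := by
          unfold idx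
          rw [dif_neg (by omega), dif_neg (by omega)]
          show Sum.inl _ = Sum.inl _
          congr 1
          apply Fin.ext
          show 2 * j + 3 - (j + 1 + 1) = j + 1
          omega
        rw [hi, hi']
        have h4 := NU_vW h
        unfold vW at h4
        rw [h4, Pi.neg_apply]
        show -(if 1 ≤ j + 1 then (1 : K) else 0) = -1
        rw [if_pos (by omega)]
      · rw [if_neg h3]
        have hi : (idx k : I (j + 2) 1) = eI ⟨2 * j + 3 - k, by omega⟩ := by
          unfold idx
          rw [dif_neg (by omega), dif_neg h3]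
        have hi' : (idx (k + 1) : I (j + 2) 1) = eI ⟨2 * j + 2 - k, by omega⟩ := by
          unfold idx
          rw [dif_neg (by omega), dif_neg (by omega)]
          show Sum.inl _ = Sum.inl _
          congr 1
          apply Fin.ext
          show 2 * j + 3 - (k + 1) = 2 * j + 2 - k
          omega
        rw [hi, hi']
        have h4 := NU_vE h ⟨2 * j + 3 - k, by omega⟩ (by simp; omega)
        unfold vE at h4
        rw [h4, Pi.sub_apply, bv_apply]
        show (if 1 ≤ 2 * j + 2 - k ∧ 2 * j + 2 - k ≤ 2 * j + 3 - k then (1 : K) else 0) - _ = 1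
        rw [if_pos ⟨by omega, by omega⟩, if_neg, sub_zero]
        intro hh
        have h5 := Sum.inl.inj hh
        have h6 : 2 * j + 2 - k = 2 * j + 3 - k := by
          have := congrArg Fin.val h5
          exact this
        omega

/-! ### the filtration -/

/-- `x ∈ V'` is supported on the levels `≥ k` -/
def Supp (k : ℕ) (x : Vec) : Prop := InV' x ∧ ∀ y : I (j + 2) 1, lev y < k → x y = 0

omit h in
theorem supp_zero {x : Vec} (hx : InV' x) : Supp 0 x := ⟨hx, fun y hy => absurd hy (Nat.not_lt_zero _)⟩

theorem supp_step (k : ℕ) (hk : k ≤ 2 * j + 1) (x : Vec) (hx : Supp k x) :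
    Supp (k + 1) (NU bar c x) ∧ NU bar c x (idx (k + 1)) = eps K j k * x (idx k) := by
  have hlow : ∀ z : I (j + 2) 1, lev z < k + 1 → NU bar c x z = 0 := by
    intro z hz
    rw [NU_apply]
    apply Finset.sum_eq_zero
    intro y _
    by_cases hy : lev y < k
    · rw [hx.2 y hy, mul_zero]
    · rw [NU_bv_low h y z (by omega), zero_mul]
  refine ⟨⟨⟨hlow _ ?_, hlow _ ?_⟩, hlow⟩, ?_⟩
  · show (if (i1 : Fin (j + 2)).val = 0 then 0 else 2 * j + 3 - (i1 : Fin (j + 2)).val) < k + 1
    rw [if_pos (show (i1 : Fin (j + 2)).val = 0 from rfl)]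
    omega
  · show (i1 : Fin (j + 2)).val - 1 < k + 1
    show 0 - 1 < k + 1
    omega
  · rw [NU_apply, Finset.sum_eq_single (idx k)]
    · rw [NU_bv_idx h k hk]
    · intro y _ hy
      by_cases hy1 : lev y < k
      · rw [hx.2 y hy1, mul_zero]
      · by_cases hy2 : lev y = k
        · by_cases he : y = eI i1
          · rw [he, hx.1.1, mul_zero]
          · by_cases hf : y = fI i1
            · rw [hf, hx.1.2, mul_zero]
            · exfalso
              apply hy
              rw [← hy2]
              exact eq_idx_of_lev y he hf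
        · rw [NU_bv_low h y (idx (k + 1)) (by rw [lev_idx (k + 1) (by omega)]; omega), zero_mul]
    · intro hh
      exact absurd (Finset.mem_univ _) hh

theorem supp_iter (x : Vec) (hx : InV' x) : ∀ r : ℕ, r ≤ 2 * j + 2 →
    Supp r ((NU bar c)^[r] x) ∧
      (NU bar c)^[r] x (idx r) = (∏ k ∈ Finset.range r, eps K j k) * x (idx 0) := by
  intro r
  induction r with
  | zero =>
    intro _
    refine ⟨supp_zero hx, ?_⟩
    rw [Finset.range_zero, Finset.prod_empty, one_mul]
    rfl
  | succ r ih =>
    intro hr
    obtain ⟨h1, h2⟩ := ih (by omega)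
    obtain ⟨h3, h4⟩ := supp_step h r (by omega) _ h1
    rw [Function.iterate_succ_apply']
    refine ⟨h3, ?_⟩
    rw [h4, h2, Finset.prod_range_succ]
    ring

omit h in
theorem prod_eps (r : ℕ) : (∏ k ∈ Finset.range r, eps K j k) =
    if r ≤ j then (-1 : K) ^ r else if r = j + 1 then (-1 : K) ^ j else (-1 : K) ^ (j + 1) := by
  induction r with
  | zero => simp
  | succ r ih =>
    rw [Finset.prod_range_succ, ih]
    unfold eps
    by_cases h1 : r < j
    · rw [if_pos (by omega), if_pos h1, if_pos (by omega), pow_succ]
    · by_cases h2 : r = j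
      · subst h2
        rw [if_pos (le_refl _), if_neg (lt_irrefl _), if_pos rfl, if_neg (by omega), if_pos rfl, mul_one]
      · by_cases h3 : r = j + 1
        · subst h3
          rw [if_neg (by omega), if_pos rfl, if_neg (by omega), if_neg (by omega), if_pos rfl,
            if_neg (by omega), if_neg (by omega), pow_succ]
        · rw [if_neg (by omega), if_neg (by omega), if_neg (by omega), if_neg (by omega),
            if_neg (by omega), if_neg (by omega), if_neg (by omega), mul_one]

/-! ### the statements of (UWP), from the facts of (UWA) -/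

theorem NU_inV'_of (x : Vec) (hx : InV' x) : InV' (NU bar c x) :=
  (supp_step h 0 (by omega) x (supp_zero hx)).1.1

theorem NU_iter_vF_of : ∀ r : ℕ, ∀ hr : r ≤ j,
    (NU bar c)^[r] (vF i2 : Vec) = ((-1 : K) ^ r) • vF ⟨r + 1, by omega⟩ := by
  intro r
  induction r with
  | zero =>
    intro _
    rw [pow_zero, one_smul]
    rfl
  | succ r ih =>
    intro hr
    rw [Function.iterate_succ_apply', ih (by omega), NU_smul, NU_vF h ⟨r + 1, by omega⟩ (by simp) (by simp; omega),
      pow_succ, smul_neg, mul_neg_one, neg_smul]

theorem NU_iter_vF2_of : (NU bar c)^[j + 1] (vF i2 : Vec) = ((-1 : K) ^ j) • (vW + c • sE) := by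
  rw [Function.iterate_succ_apply', NU_iter_vF_of h j (le_refl _), NU_smul]
  have : (⟨j + 1, by omega⟩ : Fin (j + 2)) = im := rfl
  rw [this, NU_vFm h]

theorem NU_iter_top_of (x : Vec) (hx : InV' x) :
    (NU bar c)^[2 * j + 2] x = ((-1 : K) ^ (j + 1) * x (fI i2)) • vE i2 := by
  obtain ⟨h1, h2⟩ := supp_iter h x hx (2 * j + 2) (le_refl _)
  have hidx : (idx (2 * j + 2) : I (j + 2) 1) = eI i2 := by
    unfold idx
    rw [dif_neg (by omega), dif_neg (by omega)]
    show Sum.inl _ = Sum.inl _
    congr 1
    apply Fin.ext
    show 2 * j + 3 - (2 * j + 2) = 1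
    omega
  have hidx0 : (idx 0 : I (j + 2) 1) = fI i2 := by
    unfold idx
    rw [dif_pos (Nat.zero_le _)]
    rfl
  rw [prod_eps, if_neg (by omega), if_neg (by omega), hidx, hidx0] at h2
  funext z
  by_cases hz : z = eI i2
  · rw [hz, h2, Pi.smul_apply, smul_eq_mul]
    unfold vE
    rw [bv_apply, if_pos rfl, mul_one]
  · rw [Pi.smul_apply, smul_eq_mul]
    unfold vE
    rw [bv_apply, if_neg hz, mul_zero]
    apply h1.2
    by_contra hlt
    apply hz
    by_cases he : z = eI i1
    · exfalso
      apply hlt
      rw [he]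
      show (if (i1 : Fin (j + 2)).val = 0 then 0 else 2 * j + 3 - (i1 : Fin (j + 2)).val) < _
      rw [if_pos (show (i1 : Fin (j + 2)).val = 0 from rfl)]
      omega
    · by_cases hf : z = fI i1
      · exfalso
        apply hlt
        rw [hf]
        show (i1 : Fin (j + 2)).val - 1 < _
        show 0 - 1 < 2 * j + 2
        omega
      · have h3 := eq_idx_of_lev z he hf
        have h4 : lev z = 2 * j + 2 := by
          have h5 : lev z ≤ 2 * j + 2 := by
            rcases z with i | a | i
            · show (if i.val = 0 then 0 else 2 * j + 3 - i.val) ≤ _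
              split_ifs <;> omega
            · show j + 1 ≤ _
              omega
            · have := i.2
              show i.val - 1 ≤ _
              omega
          omega
        rw [h3, h4, hidx]

theorem NU_iter_zero_of (x : Vec) (hx : InV' x) : (NU bar c)^[2 * j + 3] x = 0 := by
  rw [Function.iterate_succ_apply', NU_iter_top_of h x hx, NU_smul, NU_vE h i2 (by show 1 ≤ 1; omega)]
  have : (pE i2 : Vec) = vE i2 := by
    funext z
    unfold vE
    rw [bv_apply]
    rcases z with i | a | i
    · show (if 1 ≤ i.val ∧ i.val ≤ (i2 : Fin (j + 2)).val then (1 : K) else 0) = _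
      have h2 : (i2 : Fin (j + 2)).val = 1 := rfl
      rw [h2]
      by_cases hi : i = i2
      · subst hi
        rw [if_pos ⟨by rw [h2], by rw [h2]⟩, if_pos rfl]
      · have hne : i.val ≠ 1 := fun hh => hi (Fin.ext hh)
        rw [if_neg (by omega), if_neg]
        intro hh
        exact hi (Sum.inl.inj hh)
    · show (0 : K) = _
      rw [if_neg (by simp)]
    · show (0 : K) = _
      rw [if_neg (by simp)]
  rw [this, sub_self, smul_zero]

theorem NU_iter_vF2_apply_of (k : ℕ) (hk : 1 ≤ k) : (NU bar c)^[k] (vF i2 : Vec) (fI i2) = 0 := by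
  have hV : InV' (vF i2 : Vec) := by
    unfold vF InV'
    rw [bv_apply, bv_apply, if_neg (by simp), if_neg]
    · exact ⟨rfl, rfl⟩
    · intro hh
      have h1 := Sum.inr.inj (Sum.inr.inj hh)
      have h2 := congrArg Fin.val h1
      exact absurd h2 (by show (0 : ℕ) ≠ 1; omega)
  by_cases hk2 : k ≤ 2 * j + 2
  · obtain ⟨h1, _⟩ := supp_iter h (vF i2) hV k hk2
    apply h1.2
    show (i2 : Fin (j + 2)).val - 1 < k
    show 1 - 1 < k
    omega
  · obtain ⟨d, rfl⟩ : ∃ d, k = d + (2 * j + 3) := ⟨k - (2 * j + 3), by omega⟩
    rw [Function.iterate_add_apply, NU_iter_zero_of h _ hV, NU_iter_zero_vec]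
    rfl

end facts

end Cfsg.Agent.Helper81.RUn
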