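-- helper81 for helper84 (S2282), piece (UWP): the powers of the nilpotent part of `UW'` (verbatim skeleton statements).
import Mathlib
import Cfsg.Agent.Helper84.RUn.Defs
import Cfsg.Agent.Helper33.RUnUWA2
import Cfsg.Agent.Helper81.RUnUWPCore

set_option autoImplicit false
set_option linter.unusedSectionVars false

namespace Cfsg.Agent.Helper81.RUn

open Matrix Cfsg.Agent.Helper84.PSU Cfsg.Agent.Helper84.RUn

variable {K : Type*} [Field K] {j : ℕ}

local notation "Vec" => (I (j + 2) 1 → K)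
local notation "Mat" => Matrix (I (j + 2) 1) (I (j + 2) 1) K
local notation "Mk" => Matrix (Fin (j + 2)) (Fin (j + 2)) K

variable (bar : K →+* K) (hb : ∀ x, bar (bar x) = x)

/-- the facts of (UWA) (helper33's `RUnUWA2`) -/
theorem uwFacts (c : K) : UWFacts (j := j) bar c where
  hE1 := Cfsg.Agent.Helper33.RUn.UWM_vE1 bar c
  hF1 := Cfsg.Agent.Helper33.RUn.UWM_vF1 bar c
  hE := Cfsg.Agent.Helper33.RUn.UWM_vE bar c
  hW := Cfsg.Agent.Helper33.RUn.UWM_vW bar c
  hFm := Cfsg.Agent.Helper33.RUn.UWM_vFm bar c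
  hF := Cfsg.Agent.Helper33.RUn.UWM_vF bar c

/-! ### (UWP) the powers of the nilpotent part of `UW'` -/

theorem NU_inV' (c : K) (x : Vec) (hx : InV' x) : InV' (NU bar c x) :=
  NU_inV'_of (uwFacts bar c) x hx

/-- `N^{m-1} f_2 = (-1)^m (w + c (e_2 + ... + e_m))` -/
theorem NU_iter_vF2 (c : K) : (NU bar c)^[j + 1] (vF i2 : Vec) = ((-1 : K) ^ j) • (vW + c • sE) :=
  NU_iter_vF2_of (uwFacts bar c)

/-- `N^{2m-2} x = (-1)^{m-1} x_{f_2} e_2` on `V'` -/
theorem NU_iter_top (c : K) (x : Vec) (hx : InV' x) :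
    (NU bar c)^[2 * j + 2] x = ((-1 : K) ^ (j + 1) * x (fI i2)) • vE i2 :=
  NU_iter_top_of (uwFacts bar c) x hx

/-- `N^{2m-1} = 0` on `V'` -/
theorem NU_iter_zero (c : K) (x : Vec) (hx : InV' x) : (NU bar c)^[2 * j + 3] x = 0 :=
  NU_iter_zero_of (uwFacts bar c) x hx

/-- the `f_2`-coefficient of `N^k f_2` vanishes for `k ≥ 1` -/
theorem NU_iter_vF2_apply (c : K) (k : ℕ) (hk : 1 ≤ k) : (NU bar c)^[k] (vF i2 : Vec) (fI i2) = 0 :=
  NU_iter_vF2_apply_of (uwFacts bar c) k hk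

end Cfsg.Agent.Helper81.RUn
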