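import Mathlib
import Cfsg.Agent.Helper3.E27Defs
import Cfsg.Agent.Helper74.CharBasic
import Cfsg.Agent.Helper79.Linear

/-!
# (B1) of helper3's S3701: the multiplicities of the linear characters `lam ζ u` of `T ≅ Vec`
in the restriction of an irreducible character are natural numbers.
-/

set_option autoImplicit false
set_option linter.style.haveILetI false
set_option linter.unusedSectionVars false

open Cfsg Finset
open scoped ComplexConjugate

namespace Cfsg.Agent.Helper81.E27
open Cfsg.Agent.Helper3.E27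

universe u

theorem pow_val_add {ζ : ℂ} (hζ3 : ζ ^ 3 = 1) (x y : ZMod 3) :
    ζ ^ (x + y).val = ζ ^ x.val * ζ ^ y.val := by
  rw [ZMod.val_add, ← pow_add]
  conv_rhs => rw [← Nat.mod_add_div (x.val + y.val) 3]
  rw [pow_add, pow_mul, hζ3, one_pow, mul_one]

theorem lam_add' {ζ : ℂ} (hζ3 : ζ ^ 3 = 1) (u v v' : Vec) :
    lam ζ u (v + v') = lam ζ u v * lam ζ u v' := by
  unfold lam
  rw [dotProduct_add, pow_val_add hζ3]

theorem lam_zero' (ζ : ℂ) (u : Vec) : lam ζ u 0 = 1 := by
  unfold lam
  rw [dotProduct_zero, ZMod.val_zero, pow_zero]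

section B
variable (ζ : ℂ) (hζ : IsPrimitiveRoot ζ 3)
variable {G : Type u} [Group G] [Fintype G] {T : Subgroup G} {τ : Vec → G} {a b : G}

include hζ

/-- (B1) the multiplicities are natural numbers. -/
theorem mult_nat (h : HCfg T τ a b) (χ : IrrCharacter G) (u : Vec) :
    ∃ n : ℕ, (n : ℂ) = (1 / 27 : ℂ) * ∑ v : Vec, (χ : G → ℂ) (τ v) * conj (lam ζ u v) := by
  classical
  have hζ3 : ζ ^ 3 = 1 := hζ.pow_eq_one
  -- the bijection `Vec ≃ T`
  let e : Vec ≃ T := Equiv.ofBijective (fun v => (⟨τ v, h.τ_mem v⟩ : T))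
    ⟨fun v v' hvv => h.τ_inj (congrArg Subtype.val hvv),
     fun t => by
      obtain ⟨v, hv⟩ := h.memT t.1 t.2
      exact ⟨v, Subtype.ext hv⟩⟩
  have he : ∀ v, ((e v : T) : G) = τ v := fun v => rfl
  have hemul : ∀ s t : T, e.symm (s * t) = e.symm s + e.symm t := by
    intro s t
    apply e.injective
    apply Subtype.ext
    rw [Equiv.apply_symm_apply, he, h.τ_add, ← he, ← he, Equiv.apply_symm_apply,
      Equiv.apply_symm_apply]
    rfl
  have heone : e.symm 1 = 0 := by
    apply e.injective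
    apply Subtype.ext
    rw [Equiv.apply_symm_apply, he]
    have h0 : τ 0 * τ 0 = τ 0 := by rw [← h.τ_add, add_zero]
    have : τ 0 = 1 := by
      have := mul_left_cancel (a := τ 0) (b := τ 0) (c := 1) (by rw [h0, mul_one])
      exact this
    rw [this]
    rfl
  -- the linear character of `T`
  let f : T →* ℂ :=
    { toFun := fun t => lam ζ u (e.symm t)
      map_one' := by
        show lam ζ u (e.symm 1) = 1
        rw [heone, lam_zero']
      map_mul' := by
        intro s t
        show lam ζ u (e.symm (s * t)) = lam ζ u (e.symm s) * lam ζ u (e.symm t)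
        rw [hemul, lam_add' hζ3] }
  haveI : Fintype T := Fintype.ofFinite T
  have hχ : IsCharacter ↥T (fun x => (χ : G → ℂ) x) :=
    Cfsg.Agent.Helper74.isCharacter_restrict _ (Cfsg.Agent.Helper74.isCharacter_of_isIrr χ.2)
  let ψ' : IrrCharacter ↥T := ⟨fun x => f x, Cfsg.Agent.Helper79.isIrrCharacter_of_monoidHom f⟩
  obtain ⟨n, hn⟩ := Cfsg.Agent.Helper74.isCharacter_inner_irr_nat hχ ψ'
  refine ⟨n, ?_⟩
  rw [← hn]
  unfold classInner
  have hcard : Nat.card T = 27 := by
    rw [← Nat.card_congr e, Nat.card_eq_fintype_card]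
    simp [Vec]
  rw [hcard]
  congr 1
  · norm_num
  · rw [← Equiv.sum_comp e]
    refine Finset.sum_congr rfl fun v _ => ?_
    show (χ : G → ℂ) ((e v : T) : G) * conj (lam ζ u (e.symm (e v))) = _
    rw [Equiv.symm_apply_apply, he]

end B

end Cfsg.Agent.Helper81.E27
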