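import Mathlib
import Cfsg.Prelude.Def_Characters
import Cfsg.Prelude.Def_Blocks
import Cfsg.Agent.Helper74.LinTwist

/-!
# Real characters of odd degree of solvable groups: definitions

`S` is a finite `2`-group and `ι : S →* G` a homomorphism whose image is a Sylow `2`-subgroup of
`G` (not necessarily injective: this makes passing to quotients of `G` free).

* `IsSign ν`: the linear character `ν : S →* ℂˣ` has values `±1`;
* `RealOdd χ`: `χ` is real-valued of odd degree;
* `OddMult ι χ ν`: the multiplicity of `ν` in `χ ∘ ι` is an odd natural number;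
* `ConjSign ι ν ν'`: `ν' = ν ∘ (conjugation by n⁻¹)` for some `n` normalizing the image of `ι`.

Main theorem (files `RO*`): for `G` solvable, `χ ↦ {ν | OddMult ι χ ν}` is a bijection from the
real irreducible characters of odd degree of `G` onto the `N_G(P)`-orbits of sign characters.
-/

set_option autoImplicit false

namespace Cfsg.Agent.Helper81.RO

open Cfsg
open scoped ComplexConjugate

universe u

variable {S G : Type u} [Group S] [Group G]

/-- The linear character `ν` has values `±1`. -/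
def IsSign (ν : S →* ℂˣ) : Prop := ∀ s, ν s * ν s = 1

/-- `χ` is real-valued of odd degree. -/
def RealOdd (χ : G → ℂ) : Prop := (∀ g, conj (χ g) = χ g) ∧ Odd (charDegree χ)

/-- The multiplicity of the linear character `ν` in `χ ∘ ι` is an odd natural number. -/
def OddMult [Fintype S] (ι : S →* G) (χ : G → ℂ) (ν : S →* ℂˣ) : Prop :=
  ∃ m : ℕ, Odd m ∧ classInner (fun s => χ (ι s)) (Helper74.linFun ν) = m

/-- `ν'` is the conjugate of `ν` by an element normalizing the image of `ι`. -/
def ConjSign (ι : S →* G) (ν ν' : S →* ℂˣ) : Prop :=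
  ∃ n : G, (∀ s, ∃ s', ι s' = n * ι s * n⁻¹) ∧ ∀ s s', ι s' = n * ι s * n⁻¹ → ν' s' = ν s

theorem IsSign.one : IsSign (1 : S →* ℂˣ) := fun _ => by simp

theorem IsSign.eq_one_or {ν : S →* ℂˣ} (h : IsSign ν) (s : S) :
    ((ν s : ℂˣ) : ℂ) = 1 ∨ ((ν s : ℂˣ) : ℂ) = -1 := by
  have h1 : ((ν s : ℂˣ) : ℂ) * ((ν s : ℂˣ) : ℂ) = 1 := by
    rw [← Units.val_mul, h s, Units.val_one]
  exact mul_self_eq_one_iff.mp h1

theorem IsSign.conj_eq {ν : S →* ℂˣ} (h : IsSign ν) (s : S) :
    conj (Helper74.linFun ν s) = Helper74.linFun ν s := by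
  show conj (((ν s : ℂˣ) : ℂ)) = ((ν s : ℂˣ) : ℂ)
  rcases h.eq_one_or s with h1 | h1 <;> rw [h1] <;> simp

theorem IsSign.comp {S' : Type u} [Group S'] {ν : S →* ℂˣ} (h : IsSign ν) (f : S' →* S) :
    IsSign (ν.comp f) := fun s => h (f s)

theorem ConjSign.refl (ι : S →* G) (ν : S →* ℂˣ) (hker : ∀ s, ι s = 1 → ν s = 1) :
    ConjSign ι ν ν := by
  refine ⟨1, fun s => ⟨s, by simp⟩, fun s s' h => ?_⟩
  rw [one_mul, inv_one, mul_one] at h
  have h1 : ι (s'⁻¹ * s) = 1 := by rw [map_mul, map_inv, h, inv_mul_cancel]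
  have h2 := hker _ h1
  rw [map_mul, map_inv] at h2
  exact (inv_mul_eq_one.mp h2)

end Cfsg.Agent.Helper81.RO
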