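import Mathlib
import Cfsg.Agent.Helper81.RO0
import Cfsg.Agent.Helper74.CharBasic
import Cfsg.Agent.Helper80.Pullback
import Cfsg.Agent.Helper80.Linear
import Cfsg.Agent.Helper15.IndFun

/-!
# Real characters of odd degree: basic lemmas on multiplicities along homomorphisms

* `sum_comp_surj`, `classInner_comp_surj`: sums and inner products along a surjective hom;
* `ker_of_inner_ne_zero`: a linear constituent of `Ψ ∘ ι` is trivial on `ker ι`;
* `inner_comp_eq_sum`: `[Ψ ∘ j, φ] = ∑_ξ [Ψ, ξ] [ξ ∘ j, φ]`;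
* `inner_comp_ne_zero`: if the linear character `μ` of `A` is a constituent of `Ψ`, then `μ ∘ j` is a
  constituent of `Ψ ∘ j`;
* `ConjSign.symm`, `ConjSign.trans`.
-/

set_option autoImplicit false
set_option linter.unusedSectionVars false

namespace Cfsg.Agent.Helper81.RO

open Cfsg
open scoped ComplexConjugate

universe u

section Pull

/-- Summation along a surjective homomorphism. -/
theorem sum_comp_surj {A B : Type*} [Group A] [Group B] [Fintype A] [Fintype B]
    (φ : A →* B) (hφ : Function.Surjective φ) (F : B → ℂ) :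
    ∑ a : A, F (φ a) = (Nat.card φ.ker : ℂ) * ∑ b : B, F b := by
  classical
  rw [← Finset.sum_fiberwise (s := Finset.univ) (g := fun a => φ a) (f := fun a => F (φ a)),
    Finset.mul_sum]
  refine Finset.sum_congr rfl (fun b _ => ?_)
  have h1 : ∀ a ∈ Finset.univ.filter (fun a : A => φ a = b), F (φ a) = F b := by
    intro a ha
    rw [(Finset.mem_filter.mp ha).2]
  rw [Finset.sum_congr rfl h1, Finset.sum_const, nsmul_eq_mul]
  congr 1
  have h2 := MonoidHom.card_fiber_eq_of_mem_range φ (x := b) (y := 1)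
    (by obtain ⟨a, ha⟩ := hφ b; exact ⟨a, ha⟩) ⟨1, map_one φ⟩
  rw [h2]
  have h3 : Nat.card φ.ker = (Finset.univ.filter (fun a : A => φ a = 1)).card := by
    rw [Nat.card_eq_fintype_card, Fintype.card_subtype]
    congr 1
    ext a
    simp [MonoidHom.mem_ker]
  rw [h3]

/-- The inner product of two functions pulled back along a surjective homomorphism. -/
theorem classInner_comp_surj {A B : Type*} [Group A] [Group B] [Fintype A] [Fintype B]
    (φ : A →* B) (hφ : Function.Surjective φ) (f g : B → ℂ) :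
    classInner (fun a => f (φ a)) (fun a => g (φ a)) = classInner f g := by
  unfold classInner
  rw [sum_comp_surj φ hφ (fun b => f b * conj (g b))]
  have hcard : (Nat.card A : ℂ) = (Nat.card φ.ker : ℂ) * (Nat.card B : ℂ) := by
    have h1 := Subgroup.index_mul_card φ.ker
    rw [Subgroup.index_ker, MonoidHom.range_eq_top.mpr hφ] at h1
    have h2 : Nat.card (⊤ : Subgroup B) = Nat.card B := Subgroup.card_top
    rw [h2] at h1
    rw [← h1]
    push_cast
    ring
  have hk : (Nat.card φ.ker : ℂ) ≠ 0 := by exact_mod_cast Nat.card_pos.ne'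
  have hB : (Nat.card B : ℂ) ≠ 0 := by exact_mod_cast Nat.card_pos.ne'
  rw [hcard]
  field_simp

end Pull

section

variable {S G : Type u} [Group S] [Group G]

/-- A linear constituent of `Ψ ∘ ι` is trivial on the kernel of `ι`. -/
theorem ker_of_inner_ne_zero [Fintype S] (ι : S →* G) (Ψ : G → ℂ) (ν : S →* ℂˣ)
    (h : classInner (fun s => Ψ (ι s)) (Helper74.linFun ν) ≠ 0) : ∀ k, ι k = 1 → ν k = 1 := by
  intro k hk
  by_contra hne
  apply h
  have hA : ∑ s : S, Ψ (ι s) * conj (Helper74.linFun ν s) =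
      conj (Helper74.linFun ν k) * ∑ s : S, Ψ (ι s) * conj (Helper74.linFun ν s) := by
    rw [Finset.mul_sum]
    rw [← Equiv.sum_comp (Equiv.mulRight k) (fun s => Ψ (ι s) * conj (Helper74.linFun ν s))]
    refine Finset.sum_congr rfl (fun s _ => ?_)
    show Ψ (ι (s * k)) * conj (Helper74.linFun ν (s * k)) = _
    rw [map_mul, hk, mul_one]
    have e : Helper74.linFun ν (s * k) = Helper74.linFun ν s * Helper74.linFun ν k := by
      show ((ν (s * k) : ℂˣ) : ℂ) = ((ν s : ℂˣ) : ℂ) * ((ν k : ℂˣ) : ℂ)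
      rw [map_mul, Units.val_mul]
    rw [e, map_mul]
    ring
  have hk1 : conj (Helper74.linFun ν k) ≠ 1 := by
    intro h1
    apply hne
    have h2 : Helper74.linFun ν k = 1 := by
      have := congrArg conj h1
      simpa using this
    exact Units.ext h2
  have hzero : ∑ s : S, Ψ (ι s) * conj (Helper74.linFun ν s) = 0 := by
    by_contra h0
    apply hk1
    have h2 : conj (Helper74.linFun ν k) * ∑ s : S, Ψ (ι s) * conj (Helper74.linFun ν s) =
        1 * ∑ s : S, Ψ (ι s) * conj (Helper74.linFun ν s) := by rw [one_mul]; exact hA.symm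
    exact mul_right_cancel₀ h0 h2
  unfold classInner
  rw [hzero, mul_zero]

/-- Decomposition of the multiplicities of `Ψ ∘ j`. -/
theorem inner_comp_eq_sum {A B : Type u} [Group A] [Fintype A] [Group B] [Fintype B]
    [Fintype (IrrCharacter A)] (j : B →* A) {Ψ : A → ℂ} (hΨ : IsCharacter A Ψ) (φ : B → ℂ) :
    classInner (fun b => Ψ (j b)) φ =
      ∑ ξ : IrrCharacter A, classInner Ψ (ξ : A → ℂ) * classInner (fun b => (ξ : A → ℂ) (j b)) φ := by
  have hdec := Helper74.isCharacter_eq_sum_irr hΨ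
  have h1 : (fun b => Ψ (j b)) =
      ∑ ξ : IrrCharacter A, classInner Ψ (ξ : A → ℂ) • (fun b => (ξ : A → ℂ) (j b)) := by
    funext b
    have := congrFun hdec (j b)
    rw [Finset.sum_apply] at this
    rw [Finset.sum_apply]
    exact this
  rw [h1, Helper15.classInner_finset_sum_left]
  refine Finset.sum_congr rfl (fun ξ _ => ?_)
  rw [Helper15.classInner_smul_left]

/-- If the linear character `μ` of `A` is a constituent of the character `Ψ`, then `μ ∘ j` is a
constituent of `Ψ ∘ j`. -/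
theorem inner_comp_ne_zero {A B : Type u} [Group A] [Fintype A] [Group B] [Fintype B]
    (j : B →* A) {Ψ : A → ℂ} (hΨ : IsCharacter A Ψ) (μ : A →* ℂˣ)
    (h : classInner Ψ (Helper74.linFun μ) ≠ 0) :
    classInner (fun b => Ψ (j b)) (fun b => Helper74.linFun μ (j b)) ≠ 0 := by
  classical
  let _ := Helper74.irrFintype A
  have hμB : IsIrrCharacter B (fun b => Helper74.linFun μ (j b)) :=
    Helper80.isIrrCharacter_of_monoidHom (μ.comp j)
  have hμA : IsIrrCharacter A (Helper74.linFun μ) := Helper80.isIrrCharacter_of_monoidHom μ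
  choose m hm using fun ξ : IrrCharacter A => Helper74.isCharacter_inner_irr_nat hΨ ξ
  choose k hk using fun ξ : IrrCharacter A => Helper74.isCharacter_inner_irr_nat
    (Helper74.isCharacter_comp j (Helper74.irr_isCharacter ξ)) ⟨_, hμB⟩
  have hsum : classInner (fun b => Ψ (j b)) (fun b => Helper74.linFun μ (j b)) =
      ((∑ ξ : IrrCharacter A, m ξ * k ξ : ℕ) : ℂ) := by
    rw [inner_comp_eq_sum j hΨ]
    push_cast
    refine Finset.sum_congr rfl (fun ξ _ => ?_)
    rw [hm ξ]
    congr 1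
    exact hk ξ
  rw [hsum]
  have h0 : m ⟨_, hμA⟩ ≠ 0 := by
    intro h0
    apply h
    have := hm ⟨_, hμA⟩
    rw [h0] at this
    simpa using this
  have h1 : k ⟨_, hμA⟩ = 1 := by
    have h2 := hk ⟨_, hμA⟩
    have h3 : classInner (fun b => Helper74.linFun μ (j b)) (fun b => Helper74.linFun μ (j b)) = 1 :=
      Helper74.irr_inner_self ⟨_, hμB⟩
    have h4 : ((k ⟨_, hμA⟩ : ℕ) : ℂ) = 1 := by rw [← h2]; exact h3
    exact_mod_cast h4
  have h5 : m ⟨_, hμA⟩ * k ⟨_, hμA⟩ ≤ ∑ ξ : IrrCharacter A, m ξ * k ξ :=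
    Finset.single_le_sum (f := fun ξ => m ξ * k ξ) (fun _ _ => Nat.zero_le _) (Finset.mem_univ _)
  rw [h1, mul_one] at h5
  have h6 : 0 < ∑ ξ : IrrCharacter A, m ξ * k ξ := lt_of_lt_of_le (Nat.pos_of_ne_zero h0) h5
  exact_mod_cast h6.ne'

theorem ConjSign.trans {ι : S →* G} {ν₁ ν₂ ν₃ : S →* ℂˣ} (h₁ : ConjSign ι ν₁ ν₂)
    (h₂ : ConjSign ι ν₂ ν₃) : ConjSign ι ν₁ ν₃ := by
  obtain ⟨n₁, hn₁, hr₁⟩ := h₁
  obtain ⟨n₂, hn₂, hr₂⟩ := h₂
  refine ⟨n₂ * n₁, fun s => ?_, fun s s' hs => ?_⟩
  · obtain ⟨s₁, hs₁⟩ := hn₁ s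
    obtain ⟨s₂, hs₂⟩ := hn₂ s₁
    exact ⟨s₂, by rw [hs₂, hs₁]; group⟩
  · obtain ⟨s₁, hs₁⟩ := hn₁ s
    have h3 : ι s' = n₂ * ι s₁ * n₂⁻¹ := by rw [hs, hs₁]; group
    rw [hr₂ s₁ s' h3, hr₁ s s₁ hs₁]

theorem ConjSign.symm [Finite S] {ι : S →* G} {ν₁ ν₂ : S →* ℂˣ} (h : ConjSign ι ν₁ ν₂) :
    ConjSign ι ν₂ ν₁ := by
  obtain ⟨n, hn, hr⟩ := h
  -- conjugation by `n` is a bijection of the (finite) image of `ι`
  have hsurj : ∀ s', ∃ s, ι s' = n * ι s * n⁻¹ := by
    let f : ι.range → ι.range := fun x =>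
      ⟨n * (x : G) * n⁻¹, by
        obtain ⟨s, hs⟩ := x.2
        obtain ⟨s', hs'⟩ := hn s
        exact ⟨s', by rw [hs', hs]⟩⟩
    have hfinj : Function.Injective f := by
      intro x y hxy
      have := congrArg Subtype.val hxy
      simp only [f] at this
      exact Subtype.ext (by simpa using this)
    have hfin : Finite ι.range := Finite.of_surjective ι.rangeRestrict ι.rangeRestrict_surjective
    have hfsurj : Function.Surjective f := Finite.surjective_of_injective hfinj
    intro s'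
    obtain ⟨x, hx⟩ := hfsurj ⟨ι s', ⟨s', rfl⟩⟩
    obtain ⟨s, hs⟩ := x.2
    refine ⟨s, ?_⟩
    have := congrArg Subtype.val hx
    simp only [f] at this
    rw [hs, ← this]
  refine ⟨n⁻¹, fun s' => ?_, fun s' s hs => ?_⟩
  · obtain ⟨s, hs⟩ := hsurj s'
    exact ⟨s, by rw [hs]; group⟩
  · have h1 : ι s' = n * ι s * n⁻¹ := by rw [hs]; group
    exact (hr s s' h1).symm

end

end Cfsg.Agent.Helper81.RO
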