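import Mathlib
import Cfsg.Agent.Helper81.RO1
import Cfsg.Agent.Helper15.CliffordCorr

/-!
# Real characters of odd degree: the abstract induction, definitions

The main induction (file `RO4`) is written once for an abstract class of "admissible" pairs
(irreducible characters `χ` of finite groups, linear characters `ν` of `2`-groups), closed under
the operations the induction uses (`AdmClass`).  Two instances:

* the *real* class: `χ` real of odd degree, `ν` a sign character;
* the *self-normalizing* class: `χ` of odd degree in a group with self-normalizing Sylow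
  `2`-subgroups, `ν` any linear character.
-/

set_option autoImplicit false

namespace Cfsg.Agent.Helper81.RO

open Cfsg
open scoped ComplexConjugate

universe u

/-- A class of admissible characters `AdmG` and admissible linear characters `AdmL`, closed under
the operations used by the main induction. -/
structure AdmClass (AdmG : ∀ (G : Type u) [Group G], (G → ℂ) → Prop)
    (AdmL : ∀ (S : Type u) [Group S], (S →* ℂˣ) → Prop) : Prop where
  /-- admissible characters are irreducible -/
  irr : ∀ {G : Type u} [Group G] [Fintype G] {χ : G → ℂ}, AdmG G χ → IsIrrCharacter G χ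
  /-- normal subgroups of odd order are in the kernel -/
  ker : ∀ {G : Type u} [Group G] [Fintype G] {χ : G → ℂ}, AdmG G χ →
    ∀ (M : Subgroup G) [M.Normal], (Nat.card M).Coprime 2 → ∀ m ∈ M, χ m = χ 1
  /-- deflation -/
  quot : ∀ {G : Type u} [Group G] [Fintype G] (V : Subgroup G) [V.Normal] (χ' : G ⧸ V → ℂ),
    AdmG G (fun g => χ' (g : G ⧸ V)) → AdmG (G ⧸ V) χ'
  /-- Clifford correspondents over admissible linear characters of normal subgroups -/
  cliff : ∀ {G : Type u} [Group G] [Fintype G] (U : Subgroup G) [U.Normal] [Fintype U]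
    (lam : U →* ℂˣ), AdmL U lam → ∀ (T : Subgroup G) [Fintype T]
    (_ : T = Helper15.inertia U (Helper74.linFun lam)) (hUT : U ≤ T) (ψ : T → ℂ),
    IsIrrCharacter T ψ → classInner (Helper15.resTo U T hUT ψ) (Helper74.linFun lam) ≠ 0 →
    AdmG G (indFun T ψ) → AdmG T ψ
  /-- admissibility of a linear character only depends on its set of values -/
  lin : ∀ {S S' : Type u} [Group S] [Group S'] (ν : S →* ℂˣ) (ν' : S' →* ℂˣ),
    AdmL S ν → (∀ s', ∃ s, ν' s' = ν s) → AdmL S' ν'

/-- The statement proved by induction: uniqueness of the `ConjSign`-class of the admissible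
linear characters of odd multiplicity in `χ`, and injectivity. -/
def Goal (AdmG : ∀ (G : Type u) [Group G], (G → ℂ) → Prop)
    (AdmL : ∀ (S : Type u) [Group S], (S →* ℂˣ) → Prop) (G : Type u) [Group G] [Fintype G] :
    Prop :=
  ∀ (S : Type u) [Group S] [Fintype S], IsPGroup 2 S → ∀ ι : S →* G, ¬ 2 ∣ ι.range.index →
    ∀ ν : S →* ℂˣ, AdmL S ν → ∀ χ : G → ℂ, AdmG G χ → OddMult ι χ ν →
      (∀ ν' : S →* ℂˣ, AdmL S ν' → OddMult ι χ ν' → ConjSign ι ν ν') ∧
      (∀ χ' : G → ℂ, AdmG G χ' → OddMult ι χ' ν → χ = χ')

/-- The real class: real irreducible characters of odd degree. -/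
def RealAdm (G : Type u) [Group G] (χ : G → ℂ) : Prop := IsIrrCharacter G χ ∧ RealOdd χ

/-- The real class: sign characters. -/
def SignAdm (S : Type u) [Group S] (ν : S →* ℂˣ) : Prop := IsSign ν

/-- Every `2`-subgroup of odd index is self-normalizing. -/
def SelfNorm (G : Type u) [Group G] : Prop :=
  ∀ Q : Subgroup G, IsPGroup 2 Q → ¬ 2 ∣ Q.index → Subgroup.normalizer (Q : Set G) ≤ Q

/-- The self-normalizing class: irreducible characters of odd degree of groups with
self-normalizing Sylow `2`-subgroups. -/
def SNAdm (G : Type u) [Group G] (χ : G → ℂ) : Prop :=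
  IsIrrCharacter G χ ∧ Odd (charDegree χ) ∧ SelfNorm G

/-- The self-normalizing class: all linear characters. -/
def AnyAdm (S : Type u) [Group S] (_ : S →* ℂˣ) : Prop := True

end Cfsg.Agent.Helper81.RO
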