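import Mathlib
import Cfsg.Prelude.Def_Blocks
import Cfsg.Agent.Helper81.GlaubEquiv
import Cfsg.Agent.Helper81.BrauerPerm
import Cfsg.Agent.Helper81.NormalAction

/-!
# Real characters and real classes under a coprime `p`-group action
-/

set_option autoImplicit false
set_option linter.unusedSectionVars false

namespace Cfsg.Agent.Helper81

open Cfsg
open scoped ComplexConjugate

universe u v w

theorem classInner_conj_conj {C : Type v} [Group C] [Fintype C] (f g : C → ℂ) :
    classInner (fun x => conj (f x)) (fun x => conj (g x)) = conj (classInner f g) := by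
  simp only [Helper74.classInner_def, map_mul, map_sum, map_inv₀, Complex.conj_natCast]

/-- The number of real irreducible characters equals the number of real classes. -/
theorem card_real_irr_eq_card_real_cls (C : Type v) [Group C] [Finite C] :
    Nat.card {β : IrrCharacter C // irrConj C β = β} =
      Nat.card {L : ConjClasses C // clsInv C L = L} := by
  classical
  have := Fintype.ofFinite C
  have : Finite (IrrCharacter C) := Helper79.irr_finite'
  have := Fintype.ofFinite (IrrCharacter C)
  have := Fintype.ofFinite (ConjClasses C)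
  apply brauer_perm
  intro θ k k' hkk'
  rw [clsInv_mk, ConjClasses.mk_eq_mk_iff_isConj] at hkk'
  rw [irrConj_apply]
  have hcf := Helper79.isClassFunction_iff_isConj.1 (Helper79.irr_isClassFunction θ)
  rw [← hcf _ _ hkk', Helper74.char_inv (Helper74.irr_isCharacter θ)]
  simp

section

variable {G : Type u} [Group G] [Fintype G] {C : Type v} [Group C] [Fintype C]
  {S : Type w} [Group S] [MulDistribMulAction S G]
  {p : ℕ} [hp : Fact p.Prime] (ι : C →* G)
  (hS : IsPGroup p S) (hinj : Function.Injective ι)
  (hfix : ∀ g : G, g ∈ Set.range ι ↔ ∀ s : S, s • g = g) (hpG : ¬ p ∣ Nat.card G)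

theorem mult_irrConj (χ : IrrCharacter G) (β : IrrCharacter C) :
    mult ι (irrConj G χ) (irrConj C β) = mult ι χ β := by
  have h1 := mult_spec ι (irrConj G χ) (irrConj C β)
  have h2 := mult_spec ι χ β
  have h3 : classInner (((irrConj G χ : IrrCharacter G) : G → ℂ) ∘ ι)
      ((irrConj C β : IrrCharacter C) : C → ℂ) =
      conj (classInner ((χ : G → ℂ) ∘ ι) (β : C → ℂ)) := by
    rw [← classInner_conj_conj]
    rfl
  rw [h3, h2, Complex.conj_natCast] at h1
  exact_mod_cast h1.symm

/-- Complex conjugation on the invariant irreducible characters. -/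
noncomputable def invIrrConj (χ : InvIrr S G) : InvIrr S G :=
  ⟨irrConj G χ.1, fun s g => by rw [irrConj_apply, irrConj_apply, χ.2]⟩

theorem invIrrConj_eq_self_iff (χ : InvIrr S G) :
    invIrrConj χ = χ ↔ irrConj G χ.1 = χ.1 := by
  constructor
  · intro h; exact congrArg Subtype.val h
  · intro h; exact Subtype.ext h

theorem glaubEquiv_irrConj (χ : InvIrr S G) :
    glaubEquiv ι hS hinj hfix hpG (invIrrConj χ) = irrConj C (glaubEquiv ι hS hinj hfix hpG χ) :=
  glaubEquiv_natural ι hS hinj hfix hpG invIrrConj (irrConj C)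
    (fun χ β => mult_irrConj ι χ.1 β) χ

theorem clsEquiv_clsInv (L : ConjClasses C) :
    (clsEquiv ι hS hinj hfix hpG (clsInv C L)).1 = clsInv G (clsEquiv ι hS hinj hfix hpG L).1 := by
  obtain ⟨c, rfl⟩ := ConjClasses.exists_rep L
  rw [clsInv_mk, clsEquiv_mk, clsEquiv_mk, clsInv_mk, map_inv]

include hS hinj hfix hpG in
/-- The number of invariant real irreducible characters equals the number of invariant real
classes. -/
theorem card_invIrr_real_eq_card_invCls_real :
    Nat.card {χ : InvIrr S G // irrConj G χ.1 = χ.1} =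
      Nat.card {K : InvCls S G // clsInv G K.1 = K.1} := by
  have e1 : {χ : InvIrr S G // irrConj G χ.1 = χ.1} ≃ {β : IrrCharacter C // irrConj C β = β} :=
    (glaubEquiv ι hS hinj hfix hpG).subtypeEquiv (fun χ => by
      rw [← glaubEquiv_irrConj, (glaubEquiv ι hS hinj hfix hpG).apply_eq_iff_eq,
        invIrrConj_eq_self_iff])
  have e2 : {L : ConjClasses C // clsInv C L = L} ≃ {K : InvCls S G // clsInv G K.1 = K.1} :=
    (clsEquiv ι hS hinj hfix hpG).subtypeEquiv (fun L => by
      rw [← clsEquiv_clsInv]
      constructor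
      · intro h; rw [h]
      · intro h; exact (clsEquiv ι hS hinj hfix hpG).injective (Subtype.ext h))
  rw [Nat.card_congr e1, card_real_irr_eq_card_real_cls, Nat.card_congr e2]

include hS hfix hpG in
/-- If every real irreducible character is invariant, every real class is invariant, hence
contains a fixed point. -/
theorem exists_fixed_of_real
    (hall : ∀ χ : IrrCharacter G, irrConj G χ = χ →
      ∀ (s : S) (g : G), (χ : G → ℂ) (s • g) = (χ : G → ℂ) g)
    (hinj : Function.Injective ι)
    (k : G) (hk : IsConj k k⁻¹) : ∃ c : C, IsConj k (ι c) := by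
  classical
  have hcard := card_invIrr_real_eq_card_invCls_real ι hS hinj hfix hpG
  have e1 : {χ : InvIrr S G // irrConj G χ.1 = χ.1} ≃ {χ : IrrCharacter G // irrConj G χ = χ} :=
    { toFun := fun χ => ⟨χ.1.1, χ.2⟩
      invFun := fun χ => ⟨⟨χ.1, hall χ.1 χ.2⟩, χ.2⟩
      left_inv := fun χ => rfl
      right_inv := fun χ => rfl }
  rw [Nat.card_congr e1, card_real_irr_eq_card_real_cls] at hcard
  have : Finite (ConjClasses G) := inferInstance
  let f : {K : InvCls S G // clsInv G K.1 = K.1} → {L : ConjClasses G // clsInv G L = L} :=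
    fun K => ⟨K.1.1, K.2⟩
  have hf : Function.Injective f := by
    intro K K' h
    apply Subtype.ext
    apply Subtype.ext
    have h' : (f K).1 = (f K').1 := congrArg Subtype.val h
    exact h'
  have hbij : Function.Bijective f :=
    (Nat.bijective_iff_injective_and_card f).mpr ⟨hf, hcard.symm⟩
  obtain ⟨K, hK⟩ := hbij.2 ⟨ConjClasses.mk k, (clsInv_eq_self_iff k).mpr hk⟩
  have hK' : K.1.1 = ConjClasses.mk k := congrArg Subtype.val hK
  obtain ⟨c, hc⟩ := exists_fixed_in_class ι hS hfix hpG K.1.1 K.1.2
  refine ⟨c, ?_⟩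
  rw [← ConjClasses.mk_eq_mk_iff_isConj, ← hK', hc]

end

end Cfsg.Agent.Helper81
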