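import Mathlib
import Cfsg.Agent.Helper15.CliffordCorr
import Cfsg.Agent.Helper81.RealP1

/-!
# Sylow subgroups and inertia groups

`K ⊴ G`, `θ : K → ℂ`, `T = inertia K θ`, `P` a Sylow `p`-subgroup of `G`.
* `mem_inertia_conjFun_iff`: `x ∈ I_G(θ^g) ↔ g x g⁻¹ ∈ I_G(θ)`;
* `exists_conj_invariant`: if `p ∤ |G : T|` some conjugate of `θ` is `P`-invariant;
* `exists_normalizer_conj`: two `P`-invariant conjugates of `θ` are conjugate under `N_G(P)`;
* `index_modEq_relIndex_normalizer`: `|G : T| ≡ |N_G(P) : N_T(P)| (mod p)` if `P ≤ T`.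
-/

set_option autoImplicit false
set_option linter.unusedSectionVars false

namespace Cfsg.Agent.Helper81

open Cfsg Cfsg.Agent.Helper15

universe u

section

variable {G : Type u} [Group G] (K : Subgroup G) [hK : K.Normal]

theorem mem_inertia_conjFun_iff (θ : K → ℂ) (g x : G) :
    x ∈ inertia K (Helper15.conjFun K g θ) ↔ g * x * g⁻¹ ∈ inertia K θ := by
  rw [mem_inertia, mem_inertia]
  have e : Helper15.conjFun K x (Helper15.conjFun K g θ) =
      Helper15.conjFun K g (Helper15.conjFun K (g * x * g⁻¹) θ) := by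
    rw [← conjFun_mul, ← conjFun_mul]
    congr 1
    group
  rw [e]
  constructor
  · intro h
    exact conjFun_injective K g h
  · intro h
    rw [h]

theorem exists_conj_invariant [Finite G] {p : ℕ} [Fact p.Prime] (P : Subgroup G)
    (hP : IsPGroup p P) (θ : K → ℂ) (h : ¬ p ∣ (inertia K θ).index) :
    ∃ g : G, ∀ x ∈ P, x ∈ inertia K (Helper15.conjFun K g θ) := by
  obtain ⟨y, hy⟩ := exists_conj_mem_of_not_dvd_index P hP _ h
  refine ⟨y⁻¹, fun x hx => ?_⟩
  rw [mem_inertia_conjFun_iff, inv_inv]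
  exact hy x hx

theorem exists_normalizer_conj [Finite G] {p : ℕ} [Fact p.Prime] (P : Sylow p G) (θ : K → ℂ)
    (hPT : (P : Subgroup G) ≤ inertia K θ) (g : G)
    (hg : (P : Subgroup G) ≤ inertia K (Helper15.conjFun K g θ)) :
    ∃ n ∈ Subgroup.normalizer ((P : Subgroup G) : Set G),
      Helper15.conjFun K g θ = Helper15.conjFun K n θ := by
  have h2 : ((g • P : Sylow p G) : Subgroup G) ≤ inertia K θ := by
    intro z hz
    rw [Sylow.coe_subgroup_smul, Subgroup.mem_smul_pointwise_iff_exists] at hz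
    obtain ⟨s, hs, rfl⟩ := hz
    have h3 := hg hs
    rw [mem_inertia_conjFun_iff] at h3
    exact h3
  obtain ⟨t, ht⟩ := MulAction.exists_smul_eq (inertia K θ) ((g • P).subtype h2) (P.subtype hPT)
  rw [Sylow.smul_subtype] at ht
  have h4 : (t : G) • (g • P) = P := by
    have := Sylow.subtype_injective ht
    exact this
  rw [← mul_smul, Sylow.smul_eq_iff_mem_normalizer] at h4
  refine ⟨(t : G) * g, h4, ?_⟩
  rw [conjFun_mul, (mem_inertia K θ _).mp t.2]

theorem index_modEq_relIndex_normalizer [Finite G] {p : ℕ} [Fact p.Prime] (P : Sylow p G)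
    (T : Subgroup G) (hPT : (P : Subgroup G) ≤ T) :
    T.index ≡ (T ⊓ Subgroup.normalizer ((P : Subgroup G) : Set G)).relIndex
      (Subgroup.normalizer ((P : Subgroup G) : Set G)) [MOD p] := by
  set N := Subgroup.normalizer ((P : Subgroup G) : Set G) with hN
  have h1 : N.index ≡ 1 [MOD p] := by
    have e0 : Nat.card (Sylow p G) = N.index := Sylow.card_eq_index_normalizer P
    rw [← e0]
    exact card_sylow_modEq_one p G
  have h2 : (T ⊓ N).relIndex T ≡ 1 [MOD p] := by
    have e1 : (T ⊓ N).relIndex T = N.relIndex T := by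
      rw [inf_comm]; exact Subgroup.inf_relIndex_right N T
    have e2 : N.relIndex T = (Subgroup.normalizer (((P.subtype hPT : Sylow p T) : Subgroup T) :
        Set T)).index := by
      rw [Sylow.coe_subtype, ← Subgroup.subgroupOf_normalizer_eq hPT]
      rfl
    have e3 : Nat.card (Sylow p T) = (Subgroup.normalizer
        (((P.subtype hPT : Sylow p T) : Subgroup T) : Set T)).index :=
      Sylow.card_eq_index_normalizer (P.subtype hPT)
    rw [e1, e2, ← e3]
    exact card_sylow_modEq_one p T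
  have h3 : (T ⊓ N).relIndex T * T.index = (T ⊓ N).index := Subgroup.relIndex_mul_index inf_le_left
  have h4 : (T ⊓ N).relIndex N * N.index = (T ⊓ N).index := Subgroup.relIndex_mul_index inf_le_right
  have h5 : (T ⊓ N).relIndex T * T.index ≡ 1 * T.index [MOD p] := Nat.ModEq.mul_right _ h2
  have h6 : (T ⊓ N).relIndex N * N.index ≡ (T ⊓ N).relIndex N * 1 [MOD p] :=
    Nat.ModEq.mul_left _ h1
  rw [h3, one_mul] at h5
  rw [h4, mul_one] at h6
  exact h5.symm.trans h6

end

end Cfsg.Agent.Helper81
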