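import Mathlib

/-! Pieces (FG)+(SF) of helper84's S2283 (WANTED #6065): pure finite-field lemmas. -/

set_option autoImplicit false
set_option linter.style.haveILetI false

namespace Cfsg.Agent.Helper81.RU3

section field

variable {K : Type*} [Field K]

/-- the multiplier ring of an additive subgroup. -/
def multRing (A : AddSubgroup K) : Subring K where
  carrier := {r | ∀ x ∈ A, r * x ∈ A}
  mul_mem' := by
    intro a b ha hb x hx
    rw [mul_assoc]
    exact ha _ (hb x hx)
  one_mem' := by
    intro x hx
    rwa [one_mul]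
  add_mem' := by
    intro a b ha hb x hx
    rw [add_mul]
    exact A.add_mem (ha x hx) (hb x hx)
  zero_mem' := by
    intro x _
    rw [zero_mul]
    exact A.zero_mem
  neg_mem' := by
    intro a ha x hx
    rw [neg_mul]
    exact A.neg_mem (ha x hx)

theorem mem_multRing (A : AddSubgroup K) (r : K) : r ∈ multRing A ↔ ∀ x ∈ A, r * x ∈ A := Iff.rfl

/-- (FG) an additive subgroup stable under multiplication by an element lying in no proper subfield -/
theorem addSubgroup_eq_top [Finite K] (ρ : K) (hρ : ∀ L : Subfield K, ρ ∈ L → L = ⊤)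
    (A : AddSubgroup K) (hA : ∀ x ∈ A, ρ * x ∈ A) {c : K} (hc : c ≠ 0) (hcA : c ∈ A) : A = ⊤ := by
  have hinv : ∀ r ∈ multRing A, r⁻¹ ∈ multRing A := by
    intro r hr
    by_cases h0 : r = 0
    · rw [h0, inv_zero]; exact (multRing A).zero_mem
    · have hfin : IsOfFinOrder r := by
        have h1 : IsOfFinOrder (Units.mk0 r h0) := isOfFinOrder_of_finite _
        have h2 : IsOfFinOrder ((Units.coeHom K) (Units.mk0 r h0)) :=
          MonoidHom.isOfFinOrder (Units.coeHom K) h1
        simpa using h2
      have hpos : 0 < orderOf r := hfin.orderOf_pos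
      have h1 : r⁻¹ = r ^ (orderOf r - 1) := by
        have h2 : r * r ^ (orderOf r - 1) = 1 := by
          rw [← pow_succ', Nat.sub_add_cancel hpos, pow_orderOf_eq_one]
        exact (eq_inv_of_mul_eq_one_right h2).symm ▸ rfl
      rw [h1]
      exact (multRing A).pow_mem hr _
  set L : Subfield K := (multRing A).toSubfield hinv with hL
  have hρL : ρ ∈ L := hA
  have htop := hρ L hρL
  ext y
  simp only [AddSubgroup.mem_top, iff_true]
  have hy : y / c ∈ L := by rw [htop]; trivial
  have := hy c hcA
  rwa [div_mul_cancel₀ y hc] at this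

/-- (SF) an element of large multiplicative order lies in no proper subfield -/
theorem subfield_eq_top_of_pow_ne [Fintype K] (ρ : K) (hρ0 : ρ ≠ 0)
    (h : ∀ s k : ℕ, Fintype.card K = s ^ k → 2 ≤ k → ρ ^ (s - 1) ≠ 1) (L : Subfield K) (hL : ρ ∈ L) :
    L = ⊤ := by
  classical
  haveI : Fintype L := Fintype.ofFinite L
  have hcard : Fintype.card K = Fintype.card L ^ Module.finrank L K := Module.card_eq_pow_finrank
  have hpow : ρ ^ (Fintype.card L - 1) = 1 := by
    have h1 : (⟨ρ, hL⟩ : L) ≠ 0 := fun h0 => hρ0 (congrArg Subtype.val h0)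
    have h2 := FiniteField.pow_card_sub_one_eq_one (⟨ρ, hL⟩ : L) h1
    have h3 := congrArg Subtype.val h2
    simpa using h3
  have hk : ¬ 2 ≤ Module.finrank L K := fun hk => h _ _ hcard hk hpow
  have hkpos : 0 < Module.finrank L K := Module.finrank_pos
  have hk1 : Module.finrank L K = 1 := by omega
  rw [hk1, pow_one] at hcard
  -- equal cardinalities
  have hadd : L.toSubring.toAddSubgroup = ⊤ := by
    apply AddSubgroup.eq_top_of_card_eq
    rw [Nat.card_eq_fintype_card, Nat.card_eq_fintype_card]
    exact hcard.symm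
  ext y
  simp only [Subfield.mem_top, iff_true]
  have : y ∈ L.toSubring.toAddSubgroup := by rw [hadd]; trivial
  exact this

end field

end Cfsg.Agent.Helper81.RU3
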