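import Mathlib

/-! Pieces (NT)+(Z) of helper84's S2283 (WANTED #6065): arithmetic and an element of norm one. -/

set_option autoImplicit false
set_option linter.style.haveILetI false

namespace Cfsg.Agent.Helper81.RU3

set_option maxRecDepth 100000 in
theorem nt_finite : ∀ q ≤ 20, ∀ s ≤ 8, ∀ k ≤ 8,
    ¬ (3 ≤ q ∧ q ≠ 8 ∧ 3 ≤ k ∧ q ^ 2 = s ^ k ∧ (q + 1) ∣ 3 * (s - 1)) := by
  decide

section field

variable {K : Type*} [Field K]

/-- (NT) the arithmetic behind the generic case -/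
theorem nt_aux {q s k : ℕ} (hq3 : 3 ≤ q) (hq5 : q ≠ 5) (hq8 : q ≠ 8) (hsk : q ^ 2 = s ^ k) (hk : 2 ≤ k)
    (hdvd : (q + 1) ∣ 3 * (s - 1)) : False := by
  have hq2 : 9 ≤ q ^ 2 := by nlinarith
  have hs2 : 2 ≤ s := by
    by_contra hlt
    have : s = 0 ∨ s = 1 := by omega
    rcases this with rfl | rfl
    · rw [zero_pow (by omega)] at hsk; omega
    · rw [one_pow] at hsk; omega
  have hpos : 0 < 3 * (s - 1) := by omega
  have hle : q + 1 ≤ 3 * (s - 1) := Nat.le_of_dvd hpos hdvd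
  rcases Nat.lt_or_ge 2 k with hk3 | hk2
  · -- k ≥ 3
    have h3 : s ^ 3 ≤ q ^ 2 := by
      rw [hsk]; exact Nat.pow_le_pow_right (by omega) hk3
    have hq3s : q < 3 * s := by omega
    have hs8 : s ≤ 8 := by
      by_contra hgt
      have h9 : 9 ≤ s := by omega
      have : q ^ 2 < 9 * s ^ 2 := by nlinarith
      have : 9 * s ^ 2 ≤ s ^ 3 := by
        have : s ^ 3 = s * s ^ 2 := by ring
        rw [this]; exact Nat.mul_le_mul_right _ h9
      omega
    have hq20 : q ≤ 20 := by omega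
    have hk8 : k ≤ 8 := by
      by_contra hgt
      have h9 : 9 ≤ k := by omega
      have h1 : 2 ^ 9 ≤ 2 ^ k := Nat.pow_le_pow_right (by norm_num) h9
      have h2 : 2 ^ k ≤ s ^ k := Nat.pow_le_pow_left hs2 k
      have h4 : q ^ 2 ≤ 400 := by nlinarith
      have : (2 : ℕ) ^ 9 = 512 := by norm_num
      omega
    exact nt_finite q hq20 s hs8 k hk8 ⟨hq3, hq8, hk3, hsk, hdvd⟩
  · -- k = 2
    have hk' : k = 2 := by omega
    subst hk'
    have hqs : q = s := by
      exact Nat.pow_left_injective (by norm_num : 2 ≠ 0) hsk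
    subst hqs
    have h6 : (q + 1) ∣ 6 := by
      have h1 : (q + 1) ∣ 3 * (q + 1) := Dvd.intro_left 3 rfl
      have h2 : 3 * (q + 1) = 3 * (q - 1) + 6 := by omega
      rw [h2] at h1
      exact (Nat.dvd_add_right hdvd).mp h1
    have hle6 : q + 1 ≤ 6 := Nat.le_of_dvd (by norm_num) h6
    have : q = 3 ∨ q = 4 := by omega
    rcases this with rfl | rfl <;> omega

/-- (Z) an element of norm one and order `q + 1` -/
theorem exists_norm_one [Fintype K] {q : ℕ} (hq : 2 ≤ q) (hK : Fintype.card K = q ^ 2) :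
    ∃ z : K, orderOf z = q + 1 ∧ z * z ^ q = 1 := by
  classical
  obtain ⟨θ, hθ⟩ := IsCyclic.exists_ofOrder_eq_natCard (α := Kˣ)
  have hcard : Nat.card Kˣ = q ^ 2 - 1 := by
    rw [Nat.card_eq_fintype_card, Fintype.card_units, hK]
  rw [hcard] at hθ
  have hfac : q ^ 2 - 1 = (q + 1) * (q - 1) := by
    have h1 : 1 ≤ q := by omega
    zify [h1, Nat.one_le_pow 2 q (by omega)]
    ring
  have hord : orderOf (θ ^ (q - 1)) = q + 1 := by
    rw [orderOf_pow' θ (by omega : q - 1 ≠ 0), hθ, hfac, Nat.gcd_mul_left_left,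
      Nat.mul_div_cancel _ (by omega : 0 < q - 1)]
  refine ⟨((θ ^ (q - 1) : Kˣ) : K), ?_, ?_⟩
  · rw [orderOf_units]; exact hord
  · rw [← pow_succ', ← hord, ← Units.val_pow_eq_pow_val, pow_orderOf_eq_one, Units.val_one]

end field

end Cfsg.Agent.Helper81.RU3
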