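import Cfsg.Agent.Helper81.SzcMI4
import Cfsg.Agent.Helper24.SzcMI12

/-!
# [MI3], [MI4] of helper6's S4775 farm (#11435) with [MI2] plugged in; only [MF] is a hypothesis
-/

set_option autoImplicit false
set_option linter.unusedSectionVars false

namespace Cfsg.Agent.Helper81.Szc

open Cfsg Cfsg.Agent.Helper6
open scoped ComplexConjugate

universe u

variable {G : Type u} [Group G] [Fintype G] {Q H B K₁ K₂ : Subgroup G} {w : G} {T : ℕ}
  [Fintype ↥B]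

/-- [MI3] from [MF] -/
theorem szc_ps_irr_of_MF (D : SzHyp Q H B K₁ K₂ w T)
    (hMF : ∀ l μ : ↥B →* ℂ, (∀ x : ↥B, (x : G) ∈ Q → l x = 1) →
      (∀ x : ↥B, (x : G) ∈ Q → μ x = 1) → (∃ h : ↥B, (h : G) ∈ H ∧ l h ≠ conj (μ h)) →
      classInner (indFun B (fun b => l b)) (indFun B (fun b => μ b))
        = classInner (fun b : ↥B => l b) (fun b : ↥B => μ b))
    (l : ↥B →* ℂ)
    (hl : ∀ x : ↥B, (x : G) ∈ Q → l x = 1) (hne : ∃ b : ↥B, l b ≠ 1) :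
    IsIrrCharacter G (indFun B (fun b => l b)) :=
  szc_ps_irr_of hMF (fun l hl hr => Cfsg.Agent.Helper24.Szc.szc_lin_real D l hl hr) l hl hne

/-- [MI4] from [MF] -/
theorem szc_ps_eq_of_MF (D : SzHyp Q H B K₁ K₂ w T)
    (hMF : ∀ l μ : ↥B →* ℂ, (∀ x : ↥B, (x : G) ∈ Q → l x = 1) →
      (∀ x : ↥B, (x : G) ∈ Q → μ x = 1) → (∃ h : ↥B, (h : G) ∈ H ∧ l h ≠ conj (μ h)) →
      classInner (indFun B (fun b => l b)) (indFun B (fun b => μ b))
        = classInner (fun b : ↥B => l b) (fun b : ↥B => μ b))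
    (l μ : ↥B →* ℂ)
    (hl : ∀ x : ↥B, (x : G) ∈ Q → l x = 1) (hμ : ∀ x : ↥B, (x : G) ∈ Q → μ x = 1)
    (hne : ∃ b : ↥B, l b ≠ 1)
    (h : indFun B (fun b => l b) = indFun B (fun b => μ b)) :
    (∀ b, μ b = l b) ∨ (∀ b, μ b = conj (l b)) :=
  szc_ps_eq_of D hMF (fun l hl hr => Cfsg.Agent.Helper24.Szc.szc_lin_real D l hl hr) l μ hl hμ hne h

end Cfsg.Agent.Helper81.Szc
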