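import Mathlib
import Cfsg.Agent.Helper79.CharComplete
import Cfsg.Agent.Helper74.DegP
import Cfsg.Agent.Helper39.McKayGeneral

/-! Piece (A) of helper34's S4067 (WANTED #5812): a nonabelian finite group with more than `|G|/p` conjugacy classes
(`p` the least prime divisor of `|G|`) has `|G'| = p`. -/

set_option autoImplicit false
set_option linter.style.haveILetI false

namespace Cfsg.Agent.Helper81.AutOrb

open Cfsg

universe u

/-- the number of linear characters is the index of the commutator subgroup. -/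
theorem card_monoidHom_units_eq_index {G : Type u} [Group G] [Finite G] :
    Nat.card (G →* ℂˣ) = (commutator G).index := by
  have h1 : Nat.card (G →* ℂˣ) = Nat.card (Abelianization G →* ℂˣ) :=
    Nat.card_congr (Abelianization.lift (G := G) (A := ℂˣ))
  haveI : Finite (Abelianization G) := by unfold Abelianization; infer_instance
  haveI : NeZero ((Monoid.exponent (Abelianization G) : ℕ) : ℂ) :=
    ⟨by exact_mod_cast Monoid.exponent_ne_zero_of_finite⟩
  rw [h1, CommGroup.card_monoidHom_of_hasEnoughRootsOfUnity (Abelianization G) ℂ]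
  rfl

/-- (A) many classes force `|G'| = p`. -/
theorem card_commutator_eq_of_many_classes {G : Type u} [Group G] [Finite G] (hna : ¬ IsMulCommutative G)
    (h : Nat.card G / (Nat.card G).minFac < Nat.card (ConjClasses G)) :
    Nat.card (commutator G) = (Nat.card G).minFac := by
  classical
  haveI : Fintype G := Fintype.ofFinite G
  haveI : Finite (IrrCharacter G) := Helper79.irr_finite
  haveI : Fintype (IrrCharacter G) := Fintype.ofFinite _
  set n := Nat.card G with hn
  set p := n.minFac with hp
  have hnpos : 0 < n := Nat.card_pos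
  -- `G` is nontrivial, so `p` is prime
  have hn1 : n ≠ 1 := by
    intro h1
    apply hna
    haveI : Subsingleton G := (Nat.card_eq_one_iff_unique.mp h1).1
    exact ⟨⟨fun a b => Subsingleton.elim _ _⟩⟩
  have hpprime : p.Prime := Nat.minFac_prime hn1
  have hp2 : 2 ≤ p := hpprime.two_le
  have hpn : p ∣ n := Nat.minFac_dvd n
  -- the commutator subgroup
  set c := Nat.card (commutator G) with hc
  set l := (commutator G).index with hl
  have hcl : c * l = n := Subgroup.card_mul_index (commutator G)
  have hcne : c ≠ 1 := by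
    intro h1
    apply hna
    have hbot : commutator G = ⊥ := Subgroup.card_eq_one.mp h1
    refine ⟨⟨fun a b => ?_⟩⟩
    have : (a * b * a⁻¹ * b⁻¹) ∈ commutator G := by
      have h0 := Subgroup.commutator_mem_commutator (H₁ := (⊤ : Subgroup G)) (H₂ := ⊤)
        (Subgroup.mem_top a) (Subgroup.mem_top b)
      rwa [commutatorElement_def] at h0
    rw [hbot, Subgroup.mem_bot] at this
    calc a * b = (a * b * a⁻¹ * b⁻¹) * (b * a) := by group
      _ = b * a := by rw [this, one_mul]
  have hcdvd : c ∣ n := Dvd.intro _ hcl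
  have hcpos : 0 < c := Nat.card_pos
  have hpc : p ≤ c := Nat.minFac_le_of_dvd (by omega) hcdvd
  by_contra hcp
  have hcp1 : p + 1 ≤ c := by
    have : c ≠ p := hcp
    omega
  -- degrees
  set d : IrrCharacter G → ℕ := fun χ => charDegree (χ : G → ℂ) with hd
  have hsum : ∑ χ : IrrCharacter G, d χ ^ 2 = n := Helper79.sum_charDegree_sq
  have hdeg : ∀ χ : IrrCharacter G, d χ ≠ 1 → p ≤ d χ := by
    intro χ h1
    have hdvd : d χ ∣ n := Helper74.charDegree_dvd_card χ
    have hpos : 0 < d χ := Nat.pos_of_dvd_of_pos hdvd hnpos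
    exact Nat.minFac_le_of_dvd (by omega) hdvd
  have hdpos : ∀ χ : IrrCharacter G, 1 ≤ d χ := by
    intro χ
    have hdvd : d χ ∣ n := Helper74.charDegree_dvd_card χ
    exact Nat.pos_of_dvd_of_pos hdvd hnpos
  -- counting
  set L := Finset.univ.filter (fun χ : IrrCharacter G => d χ = 1) with hL
  set R := Finset.univ.filter (fun χ : IrrCharacter G => ¬ d χ = 1) with hR
  have hLcard : L.card = l := by
    rw [hl, ← card_monoidHom_units_eq_index, ← Helper39.card_irr_degree_one, Nat.card_eq_fintype_card,
      Fintype.card_subtype]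
  have hk : L.card + R.card = Nat.card (ConjClasses G) := by
    rw [← Helper79.card_irr_eq_card_conjClasses, Nat.card_eq_fintype_card, ← Finset.card_univ]
    exact Finset.card_filter_add_card_filter_not _
  have hlow : L.card + R.card * p ^ 2 ≤ n := by
    rw [← hsum]
    have h1 : ∑ χ : IrrCharacter G, (if d χ = 1 then 1 else p ^ 2) ≤ ∑ χ : IrrCharacter G, d χ ^ 2 := by
      apply Finset.sum_le_sum
      intro χ _
      by_cases h1 : d χ = 1
      · rw [if_pos h1, h1, one_pow]
      · rw [if_neg h1]
        exact Nat.pow_le_pow_left (hdeg χ h1) 2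
    rw [Finset.sum_ite, Finset.sum_const, Finset.sum_const, smul_eq_mul, smul_eq_mul, mul_one] at h1
    exact h1
  -- arithmetic
  obtain ⟨q, hq⟩ := hpn
  have hdiv : n / p = q := by rw [hq]; exact Nat.mul_div_cancel_left q (by omega)
  rw [hdiv, ← hk, hLcard] at h
  rw [hLcard] at hlow
  have hl1 : l * (p + 1) ≤ n := by
    calc l * (p + 1) ≤ l * c := Nat.mul_le_mul_left l hcp1
      _ = n := by rw [mul_comm]; exact hcl
  -- pass to ℤ
  have hlowZ : (l : ℤ) + (R.card : ℤ) * (p : ℤ) ^ 2 ≤ (p : ℤ) * q := by
    have := hlow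
    rw [hq] at this
    exact_mod_cast this
  have hl1Z : (l : ℤ) * ((p : ℤ) + 1) ≤ (p : ℤ) * q := by
    have := hl1
    rw [hq] at this
    exact_mod_cast this
  have hZ : (q : ℤ) < (l : ℤ) + (R.card : ℤ) := by exact_mod_cast h
  have hp2Z : (2 : ℤ) ≤ (p : ℤ) := by exact_mod_cast hp2
  have hkey : ((l : ℤ) + (R.card : ℤ)) * (p : ℤ) ^ 2 ≤ (q : ℤ) * (p : ℤ) ^ 2 := by
    have h3 : (l : ℤ) * ((p : ℤ) + 1) * ((p : ℤ) - 1) ≤ (p : ℤ) * q * ((p : ℤ) - 1) :=
      mul_le_mul_of_nonneg_right hl1Z (by linarith)
    nlinarith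
  have hpsq : (0 : ℤ) < (p : ℤ) ^ 2 := by positivity
  have := le_of_mul_le_mul_right hkey hpsq
  linarith

end Cfsg.Agent.Helper81.AutOrb
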