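import Mathlib
import Cfsg.Agent.Helper47.SGDefs
import Cfsg.Agent.Helper62.FrobActAb

set_option autoImplicit false
set_option linter.style.haveILetI false

/-!
# Shult–Gross, piece (W6): the abelian case of the reduced configuration (helper81 for helper47)
-/

namespace Cfsg.Agent.Helper81.SG

open Cfsg.Agent.Helper47.SG
open scoped commutatorElement

/-- In a cyclic group generated by `x` with `x ^ (p ^ (n+1)) = 1`, every nontrivial power of `x`
generates a subgroup containing `x ^ (p ^ n)`. -/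
theorem pow_mem_zpowers_of_ne_one {Γ : Type*} [Group Γ] {p n : ℕ} (hp : p.Prime) {x : Γ}
    (hx : x ^ (p ^ (n + 1)) = 1) {e : Γ} (he : e ∈ Subgroup.zpowers x) (he1 : e ≠ 1) :
    x ^ (p ^ n) ∈ Subgroup.zpowers e := by
  obtain ⟨k, rfl⟩ := Subgroup.mem_zpowers_iff.1 he
  -- gcd of `k` and `p ^ (n+1)`
  set g : ℕ := Int.gcd k (p ^ (n + 1) : ℕ) with hg
  have hgdvd : g ∣ p ^ (n + 1) := by
    have := Int.gcd_dvd_right k ((p ^ (n + 1) : ℕ) : ℤ)
    exact Int.natCast_dvd_natCast.1 this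
  obtain ⟨t, ht, hgt⟩ := (Nat.dvd_prime_pow hp).1 hgdvd
  -- Bezout
  have hbez : (g : ℤ) = k * Int.gcdA k (p ^ (n + 1) : ℕ) +
      ((p ^ (n + 1) : ℕ) : ℤ) * Int.gcdB k (p ^ (n + 1) : ℕ) := Int.gcd_eq_gcd_ab _ _
  have hxg : x ^ g ∈ Subgroup.zpowers (x ^ k) := by
    have h1 : x ^ (g : ℤ) = (x ^ k) ^ (Int.gcdA k (p ^ (n + 1) : ℕ)) := by
      rw [hbez, zpow_add, zpow_mul, zpow_mul, zpow_natCast, hx, one_zpow, mul_one]
    rw [← zpow_natCast, h1]
    exact Subgroup.zpow_mem_zpowers _ _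
  have htn : t ≤ n := by
    by_contra hcon
    have ht' : t = n + 1 := by omega
    apply he1
    have hdvd : ((p ^ (n + 1) : ℕ) : ℤ) ∣ k := by
      have := Int.gcd_dvd_left k ((p ^ (n + 1) : ℕ) : ℤ)
      rw [← hg, hgt, ht'] at this
      exact this
    obtain ⟨c, hc⟩ := hdvd
    rw [hc, zpow_mul, zpow_natCast, hx, one_zpow]
  have : x ^ (p ^ n) = (x ^ g) ^ (p ^ (n - t)) := by
    rw [← pow_mul, hgt, ← pow_add]
    congr 2
    omega
  rw [this]
  exact Subgroup.pow_mem _ hxg _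

universe uΓ uW

/-- W6 -/
theorem kl_abelian : KLAbelianStmt.{uΓ, uW} := by
  intro Γ _ _ W _ _ p q r n φ Q _ x hp hq hr hpq hpr hqr hexp hQq hQab hx hφQ hfixW hcomm
  classical
  haveI : Fact r.Prime := ⟨hr⟩
  haveI : Fact q.Prime := ⟨hq⟩
  set x1 : Γ := x ^ (p ^ n) with hx1
  -- conjugation by `x1` on `Q`
  have hconjQ : ∀ a ∈ Q, x1 * a * x1⁻¹ ∈ Q := fun a ha => ‹Q.Normal›.conj_mem a ha x1
  -- the commutator map `f a = ⁅a, x1⁆` as a monoid hom `Q →* Q`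
  let f : Q →* Q :=
    { toFun := fun a => ⟨⁅(a : Γ), x1⁆, by
        rw [commutatorElement_def]
        have h1 : x1 * (a : Γ)⁻¹ * x1⁻¹ ∈ Q := hconjQ _ (Q.inv_mem a.2)
        have : (a : Γ) * x1 * (a : Γ)⁻¹ * x1⁻¹ = (a : Γ) * (x1 * (a : Γ)⁻¹ * x1⁻¹) := by group
        rw [this]
        exact Q.mul_mem a.2 h1⟩
      map_one' := by
        apply Subtype.ext
        simp
      map_mul' := fun a b => by
        apply Subtype.ext
        show ⁅((a * b : Q) : Γ), x1⁆ = ⁅(a : Γ), x1⁆ * ⁅(b : Γ), x1⁆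
        rw [commutatorElement_def, commutatorElement_def, commutatorElement_def]
        have hb : x1 * (b : Γ)⁻¹ * x1⁻¹ ∈ Q := hconjQ _ (Q.inv_mem b.2)
        have ha : x1 * (a : Γ)⁻¹ * x1⁻¹ ∈ Q := hconjQ _ (Q.inv_mem a.2)
        -- a b x1 b⁻¹ a⁻¹ x1⁻¹ = a b (x1 b⁻¹ x1⁻¹)(x1 a⁻¹ x1⁻¹)
        have e1 : ((a * b : Q) : Γ) * x1 * ((a * b : Q) : Γ)⁻¹ * x1⁻¹ =
            (a : Γ) * ((b : Γ) * ((x1 * (b : Γ)⁻¹ * x1⁻¹) * (x1 * (a : Γ)⁻¹ * x1⁻¹))) := by
          rw [Subgroup.coe_mul]; group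
        have e2 : (a : Γ) * x1 * (a : Γ)⁻¹ * x1⁻¹ * ((b : Γ) * x1 * (b : Γ)⁻¹ * x1⁻¹) =
            (a : Γ) * ((x1 * (a : Γ)⁻¹ * x1⁻¹) * ((b : Γ) * (x1 * (b : Γ)⁻¹ * x1⁻¹))) := by
          group
        rw [e1, e2, hQab _ ha _ (Q.mul_mem b.2 hb)]
        simp only [mul_assoc] }
  have hf : ∀ a : Q, ((f a : Q) : Γ) = ⁅(a : Γ), x1⁆ := fun _ => rfl
  -- the image of `f` contains all `⁅a, x1 ^ i⁆`
  have himg : ∀ (i : ℕ) (a : Q), ∃ b : Q, ((f b : Q) : Γ) = ⁅(a : Γ), x1 ^ i⁆ := by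
    intro i
    induction i with
    | zero =>
      intro a
      exact ⟨1, by rw [pow_zero, commutatorElement_one_right]; simp⟩
    | succ i ih =>
      intro a
      -- ⁅a, x1^(i+1)⁆ = ⁅a, x1⁆ * ⁅x1 a x1⁻¹, x1^i⁆
      obtain ⟨b, hb⟩ := ih ⟨x1 * (a : Γ) * x1⁻¹, hconjQ _ a.2⟩
      refine ⟨a * b, ?_⟩
      rw [map_mul, Subgroup.coe_mul, hb, hf]
      simp only [commutatorElement_def]
      rw [pow_succ']
      group
  have hsurj : Function.Surjective f := by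
    -- range f ⊇ ⁅Q, zpowers x1⁆ = Q
    have hle : ⁅Q, Subgroup.zpowers x1⁆ ≤ (f.range).map Q.subtype := by
      rw [Subgroup.commutator_le]
      intro a ha c hc
      obtain ⟨k, rfl⟩ := Subgroup.mem_zpowers_iff.1 hc
      -- reduce the integer exponent to a natural one
      have hfin : IsOfFinOrder x1 := isOfFinOrder_of_finite x1
      obtain ⟨i, hi⟩ : ∃ i : ℕ, x1 ^ k = x1 ^ i := by
        refine ⟨(k % (orderOf x1 : ℤ)).toNat, ?_⟩
        have hpos : (0 : ℤ) < orderOf x1 := by exact_mod_cast hfin.orderOf_pos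
        rw [← zpow_natCast, Int.toNat_of_nonneg (Int.emod_nonneg _ hpos.ne'), zpow_mod_orderOf]
      obtain ⟨b, hb⟩ := himg i ⟨a, ha⟩
      rw [hi]
      exact ⟨f b, ⟨b, rfl⟩, hb⟩
    intro y
    have hy0 : (y : Γ) ∈ ⁅Q, Subgroup.zpowers x1⁆ := by rw [hcomm]; exact y.2
    have hy : (y : Γ) ∈ (f.range).map Q.subtype := hle hy0
    obtain ⟨z, ⟨b, rfl⟩, hz⟩ := hy
    exact ⟨b, Subtype.ext hz⟩
  have hinj : Function.Injective f := Finite.injective_iff_surjective.2 hsurj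
  -- `C_Q(x1) = 1`
  have hcent1 : ∀ u ∈ Q, x1 * u = u * x1 → u = 1 := by
    intro u hu hcu
    have h1 : f ⟨u, hu⟩ = f 1 := by
      apply Subtype.ext
      rw [hf, map_one, commutatorElement_def]
      show u * x1 * u⁻¹ * x1⁻¹ = 1
      rw [← hcu]; group
    have := hinj h1
    exact congrArg Subtype.val this
  -- fixed-point-freeness of `zpowers x` on `Q`
  have hfpf : ∀ e ∈ Subgroup.zpowers x, e ≠ 1 → ∀ u ∈ Q, e * u = u * e → u = 1 := by
    intro e he he1 u hu heu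
    have hx1e : x1 ∈ Subgroup.zpowers e := pow_mem_zpowers_of_ne_one hp hx he he1
    have hle : Subgroup.zpowers e ≤ Subgroup.centralizer {u} := by
      rw [Subgroup.zpowers_le]
      exact Subgroup.mem_centralizer_singleton_iff.2 heu
    exact hcent1 u hu (Subgroup.mem_centralizer_singleton_iff.1 (hle hx1e))
  -- apply the fixed-point formula
  haveI : Group.IsNilpotent Q := by
    letI : CommGroup Q :=
      { (inferInstance : Group Q) with mul_comm := fun a b => Subtype.ext (hQab a a.2 b b.2) }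
    exact (inferInstance : @Group.IsNilpotent Q CommGroup.toGroup)
  have hrQ : ¬ r ∣ Nat.card Q := by
    intro hdvd
    obtain ⟨k, hk⟩ := IsPGroup.iff_card.1 hQq
    rw [hk] at hdvd
    exact hqr ((Nat.prime_dvd_prime_iff_eq hr hq).1 (hr.dvd_of_dvd_pow hdvd)).symm
  have hrE : ¬ r ∣ Nat.card (Subgroup.zpowers x) := by
    intro hdvd
    rw [Nat.card_zpowers] at hdvd
    have h2 : orderOf x ∣ p ^ (n + 1) := orderOf_dvd_of_pow_eq_one hx
    exact hpr ((Nat.prime_dvd_prime_iff_eq hr hp).1 (hr.dvd_of_dvd_pow (hdvd.trans h2))).symm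
  have hmain := (Cfsg.Agent.Helper62.FrobAct.elemAb_main (ℓ := r) φ (⊤ : Subgroup W)
    (fun _ _ _ => Subgroup.mem_top _) (fun w _ => hexp w) Q (Subgroup.zpowers x) hrQ hrE hfpf).1
  -- `fixOf φ (zpowers x) = ⊥`
  have hfixE : Cfsg.Agent.Helper62.FrobAct.fixOf φ (Subgroup.zpowers x) = ⊥ := by
    rw [eq_bot_iff]
    intro w hw
    exact (Subgroup.mem_bot).2 (hfixW w (hw x (Subgroup.mem_zpowers x)))
  rw [hfixE] at hmain
  have e1 : (⊤ : Subgroup W) ⊓ Cfsg.Agent.Helper62.FrobAct.fixOf φ Q ⊓ ⊥ = ⊥ := inf_bot_eq _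
  have e2 : (⊤ : Subgroup W) ⊓ (⊥ : Subgroup W) = ⊥ := inf_bot_eq _
  rw [e1, e2, top_inf_eq] at hmain
  simp only [Subgroup.card_bot, one_pow, one_mul] at hmain
  -- so `fixOf φ Q = ⊤`
  have htop : Cfsg.Agent.Helper62.FrobAct.fixOf φ Q = ⊤ := by
    apply (Subgroup.card_eq_iff_eq_top _).1
    rw [← hmain]
    exact Subgroup.card_top
  rw [eq_bot_iff]
  intro a ha
  apply (Subgroup.mem_bot).2
  apply hφQ a ha
  ext w
  have hw : w ∈ Cfsg.Agent.Helper62.FrobAct.fixOf φ Q := htop ▸ Subgroup.mem_top w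
  exact hw a ha

end Cfsg.Agent.Helper81.SG
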