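-- helper81: piece (CEN) of helper38's S2412 skeleton (#11620 / #11645): the centre of `Q_u`
-- (port of `Cfsg.Agent.Helper46.RUn.hasM_eich_all` to `I (m + 2) r` and a general isotropic `u ⊥ V'`).
import Mathlib
import Cfsg.Agent.Helper38.SU2G.Defs

set_option autoImplicit false
set_option linter.unusedSectionVars false

namespace Cfsg.Agent.Helper81.SU2G

open Matrix Cfsg.Agent.Helper84.PSU Cfsg.Agent.Helper38.SU2G

variable {K : Type*} [Field K] {m r : ℕ}

local notation "Vec" => (I (m + 2) r → K)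
local notation "Mat" => Matrix (I (m + 2) r) (I (m + 2) r) K

variable (bar : K →+* K) (hb : ∀ x, bar (bar x) = x)

set_option quotPrecheck false in
local notation "SUk" => ↥(SUm (m + 2) r bar)

theorem CEN_i1_ne_i0 : (i1 : Fin (m + 2)) ≠ i0 := by
  intro h
  have := congrArg Fin.val h
  simp [i1, i0] at this

theorem CEN_inV'_smul_vE1 (t : K) : InV' (t • (vE i1 : Vec)) := by
  constructor
  · rw [Pi.smul_apply, vE, bv_apply, if_neg, smul_zero]
    intro h
    exact CEN_i1_ne_i0 (Sum.inl.inj h).symm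
  · rw [Pi.smul_apply, vE, bv_apply, if_neg, smul_zero]
    intro h
    cases h

theorem CEN_inV'_vF1 : InV' (vF i1 : Vec) := by
  constructor
  · rw [vF, bv_apply, if_neg]
    intro h
    cases h
  · rw [vF, bv_apply, if_neg]
    intro h
    exact CEN_i1_ne_i0 (Sum.inr.inj (Sum.inr.inj h)).symm

include hb in
/-- the commutator of two elements of `Q_u` -/
theorem CEN_hasM_eich_comm (H : Subgroup SUk) {u x x' : Vec} {z z' : K} (huu : hf bar u u = 0)
    (hxu : hf bar x u = 0) (hx'u : hf bar x' u = 0)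
    (hz : z + bar z + hf bar x x = 0) (hz' : z' + bar z' + hf bar x' x' = 0)
    (h1 : HasM bar H (eichM bar u x z)) (h2 : HasM bar H (eichM bar u x' z')) :
    HasM bar H (eichM bar u 0 (hf bar x x' - hf bar x' x)) := by
  have hnxu : hf bar (-x) u = 0 := by rw [hf_neg_left, hxu, neg_zero]
  have hnx'u : hf bar (-x') u = 0 := by rw [hf_neg_left, hx'u, neg_zero]
  -- the inverses
  have h1i : HasM bar H (eichM bar u (-x) (bar z)) := HasM.eich_inv bar hb huu hxu hz h1
  have h2i : HasM bar H (eichM bar u (-x') (bar z')) := HasM.eich_inv bar hb huu hx'u hz' h2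
  have h3 := ((h1.mul bar h2).mul bar h1i).mul bar h2i
  refine h3.of_eq bar ?_
  have hxx'u : hf bar (x + x') u = 0 := by rw [hf_add_left, hxu, hx'u, add_zero]
  rw [eichM_mul bar hb _ _ huu hxu hx'u, eichM_mul bar hb _ _ huu hxx'u hnxu]
  have hx'u2 : hf bar (x + x' + -x) u = 0 := by
    rw [hf_add_left, hxx'u, hnxu, add_zero]
  rw [eichM_mul bar hb _ _ huu hx'u2 hnx'u]
  have e1 : x + x' + -x + -x' = 0 := by abel
  rw [e1]
  congr 1
  simp only [hf_add_right, hf_neg_left, hf_neg_right]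
  linear_combination hz + hz'

include hb in
/-- (CEN) -/
theorem cen_piece {s₀ : K} (hs₀ : bar s₀ ≠ s₀) (L : Subgroup SUk) (u : Vec) (huu : hf bar u u = 0)
    (hu : ∀ x : Vec, InV' x → hf bar x u = 0)
    (h : ∀ x : Vec, InV' x → ∃ z : K, z + bar z + hf bar x x = 0 ∧ HasM bar L (eichM bar u x z)) :
    ∀ (x : Vec) (z : K), InV' x → z + bar z + hf bar x x = 0 → HasM bar L (eichM bar u x z) := by
  -- the centre
  have hcen : ∀ ζ : K, ζ + bar ζ = 0 → HasM bar L (eichM bar u 0 ζ) := by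
    intro ζ hζ
    have hs : s₀ - bar s₀ ≠ 0 := fun h0 => hs₀ (sub_eq_zero.mp h0).symm
    set t : K := ζ * s₀ / (s₀ - bar s₀) with ht
    obtain ⟨z1, hz1, hH1⟩ := h (t • (vE i1 : Vec)) (CEN_inV'_smul_vE1 t)
    obtain ⟨z2, hz2, hH2⟩ := h (vF i1 : Vec) CEN_inV'_vF1
    have h3 := CEN_hasM_eich_comm bar hb L huu (hu _ (CEN_inV'_smul_vE1 t)) (hu _ CEN_inV'_vF1)
      hz1 hz2 hH1 hH2
    refine h3.of_eq bar ?_
    congr 1
    have e1 : hf bar (t • (vE i1 : Vec)) (vF i1) = t := by
      rw [hf_smul_left, vE, vF, hf_bv_ef, if_pos rfl, mul_one]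
    have e2 : hf bar (vF i1 : Vec) (t • (vE i1 : Vec)) = bar t := by
      rw [hf_smul_right, vE, vF, hf_bv_fe, if_pos rfl, mul_one]
    rw [e1, e2]
    have hbz : bar ζ = -ζ := by linear_combination hζ
    have hbs : bar s₀ - s₀ ≠ 0 := fun h0 => hs₀ (sub_eq_zero.mp h0)
    rw [ht, map_div₀, map_mul, map_sub, hb, hbz]
    field_simp
    ring
  intro x z hx hz
  obtain ⟨z', hz', hH'⟩ := h x hx
  have hζ : (z - z') + bar (z - z') = 0 := by
    rw [map_sub]
    linear_combination hz - hz'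
  have h4 := hH'.mul bar (hcen (z - z') hζ)
  refine h4.of_eq bar ?_
  have hxu := hu x hx
  have h0u : hf bar (0 : Vec) u = 0 := hf_zero_left bar _
  rw [eichM_mul bar hb _ _ huu hxu h0u, add_zero, hf_zero_left, sub_zero]
  congr 1
  ring

end Cfsg.Agent.Helper81.SU2G
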