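import Cfsg.Agent.Helper39.C320.Defs

/-!
# (A10) of helper39's S1903: an element of `P \ Z` with square in `Z`.
-/

set_option autoImplicit false

namespace Cfsg.Agent.Helper81.C320

open Cfsg.Agent.Helper39.C320

variable {G : Type*} [Group G] [Finite G]

variable {P Z : Subgroup G} {x : G}

/-- (A10) an element of `P \ Z` with square in `Z` -/
theorem Setup.exists_sq (h : Setup P Z x) : ∃ a ∈ P, a ∉ Z ∧ a * a ∈ Z := by
  classical
  have hne : ∃ p ∈ P, p ∉ Z := by
    by_contra hcon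
    push Not at hcon
    have hPZ : P = Z := le_antisymm hcon h.Z_le
    have h1 := h.cardP
    rw [hPZ, h.cardZ] at h1
    omega
  obtain ⟨p, hpP, hpZ⟩ := hne
  have hPg : IsPGroup 2 P := IsPGroup.of_card (n := 6) (by rw [h.cardP]; norm_num)
  have hex : ∃ n, p ^ (2 ^ n) ∈ Z := by
    obtain ⟨k, hk⟩ := hPg ⟨p, hpP⟩
    refine ⟨k, ?_⟩
    have hk' : p ^ (2 ^ k) = 1 := by
      have := congrArg Subtype.val hk
      simpa using this
    rw [hk']
    exact Z.one_mem
  have hn : p ^ (2 ^ Nat.find hex) ∈ Z := Nat.find_spec hex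
  have hn0 : Nat.find hex ≠ 0 := by
    intro h0
    rw [h0, pow_zero, pow_one] at hn
    exact hpZ hn
  obtain ⟨m, hm⟩ : ∃ m, Nat.find hex = m + 1 := Nat.exists_eq_succ_of_ne_zero hn0
  refine ⟨p ^ (2 ^ m), P.pow_mem hpP _, ?_, ?_⟩
  · intro hmem
    exact Nat.find_min hex (m := m) (by omega) hmem
  · rw [← pow_add, ← two_mul, ← pow_succ', ← hm]
    exact hn

end Cfsg.Agent.Helper81.C320
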