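import Cfsg.Agent.Helper39.C320.Defs

/-!
# (GL) of helper39's S1903: the relations `Rel` under homomorphisms and products, and two groups of
order 320 generated by elements satisfying the relations are isomorphic.
-/

set_option autoImplicit false

namespace Cfsg.Agent.Helper81.C320

open Cfsg.Agent.Helper39.C320

section B
variable {H : Type*} [Group H]

theorem map_k1 {K : Type*} [Group K] (f : H →* K) (x a : H) : f (k1 x a) = k1 (f x) (f a) := by
  simp only [k1, cj1, map_mul, map_inv]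

theorem map_k2 {K : Type*} [Group K] (f : H →* K) (x a : H) : f (k2 x a) = k2 (f x) (f a) := by
  simp only [k2, cj2, map_mul, map_inv, map_pow]

/-- (RM) relations are preserved by homomorphisms, reflected by injective ones, and hold in a
product iff they hold in both factors -/
theorem Rel.map {K : Type*} [Group K] (f : H →* K) {x a : H} (h : Rel x a) : Rel (f x) (f a) := by
  refine ⟨?_, ?_, ?_, ?_, ?_, ?_, ?_, ?_, ?_, ?_⟩
  · rw [← map_pow, h.x5, map_one]
  · rw [← map_mul, ← map_pow, h.ax5, map_one]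
  · rw [← map_pow, h.a4, map_one]
  · rw [← map_mul, ← map_mul, ← map_mul, h.sx]
  · rw [← map_k1, ← map_mul, ← map_mul, h.k1a]
  · rw [← map_k1, ← map_mul, ← map_mul, h.k1x]
  · rw [← map_k2, ← map_mul, ← map_mul, h.k2a]
  · rw [← map_k2, ← map_mul, ← map_mul, h.k2x]
  · rw [← map_k1, ← map_mul, h.k1sq, map_one]
  · rw [← map_k2, ← map_mul, h.k2sq, map_one]

theorem Rel.of_map {K : Type*} [Group K] (f : H →* K) (hf : Function.Injective f) {x a : H}
    (h : Rel (f x) (f a)) : Rel x a := by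
  refine ⟨?_, ?_, ?_, ?_, ?_, ?_, ?_, ?_, ?_, ?_⟩
  · apply hf
    rw [map_pow, h.x5, map_one]
  · apply hf
    rw [map_pow, map_mul, h.ax5, map_one]
  · apply hf
    rw [map_pow, h.a4, map_one]
  · apply hf
    rw [map_mul, map_mul, map_mul, map_mul, h.sx]
  · apply hf
    rw [map_mul, map_mul, map_k1, h.k1a]
  · apply hf
    rw [map_mul, map_mul, map_k1, h.k1x]
  · apply hf
    rw [map_mul, map_mul, map_k2, h.k2a]
  · apply hf
    rw [map_mul, map_mul, map_k2, h.k2x]
  · apply hf
    rw [map_mul, map_k1, h.k1sq, map_one]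
  · apply hf
    rw [map_mul, map_k2, h.k2sq, map_one]

theorem Rel.prod {K : Type*} [Group K] {x a : H} {y b : K} (h1 : Rel x a) (h2 : Rel y b) :
    Rel ((x, y) : H × K) (a, b) := by
  have e1 : k1 ((x, y) : H × K) (a, b) = (k1 x a, k1 y b) := rfl
  have e2 : k2 ((x, y) : H × K) (a, b) = (k2 x a, k2 y b) := rfl
  refine ⟨?_, ?_, ?_, ?_, ?_, ?_, ?_, ?_, ?_, ?_⟩
  · exact Prod.ext h1.x5 h2.x5
  · exact Prod.ext h1.ax5 h2.ax5
  · exact Prod.ext h1.a4 h2.a4
  · exact Prod.ext h1.sx h2.sx
  · rw [e1]; exact Prod.ext h1.k1a h2.k1a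
  · rw [e1]; exact Prod.ext h1.k1x h2.k1x
  · rw [e2]; exact Prod.ext h1.k2a h2.k2a
  · rw [e2]; exact Prod.ext h1.k2x h2.k2x
  · rw [e1]; exact Prod.ext h1.k1sq h2.k1sq
  · rw [e2]; exact Prod.ext h1.k2sq h2.k2sq

/-- (GL) two groups of order 320 generated by elements satisfying the relations are isomorphic -/
theorem nonempty_mulEquiv_of_rel {G K : Type*} [Group G] [Group K] [Finite G] [Finite K]
    (hG : Nat.card G = 320) (hK : Nat.card K = 320) (x a : G) (y b : K)
    (h1 : Rel x a) (h2 : Rel y b) (g1 : Subgroup.closure {x, a} = ⊤)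
    (g2 : Subgroup.closure {y, b} = ⊤)
    (hB : ∀ (D : Subgroup (G × K)) (u v : D), Rel u v → Subgroup.closure {u, v} = ⊤ →
      Nat.card D ≤ 320) :
    Nonempty (G ≃* K) := by
  classical
  set D : Subgroup (G × K) := Subgroup.closure {((x, y) : G × K), (a, b)} with hD
  have hu : ((x, y) : G × K) ∈ D := Subgroup.subset_closure (by simp)
  have hv : ((a, b) : G × K) ∈ D := Subgroup.subset_closure (by simp)
  have hrel : Rel (⟨(x, y), hu⟩ : D) ⟨(a, b), hv⟩ :=
    Rel.of_map D.subtype Subtype.val_injective (Rel.prod h1 h2)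
  have hcl : Subgroup.closure {(⟨(x, y), hu⟩ : D), ⟨(a, b), hv⟩} = ⊤ := by
    have h := Subgroup.closure_closure_coe_preimage (k := {((x, y) : G × K), (a, b)})
    have hset : ((↑) : D → G × K) ⁻¹' {((x, y) : G × K), (a, b)} =
        {(⟨(x, y), hu⟩ : D), ⟨(a, b), hv⟩} := by
      ext d
      simp only [Set.mem_preimage, Set.mem_insert_iff, Set.mem_singleton_iff, Subtype.ext_iff]
    rw [← hset]
    exact h
  have hcard : Nat.card D ≤ 320 := hB D _ _ hrel hcl
  -- the two projections
  let φ1 : D →* G := (MonoidHom.fst G K).comp D.subtype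
  let φ2 : D →* K := (MonoidHom.snd G K).comp D.subtype
  have hs1 : Function.Surjective φ1 := by
    rw [← MonoidHom.range_eq_top, eq_top_iff, ← g1, Subgroup.closure_le]
    intro g hg
    rcases hg with rfl | rfl
    · exact ⟨⟨(g, y), hu⟩, rfl⟩
    · exact ⟨⟨(g, b), hv⟩, rfl⟩
  have hs2 : Function.Surjective φ2 := by
    rw [← MonoidHom.range_eq_top, eq_top_iff, ← g2, Subgroup.closure_le]
    intro g hg
    rcases hg with rfl | rfl
    · exact ⟨⟨(x, g), hu⟩, rfl⟩
    · exact ⟨⟨(a, g), hv⟩, rfl⟩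
  have hb1 : Function.Bijective φ1 :=
    hs1.bijective_of_nat_card_le (by rw [hG]; exact hcard)
  have hb2 : Function.Bijective φ2 :=
    hs2.bijective_of_nat_card_le (by rw [hK]; exact hcard)
  exact ⟨(MulEquiv.ofBijective φ1 hb1).symm.trans (MulEquiv.ofBijective φ2 hb2)⟩

end B

end Cfsg.Agent.Helper81.C320
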