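import Mathlib
import Cfsg.Agent.Helper42.DZDefs

/-! Piece (ISO) of helper42's S4538/S2440 (WANTED #5421): dimension of an eigenspace of a subgroup via the
averaging projection `e = |H|⁻¹ ∑ μ(h)⁻¹ ρ(h)`. -/

set_option autoImplicit false

namespace Cfsg.Agent.Helper81.DZ

open Cfsg Cfsg.Agent.Helper42.DZ

section

variable {G W : Type*} [Group G] [AddCommGroup W] [Module ℂ W]

/-- the twisted averaging operator `|H|⁻¹ ∑_{h ∈ H} μ(h)⁻¹ ρ(h)`. -/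
noncomputable def avgProj (ρ : Representation ℂ G W) (H : Subgroup G) [Fintype H] (μ : G → ℂ) : W →ₗ[ℂ] W :=
  (Fintype.card H : ℂ)⁻¹ • ∑ h : H, (μ (h : G))⁻¹ • ρ (h : G)

theorem avgProj_apply (ρ : Representation ℂ G W) (H : Subgroup G) [Fintype H] (μ : G → ℂ) (w : W) :
    avgProj ρ H μ w = (Fintype.card H : ℂ)⁻¹ • ∑ h : H, (μ (h : G))⁻¹ • ρ (h : G) w := by
  simp [avgProj, LinearMap.sum_apply]

theorem mu_ne_zero (H : Subgroup G) (μ : G → ℂ) (hμ1 : μ 1 = 1)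
    (hμ : ∀ a ∈ H, ∀ b ∈ H, μ (a * b) = μ a * μ b) {h : G} (hh : h ∈ H) : μ h ≠ 0 := by
  intro h0
  have := hμ h hh h⁻¹ (H.inv_mem hh)
  rw [mul_inv_cancel, hμ1, h0, zero_mul] at this
  exact one_ne_zero this

theorem mu_inv (H : Subgroup G) (μ : G → ℂ) (hμ1 : μ 1 = 1)
    (hμ : ∀ a ∈ H, ∀ b ∈ H, μ (a * b) = μ a * μ b) {h : G} (hh : h ∈ H) : μ h⁻¹ = (μ h)⁻¹ := by
  have := hμ h hh h⁻¹ (H.inv_mem hh)
  rw [mul_inv_cancel, hμ1] at this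
  exact eq_inv_of_mul_eq_one_right this.symm

/-- `ρ k ∘ e = μ(k) e` for `k ∈ H`. -/
theorem rho_avgProj (ρ : Representation ℂ G W) (H : Subgroup G) [Fintype H] (μ : G → ℂ) (hμ1 : μ 1 = 1)
    (hμ : ∀ a ∈ H, ∀ b ∈ H, μ (a * b) = μ a * μ b) {k : G} (hk : k ∈ H) (w : W) :
    ρ k (avgProj ρ H μ w) = μ k • avgProj ρ H μ w := by
  rw [avgProj_apply, map_smul, map_sum, smul_comm (μ k)]
  congr 1
  rw [Finset.smul_sum]
  -- reindex by h ↦ k * h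
  have hreindex : ∑ h : H, ρ k ((μ (h : G))⁻¹ • ρ (h : G) w)
      = ∑ h : H, ρ k ((μ ((⟨k, hk⟩⁻¹ * h : H) : G))⁻¹ • ρ ((⟨k, hk⟩⁻¹ * h : H) : G) w) :=
    (Equiv.sum_comp (Equiv.mulLeft (⟨k, hk⟩⁻¹ : H)) (fun h : H => ρ k ((μ (h : G))⁻¹ • ρ (h : G) w))).symm
  rw [hreindex]
  apply Finset.sum_congr rfl
  intro h _
  have h1 : ((⟨k, hk⟩⁻¹ * h : H) : G) = k⁻¹ * (h : G) := rfl
  rw [h1, map_smul, hμ k⁻¹ (H.inv_mem hk) h h.2, mu_inv H μ hμ1 hμ hk, mul_inv, inv_inv, mul_smul]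
  congr 2
  rw [← Module.End.mul_apply, ← map_mul, mul_inv_cancel_left]

/-- `e` is the identity on the eigenspace. -/
theorem avgProj_of_mem (ρ : Representation ℂ G W) (H : Subgroup G) [Fintype H] (μ : G → ℂ) (hμ1 : μ 1 = 1)
    (hμ : ∀ a ∈ H, ∀ b ∈ H, μ (a * b) = μ a * μ b) {w : W} (hw : w ∈ isoSub ρ H μ) :
    avgProj ρ H μ w = w := by
  rw [avgProj_apply]
  have : ∑ h : H, (μ (h : G))⁻¹ • ρ (h : G) w = ∑ _h : H, w := by
    apply Finset.sum_congr rfl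
    intro h _
    rw [hw h h.2, smul_smul, inv_mul_cancel₀ (mu_ne_zero H μ hμ1 hμ h.2), one_smul]
  rw [this, Finset.sum_const, Finset.card_univ, ← Nat.cast_smul_eq_nsmul ℂ, smul_smul,
    inv_mul_cancel₀, one_smul]
  have : 0 < Fintype.card H := Fintype.card_pos
  exact_mod_cast this.ne'

theorem avgProj_isProj (ρ : Representation ℂ G W) (H : Subgroup G) [Fintype H] (μ : G → ℂ) (hμ1 : μ 1 = 1)
    (hμ : ∀ a ∈ H, ∀ b ∈ H, μ (a * b) = μ a * μ b) :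
    LinearMap.IsProj (isoSub ρ H μ) (avgProj ρ H μ) :=
  ⟨fun w _ hk => rho_avgProj ρ H μ hμ1 hμ hk w, fun _ hw => avgProj_of_mem ρ H μ hμ1 hμ hw⟩

end

/-- (ISO) dimension of an eigenspace of a subgroup -/
theorem finrank_isoSub {G W : Type*} [Group G] [AddCommGroup W] [Module ℂ W]
    [FiniteDimensional ℂ W] (ρ : Representation ℂ G W) (H : Subgroup G) [Fintype H] (μ : G → ℂ)
    (hμ1 : μ 1 = 1) (hμ : ∀ a ∈ H, ∀ b ∈ H, μ (a * b) = μ a * μ b) :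
    (Module.finrank ℂ (isoSub ρ H μ) : ℂ) =
      (Fintype.card H : ℂ)⁻¹ * ∑ h : H, ρ.character (h : G) * (μ (h : G))⁻¹ := by
  rw [← (avgProj_isProj ρ H μ hμ1 hμ).trace]
  unfold avgProj
  rw [map_smul, map_sum, smul_eq_mul]
  congr 1
  apply Finset.sum_congr rfl
  intro h _
  rw [map_smul, smul_eq_mul, mul_comm]
  rfl

end Cfsg.Agent.Helper81.DZ
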