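import Mathlib
import Cfsg.Agent.Helper42.DZDefs
import Cfsg.Agent.Helper81.DZISO

/-! Piece (GG-d) of helper42's S4538/S2440 (WANTED #5421): Gelfand's trick.  The Hecke algebra `e ℂ[G] e` is
commutative because the anti-involution fixes it pointwise; an irreducible module over a commutative algebra over
`ℂ` is at most one-dimensional. -/

set_option autoImplicit false
set_option linter.style.haveILetI false

namespace Cfsg.Agent.Helper81.DZ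

open Cfsg Cfsg.Agent.Helper42.DZ MonoidAlgebra

section Algebra

variable {G : Type*} [Group G]

/-- the idempotent `|U|⁻¹ ∑_{u ∈ U} ψ(u)⁻¹ u` of the group algebra. -/
noncomputable def eU (U : Subgroup G) [Fintype U] (ψ : G → ℂ) : MonoidAlgebra ℂ G :=
  (Fintype.card U : ℂ)⁻¹ • ∑ u : U, (ψ (u : G))⁻¹ • MonoidAlgebra.of ℂ G (u : G)

theorem of_mul_eU (U : Subgroup G) [Fintype U] (ψ : G → ℂ) (hψ1 : ψ 1 = 1)
    (hψmul : ∀ a ∈ U, ∀ b ∈ U, ψ (a * b) = ψ a * ψ b) {k : G} (hk : k ∈ U) :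
    MonoidAlgebra.of ℂ G k * eU U ψ = ψ k • eU U ψ := by
  unfold eU
  rw [mul_smul_comm, smul_comm (ψ k)]
  congr 1
  rw [Finset.mul_sum, Finset.smul_sum]
  have hreindex : ∑ u : U, MonoidAlgebra.of ℂ G k * ((ψ (u : G))⁻¹ • MonoidAlgebra.of ℂ G (u : G))
      = ∑ u : U, MonoidAlgebra.of ℂ G k * ((ψ ((⟨k, hk⟩⁻¹ * u : U) : G))⁻¹ •
          MonoidAlgebra.of ℂ G ((⟨k, hk⟩⁻¹ * u : U) : G)) :=
    (Equiv.sum_comp (Equiv.mulLeft (⟨k, hk⟩⁻¹ : U))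
      (fun u : U => MonoidAlgebra.of ℂ G k * ((ψ (u : G))⁻¹ • MonoidAlgebra.of ℂ G (u : G)))).symm
  rw [hreindex]
  apply Finset.sum_congr rfl
  intro u _
  have h1 : ((⟨k, hk⟩⁻¹ * u : U) : G) = k⁻¹ * (u : G) := rfl
  rw [h1, mul_smul_comm, ← map_mul, mul_inv_cancel_left, hψmul k⁻¹ (U.inv_mem hk) u u.2,
    mu_inv U ψ hψ1 hψmul hk, mul_inv, inv_inv, mul_smul]

theorem eU_mul_of (U : Subgroup G) [Fintype U] (ψ : G → ℂ) (hψ1 : ψ 1 = 1)
    (hψmul : ∀ a ∈ U, ∀ b ∈ U, ψ (a * b) = ψ a * ψ b) {k : G} (hk : k ∈ U) :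
    eU U ψ * MonoidAlgebra.of ℂ G k = ψ k • eU U ψ := by
  unfold eU
  rw [smul_mul_assoc, smul_comm (ψ k)]
  congr 1
  rw [Finset.sum_mul, Finset.smul_sum]
  have hreindex : ∑ u : U, ((ψ (u : G))⁻¹ • MonoidAlgebra.of ℂ G (u : G)) * MonoidAlgebra.of ℂ G k
      = ∑ u : U, ((ψ ((u * ⟨k, hk⟩⁻¹ : U) : G))⁻¹ •
          MonoidAlgebra.of ℂ G ((u * ⟨k, hk⟩⁻¹ : U) : G)) * MonoidAlgebra.of ℂ G k :=
    (Equiv.sum_comp (Equiv.mulRight (⟨k, hk⟩⁻¹ : U))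
      (fun u : U => ((ψ (u : G))⁻¹ • MonoidAlgebra.of ℂ G (u : G)) * MonoidAlgebra.of ℂ G k)).symm
  rw [hreindex]
  apply Finset.sum_congr rfl
  intro u _
  have h1 : ((u * ⟨k, hk⟩⁻¹ : U) : G) = (u : G) * k⁻¹ := rfl
  rw [h1, smul_mul_assoc, ← map_mul, inv_mul_cancel_right, hψmul u u.2 k⁻¹ (U.inv_mem hk),
    mu_inv U ψ hψ1 hψmul hk, mul_inv, inv_inv, mul_comm, mul_smul]

theorem eU_mul_eU (U : Subgroup G) [Fintype U] (ψ : G → ℂ) (hψ1 : ψ 1 = 1)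
    (hψmul : ∀ a ∈ U, ∀ b ∈ U, ψ (a * b) = ψ a * ψ b) : eU U ψ * eU U ψ = eU U ψ := by
  have h : ∀ u : U, ((ψ (u : G))⁻¹ • MonoidAlgebra.of ℂ G (u : G)) * eU U ψ = eU U ψ := by
    intro u
    rw [smul_mul_assoc, of_mul_eU U ψ hψ1 hψmul u.2, smul_smul,
      inv_mul_cancel₀ (mu_ne_zero U ψ hψ1 hψmul u.2), one_smul]
  have h0 : eU U ψ * eU U ψ
      = ((Fintype.card U : ℂ)⁻¹ • ∑ u : U, (ψ (u : G))⁻¹ • MonoidAlgebra.of ℂ G (u : G)) * eU U ψ := rfl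
  rw [h0, smul_mul_assoc, Finset.sum_mul, Finset.sum_congr rfl (fun u _ => h u), Finset.sum_const,
    Finset.card_univ, ← Nat.cast_smul_eq_nsmul ℂ, smul_smul, inv_mul_cancel₀, one_smul]
  have : 0 < Fintype.card U := Fintype.card_pos
  exact_mod_cast this.ne'

/-- an anti-multiplicative involution fixes `1`. -/
theorem anti_one (ι : G → G) (hι : ∀ a b, ι (a * b) = ι b * ι a) : ι 1 = 1 := by
  have := hι 1 1
  rw [mul_one] at this
  exact (mul_eq_left.mp this.symm)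

/-- the monoid hom `G → ℂ[G]ᵐᵒᵖ`, `g ↦ op (ι g)`. -/
noncomputable def antiHom (ι : G → G) (hι : ∀ a b, ι (a * b) = ι b * ι a) :
    G →* (MonoidAlgebra ℂ G)ᵐᵒᵖ where
  toFun g := MulOpposite.op (MonoidAlgebra.of ℂ G (ι g))
  map_one' := by rw [anti_one ι hι, map_one, MulOpposite.op_one]
  map_mul' a b := by rw [hι, map_mul, MulOpposite.op_mul]

/-- the linear extension of the anti-involution to the group algebra. -/
noncomputable def iotaHat (ι : G → G) (hι : ∀ a b, ι (a * b) = ι b * ι a) :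
    MonoidAlgebra ℂ G →ₗ[ℂ] MonoidAlgebra ℂ G :=
  (MulOpposite.opLinearEquiv ℂ).symm.toLinearMap ∘ₗ
    (MonoidAlgebra.lift ℂ (MonoidAlgebra ℂ G)ᵐᵒᵖ G (antiHom ι hι)).toLinearMap

theorem iotaHat_apply (ι : G → G) (hι : ∀ a b, ι (a * b) = ι b * ι a) (a : MonoidAlgebra ℂ G) :
    iotaHat ι hι a = (MonoidAlgebra.lift ℂ (MonoidAlgebra ℂ G)ᵐᵒᵖ G (antiHom ι hι) a).unop := rfl

theorem iotaHat_mul (ι : G → G) (hι : ∀ a b, ι (a * b) = ι b * ι a) (a b : MonoidAlgebra ℂ G) :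
    iotaHat ι hι (a * b) = iotaHat ι hι b * iotaHat ι hι a := by
  rw [iotaHat_apply, iotaHat_apply, iotaHat_apply, map_mul, MulOpposite.unop_mul]

theorem iotaHat_of (ι : G → G) (hι : ∀ a b, ι (a * b) = ι b * ι a) (g : G) :
    iotaHat ι hι (MonoidAlgebra.of ℂ G g) = MonoidAlgebra.of ℂ G (ι g) := by
  rw [iotaHat_apply, MonoidAlgebra.lift_of]
  rfl

theorem iotaHat_eU (U : Subgroup G) [Fintype U] (ψ : G → ℂ)
    (ι : G → G) (hι : ∀ a b, ι (a * b) = ι b * ι a) (hιinv : Function.Involutive ι)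
    (hιU : ∀ u ∈ U, ι u ∈ U) (hιψ : ∀ u ∈ U, ψ (ι u) = ψ u) : iotaHat ι hι (eU U ψ) = eU U ψ := by
  unfold eU
  rw [map_smul, map_sum]
  congr 1
  let σ : U ≃ U :=
    { toFun := fun u => ⟨ι u, hιU u u.2⟩
      invFun := fun u => ⟨ι u, hιU u u.2⟩
      left_inv := fun u => Subtype.ext (hιinv u)
      right_inv := fun u => Subtype.ext (hιinv u) }
  rw [← Equiv.sum_comp σ (fun u : U => (ψ (u : G))⁻¹ • MonoidAlgebra.of ℂ G (u : G))]
  apply Finset.sum_congr rfl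
  intro u _
  rw [map_smul, iotaHat_of]
  show (ψ (u : G))⁻¹ • MonoidAlgebra.of ℂ G (ι (u : G)) = (ψ (ι (u : G)))⁻¹ • MonoidAlgebra.of ℂ G (ι (u : G))
  rw [hιψ u u.2]

/-- the anti-involution fixes `e g e` for every group element `g`. -/
theorem iotaHat_eU_of_eU (U : Subgroup G) [Fintype U] (ψ : G → ℂ) (hψ1 : ψ 1 = 1)
    (hψmul : ∀ a ∈ U, ∀ b ∈ U, ψ (a * b) = ψ a * ψ b)
    (ι : G → G) (hι : ∀ a b, ι (a * b) = ι b * ι a) (hιinv : Function.Involutive ι)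
    (hιU : ∀ u ∈ U, ι u ∈ U) (hιψ : ∀ u ∈ U, ψ (ι u) = ψ u)
    (hcov : ∀ g : G, ∃ u ∈ U, ∃ m : G, ∃ u' ∈ U, g = u * m * u' ∧
      (ι m = m ∨ ∃ y ∈ U, m * y * m⁻¹ ∈ U ∧ ψ (m * y * m⁻¹) ≠ ψ y)) (g : G) :
    iotaHat ι hι (eU U ψ * MonoidAlgebra.of ℂ G g * eU U ψ) = eU U ψ * MonoidAlgebra.of ℂ G g * eU U ψ := by
  obtain ⟨u, hu, m, u', hu', rfl, hm⟩ := hcov g
  have h1 : eU U ψ * MonoidAlgebra.of ℂ G (u * m * u') * eU U ψ
      = (ψ u * ψ u') • (eU U ψ * MonoidAlgebra.of ℂ G m * eU U ψ) := by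
    rw [map_mul, map_mul]
    calc eU U ψ * (MonoidAlgebra.of ℂ G u * MonoidAlgebra.of ℂ G m * MonoidAlgebra.of ℂ G u') * eU U ψ
        = (eU U ψ * MonoidAlgebra.of ℂ G u) * MonoidAlgebra.of ℂ G m * (MonoidAlgebra.of ℂ G u' * eU U ψ) := by
          simp only [mul_assoc]
      _ = (ψ u * ψ u') • (eU U ψ * MonoidAlgebra.of ℂ G m * eU U ψ) := by
          rw [eU_mul_of U ψ hψ1 hψmul hu, of_mul_eU U ψ hψ1 hψmul hu', smul_mul_assoc, smul_mul_assoc,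
            mul_smul_comm, smul_smul]
  rw [h1, map_smul]
  congr 1
  rcases hm with hm | ⟨y, hy, hy2, hy3⟩
  · rw [iotaHat_mul, iotaHat_mul, iotaHat_eU U ψ ι hι hιinv hιU hιψ, iotaHat_of, hm, mul_assoc]
  · have hzero : eU U ψ * MonoidAlgebra.of ℂ G m * eU U ψ = 0 := by
      have h2 : MonoidAlgebra.of ℂ G m * MonoidAlgebra.of ℂ G y
          = MonoidAlgebra.of ℂ G (m * y * m⁻¹) * MonoidAlgebra.of ℂ G m := by
        rw [← map_mul, ← map_mul, inv_mul_cancel_right]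
      have h3 : ψ y • (eU U ψ * MonoidAlgebra.of ℂ G m * eU U ψ)
          = ψ (m * y * m⁻¹) • (eU U ψ * MonoidAlgebra.of ℂ G m * eU U ψ) := by
        calc ψ y • (eU U ψ * MonoidAlgebra.of ℂ G m * eU U ψ)
            = eU U ψ * MonoidAlgebra.of ℂ G m * (MonoidAlgebra.of ℂ G y * eU U ψ) := by
              rw [of_mul_eU U ψ hψ1 hψmul hy, mul_smul_comm]
          _ = eU U ψ * (MonoidAlgebra.of ℂ G m * MonoidAlgebra.of ℂ G y) * eU U ψ := by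
              simp only [mul_assoc]
          _ = (eU U ψ * MonoidAlgebra.of ℂ G (m * y * m⁻¹)) * MonoidAlgebra.of ℂ G m * eU U ψ := by
              rw [h2]; simp only [mul_assoc]
          _ = ψ (m * y * m⁻¹) • (eU U ψ * MonoidAlgebra.of ℂ G m * eU U ψ) := by
              rw [eU_mul_of U ψ hψ1 hψmul hy2, smul_mul_assoc, smul_mul_assoc]
      have h4 : (ψ y - ψ (m * y * m⁻¹)) • (eU U ψ * MonoidAlgebra.of ℂ G m * eU U ψ) = 0 := by
        rw [sub_smul, h3, sub_self]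
      rcases smul_eq_zero.mp h4 with h5 | h5
      · exact absurd (sub_eq_zero.mp h5).symm hy3
      · exact h5
    rw [hzero, map_zero]

/-- the anti-involution fixes `e a e` for every `a`. -/
theorem iotaHat_eU_mul_eU (U : Subgroup G) [Fintype U] (ψ : G → ℂ) (hψ1 : ψ 1 = 1)
    (hψmul : ∀ a ∈ U, ∀ b ∈ U, ψ (a * b) = ψ a * ψ b)
    (ι : G → G) (hι : ∀ a b, ι (a * b) = ι b * ι a) (hιinv : Function.Involutive ι)
    (hιU : ∀ u ∈ U, ι u ∈ U) (hιψ : ∀ u ∈ U, ψ (ι u) = ψ u)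
    (hcov : ∀ g : G, ∃ u ∈ U, ∃ m : G, ∃ u' ∈ U, g = u * m * u' ∧
      (ι m = m ∨ ∃ y ∈ U, m * y * m⁻¹ ∈ U ∧ ψ (m * y * m⁻¹) ≠ ψ y)) (a : MonoidAlgebra ℂ G) :
    iotaHat ι hι (eU U ψ * a * eU U ψ) = eU U ψ * a * eU U ψ := by
  induction a using MonoidAlgebra.induction_on with
  | of g => exact iotaHat_eU_of_eU U ψ hψ1 hψmul ι hι hιinv hιU hιψ hcov g
  | add x y hx hy => rw [mul_add, add_mul, map_add, hx, hy]
  | smul r x hx => rw [mul_smul_comm, smul_mul_assoc, map_smul, hx]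

/-- the Hecke algebra `e ℂ[G] e` is commutative. -/
theorem hecke_comm (U : Subgroup G) [Fintype U] (ψ : G → ℂ) (hψ1 : ψ 1 = 1)
    (hψmul : ∀ a ∈ U, ∀ b ∈ U, ψ (a * b) = ψ a * ψ b)
    (ι : G → G) (hι : ∀ a b, ι (a * b) = ι b * ι a) (hιinv : Function.Involutive ι)
    (hιU : ∀ u ∈ U, ι u ∈ U) (hιψ : ∀ u ∈ U, ψ (ι u) = ψ u)
    (hcov : ∀ g : G, ∃ u ∈ U, ∃ m : G, ∃ u' ∈ U, g = u * m * u' ∧
      (ι m = m ∨ ∃ y ∈ U, m * y * m⁻¹ ∈ U ∧ ψ (m * y * m⁻¹) ≠ ψ y)) (a b : MonoidAlgebra ℂ G) :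
    (eU U ψ * a * eU U ψ) * (eU U ψ * b * eU U ψ) = (eU U ψ * b * eU U ψ) * (eU U ψ * a * eU U ψ) := by
  have hfix := iotaHat_eU_mul_eU U ψ hψ1 hψmul ι hι hιinv hιU hιψ hcov
  have h1 : (eU U ψ * a * eU U ψ) * (eU U ψ * b * eU U ψ)
      = eU U ψ * (a * eU U ψ * eU U ψ * b) * eU U ψ := by simp only [mul_assoc]
  calc (eU U ψ * a * eU U ψ) * (eU U ψ * b * eU U ψ)
      = iotaHat ι hι ((eU U ψ * a * eU U ψ) * (eU U ψ * b * eU U ψ)) := by rw [h1, hfix]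
    _ = (eU U ψ * b * eU U ψ) * (eU U ψ * a * eU U ψ) := by rw [iotaHat_mul, hfix, hfix]

end Algebra

section Rep

variable {G W : Type*} [Group G] [AddCommGroup W] [Module ℂ W]

/-- `ρ̃(e) = avgProj`. -/
theorem asAlgebraHom_eU (ρ : Representation ℂ G W) (U : Subgroup G) [Fintype U] (ψ : G → ℂ) :
    ρ.asAlgebraHom (eU U ψ) = avgProj ρ U ψ := by
  unfold eU avgProj
  rw [map_smul, map_sum]
  congr 1
  apply Finset.sum_congr rfl
  intro u _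
  rw [map_smul, Representation.asAlgebraHom_of]

/-- in an irreducible representation every vector is `ρ̃(a) w` for a fixed nonzero `w`. -/
theorem exists_asAlgebraHom_apply_eq (ρ : Representation ℂ G W) (hρ : ρ.IsIrreducible) {w : W} (hw : w ≠ 0)
    (v : W) : ∃ a : MonoidAlgebra ℂ G, ρ.asAlgebraHom a w = v := by
  let S : Subrepresentation ρ :=
    { toSubmodule := LinearMap.range ((LinearMap.applyₗ w).comp ρ.asAlgebraHom.toLinearMap)
      apply_mem_toSubmodule := by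
        rintro g _ ⟨a, rfl⟩
        refine ⟨MonoidAlgebra.of ℂ G g * a, ?_⟩
        simp only [LinearMap.coe_comp, Function.comp_apply, AlgHom.toLinearMap_apply, LinearMap.applyₗ_apply_apply,
          map_mul, Representation.asAlgebraHom_of, Module.End.mul_apply] }
  have hwS : w ∈ S.toSubmodule := ⟨1, by simp⟩
  haveI := hρ
  rcases eq_bot_or_eq_top S with h | h
  · exfalso
    have : S.toSubmodule = ⊥ := by rw [h]; rfl
    rw [this, Submodule.mem_bot] at hwS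
    exact hw hwS
  · have : S.toSubmodule = ⊤ := by rw [h]; rfl
    have hv : v ∈ S.toSubmodule := by rw [this]; trivial
    obtain ⟨a, ha⟩ := hv
    exact ⟨a, by simpa using ha⟩

end Rep

/-- (GG-d) Gelfand's trick -/
theorem gelfand_trick {G W : Type*} [Group G] [Fintype G] [AddCommGroup W] [Module ℂ W]
    [FiniteDimensional ℂ W] (ρ : Representation ℂ G W) (hρ : ρ.IsIrreducible)
    (U : Subgroup G) (ψ : G → ℂ) (hψ1 : ψ 1 = 1)
    (hψmul : ∀ a ∈ U, ∀ b ∈ U, ψ (a * b) = ψ a * ψ b)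
    (ι : G → G) (hι : ∀ a b, ι (a * b) = ι b * ι a) (hιinv : Function.Involutive ι)
    (hιU : ∀ u ∈ U, ι u ∈ U) (hιψ : ∀ u ∈ U, ψ (ι u) = ψ u)
    (hcov : ∀ g : G, ∃ u ∈ U, ∃ m : G, ∃ u' ∈ U, g = u * m * u' ∧
      (ι m = m ∨ ∃ y ∈ U, m * y * m⁻¹ ∈ U ∧ ψ (m * y * m⁻¹) ≠ ψ y)) :
    Module.finrank ℂ (isoSub ρ U ψ) ≤ 1 := by
  classical
  haveI : Fintype U := Fintype.ofFinite U
  set V₀ := isoSub ρ U ψ with hV₀
  set e := eU U ψ with he
  -- the operators `X a = ρ̃(e a e)`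
  let X : MonoidAlgebra ℂ G → Module.End ℂ W := fun a => ρ.asAlgebraHom (e * a * e)
  have hE : ρ.asAlgebraHom e = avgProj ρ U ψ := asAlgebraHom_eU ρ U ψ
  have hproj := avgProj_isProj ρ U ψ hψ1 hψmul
  have hXapply : ∀ a w, X a w = avgProj ρ U ψ (ρ.asAlgebraHom a (avgProj ρ U ψ w)) := by
    intro a w
    show ρ.asAlgebraHom (e * a * e) w = _
    rw [map_mul, map_mul, hE, Module.End.mul_apply, Module.End.mul_apply]
  have hXmem : ∀ a w, X a w ∈ V₀ := by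
    intro a w
    rw [hXapply]
    exact hproj.map_mem _
  have hXcomm : ∀ a b w, X a (X b w) = X b (X a w) := by
    intro a b w
    have := hecke_comm U ψ hψ1 hψmul ι hι hιinv hιU hιψ hcov a b
    have h2 := congrArg (fun z => ρ.asAlgebraHom z w) this
    simpa only [map_mul, Module.End.mul_apply, X] using h2
  -- transitivity on `V₀`
  have htrans : ∀ w ∈ V₀, w ≠ 0 → ∀ v ∈ V₀, ∃ a, X a w = v := by
    intro w hwV hw v hvV
    obtain ⟨a, ha⟩ := exists_asAlgebraHom_apply_eq ρ hρ hw v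
    refine ⟨a, ?_⟩
    rw [hXapply, hproj.map_id w hwV, ha, hproj.map_id v hvV]
  by_cases hbot : V₀ = ⊥
  · rw [hbot, finrank_bot]; exact Nat.zero_le 1
  obtain ⟨w₀, hw₀V, hw₀⟩ := (Submodule.ne_bot_iff V₀).mp hbot
  haveI : Nontrivial V₀ := ⟨⟨⟨w₀, hw₀V⟩, 0, fun h => hw₀ (congrArg Subtype.val h)⟩⟩
  -- every `X a` multiplies `w₀` by a scalar
  have hscalar : ∀ a, ∃ c : ℂ, X a w₀ = c • w₀ := by
    intro a
    let T : Module.End ℂ V₀ := (X a).restrict (fun v _ => hXmem a v)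
    obtain ⟨c, hc⟩ := Module.End.exists_eigenvalue T
    obtain ⟨w₁, hw₁⟩ := hc.exists_hasEigenvector
    have hw₁ne : (w₁ : W) ≠ 0 := fun h => hw₁.2 (Subtype.ext h)
    have hTw₁ : X a (w₁ : W) = c • (w₁ : W) := by
      have := hw₁.apply_eq_smul
      exact congrArg Subtype.val this
    obtain ⟨b, hb⟩ := htrans (w₁ : W) w₁.2 hw₁ne w₀ hw₀V
    refine ⟨c, ?_⟩
    rw [← hb, hXcomm, hTw₁, map_smul]
  -- so `V₀` is spanned by `w₀`
  have hspan : ∀ v : V₀, ∃ c : ℂ, c • (⟨w₀, hw₀V⟩ : V₀) = v := by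
    intro v
    obtain ⟨a, ha⟩ := htrans w₀ hw₀V hw₀ v v.2
    obtain ⟨c, hc⟩ := hscalar a
    exact ⟨c, Subtype.ext (by rw [← ha, hc]; rfl)⟩
  exact finrank_le_one _ hspan

end Cfsg.Agent.Helper81.DZ
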