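import Mathlib
import Cfsg.Prelude.Def_Solvable
import Cfsg.Prelude.Def_CaseTheorems

/-!
# S4385 (Goldschmidt's dihedral lemma; architect helper42), leaf (OCS4): `O(S₄) = 1`
-/

set_option autoImplicit false

universe u

namespace Cfsg.Agent.Helper81.GD

open Pointwise Cfsg

theorem OCS4_cases : ∀ g : Equiv.Perm (Fin 4), g = 1 ∨ g ^ 2 = 1 ∨ g ^ 4 = 1 ∨
    ∃ h : Equiv.Perm (Fin 4), h * g * h⁻¹ * g⁻¹ ≠ 1 ∧ (h * g * h⁻¹ * g⁻¹) ^ 2 = 1 := by
  decide +kernel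

theorem OCS4_two_dvd {G : Type*} [Group G] (N : Subgroup G) (x : G) (hx : x ∈ N) (hx1 : x ≠ 1) (k : ℕ)
    (hxk : x ^ (2 ^ k) = 1) : 2 ∣ Nat.card N := by
  have h1 : orderOf x ∣ 2 ^ k := orderOf_dvd_of_pow_eq_one hxk
  obtain ⟨j, hj, hj2⟩ := (Nat.dvd_prime_pow Nat.prime_two).mp h1
  have hj0 : j ≠ 0 := by
    rintro rfl
    rw [pow_zero] at hj2
    exact hx1 (orderOf_eq_one_iff.mp hj2)
  have h2 : 2 ∣ orderOf x := by
    rw [hj2]
    exact dvd_pow_self 2 hj0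
  exact h2.trans (Subgroup.orderOf_dvd_natCard N hx)

/-- (OCS4) -/
theorem oddCore_perm4 : Cfsg.oddCore (Equiv.Perm (Fin 4)) = ⊥ := by
  unfold Cfsg.oddCore Cfsg.pPrimeCore
  rw [sSup_eq_bot]
  rintro N ⟨hN, hcop⟩
  have h2 : ¬ 2 ∣ Nat.card N := by
    intro h
    have := Nat.Coprime.eq_one_of_dvd hcop.symm h
    omega
  rw [Subgroup.eq_bot_iff_forall]
  intro g hg
  rcases OCS4_cases g with h | h | h | ⟨h, hne, hsq⟩
  · exact h
  · by_contra hg1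
    exact h2 (OCS4_two_dvd N g hg hg1 1 (by simpa using h))
  · by_contra hg1
    exact h2 (OCS4_two_dvd N g hg hg1 2 (by simpa using h))
  · exfalso
    have hc : h * g * h⁻¹ * g⁻¹ ∈ N := N.mul_mem (hN.conj_mem g hg h) (N.inv_mem hg)
    exact h2 (OCS4_two_dvd N _ hc hne 1 (by simpa using hsq))

end Cfsg.Agent.Helper81.GD
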