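import Mathlib

/-!
# S4385 (Goldschmidt's dihedral lemma; architect helper42), leaf (RHO)

Images of two involutions outside `Q` in `Γ ⧸ Q ≅ D_n`, `n` odd, are reflections; their product is a rotation, so its
`n`-th power is `1`.
-/

set_option autoImplicit false

universe u

namespace Cfsg.Agent.Helper81.GD

open Pointwise

/-- in `ZMod n`, `n` odd, `i + i = 0` forces `i = 0` -/
theorem RHO_zmod {n : ℕ} (hn : Odd n) (i : ZMod n) (h : i + i = 0) : i = 0 := by
  obtain ⟨k, hk⟩ := hn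
  have h1 : ((k + 1 : ℕ) : ZMod n) * 2 = 1 := by
    have : ((k + 1 : ℕ) : ZMod n) * 2 = ((n + 1 : ℕ) : ZMod n) := by
      have e : (k + 1) * 2 = n + 1 := by omega
      rw [← e]; push_cast; ring
    rw [this]
    push_cast
    rw [ZMod.natCast_self, zero_add]
  calc i = (((k + 1 : ℕ) : ZMod n) * 2) * i := by rw [h1, one_mul]
    _ = ((k + 1 : ℕ) : ZMod n) * (i + i) := by ring
    _ = 0 := by rw [h, mul_zero]

/-- a nonidentity involution of `D_n`, `n` odd, is a reflection -/
theorem RHO_refl {n : ℕ} (hn : Odd n) (x : DihedralGroup n) (hx : x * x = 1) (hx1 : x ≠ 1) :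
    ∃ i : ZMod n, x = DihedralGroup.sr i := by
  cases x with
  | r i =>
    exfalso
    apply hx1
    rw [DihedralGroup.r_mul_r, DihedralGroup.one_def] at hx
    have : i + i = 0 := by
      injection hx
    rw [RHO_zmod hn i this, DihedralGroup.r_zero]
  | sr i => exact ⟨i, rfl⟩

/-- (RHO) -/
theorem pow_mem_of_dihedral {Γ : Type*} [Group Γ] (Q : Subgroup Γ) [Q.Normal] {n : ℕ} (hn : Odd n)
    (e : Γ ⧸ Q ≃* DihedralGroup n) (a b : Γ) (ha : a * a = 1) (hb : b * b = 1)
    (haQ : a ∉ Q) (hbQ : b ∉ Q) : (a * b) ^ n ∈ Q := by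
  have key : ∀ c : Γ, c * c = 1 → c ∉ Q → ∃ i : ZMod n, e (QuotientGroup.mk c) = DihedralGroup.sr i := by
    intro c hc hcQ
    apply RHO_refl hn
    · rw [← map_mul, ← QuotientGroup.mk_mul, hc, QuotientGroup.mk_one, map_one]
    · intro h
      apply hcQ
      have h2 : (QuotientGroup.mk c : Γ ⧸ Q) = 1 := by
        apply e.injective
        rw [h, map_one]
      exact (QuotientGroup.eq_one_iff c).mp h2
  obtain ⟨i, hi⟩ := key a ha haQ
  obtain ⟨j, hj⟩ := key b hb hbQ
  have h1 : e (QuotientGroup.mk ((a * b) ^ n)) = 1 := by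
    rw [QuotientGroup.mk_pow, map_pow, QuotientGroup.mk_mul, map_mul, hi, hj, DihedralGroup.sr_mul_sr,
      DihedralGroup.r_pow, mul_comm, ZMod.natCast_self, zero_mul, DihedralGroup.r_zero]
  have h2 : (QuotientGroup.mk ((a * b) ^ n) : Γ ⧸ Q) = 1 := by
    apply e.injective
    rw [h1, map_one]
  exact (QuotientGroup.eq_one_iff _).mp h2

end Cfsg.Agent.Helper81.GD
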