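import Cfsg.Agent.Helper43.O7Orth
import Cfsg.Agent.Helper44.SpinorMain

/-!
# (O7-L13) of helper43's S2647: the Hadamard conjugation in `Ω₇(q)`.
-/

set_option autoImplicit false
set_option linter.style.haveILetI false
set_option linter.unusedVariables false
set_option linter.unusedSectionVars false

namespace Cfsg.Agent.Helper81.O7

open Matrix Cfsg.Agent.Helper43.O7 Cfsg.Agent.Helper44

variable {F : Type*} [Field F]

/-- the polar form of the sum of seven squares -/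
theorem polar_Q7 (a w : Fin 7 → F) : QuadraticMap.polar (⇑(Q7 F)) a w = 2 * (a ⬝ᵥ w) := by
  unfold QuadraticMap.polar
  rw [Q7_eq_dot, Q7_eq_dot, Q7_eq_dot, add_dotProduct, dotProduct_add, dotProduct_add,
    dotProduct_comm w a]
  ring

/-- the action of a reflection -/
theorem reflT_mulVec (a : Fin 7 → F) (ha : Q7 F a ≠ 0) (w : Fin 7 → F) :
    ((reflT (Q7 F) a).1 : Matrix (Fin 7) (Fin 7) F) *ᵥ w =
      w - ((Q7 F a)⁻¹ * (2 * (a ⬝ᵥ w))) • a := by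
  rw [reflT_of_ne (Q7 F) a ha, refl_mulVec, polar_Q7]

theorem tau_inv_apply : ∀ i : Fin 7, tau⁻¹ i = ![2, 3, 0, 1, 4, 5, 6] i := by decide

/-- the four vectors -/
def vx : Fin 7 → F := ![1, -1, -1, -1, 0, 0, 0]
def vy : Fin 7 → F := ![0, 1, -1, 0, 0, 0, 0]
def vu : Fin 7 → F := ![1, -1, 0, 0, 0, 0, 0]
def ve : Fin 7 → F := ![0, 0, 0, 0, 0, 0, 1]

theorem Q7_vx : Q7 F (vx : Fin 7 → F) = 4 := by
  rw [Q7_apply, Fin.sum_univ_seven]
  simp [vx]
  norm_num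

theorem Q7_vy : Q7 F (vy : Fin 7 → F) = 2 := by
  rw [Q7_apply, Fin.sum_univ_seven]
  simp [vy]
  norm_num

theorem Q7_vu : Q7 F (vu : Fin 7 → F) = 2 := by
  rw [Q7_apply, Fin.sum_univ_seven]
  simp [vu]
  norm_num

theorem Q7_ve : Q7 F (ve : Fin 7 → F) = 1 := by
  rw [Q7_apply, Fin.sum_univ_seven]
  simp [ve]

theorem mulVec_ve (h2 : (2 : F) ≠ 0) (w : Fin 7 → F) :
    ((reflT (Q7 F) ve).1 : Matrix (Fin 7) (Fin 7) F) *ᵥ w =
      ![w 0, w 1, w 2, w 3, w 4, w 5, -w 6] := by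
  rw [reflT_mulVec ve (by rw [Q7_ve]; exact one_ne_zero), Q7_ve]
  funext i
  fin_cases i <;> simp [ve, dotProduct, Fin.sum_univ_seven]
  ring

theorem mulVec_vu (h2 : (2 : F) ≠ 0) (w : Fin 7 → F) :
    ((reflT (Q7 F) vu).1 : Matrix (Fin 7) (Fin 7) F) *ᵥ w =
      ![w 1, w 0, w 2, w 3, w 4, w 5, w 6] := by
  rw [reflT_mulVec vu (by rw [Q7_vu]; exact h2), Q7_vu]
  funext i
  fin_cases i <;> simp [vu, dotProduct, Fin.sum_univ_seven] <;> field_simp <;> ring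

theorem mulVec_vy (h2 : (2 : F) ≠ 0) (w : Fin 7 → F) :
    ((reflT (Q7 F) vy).1 : Matrix (Fin 7) (Fin 7) F) *ᵥ w =
      ![w 0, w 2, w 1, w 3, w 4, w 5, w 6] := by
  rw [reflT_mulVec vy (by rw [Q7_vy]; exact h2), Q7_vy]
  funext i
  fin_cases i <;> simp [vy, dotProduct, Fin.sum_univ_seven] <;> field_simp <;> ring

theorem mulVec_vx (h2 : (2 : F) ≠ 0) (w : Fin 7 → F) :
    ((reflT (Q7 F) vx).1 : Matrix (Fin 7) (Fin 7) F) *ᵥ w =
      ![w 0 - (w 0 - w 1 - w 2 - w 3) / 2, w 1 + (w 0 - w 1 - w 2 - w 3) / 2,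
        w 2 + (w 0 - w 1 - w 2 - w 3) / 2, w 3 + (w 0 - w 1 - w 2 - w 3) / 2, w 4, w 5, w 6] := by
  have h4 : (4 : F) ≠ 0 := by
    have : (4 : F) = 2 * 2 := by norm_num
    rw [this]; exact mul_ne_zero h2 h2
  rw [reflT_mulVec vx (by rw [Q7_vx]; exact h4), Q7_vx]
  funext i
  fin_cases i <;> simp [vx, dotProduct, Fin.sum_univ_seven] <;> field_simp <;> ring

variable [Fintype F]

/-- L13 -/
theorem hadamard_conj (h2 : (2 : F) ≠ 0) :
    ∃ h ∈ Cfsg.Omega F ⇑(Q7 F),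
      h * dg F ![-1, -1, 1, 1, 1, 1, 1] * h⁻¹ = dg F ![-1, -1, -1, -1, 1, 1, 1] * pm F tau := by
  have h4 : (4 : F) ≠ 0 := by
    have : (4 : F) = 2 * 2 := by norm_num
    rw [this]; exact mul_ne_zero h2 h2
  set h : Cfsg.isometryGroup F ⇑(Q7 F) :=
    (([vx, vy, vu, ve] : List (Fin 7 → F)).map (reflT (Q7 F))).prod with hh
  have hmem : h ∈ Cfsg.Omega F ⇑(Q7 F) := by
    apply prod_reflT_mem_Omega (Q7 F) h2
    · intro v hv
      simp only [List.mem_cons, List.mem_nil_iff, or_false] at hv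
      rcases hv with rfl | rfl | rfl | rfl
      · rw [Q7_vx]; exact h4
      · rw [Q7_vy]; exact h2
      · rw [Q7_vu]; exact h2
      · rw [Q7_ve]; exact one_ne_zero
    · exact ⟨2, rfl⟩
    · refine ⟨4, ?_⟩
      simp only [List.map_cons, List.map_nil, List.prod_cons, List.prod_nil]
      rw [Q7_vx, Q7_vy, Q7_vu, Q7_ve]
      norm_num
  have hprod : h = reflT (Q7 F) vx * (reflT (Q7 F) vy * (reflT (Q7 F) vu * reflT (Q7 F) ve)) := by
    rw [hh]
    simp only [List.map_cons, List.map_nil, List.prod_cons, List.prod_nil, mul_one]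
  have hact : ∀ w : Fin 7 → F, (h.1 : Matrix (Fin 7) (Fin 7) F) *ᵥ w =
      ![(w 0 + w 1 + w 2 + w 3) / 2, (-w 0 + w 1 + w 2 - w 3) / 2,
        (w 0 + w 1 - w 2 - w 3) / 2, (-w 0 + w 1 - w 2 + w 3) / 2, w 4, w 5, -w 6] := by
    intro w
    rw [hprod, isometryGroup_mul_mulVec, isometryGroup_mul_mulVec, isometryGroup_mul_mulVec,
      mulVec_ve h2, mulVec_vu h2, mulVec_vy h2, mulVec_vx h2]
    funext i
    fin_cases i <;> simp <;> field_simp <;> ring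
  refine ⟨h, hmem, ?_⟩
  rw [mul_inv_eq_iff_eq_mul]
  apply isometryGroup_ext
  intro v
  rw [isometryGroup_mul_mulVec, isometryGroup_mul_mulVec, isometryGroup_mul_mulVec, hact, hact,
    dg_mulVec, dg_mulVec, pm_mulVec]
  funext i
  fin_cases i <;> simp [tau_inv_apply] <;> ring

end Cfsg.Agent.Helper81.O7
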