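import Mathlib
import Cfsg.Agent.Helper43.XS.Defs
import Cfsg.Agent.Helper41.XSL1c
import Cfsg.Agent.Helper87.XSL2

/-!
# (A3) of #8578 for helper43 (S6002): the trace identity for an element inducing a 5-cycle
(helper81)
-/

set_option autoImplicit false
set_option linter.unusedSectionVars false
set_option linter.unusedVariables false
set_option linter.unusedSimpArgs false

namespace Cfsg.Agent.Helper81.XS

open Matrix Cfsg Cfsg.Geo Cfsg.Agent.Helper43.XS

variable {F : Type*} [Field F]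

local notation "Mat" => Matrix (Fin 2 ⊕ Fin 2) (Fin 2 ⊕ Fin 2) F
local notation "GLn" => GL (Fin 2 ⊕ Fin 2) F
local notation "Vec" => (Fin 2 ⊕ Fin 2 → F)

/-! ### signed products -/

/-- `g` is `± prodW S w` -/
def IsSP (S : Fin 4 → GLn) (g : GLn) (w : Fin 4 → Bool) : Prop :=
  g = prodW S w ∨ g = -prodW S w

theorem pm_mul {x y : F} (hx : x = 1 ∨ x = -1) (hy : y = 1 ∨ y = -1) :
    x * y = 1 ∨ x * y = -1 := by
  rcases hx with rfl | rfl <;> rcases hy with rfl | rfl <;> simp

theorem sg_cases (a b : Bool) :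
    Cfsg.Agent.Helper87.XS.sg F a b = 1 ∨ Cfsg.Agent.Helper87.XS.sg F a b = -1 := by
  unfold Cfsg.Agent.Helper87.XS.sg
  split_ifs
  · right; rfl
  · left; rfl

theorem sgn2_cases (w u : Fin 4 → Bool) :
    Cfsg.Agent.Helper87.XS.sgn2 F w u = 1 ∨ Cfsg.Agent.Helper87.XS.sgn2 F w u = -1 := by
  unfold Cfsg.Agent.Helper87.XS.sgn2
  exact pm_mul (pm_mul (pm_mul (pm_mul (pm_mul (sg_cases _ _) (sg_cases _ _)) (sg_cases _ _))
    (sg_cases _ _)) (sg_cases _ _)) (sg_cases _ _)

/-- the product rule in `GL` -/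
theorem prodW_mul_isSP {S : Fin 4 → GLn} (hS : IsFrame S) (w u : Fin 4 → Bool) :
    IsSP S (prodW S w * prodW S u) (fun i => xor (w i) (u i)) := by
  have h := Cfsg.Agent.Helper87.XS.prodW_mul_prodW hS w u
  rcases sgn2_cases (F := F) w u with h1 | h1
  · left
    apply Units.ext
    rw [Units.val_mul, h, h1, one_smul]
  · right
    apply Units.ext
    rw [Units.val_mul, h, h1, val_neg_GL, neg_smul, one_smul]

theorem isSP_mul {S : Fin 4 → GLn} (hS : IsFrame S) {g h : GLn} {a b : Fin 4 → Bool}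
    (hg : IsSP S g a) (hh : IsSP S h b) : IsSP S (g * h) (fun i => xor (a i) (b i)) := by
  rcases prodW_mul_isSP hS a b with h1 | h1 <;> rcases hg with rfl | rfl <;>
    rcases hh with rfl | rfl
  · left; exact h1
  · right; rw [mul_neg, h1]
  · right; rw [neg_mul, h1]
  · left; rw [neg_mul_neg_GL, h1]
  · right; exact h1
  · left; rw [mul_neg, h1, neg_neg]
  · left; rw [neg_mul, h1, neg_neg]
  · right; rw [neg_mul_neg_GL, h1]

theorem isSP_one (S : Fin 4 → GLn) : IsSP S 1 (fun _ => false) :=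
  Or.inl (Cfsg.Agent.Helper87.XS.prodW_false S).symm

/-! ### the five involutions as products -/

/-- the word of the `j`-th of the five involutions -/
def code (j : Fin 5) : Fin 4 → Bool := fun i => decide (j = 4) || decide (i.castSucc = j)

theorem ext5_eq_prodW (S : Fin 4 → GLn) (j : Fin 5) : ext5 S j = prodW S (code j) := by
  fin_cases j
  · rw [show ((⟨0, by decide⟩ : Fin 5)) = 0 from rfl, ext5_zero]
    simp [prodW, code, Fin.ext_iff]
  · rw [show ((⟨1, by decide⟩ : Fin 5)) = 1 from rfl, ext5_one]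
    simp [prodW, code, Fin.ext_iff]
  · rw [show ((⟨2, by decide⟩ : Fin 5)) = 2 from rfl, ext5_two]
    simp [prodW, code, Fin.ext_iff]
  · rw [show ((⟨3, by decide⟩ : Fin 5)) = 3 from rfl, ext5_three]
    simp [prodW, code, Fin.ext_iff]
  · rw [show ((⟨4, by decide⟩ : Fin 5)) = 4 from rfl, ext5_four]
    simp [prodW, code, S5]

/-- the word of the conjugate of `prodW S w` -/
def tau (σ : Equiv.Perm (Fin 5)) (w : Fin 4 → Bool) : Fin 4 → Bool := fun i =>
  xor (xor (xor ((if w 0 then code (σ 0) else fun _ => false) i)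
    ((if w 1 then code (σ 1) else fun _ => false) i))
    ((if w 2 then code (σ 2) else fun _ => false) i))
    ((if w 3 then code (σ 3) else fun _ => false) i)

set_option maxRecDepth 100000 in
set_option maxHeartbeats 4000000 in
theorem tau_ne : ∀ σ : Equiv.Perm (Fin 5), (∀ i, σ i ≠ i) → (∀ i, σ (σ i) ≠ i) →
    ∀ w : Fin 4 → Bool, w ≠ (fun _ => false) → tau σ w ≠ w := by
  decide

/-! ### conjugating the products -/

theorem isSP_conj_factor {S : Fin 4 → GLn} (y : GLn) (σ : Equiv.Perm (Fin 5))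
    (hσ : ∀ i, y * ext5 S i * y⁻¹ = ext5 S (σ i) ∨ y * ext5 S i * y⁻¹ = -ext5 S (σ i))
    (k : Fin 4) (b : Bool) :
    IsSP S (y * (if b then S k else 1) * y⁻¹)
      (if b then code (σ k.castSucc) else fun _ => false) := by
  cases b
  · simp only [Bool.false_eq_true, if_false, mul_one, mul_inv_cancel]
    exact isSP_one S
  · simp only [if_true]
    rw [← ext5_castSucc S k]
    rcases hσ k.castSucc with h | h
    · left; rw [h, ext5_eq_prodW]
    · right; rw [h, ext5_eq_prodW]

theorem isSP_conj {S : Fin 4 → GLn} (hS : IsFrame S) (y : GLn) (σ : Equiv.Perm (Fin 5))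
    (hσ : ∀ i, y * ext5 S i * y⁻¹ = ext5 S (σ i) ∨ y * ext5 S i * y⁻¹ = -ext5 S (σ i))
    (w : Fin 4 → Bool) : IsSP S (y * prodW S w * y⁻¹) (tau σ w) := by
  have h0 := isSP_conj_factor y σ hσ 0 (w 0)
  have h1 := isSP_conj_factor y σ hσ 1 (w 1)
  have h2 := isSP_conj_factor y σ hσ 2 (w 2)
  have h3 := isSP_conj_factor y σ hσ 3 (w 3)
  have hmul := isSP_mul hS (isSP_mul hS (isSP_mul hS h0 h1) h2) h3
  have e : y * prodW S w * y⁻¹ =
      y * (if w 0 then S 0 else 1) * y⁻¹ * (y * (if w 1 then S 1 else 1) * y⁻¹) *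
        (y * (if w 2 then S 2 else 1) * y⁻¹) * (y * (if w 3 then S 3 else 1) * y⁻¹) := by
    unfold prodW
    group
  rw [e]
  exact hmul

/-! ### the completeness relation -/

/-- the conjugate of a matrix by an element of `GL` -/
def cj (M : Mat) (g : GLn) : Mat := (g : Mat) * M * ((g⁻¹ : GLn) : Mat)

theorem cj_neg (M : Mat) (g : GLn) : cj M (-g) = cj M g := by
  unfold cj
  rw [inv_neg, val_neg_GL, val_neg_GL, neg_mul, neg_mul, mul_neg, neg_neg]

theorem cj_mul_right (M : Mat) (s g : GLn) : cj M (s * g) * (s : Mat) = (s : Mat) * cj M g := by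
  unfold cj
  rw [_root_.mul_inv_rev, Units.val_mul, Units.val_mul]
  simp only [Matrix.mul_assoc]
  rw [← Units.val_mul s⁻¹ s, inv_mul_cancel, Units.val_one, Matrix.mul_one]

theorem trace_cj (M : Mat) (g : GLn) : Matrix.trace (cj M g) = Matrix.trace M :=
  Matrix.trace_units_conj g M

/-- flipping the `k`-th letter -/
def flip (k : Fin 4) (w : Fin 4 → Bool) : Fin 4 → Bool := fun i => xor (decide (i = k)) (w i)

theorem flip_flip (k : Fin 4) (w : Fin 4 → Bool) : flip k (flip k w) = w := by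
  funext i
  simp [flip]

theorem cj_flip {S : Fin 4 → GLn} (hS : IsFrame S) (M : Mat) (k : Fin 4) (w : Fin 4 → Bool) :
    cj M (prodW S (flip k w)) = cj M (S k * prodW S w) := by
  have h := prodW_mul_isSP hS (fun j => decide (j = k)) w
  rw [Cfsg.Agent.Helper87.XS.prodW_single] at h
  rcases h with h | h
  · rw [h]; rfl
  · rw [h, cj_neg]; rfl

theorem sum_cj_commute {S : Fin 4 → GLn} (hS : IsFrame S) (M : Mat) (k : Fin 4) :
    (∑ w : Fin 4 → Bool, cj M (prodW S w)) * (S k : Mat) =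
      (S k : Mat) * ∑ w : Fin 4 → Bool, cj M (prodW S w) := by
  rw [Finset.sum_mul, Finset.mul_sum]
  rw [← Equiv.sum_comp (Function.Involutive.toPerm (flip k) (flip_flip k))
    (fun w => cj M (prodW S w) * (S k : Mat))]
  apply Finset.sum_congr rfl
  intro w _
  show cj M (prodW S (flip k w)) * (S k : Mat) = _
  rw [cj_flip hS, cj_mul_right]

theorem completeness (h2 : (2 : F) ≠ 0) {S : Fin 4 → GLn} (hS : IsFrame S) (M : Mat) :
    ∑ w : Fin 4 → Bool, cj M (prodW S w) = (4 * Matrix.trace M) • (1 : Mat) := by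
  have h4 : (4 : F) ≠ 0 := by
    have : (4 : F) = 2 * 2 := by norm_num
    rw [this]; exact mul_ne_zero h2 h2
  obtain ⟨c, hc⟩ := Cfsg.Agent.Helper41.XS.scalar_of_commute_frame h2 hS
    (∑ w : Fin 4 → Bool, cj M (prodW S w)) (fun k => sum_cj_commute hS M k)
  have ht := congrArg Matrix.trace hc
  rw [Matrix.trace_sum, Matrix.trace_smul, Matrix.trace_one] at ht
  simp only [trace_cj, Finset.sum_const, Finset.card_univ, Fintype.card_pi, Fintype.card_bool,
    Finset.prod_const, Fintype.card_fin, Fintype.card_sum, smul_eq_mul, nsmul_eq_mul] at ht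
  have hc4 : c = 4 * Matrix.trace M := by
    have e : (4 : F) * c = 4 * (4 * Matrix.trace M) := by
      push_cast at ht
      linear_combination (-1 : F) * ht
    exact mul_left_cancel₀ h4 e
  rw [hc, hc4]

/-! ### the trace identity -/

/-- (A3) the trace identity for an element inducing a 5-cycle -/
theorem trace_mul_trace (h2 : (2 : F) ≠ 0) {S : Fin 4 → GLn} (hS : IsFrame S) (y : GLn)
    (σ : Equiv.Perm (Fin 5)) (hσ1 : ∀ i, σ i ≠ i) (hσ2 : ∀ i, σ (σ i) ≠ i)
    (hσ : ∀ i, y * ext5 S i * y⁻¹ = ext5 S (σ i) ∨ y * ext5 S i * y⁻¹ = -ext5 S (σ i)) :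
    Matrix.trace (y : Mat) * Matrix.trace ((y⁻¹ : GLn) : Mat) = 1 := by
  have h4 : (4 : F) ≠ 0 := by
    have : (4 : F) = 2 * 2 := by norm_num
    rw [this]; exact mul_ne_zero h2 h2
  have hB := completeness h2 hS (y : Mat)
  have hB' := congrArg (fun X : Mat => Matrix.trace (X * ((y⁻¹ : GLn) : Mat))) hB
  simp only [Finset.sum_mul, Matrix.trace_sum, Matrix.smul_mul, Matrix.one_mul,
    Matrix.trace_smul, smul_eq_mul] at hB'
  -- the terms
  have hterm : ∀ w : Fin 4 → Bool, cj (y : Mat) (prodW S w) * ((y⁻¹ : GLn) : Mat) =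
      ((prodW S w * (y * prodW S w * y⁻¹)⁻¹ : GLn) : Mat) := by
    intro w
    unfold cj
    simp only [_root_.mul_inv_rev, inv_inv, Units.val_mul, Matrix.mul_assoc]
  have hzero : ∀ w : Fin 4 → Bool, w ≠ (fun _ => false) →
      Matrix.trace (cj (y : Mat) (prodW S w) * ((y⁻¹ : GLn) : Mat)) = 0 := by
    intro w hw
    rw [hterm w]
    have hne : w ≠ tau σ w := fun h => tau_ne σ hσ1 hσ2 w hw h.symm
    have h0 := Cfsg.Agent.Helper41.XS.trace_prodW_mul_inv h2 hS w (tau σ w) hne
    rcases isSP_conj hS y σ hσ w with h | h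
    · rw [h]; exact h0
    · rw [h, inv_neg, mul_neg, val_neg_GL, Matrix.trace_neg, h0, neg_zero]
  have hone : Matrix.trace (cj (y : Mat) (prodW S (fun _ => false)) * ((y⁻¹ : GLn) : Mat)) = 4 := by
    rw [hterm, Cfsg.Agent.Helper87.XS.prodW_false]
    simp only [mul_one, mul_inv_cancel, inv_one, Units.val_one, Matrix.trace_one]
    simp
  rw [Finset.sum_eq_single (fun _ => false) (fun w _ hw => hzero w hw)
    (fun h => absurd (Finset.mem_univ _) h), hone] at hB'
  have e : (4 : F) * (Matrix.trace (y : Mat) * Matrix.trace ((y⁻¹ : GLn) : Mat)) = 4 * 1 := by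
    rw [mul_one, ← mul_assoc, ← hB']
  exact mul_left_cancel₀ h4 e

end Cfsg.Agent.Helper81.XS
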