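import Mathlib
import Cfsg.Agent.Helper43.XS.Defs

set_option autoImplicit false
set_option linter.unusedSectionVars false
set_option linter.unusedVariables false

namespace Cfsg.Agent.Helper81.XS

open Matrix Cfsg Cfsg.Geo Cfsg.Agent.Helper43.XS

variable {F : Type*} [Field F]

local notation "Mat" => Matrix (Fin 2 ⊕ Fin 2) (Fin 2 ⊕ Fin 2) F
local notation "GLn" => GL (Fin 2 ⊕ Fin 2) F
local notation "Vec" => (Fin 2 ⊕ Fin 2 → F)

/-- the embedding of `2 × 2` matrices on the hyperbolic plane `⟨e₀, f₀⟩` (local copy) -/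
def emb2 (a b c d : F) : Mat :=
  Matrix.fromBlocks (Matrix.diagonal ![a, 1]) (Matrix.diagonal ![b, 0])
    (Matrix.diagonal ![c, 0]) (Matrix.diagonal ![d, 1])

theorem emb2_mul (a b c d a' b' c' d' : F) :
    emb2 a b c d * emb2 a' b' c' d' =
      emb2 (a * a' + b * c') (a * b' + b * d') (c * a' + d * c') (c * b' + d * d') := by
  unfold emb2
  rw [Matrix.fromBlocks_multiply]
  simp only [Matrix.diagonal_mul_diagonal, Matrix.diagonal_add]
  congr 1 <;>
  · refine congrArg Matrix.diagonal ?_
    funext i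
    fin_cases i <;> simp

theorem emb2_one : emb2 (1 : F) 0 0 1 = 1 := by
  unfold emb2
  rw [← Matrix.fromBlocks_one]
  have h1 : (![1, 1] : Fin 2 → F) = fun _ => 1 := by
    funext i; fin_cases i <;> rfl
  have h0 : (![0, 0] : Fin 2 → F) = fun _ => 0 := by
    funext i; fin_cases i <;> rfl
  rw [h1, h0]
  simp [Matrix.diagonal_one]

theorem emb2_mem_symp {a b c d : F} (hdet : a * d - b * c = 1) :
    emb2 a b c d ∈ Matrix.symplecticGroup (Fin 2) F := by
  unfold emb2
  rw [SymplecticGroup.fromBlocks_mem_iff]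
  simp only [Matrix.diagonal_transpose, Matrix.diagonal_mul_diagonal, Matrix.diagonal_sub]
  refine ⟨?_, ?_, ?_⟩
  · refine congrArg Matrix.diagonal ?_
    funext i
    fin_cases i <;> simp [mul_comm]
  · refine congrArg Matrix.diagonal ?_
    funext i
    fin_cases i <;> simp [mul_comm]
  · rw [← Matrix.diagonal_one]
    refine congrArg Matrix.diagonal ?_
    funext i
    fin_cases i
    · simpa [mul_comm] using hdet
    · simp

theorem eq_zero_of_rank_eq_zero (M : Mat) (h : M.rank = 0) : M = 0 := by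
  have h1 : LinearMap.range M.mulVecLin = ⊥ := Submodule.finrank_eq_zero.1 h
  have h2 : M.mulVecLin = 0 := LinearMap.range_eq_bot.1 h1
  ext i j
  have := congrFun (congrArg (fun f => f (Pi.single j 1)) h2) i
  simpa using this

theorem emb2_apply_inl0_inr0 (a b c d : F) : emb2 a b c d (Sum.inl 0) (Sum.inr 0) = b := by
  simp [emb2]

theorem emb2_apply_inl0_inl0 (a b c d : F) : emb2 a b c d (Sum.inl 0) (Sum.inl 0) = a := by
  simp [emb2]

theorem emb2_apply_inl1_inl1 (a b c d : F) : emb2 a b c d (Sum.inl 1) (Sum.inl 1) = 1 := by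
  simp [emb2]

/-- (X3) the explicit element of order 3 -/
theorem exists_x3 (h2 : (2 : F) ≠ 0) :
    ∃ x ∈ Cfsg.spGL 2 F, x ^ 3 = 1 ∧ (∀ z : F, (x : Mat) ≠ z • (1 : Mat)) ∧
      ¬ ((∃ α β : F, (x : Mat) * (x : Mat) = α • (x : Mat) + β • (1 : Mat)) ∧
        Even ((x : Mat) - 1).rank) := by
  classical
  have hmul1 : emb2 (0 : F) (-1) 1 (-1) * emb2 (-1) 1 (-1) 0 = 1 := by
    rw [emb2_mul, ← emb2_one]
    congr 1 <;> ring
  have hmul2 : emb2 (-1 : F) 1 (-1) 0 * emb2 0 (-1) 1 (-1) = 1 := by
    rw [emb2_mul, ← emb2_one]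
    congr 1 <;> ring
  set x : GLn := ⟨emb2 0 (-1) 1 (-1), emb2 (-1) 1 (-1) 0, hmul1, hmul2⟩ with hx
  have hxv : (x : Mat) = emb2 0 (-1) 1 (-1) := rfl
  have hsq : (x : Mat) * (x : Mat) = emb2 (-1) 1 (-1) 0 := by
    rw [hxv, emb2_mul]
    congr 1 <;> ring
  refine ⟨x, ?_, ?_, ?_, ?_⟩
  · rw [Cfsg.Agent.Helper13.mem_spGL_iff, hxv]
    exact (Cfsg.Agent.Helper13.mem_symplecticGroup_iff_preserves _).mp
      (emb2_mem_symp (by ring))
  · apply Units.ext
    rw [pow_succ, pow_two, Units.val_mul, Units.val_mul, hsq, hxv, Units.val_one]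
    exact hmul2
  · intro z hz
    have h := congrFun (congrFun hz (Sum.inl 0)) (Sum.inr 0)
    rw [hxv, emb2_apply_inl0_inr0] at h
    simp at h
  · rintro ⟨⟨α, β, hq⟩, hev⟩
    by_cases h3 : (3 : F) = 0
    · -- rank of `x - 1` is one
      have hform : (x : Mat) - 1 = Matrix.vecMulVec (Sum.elim ![-1, 0] ![1, 0] : Vec)
          (Sum.elim ![1, 0] ![1, 0] : Vec) := by
        have h21 : (-1 : F) - 1 = 1 := by
          have : (-1 : F) - 1 = 1 - 3 := by ring
          rw [this, h3, sub_zero]
        rw [hxv]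
        ext i j
        rcases i with i | i <;> rcases j with j | j <;> fin_cases i <;> fin_cases j <;>
          simp [emb2, Matrix.vecMulVec_apply, Matrix.sub_apply, h21]
      have hle : ((x : Mat) - 1).rank ≤ 1 := by
        rw [hform]
        exact Matrix.rank_vecMulVec_le _ _
      have hne : ((x : Mat) - 1).rank ≠ 0 := by
        intro h0
        have := eq_zero_of_rank_eq_zero _ h0
        have h := congrFun (congrFun this (Sum.inl 0)) (Sum.inr 0)
        rw [Matrix.sub_apply, hxv, emb2_apply_inl0_inr0] at h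
        simp at h
      have h1 : ((x : Mat) - 1).rank = 1 := by omega
      rw [h1] at hev
      exact absurd hev (by decide)
    · rw [hsq, hxv] at hq
      have e1 := congrFun (congrFun hq (Sum.inl 1)) (Sum.inl 1)
      have e2 := congrFun (congrFun hq (Sum.inl 0)) (Sum.inl 0)
      have e3 := congrFun (congrFun hq (Sum.inl 0)) (Sum.inr 0)
      simp only [Matrix.add_apply, Matrix.smul_apply, emb2_apply_inl1_inl1, emb2_apply_inl0_inl0,
        emb2_apply_inl0_inr0, Matrix.one_apply_eq, smul_eq_mul, mul_one, mul_zero, zero_add] at e1 e2 e3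
      rw [Matrix.one_apply_ne (by simp)] at e3
      apply h3
      have hβ : β = -1 := e2.symm
      have hα : α = -1 := by
        have : (1 : F) = -α := by simpa using e3
        rw [this, neg_neg]
      rw [hα, hβ] at e1
      have : (3 : F) = 1 - (-1 + -1) := by ring
      rw [this, ← e1, sub_self]

end Cfsg.Agent.Helper81.XS
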