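import Mathlib
import Cfsg.Agent.Helper43.XS.Defs

set_option autoImplicit false
set_option linter.unusedSectionVars false
set_option linter.unusedVariables false

namespace Cfsg.Agent.Helper81.XS

open Matrix Cfsg Cfsg.Geo Cfsg.Agent.Helper43.XS

variable {F : Type*} [Field F]

local notation "Mat" => Matrix (Fin 2 ⊕ Fin 2) (Fin 2 ⊕ Fin 2) F
local notation "GLn" => GL (Fin 2 ⊕ Fin 2) F
local notation "Vec" => (Fin 2 ⊕ Fin 2 → F)

/-- (X5a) an element of order 5 of `SL_2(p)` when `5 ∣ p² - 1` -/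
theorem exists_sl2_five [Fintype F] {p : ℕ} [Fact p.Prime] [CharP F p] (hF : Fintype.card F = p)
    (h5 : 5 ∣ p ^ 2 - 1) :
    ∃ u : Matrix (Fin 2) (Fin 2) F, u.det = 1 ∧ u ^ 5 = 1 ∧ u ≠ 1 := by
  classical
  have : Fact (Nat.Prime 5) := ⟨by norm_num⟩
  have hcard : Nat.card Fˣ = p - 1 := by
    rw [Nat.card_units, Nat.card_eq_fintype_card, hF]
  by_cases h51 : 5 ∣ p - 1
  · obtain ⟨ζ, hζ⟩ := exists_prime_orderOf_dvd_card' (G := Fˣ) 5 (by rw [hcard]; exact h51)
    have hζ5 : ζ ^ 5 = 1 := by rw [← hζ]; exact pow_orderOf_eq_one ζ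
    have hζ1 : ζ ≠ 1 := by
      intro h
      rw [h, orderOf_one] at hζ
      norm_num at hζ
    refine ⟨Matrix.diagonal ![(ζ : F), ((ζ⁻¹ : Fˣ) : F)], ?_, ?_, ?_⟩
    · rw [Matrix.det_diagonal, Fin.prod_univ_two]
      simp
    · rw [Matrix.diagonal_pow]
      have h1 : (![(ζ : F), ((ζ⁻¹ : Fˣ) : F)] ^ 5 : Fin 2 → F) = fun _ => 1 := by
        funext i
        fin_cases i
        · show (ζ : F) ^ 5 = 1
          rw [← Units.val_pow_eq_pow_val, hζ5, Units.val_one]
        · show ((ζ⁻¹ : Fˣ) : F) ^ 5 = 1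
          rw [← Units.val_pow_eq_pow_val, inv_pow, hζ5, inv_one, Units.val_one]
      rw [h1]
      exact Matrix.diagonal_one
    · intro h
      have h00 := congrFun (congrFun h 0) 0
      rw [Matrix.diagonal_apply_eq, Matrix.one_apply_eq] at h00
      apply hζ1
      apply Units.ext
      simpa using h00
  · have hcardGL : Nat.card (GL (Fin 2) F) = (p ^ 2 - 1) * (p ^ 2 - p) := by
      rw [Matrix.card_GL_field, Fin.prod_univ_two, hF]
      simp
    obtain ⟨g, hg⟩ := exists_prime_orderOf_dvd_card' (G := GL (Fin 2) F) 5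
      (by rw [hcardGL]; exact dvd_mul_of_dvd_left h5 _)
    have hg5 : g ^ 5 = 1 := by rw [← hg]; exact pow_orderOf_eq_one g
    have hg1 : g ≠ 1 := by
      intro h
      rw [h, orderOf_one] at hg
      norm_num at hg
    have hdet5 : (Matrix.GeneralLinearGroup.det g) ^ 5 = 1 := by
      rw [← map_pow, hg5, map_one]
    have hd1 : orderOf (Matrix.GeneralLinearGroup.det g) ∣ 5 := orderOf_dvd_of_pow_eq_one hdet5
    have hd2 : orderOf (Matrix.GeneralLinearGroup.det g) ∣ p - 1 := by
      rw [← hcard]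
      exact orderOf_dvd_natCard _
    have hd : orderOf (Matrix.GeneralLinearGroup.det g) = 1 := by
      rcases (Nat.dvd_prime (by norm_num : Nat.Prime 5)).1 hd1 with h | h
      · exact h
      · rw [h] at hd2
        exact absurd hd2 h51
    have hdet1 : Matrix.GeneralLinearGroup.det g = 1 := orderOf_eq_one_iff.1 hd
    refine ⟨(g : Matrix (Fin 2) (Fin 2) F), ?_, ?_, ?_⟩
    · have := congrArg Units.val hdet1
      simpa using this
    · have := congrArg Units.val hg5
      simpa using this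
    · intro h
      apply hg1
      apply Units.ext
      simpa using h

end Cfsg.Agent.Helper81.XS
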