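import Mathlib
import Cfsg.Agent.Helper43.XS.Defs
import Cfsg.Agent.Helper10.EFTV

set_option autoImplicit false
set_option linter.unusedSectionVars false
set_option linter.unusedVariables false

namespace Cfsg.Agent.Helper81.XS

open Matrix Cfsg Cfsg.Geo Cfsg.Agent.Helper43.XS

variable {F : Type*} [Field F]

local notation "Mat" => Matrix (Fin 2 ⊕ Fin 2) (Fin 2 ⊕ Fin 2) F
local notation "GLn" => GL (Fin 2 ⊕ Fin 2) F
local notation "Vec" => (Fin 2 ⊕ Fin 2 → F)

/-- (X5c) the transvection in characteristic 5 -/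
theorem exists_x5_char [CharP F 5] :
    ∃ x ∈ Cfsg.spGL 2 F, x ^ 5 = 1 ∧ (∀ z : F, (x : Mat) ≠ z • (1 : Mat)) ∧
      ((x : Mat) - 1).rank ≤ 1 := by
  classical
  set v : Vec := Pi.single (Sum.inl 0) 1 with hv
  refine ⟨Cfsg.Agent.Helper13.tvGL v 1, Cfsg.Agent.Helper13.tvGL_mem_spGL v 1, ?_, ?_, ?_⟩
  · rw [Cfsg.Agent.Helper10.EF.tvGL_pow]
    apply Units.ext
    rw [Cfsg.Agent.Helper13.tvGL_coe, Units.val_one]
    have h5 : ((5 : ℕ) : F) = 0 := CharP.cast_eq_zero F 5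
    rw [h5]
    exact Cfsg.Agent.Helper13.sympTransvection_zero v
  · intro z hz
    rw [Cfsg.Agent.Helper13.tvGL_coe] at hz
    have h := congrFun (congrFun hz (Sum.inl 0)) (Sum.inr 0)
    simp [Cfsg.sympTransvection, Matrix.vecMulVec_apply, hv, Matrix.J] at h
  · rw [Cfsg.Agent.Helper13.tvGL_coe]
    have : Cfsg.sympTransvection 2 v (1 : F) - 1 =
        Matrix.vecMulVec v (Matrix.J (Fin 2) F *ᵥ v) := by
      simp [Cfsg.sympTransvection]
    rw [this]
    exact Matrix.rank_vecMulVec_le _ _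

end Cfsg.Agent.Helper81.XS
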