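import Mathlib

/-!
# S5980 piece (KD) for helper45: over an algebraically closed field a matrix with `A ^ r` a nonzero
scalar, `r ≠ 0` in the field, is diagonalizable
-/

set_option autoImplicit false
set_option linter.style.haveILetI false

namespace Cfsg.Agent.Helper81.Tsp

open Matrix Polynomial Module

variable {a : ℕ}

/-- (KD) over an algebraically closed field a matrix with `A ^ r` a nonzero scalar, `r ≠ 0` in the
field, is diagonalizable -/
theorem exists_diagonal_of_pow_eq_smul {K : Type*} [Field K] [IsAlgClosed K]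
    (A : Matrix (Fin a) (Fin a) K) (r : ℕ) (hr : (r : K) ≠ 0) {s : K} (hs : s ≠ 0)
    (hA : A ^ r = s • (1 : Matrix (Fin a) (Fin a) K)) :
    ∃ (P : GL (Fin a) K) (α : Fin a → K), A = (P : Matrix (Fin a) (Fin a) K) * Matrix.diagonal α
      * ((P⁻¹ : GL (Fin a) K) : Matrix (Fin a) (Fin a) K) := by
  classical
  let f : Module.End K (Fin a → K) := Matrix.toLin' A
  have hsep : (X ^ r - C s : K[X]).Separable := separable_X_pow_sub_C s hr hs
  have hss : f.IsSemisimple := by
    refine Module.End.isSemisimple_of_squarefree_aeval_eq_zero hsep.squarefree ?_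
    have h1 : f ^ r = s • (1 : Module.End K (Fin a → K)) := by
      show (Matrix.toLin' A) ^ r = _
      rw [← Matrix.toLin'_pow, hA, map_smul, Matrix.toLin'_one]
      rfl
    simp only [map_sub, map_pow, aeval_X, aeval_C, h1]
    rw [Algebra.algebraMap_eq_smul_one, sub_self]
  have hint : DirectSum.IsInternal (fun μ : K => f.eigenspace μ) :=
    DirectSum.isInternal_submodule_of_iSupIndep_of_iSup_eq_top f.eigenspaces_iSupIndep
      hss.iSup_eigenspace_eq_top
  let b0 := hint.collectedBasis (fun μ => Module.finBasis K (f.eigenspace μ))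
  haveI : Fintype (Σ μ : K, Fin (finrank K (f.eigenspace μ))) :=
    FiniteDimensional.fintypeBasisIndex b0
  have hcard : Fintype.card (Σ μ : K, Fin (finrank K (f.eigenspace μ))) = a := by
    rw [← Module.finrank_eq_card_basis b0, Module.finrank_fin_fun]
  let e := Fintype.equivFinOfCardEq hcard
  let b := b0.reindex e
  let α : Fin a → K := fun i => (e.symm i).1
  have hb : ∀ i, A *ᵥ (b i) = α i • b i := by
    intro i
    have hmem : b0 (e.symm i) ∈ f.eigenspace (e.symm i).1 := hint.collectedBasis_mem _ _
    have h2 := Module.End.mem_eigenspace_iff.mp hmem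
    show A *ᵥ (b0.reindex e i) = _
    rw [Basis.reindex_apply]
    exact h2
  let P : Matrix (Fin a) (Fin a) K := (Pi.basisFun K (Fin a)).toMatrix b
  let Q : Matrix (Fin a) (Fin a) K := b.toMatrix (Pi.basisFun K (Fin a))
  have hPQ : P * Q = 1 := Basis.toMatrix_mul_toMatrix_flip _ _
  have hQP : Q * P = 1 := Basis.toMatrix_mul_toMatrix_flip _ _
  have hAP : A * P = P * Matrix.diagonal α := by
    ext i j
    rw [Matrix.mul_diagonal]
    have h3 := congrFun (hb j) i
    have h4 : (A * P) i j = (A *ᵥ (b j)) i := by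
      simp only [Matrix.mul_apply, Matrix.mulVec, dotProduct, P, Basis.toMatrix_apply,
        Pi.basisFun_repr]
    rw [h4, h3]
    simp only [P, Basis.toMatrix_apply, Pi.basisFun_repr, Pi.smul_apply, smul_eq_mul]
    ring
  refine ⟨⟨P, Q, hPQ, hQP⟩, α, ?_⟩
  show A = P * Matrix.diagonal α * Q
  rw [← hAP, mul_assoc, hPQ, mul_one]

end Cfsg.Agent.Helper81.Tsp
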