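import Mathlib

/-!
# S5980 piece (CP) for helper45: `G (X - 1)^e` with `G` squarefree, nonconstant, `G(1) ≠ 0` is not a
proper power
-/

set_option autoImplicit false

namespace Cfsg.Agent.Helper81.Tsp

open Polynomial

universe u

variable {F : Type u} [Field F]

/-- (CP) `G (X - 1)^e` with `G` squarefree, nonconstant, `G(1) ≠ 0` is not a proper power -/
theorem mul_pow_ne_pow_of_squarefree {G : F[X]} (hG : Squarefree G) (hG1 : G.eval 1 ≠ 0)
    (hGd : 0 < G.natDegree) (e k : ℕ) (hk : 2 ≤ k) (g : F[X]) : G * (X - 1) ^ e ≠ g ^ k := by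
  intro h
  have hGne : G ≠ 0 := by
    rintro rfl
    simp at hGd
  have hGu : ¬ IsUnit G := by
    intro hu
    have := Polynomial.natDegree_eq_zero_of_isUnit hu
    omega
  obtain ⟨π, hπ, hπG⟩ := WfDvdMonoid.exists_irreducible_factor hGu hGne
  have hπp : Prime π := hπ.prime
  have h1 : π ∣ g ^ k := h ▸ (hπG.mul_right _)
  have h2 : π ∣ g := hπp.dvd_of_dvd_pow h1
  have h3 : π ^ k ∣ G * (X - 1) ^ e := h ▸ pow_dvd_pow_of_dvd h2 k
  have hcop : IsCoprime π (X - 1 : F[X]) := by
    rw [hπ.coprime_iff_not_dvd]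
    intro hd
    have hX : Irreducible (X - 1 : F[X]) := by
      have := Polynomial.irreducible_X_sub_C (1 : F)
      simpa using this
    have h4 : (X - 1 : F[X]) ∣ π := hπ.dvd_symm hX hd
    have h5 : (X - C (1 : F)) ∣ G := by
      rw [map_one]
      exact h4.trans hπG
    exact hG1 (Polynomial.dvd_iff_isRoot.mp h5)
  have h4 : π ^ k ∣ G := (hcop.pow (m := k) (n := e)).dvd_of_dvd_mul_right h3
  have h5 : π * π ∣ G := by
    have h6 : π ^ 2 ∣ π ^ k := pow_dvd_pow π hk
    rw [pow_two] at h6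
    exact h6.trans h4
  exact hπ.not_isUnit (hG π h5)

end Cfsg.Agent.Helper81.Tsp
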