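import Mathlib
import Cfsg.Agent.Helper43.SpPrimeE

/-!
# S5980 piece (SD) for helper45: for `i` odd an irreducible factor of `X ^ r - 1` other than `X - 1`
is not self-reciprocal
-/

set_option autoImplicit false
set_option linter.style.haveILetI false

namespace Cfsg.Agent.Helper81.Tsp

open Polynomial

universe u

variable {F : Type u} [Field F]

/-- (SD) for `i` odd an irreducible factor of `X ^ r - 1` other than `X - 1` is not self-reciprocal -/
theorem star_ne_self_of_odd [Fintype F] {r : ℕ} (hr : r.Prime) (hr2 : r ≠ 2)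
    (hrq : ¬ r ∣ Fintype.card F) {P : F[X]} (hPm : P.Monic) (hPi : Irreducible P)
    (hPd : P ∣ (X ^ r - 1 : F[X])) (hP1 : P.eval 1 ≠ 0)
    (hodd : Odd (orderOf ((Fintype.card F : ℕ) : ZMod r))) :
    Cfsg.Agent.Helper43.SpPrime.star P ≠ P := by
  intro hstar
  obtain ⟨p, hpc⟩ := CharP.exists F
  haveI : CharP F p := hpc
  haveI hpf : Fact p.Prime := ⟨CharP.char_is_prime F p⟩
  have hp : p.Prime := hpf.out
  haveI : Fact r.Prime := ⟨hr⟩
  obtain ⟨f, -, hcard⟩ := FiniteField.card F p
  have hK : Fintype.card F = p ^ (f : ℕ) := hcard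
  have hrp : r ≠ p := by
    rintro rfl
    apply hrq
    rw [hK]
    exact dvd_pow_self r f.ne_zero
  have hn : p.Coprime r := (Nat.coprime_primes hp hr).mpr hrp.symm
  have hord : orderOf (ZMod.unitOfCoprime (p ^ (f : ℕ)) (hn.pow_left f))
      = orderOf ((Fintype.card F : ℕ) : ZMod r) := by
    rw [← orderOf_units, ZMod.coe_unitOfCoprime, ← hK]
  have hX : Irreducible (X - 1 : F[X]) := by
    have := Polynomial.irreducible_X_sub_C (1 : F)
    simpa using this
  -- `P` does not divide `X - 1`
  have hnd : ¬ P ∣ (X - 1 : F[X]) := by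
    intro hd
    have h4 : (X - 1 : F[X]) ∣ P := hPi.dvd_symm hX hd
    have h5 : (X - C (1 : F)) ∣ P := by
      rw [map_one]
      exact h4
    exact hP1 (Polynomial.dvd_iff_isRoot.mp h5)
  have hPc : P ∣ cyclotomic r F := by
    rw [← cyclotomic_prime_mul_X_sub_one F r] at hPd
    rcases hPi.prime.dvd_or_dvd hPd with h | h
    · exact h
    · exact absurd h hnd
  have hdeg : P.natDegree = orderOf ((Fintype.card F : ℕ) : ZMod r) := by
    rw [← hord]
    exact natDegree_of_dvd_cyclotomic_of_irreducible hK hn hPc hPi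
  have hrodd : Odd r := hr.odd_of_ne_two hr2
  have h1 := Cfsg.Agent.Helper43.SpPrime.eq_X_sub_one_of_star_eq_odd hrodd hPm hPi hPd hstar
    (by rw [hdeg]; exact hodd)
  apply hP1
  rw [h1]
  simp

end Cfsg.Agent.Helper81.Tsp
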