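import Mathlib

/-!
# (FIELD) piece for helper46's S2279: the subfield argument
-/

set_option autoImplicit false

namespace Cfsg.Agent.Helper81.Sln

theorem field_lemma {K : Type*} [Field K] [Fintype K] (p : ℕ) [Fact p.Prime] [CharP K p]
    (S : AddSubgroup K) (θ : K) (hθ0 : θ ≠ 0) (hθ : Subfield.closure ({θ} : Set K) = ⊤)
    (e : ℕ) (hσ : θ ^ e ∈ S)
    (hmul : ∀ s₁ ∈ S, ∀ s₂ ∈ S, θ * s₁ * s₂ ∈ S)
    (a : ℕ)
    (hmix : e + 1 = p ^ a ∨
      ∃ m : ℕ, (m : K) ≠ 0 ∧ ∀ s₁ ∈ S, ∀ s₂ ∈ S, (m : K) * θ ^ (p ^ a + 1) * s₁ * s₂ ∈ S) :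
    S = ⊤ := by
  classical
  -- the set `θ S`
  have hP_add : ∀ x y : K, θ⁻¹ * x ∈ S → θ⁻¹ * y ∈ S → θ⁻¹ * (x + y) ∈ S := by
    intro x y hx hy
    rw [mul_add]
    exact S.add_mem hx hy
  have hP_neg : ∀ x : K, θ⁻¹ * x ∈ S → θ⁻¹ * (-x) ∈ S := by
    intro x hx
    rw [mul_neg]
    exact S.neg_mem hx
  have hP_zero : θ⁻¹ * (0 : K) ∈ S := by
    rw [mul_zero]
    exact S.zero_mem
  have hP_mul : ∀ x y : K, θ⁻¹ * x ∈ S → θ⁻¹ * y ∈ S → θ⁻¹ * (x * y) ∈ S := by
    intro x y hx hy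
    have h := hmul _ hx _ hy
    have heq : θ * (θ⁻¹ * x) * (θ⁻¹ * y) = θ⁻¹ * (x * y) := by
      field_simp
    rwa [heq] at h
  have hcard : 2 ≤ Fintype.card K := Fintype.one_lt_card
  -- the nonzero element `θ^(e+1)`
  have hx0 : θ⁻¹ * θ ^ (e + 1) ∈ S := by
    have : θ⁻¹ * θ ^ (e + 1) = θ ^ e := by
      rw [pow_succ]
      field_simp
    rwa [this]
  have hxne : θ ^ (e + 1) ≠ 0 := pow_ne_zero _ hθ0
  have hpow1 : ∀ (x : K), θ⁻¹ * x ∈ S → ∀ k : ℕ, θ⁻¹ * x ^ (k + 1) ∈ S := by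
    intro x hx k
    induction k with
    | zero => simpa using hx
    | succ k ih =>
      rw [pow_succ]
      exact hP_mul _ _ ih hx
  have hP_one : θ⁻¹ * (1 : K) ∈ S := by
    have h := hpow1 _ hx0 (Fintype.card K - 2)
    have h2 : Fintype.card K - 2 + 1 = Fintype.card K - 1 := by omega
    rw [h2, FiniteField.pow_card_sub_one_eq_one _ hxne] at h
    exact h
  have hP_pow : ∀ (x : K), θ⁻¹ * x ∈ S → ∀ k : ℕ, θ⁻¹ * x ^ k ∈ S := by
    intro x hx k
    rcases k with _ | k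
    · simpa using hP_one
    · exact hpow1 x hx k
  have hP_inv : ∀ x : K, θ⁻¹ * x ∈ S → θ⁻¹ * x⁻¹ ∈ S := by
    intro x hx
    by_cases hx0 : x = 0
    · rw [hx0, inv_zero]
      exact hP_zero
    · have h := hP_pow x hx (Fintype.card K - 2)
      have h1 : x ^ (Fintype.card K - 2) * x = 1 := by
        rw [← pow_succ]
        have h2 : Fintype.card K - 2 + 1 = Fintype.card K - 1 := by omega
        rw [h2, FiniteField.pow_card_sub_one_eq_one _ hx0]
      have h3 : x⁻¹ = x ^ (Fintype.card K - 2) := by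
        rw [inv_eq_iff_eq_inv]
        exact (eq_inv_of_mul_eq_one_right h1)
      rwa [h3]
  let K' : Subfield K :=
    { carrier := {x | θ⁻¹ * x ∈ S}
      mul_mem' := fun {x y} hx hy => hP_mul x y hx hy
      one_mem' := hP_one
      add_mem' := fun {x y} hx hy => hP_add x y hx hy
      zero_mem' := hP_zero
      neg_mem' := fun {x} hx => hP_neg x hx
      inv_mem' := fun x hx => hP_inv x hx }
  have hmemK' : ∀ x : K, x ∈ K' ↔ θ⁻¹ * x ∈ S := fun x => Iff.rfl
  -- the mixing step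
  have hfrob : θ ^ (p ^ a) ∈ K' := by
    rcases hmix with h | ⟨m, hm0, hm⟩
    · rw [← h, hmemK']
      exact hx0
    · have hinv : θ⁻¹ ∈ S := by
        have := hP_one
        rwa [mul_one] at this
      have h1 := hm _ hinv _ hinv
      have h2 : (m : K) * θ ^ (p ^ a) ∈ K' := by
        rw [hmemK']
        have heq : θ⁻¹ * ((m : K) * θ ^ (p ^ a)) = (m : K) * θ ^ (p ^ a + 1) * θ⁻¹ * θ⁻¹ := by
          rw [pow_succ]
          field_simp
        rwa [heq]
      have h3 : (m : K) ∈ K' := natCast_mem K' m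
      have h4 : (m : K)⁻¹ * ((m : K) * θ ^ (p ^ a)) ∈ K' := K'.mul_mem (K'.inv_mem h3) h2
      rwa [inv_mul_cancel_left₀ hm0] at h4
  -- Frobenius is bijective on `K'`
  have hinj : Function.Injective (fun x : K => x ^ (p ^ a)) := by
    have := (iterateFrobenius K p a).injective
    intro x y hxy
    apply this
    simpa [iterateFrobenius_def] using hxy
  have hθK' : θ ∈ K' := by
    let f : K' → K' := fun x => ⟨(x : K) ^ (p ^ a), K'.pow_mem x.2 _⟩
    have hf : Function.Injective f := by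
      intro x y hxy
      have : (x : K) ^ (p ^ a) = (y : K) ^ (p ^ a) := congrArg Subtype.val hxy
      exact Subtype.ext (hinj this)
    have hsurj : Function.Surjective f := Finite.injective_iff_surjective.mp hf
    obtain ⟨y, hy⟩ := hsurj ⟨θ ^ (p ^ a), hfrob⟩
    have h1 : (y : K) ^ (p ^ a) = θ ^ (p ^ a) := congrArg Subtype.val hy
    have h2 : (y : K) = θ := hinj h1
    rw [← h2]
    exact y.2
  have htop : K' = ⊤ := by
    rw [eq_top_iff, ← hθ, Subfield.closure_le]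
    intro x hx
    rw [Set.mem_singleton_iff] at hx
    rw [hx]
    exact hθK'
  rw [eq_top_iff]
  intro x _
  have h : θ * x ∈ K' := by
    rw [htop]
    exact Subfield.mem_top _
  rw [hmemK'] at h
  rwa [inv_mul_cancel_left₀ hθ0] at h

end Cfsg.Agent.Helper81.Sln
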