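import Mathlib
import Cfsg.Agent.Helper47.SGDefs

set_option autoImplicit false
set_option linter.style.haveILetI false

/-!
# Shult–Gross, piece (W2): the index of the radical of a class-2 commutator pairing is a square
(helper81 for helper47's S3793)
-/

namespace Cfsg.Agent.Helper81.SG

open scoped commutatorElement

section Abstract

variable {A : Type*} [Group A] {K : Type*} [Field K]

/-- For a hom `f : A →* Kˣ` with values `q`-th roots of unity, nontrivial on the subgroup `V`, the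
kernel has index `q` in `V`. -/
theorem relIndex_ker_eq_prime {q : ℕ} (hq : q.Prime) (f : A →* Kˣ)
    (hfq : ∀ x, f x ^ q = 1) (V : Subgroup A) {c : A} (hc : c ∈ V) (hfc : f c ≠ 1) :
    (V ⊓ f.ker).relIndex V = q := by
  haveI : NeZero q := ⟨hq.ne_zero⟩
  haveI : Fact q.Prime := ⟨hq⟩
  have hord : orderOf (f c) = q := orderOf_eq_prime (hfq c) hfc
  have hprim : IsPrimitiveRoot (f c) q := hord ▸ IsPrimitiveRoot.orderOf (f c)
  have hz : Subgroup.zpowers (f c) = rootsOfUnity q K := hprim.zpowers_eq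
  let g : V →* Kˣ := f.comp V.subtype
  have hker : (V ⊓ f.ker).subgroupOf V = g.ker := by
    ext v
    rw [Subgroup.mem_subgroupOf, Subgroup.mem_inf, MonoidHom.mem_ker, MonoidHom.mem_ker]
    exact ⟨fun h => h.2, fun h => ⟨v.2, h⟩⟩
  have hrange : g.range = Subgroup.zpowers (f c) := by
    apply le_antisymm
    · rintro _ ⟨v, rfl⟩
      rw [hz, mem_rootsOfUnity]
      exact hfq v
    · rw [Subgroup.zpowers_le]
      exact ⟨⟨c, hc⟩, rfl⟩
  rw [Subgroup.relIndex, hker, Subgroup.index_ker, hrange, Nat.card_zpowers, hord]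

/-- A bimultiplicative alternating pairing with values `q`-th roots of unity. -/
structure IsAltPairing (q : ℕ) (β : A → A → Kˣ) : Prop where
  left : ∀ a b c, β (a * b) c = β a c * β b c
  right : ∀ a b c, β a (b * c) = β a b * β a c
  alt : ∀ a, β a a = 1
  pow : ∀ a b, β a b ^ q = 1

namespace IsAltPairing

variable {q : ℕ} {β : A → A → Kˣ} (h : IsAltPairing q β)
include h

theorem one_left (c : A) : β 1 c = 1 := by
  have := h.left 1 1 c
  rw [mul_one] at this
  exact (mul_eq_left.1 this.symm)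

theorem one_right (a : A) : β a 1 = 1 := by
  have := h.right a 1 1
  rw [mul_one] at this
  exact (mul_eq_left.1 this.symm)

/-- the column hom `v ↦ β v c` -/
def col (c : A) : A →* Kˣ where
  toFun := fun v => β v c
  map_one' := h.one_left c
  map_mul' := fun a b => h.left a b c

/-- the row hom `v ↦ β a v` -/
def row (a : A) : A →* Kˣ where
  toFun := fun v => β a v
  map_one' := h.one_right a
  map_mul' := fun b c => h.right a b c

theorem col_apply (c v : A) : h.col c v = β v c := rfl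

theorem row_apply (a v : A) : h.row a v = β a v := rfl

theorem swap (a b : A) : β a b * β b a = 1 := by
  have h1 := h.alt (a * b)
  rw [h.left, h.right, h.right, h.alt, h.alt, one_mul, mul_one] at h1
  exact h1

/-- the radical of the pairing on the subgroup `W` -/
def rad (W : Subgroup A) : Subgroup A where
  carrier := {a | a ∈ W ∧ ∀ b ∈ W, β a b = 1}
  one_mem' := ⟨W.one_mem, fun b _ => h.one_left b⟩
  mul_mem' := fun {x y} hx hy =>
    ⟨W.mul_mem hx.1 hy.1, fun b hb => by rw [h.left, hx.2 b hb, hy.2 b hb, one_mul]⟩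
  inv_mem' := fun {x} hx => ⟨W.inv_mem hx.1, fun b hb => by
    have := map_inv (h.col b) x
    rw [col_apply, col_apply, hx.2 b hb, inv_one] at this
    exact this⟩

theorem mem_rad {W : Subgroup A} {a : A} : a ∈ h.rad W ↔ a ∈ W ∧ ∀ b ∈ W, β a b = 1 := Iff.rfl

theorem rad_le (W : Subgroup A) : h.rad W ≤ W := fun _ ha => ha.1

/-- **The index of the radical is an even power of `q`.** -/
theorem exists_relIndex_rad [Finite A] (hq : q.Prime) :
    ∀ (n : ℕ) (W : Subgroup A), Nat.card W = n → ∃ k : ℕ, (h.rad W).relIndex W = q ^ (2 * k) := by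
  intro n
  induction n using Nat.strong_induction_on with
  | _ n ih =>
    intro W hWn
    by_cases hrad : ∀ a ∈ W, ∀ b ∈ W, β a b = 1
    · refine ⟨0, ?_⟩
      have : h.rad W = W := le_antisymm (h.rad_le W) (fun a ha => ⟨ha, hrad a ha⟩)
      rw [this, Subgroup.relIndex_self]
      simp
    · push Not at hrad
      obtain ⟨a, ha, b, hb, hab⟩ := hrad
      have hba : β b a ≠ 1 := by
        intro h1
        have := h.swap a b
        rw [h1, mul_one] at this
        exact hab this
      -- the two kernels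
      set W2 : Subgroup A := W ⊓ (h.col a).ker with hW2
      set W1 : Subgroup A := W2 ⊓ (h.col b).ker with hW1
      have hW2W : W2 ≤ W := inf_le_left
      have hW1W2 : W1 ≤ W2 := inf_le_left
      have hW1W : W1 ≤ W := hW1W2.trans hW2W
      have haW2 : a ∈ W2 := ⟨ha, by
        show h.col a a = 1
        rw [col_apply, h.alt]⟩
      have i2 : W2.relIndex W = q :=
        relIndex_ker_eq_prime hq (h.col a) (fun x => h.pow x a) W hb (by rw [col_apply]; exact hba)
      have i1 : W1.relIndex W2 = q :=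
        relIndex_ker_eq_prime hq (h.col b) (fun x => h.pow x b) W2 haW2
          (by rw [col_apply]; exact hab)
      have hidx : W1.relIndex W = q * q := by
        rw [← Subgroup.relIndex_mul_relIndex W1 W2 W hW1W2 hW2W, i1, i2]
      -- membership in `W1`
      have hmemW1 : ∀ v, v ∈ W1 ↔ v ∈ W ∧ β v a = 1 ∧ β v b = 1 := by
        intro v
        constructor
        · rintro ⟨⟨h1, h2⟩, h3⟩
          exact ⟨h1, h2, h3⟩
        · rintro ⟨h1, h2, h3⟩
          exact ⟨⟨h1, h2⟩, h3⟩
      -- `W1` is smaller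
      have hlt : Nat.card W1 < n := by
        rw [← hWn]
        have hdvd := Subgroup.relIndex_mul_relIndex ⊥ W1 W bot_le hW1W
        rw [Subgroup.relIndex_bot_left, Subgroup.relIndex_bot_left, hidx] at hdvd
        have hq2 : 2 ≤ q := hq.two_le
        have hpos : 0 < Nat.card W1 := Nat.card_pos
        have h4 : 4 ≤ q * q := Nat.mul_le_mul hq2 hq2
        calc Nat.card W1 < Nat.card W1 * 4 := by omega
          _ ≤ Nat.card W1 * (q * q) := Nat.mul_le_mul_left _ h4
          _ = Nat.card W := hdvd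
      obtain ⟨k', hk'⟩ := ih (Nat.card W1) hlt W1 rfl
      -- primitive root and decomposition
      haveI : NeZero q := ⟨hq.ne_zero⟩
      haveI : Fact q.Prime := ⟨hq⟩
      have hord : orderOf (β a b) = q := orderOf_eq_prime (h.pow a b) hab
      have hprim : IsPrimitiveRoot (β a b) q := hord ▸ IsPrimitiveRoot.orderOf (β a b)
      have hz : Subgroup.zpowers (β a b) = rootsOfUnity q K := hprim.zpowers_eq
      have hvals : ∀ u : Kˣ, u ^ q = 1 → ∃ s : ℤ, (β a b) ^ s = u := by
        intro u hu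
        have : u ∈ Subgroup.zpowers (β a b) := by
          rw [hz, mem_rootsOfUnity]; exact hu
        exact Subgroup.mem_zpowers_iff.1 this
      have hdecomp : ∀ w ∈ W, ∃ v ∈ W1, ∃ i j : ℤ, w = v * (a ^ i * b ^ j) := by
        intro w hw
        obtain ⟨s, hs⟩ := hvals (β w a) (h.pow w a)
        obtain ⟨t, ht⟩ := hvals (β w b) (h.pow w b)
        -- i = t, j = -s
        refine ⟨w * (a ^ t * b ^ (-s))⁻¹, ?_, t, -s, by group⟩
        rw [hmemW1]
        refine ⟨W.mul_mem hw (W.inv_mem (W.mul_mem (W.zpow_mem ha _) (W.zpow_mem hb _))), ?_, ?_⟩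
        · have e := map_mul (h.col a) w (a ^ t * b ^ (-s))⁻¹
          rw [col_apply] at e
          rw [e, map_inv, map_mul, map_zpow, map_zpow, col_apply, col_apply, col_apply, h.alt,
            one_zpow, one_mul, ← hs]
          have hinv : β b a = (β a b)⁻¹ := by
            have := h.swap a b
            exact eq_inv_of_mul_eq_one_right this
          rw [hinv, inv_zpow, zpow_neg, inv_inv, mul_inv_cancel]
        · have e := map_mul (h.col b) w (a ^ t * b ^ (-s))⁻¹
          rw [col_apply] at e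
          rw [e, map_inv, map_mul, map_zpow, map_zpow, col_apply, col_apply, col_apply, h.alt,
            one_zpow, mul_one, ← ht, mul_inv_cancel]
      -- the radicals agree
      have hradeq : h.rad W1 = h.rad W := by
        apply le_antisymm
        · intro x hx
          obtain ⟨hxW1, hx1⟩ := hx
          obtain ⟨hxW, hxa, hxb⟩ := (hmemW1 x).1 hxW1
          refine ⟨hxW, fun w hw => ?_⟩
          obtain ⟨v, hv, i, j, rfl⟩ := hdecomp w hw
          have e := map_mul (h.row x) v (a ^ i * b ^ j)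
          rw [row_apply] at e
          rw [e, map_mul, map_zpow, map_zpow, row_apply, row_apply, row_apply, hx1 v hv, hxa,
            hxb, one_zpow, one_zpow, one_mul, one_mul]
        · intro x hx
          obtain ⟨hxW, hx1⟩ := hx
          refine ⟨(hmemW1 x).2 ⟨hxW, hx1 a ha, hx1 b hb⟩, fun w hw => hx1 w (hW1W hw)⟩
      refine ⟨k' + 1, ?_⟩
      have hle : h.rad W ≤ W1 := hradeq ▸ h.rad_le W1
      rw [← Subgroup.relIndex_mul_relIndex (h.rad W) W1 W hle hW1W, ← hradeq, hk', hidx]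
      ring

end IsAltPairing

end Abstract

section Rep

variable {K : Type*} [Field K] {Γ : Type*} [Group Γ]

/-- W2: the index of the radical of a class-2 commutator pairing with values of order `q` is a
square. -/
theorem sq_index [Finite Γ] (Q Z T₀ : Subgroup Γ) (hZQ : Z ≤ Q)
    (hcomm : ∀ a ∈ Q, ∀ b ∈ Q, ⁅a, b⁆ ∈ Z) (hZc : ∀ z ∈ Z, ∀ a ∈ Q, a * z = z * a)
    {q : ℕ} (hq : q.Prime) (χ : Γ → Kˣ)
    (hχmul : ∀ z ∈ Z, ∀ z' ∈ Z, χ (z * z') = χ z * χ z') (hχq : ∀ z ∈ Z, χ z ^ q = 1)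
    (hT₀ : ∀ a, a ∈ T₀ ↔ a ∈ Q ∧ ∀ b ∈ Q, χ ⁅a, b⁆ = 1) :
    ∃ k : ℕ, T₀.relIndex Q = q ^ (2 * k) := by
  classical
  have hχ1 : χ 1 = 1 := by
    have := hχmul 1 Z.one_mem 1 Z.one_mem
    rw [mul_one] at this
    exact mul_eq_left.1 this.symm
  -- the pairing on `↥Q`
  let β : Q → Q → Kˣ := fun a b => χ ⁅(a : Γ), (b : Γ)⁆
  have hβ : IsAltPairing q β :=
    { left := fun a b c => by
        show χ ⁅((a * b : Q) : Γ), (c : Γ)⁆ = χ ⁅(a : Γ), (c : Γ)⁆ * χ ⁅(b : Γ), (c : Γ)⁆
        have hbc := hcomm b b.2 c c.2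
        have hac := hcomm a a.2 c c.2
        have e : ⁅((a * b : Q) : Γ), (c : Γ)⁆ = ⁅(a : Γ), (c : Γ)⁆ * ⁅(b : Γ), (c : Γ)⁆ := by
          have h1 : ⁅((a * b : Q) : Γ), (c : Γ)⁆ =
              (a : Γ) * ⁅(b : Γ), (c : Γ)⁆ * ((c : Γ) * (a : Γ)⁻¹ * (c : Γ)⁻¹) := by
            rw [Subgroup.coe_mul]
            simp only [commutatorElement_def]
            group
          have h2 : ⁅(a : Γ), (c : Γ)⁆ = (a : Γ) * ((c : Γ) * (a : Γ)⁻¹ * (c : Γ)⁻¹) := by
            simp only [commutatorElement_def]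
            group
          calc ⁅((a * b : Q) : Γ), (c : Γ)⁆
              = (a : Γ) * ⁅(b : Γ), (c : Γ)⁆ * ((c : Γ) * (a : Γ)⁻¹ * (c : Γ)⁻¹) := h1
            _ = ⁅(b : Γ), (c : Γ)⁆ * (a : Γ) * ((c : Γ) * (a : Γ)⁻¹ * (c : Γ)⁻¹) := by
                rw [hZc _ hbc a a.2]
            _ = ⁅(b : Γ), (c : Γ)⁆ * ⁅(a : Γ), (c : Γ)⁆ := by rw [mul_assoc, ← h2]
            _ = ⁅(a : Γ), (c : Γ)⁆ * ⁅(b : Γ), (c : Γ)⁆ := (hZc _ hbc _ (hZQ hac)).symm
        rw [e, hχmul _ hac _ hbc]
      right := fun a b c => by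
        show χ ⁅(a : Γ), ((b * c : Q) : Γ)⁆ = χ ⁅(a : Γ), (b : Γ)⁆ * χ ⁅(a : Γ), (c : Γ)⁆
        have hab := hcomm a a.2 b b.2
        have hac := hcomm a a.2 c c.2
        have e : ⁅(a : Γ), ((b * c : Q) : Γ)⁆ = ⁅(a : Γ), (b : Γ)⁆ * ⁅(a : Γ), (c : Γ)⁆ := by
          have h1 : ⁅(a : Γ), ((b * c : Q) : Γ)⁆ =
              ⁅(a : Γ), (b : Γ)⁆ * ((b : Γ) * ⁅(a : Γ), (c : Γ)⁆ * (b : Γ)⁻¹) := by
            rw [Subgroup.coe_mul]
            simp only [commutatorElement_def]
            group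
          rw [h1, hZc _ hac b b.2, mul_inv_cancel_right]
        rw [e, hχmul _ hab _ hac]
      alt := fun a => by
        show χ ⁅(a : Γ), (a : Γ)⁆ = 1
        rw [commutatorElement_self, hχ1]
      pow := fun a b => hχq _ (hcomm a a.2 b b.2) }
  obtain ⟨k, hk⟩ := hβ.exists_relIndex_rad hq (Nat.card (⊤ : Subgroup Q)) ⊤ rfl
  refine ⟨k, ?_⟩
  rw [← hk]
  -- `T₀.subgroupOf Q = rad ⊤`
  have hT₀Q : T₀ ≤ Q := fun a ha => ((hT₀ a).1 ha).1
  have e : T₀.subgroupOf Q = hβ.rad ⊤ := by
    ext a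
    rw [Subgroup.mem_subgroupOf, hT₀, hβ.mem_rad]
    constructor
    · rintro ⟨_, h2⟩
      exact ⟨Subgroup.mem_top _, fun b _ => h2 b b.2⟩
    · rintro ⟨_, h2⟩
      exact ⟨a.2, fun b hb => h2 ⟨b, hb⟩ (Subgroup.mem_top _)⟩
  rw [Subgroup.relIndex, e, Subgroup.relIndex_top_right]

end Rep

end Cfsg.Agent.Helper81.SG
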