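import Mathlib

/-!
# S0998 piece (AR6) for helper54: the exponent `b`
-/

set_option autoImplicit false

namespace Cfsg.Agent.Helper81.BT

/-- (AR6) the exponent `b` -/
theorem arith_b_seven (b : ℕ) (hb : 3 ≤ b) (h : 2 ^ b % 7 = 1) : b = 3 ∨ 6 ≤ b := by
  by_contra hcon
  have h1 : b ≠ 3 := fun hh => hcon (Or.inl hh)
  have h2 : b < 6 := by
    by_contra hh
    exact hcon (Or.inr (by omega))
  interval_cases b <;> simp_all

theorem arith_b_five (b s : ℕ) (hb : 2 ≤ b) (hs : 2 * s = 3 * 2 ^ b) (h : s % 5 = 1) :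
    b = 2 ∨ 6 ≤ b := by
  by_contra hcon
  have h1 : b ≠ 2 := fun hh => hcon (Or.inl hh)
  have h2 : b < 6 := by
    by_contra hh
    exact hcon (Or.inr (by omega))
  interval_cases b <;> omega

end Cfsg.Agent.Helper81.BT
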