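import Mathlib
import Cfsg.Prelude.Def_CaseTheorems
import Cfsg.Agent.S0514
import Cfsg.Agent.Lib.Cores

/-!
# (NC) of helper58's S0508 farm (#11739): `C(t) = O(C(t)) · S`
-/

set_option autoImplicit false
set_option linter.unusedVariables false

namespace Cfsg.Agent.Helper81.BSWD

open Subgroup

/-- (NC) -/
theorem cent_eq_oddCore_sup {G : Type*} [Group G] [Finite G] (S : Sylow 2 G) (n : ℕ) (hn : 2 ≤ n)
    (hS : Nonempty (↥(S : Subgroup G) ≃* DihedralGroup n)) (t : G) (ht : orderOf t = 2)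
    (htS : t ∈ (S : Subgroup G)) (htZ : ∀ s ∈ (S : Subgroup G), s * t = t * s) :
    Odd (Nat.card ↥((Cfsg.oddCore ↥(centralizer ({t} : Set G))).map
        (centralizer ({t} : Set G)).subtype)) ∧
      ((Cfsg.oddCore ↥(centralizer ({t} : Set G))).map (centralizer ({t} : Set G)).subtype) ⊔
        (S : Subgroup G) = centralizer ({t} : Set G) := by
  have : Fact (Nat.Prime 2) := ⟨Nat.prime_two⟩
  set H : Subgroup G := centralizer ({t} : Set G) with hH
  set O : Subgroup G := (Cfsg.oddCore ↥H).map H.subtype with hO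
  obtain ⟨N, hNn, hNodd, k, hNk⟩ := Cfsg.Agent.S0514.result S n hn hS t ht
  have hNle : N ≤ Cfsg.oddCore ↥H := Cfsg.Agent.Lib.le_oddCore hNn hNodd
  have hcardO : Nat.card ↥O = Nat.card ↥(Cfsg.oddCore ↥H) :=
    Nat.card_congr ((Cfsg.oddCore ↥H).equivMapOfInjective H.subtype H.subtype_injective).symm.toEquiv
  have hoddO : Odd (Nat.card ↥O) := by
    rw [hcardO]
    exact Cfsg.Agent.Lib.odd_card_oddCore
  refine ⟨hoddO, ?_⟩
  -- inclusions
  have hOH : O ≤ H := by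
    rw [hO]
    exact map_subtype_le _
  have hSH : (S : Subgroup G) ≤ H := by
    intro s hs
    rw [hH, mem_centralizer_iff]
    intro h hh
    rw [Set.mem_singleton_iff] at hh
    rw [hh]
    exact (htZ s hs).symm
  have hle : O ⊔ (S : Subgroup G) ≤ H := sup_le hOH hSH
  -- the index of the odd core is a power of 2
  have hidx : ∃ j : ℕ, (Cfsg.oddCore ↥H).index = 2 ^ j := by
    have hdvd : (Cfsg.oddCore ↥H).index ∣ N.index := Subgroup.index_dvd_of_le hNle
    rw [hNk] at hdvd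
    exact (Nat.dvd_prime_pow Nat.prime_two).1 hdvd |>.imp fun j hj => hj.2
  obtain ⟨j, hj⟩ := hidx
  have hcardH : Nat.card ↥H = Nat.card ↥O * 2 ^ j := by
    rw [hcardO, ← hj, mul_comm]
    exact (Subgroup.index_mul_card (Cfsg.oddCore ↥H)).symm
  -- `2 ^ j` divides `|S|`
  have hjS : 2 ^ j ∣ Nat.card ↥(S : Subgroup G) := by
    have h1 : 2 ^ j ∣ Nat.card G := by
      have : 2 ^ j ∣ Nat.card ↥H := ⟨Nat.card ↥O, by rw [hcardH, mul_comm]⟩
      exact this.trans (Subgroup.card_subgroup_dvd_card H)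
    rw [Sylow.card_eq_multiplicity]
    have hG0 : Nat.card G ≠ 0 := Nat.card_pos.ne'
    have h2 : j ≤ (Nat.card G).factorization 2 :=
      (Nat.Prime.pow_dvd_iff_le_factorization Nat.prime_two hG0).1 h1
    exact pow_dvd_pow 2 h2
  -- `|O| |S|` divides `|O ⊔ S|`
  have hcop : Nat.Coprime (Nat.card ↥O) (Nat.card ↥(S : Subgroup G)) := by
    obtain ⟨e, he⟩ := (IsPGroup.iff_card.1 S.isPGroup')
    rw [he]
    exact Nat.Coprime.pow_right e (Nat.coprime_two_right.mpr hoddO)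
  have hdvd1 : Nat.card ↥O ∣ Nat.card ↥(O ⊔ (S : Subgroup G)) :=
    Subgroup.card_dvd_of_le le_sup_left
  have hdvd2 : Nat.card ↥(S : Subgroup G) ∣ Nat.card ↥(O ⊔ (S : Subgroup G)) :=
    Subgroup.card_dvd_of_le le_sup_right
  have hdvd3 : Nat.card ↥O * Nat.card ↥(S : Subgroup G) ∣ Nat.card ↥(O ⊔ (S : Subgroup G)) :=
    hcop.mul_dvd_of_dvd_of_dvd hdvd1 hdvd2
  have hdvd4 : Nat.card ↥H ∣ Nat.card ↥(O ⊔ (S : Subgroup G)) := by
    rw [hcardH]
    exact (Nat.mul_dvd_mul_left _ hjS).trans hdvd3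
  have hle2 : Nat.card ↥H ≤ Nat.card ↥(O ⊔ (S : Subgroup G)) :=
    Nat.le_of_dvd Nat.card_pos hdvd4
  exact Subgroup.eq_of_le_of_card_ge hle hle2

end Cfsg.Agent.Helper81.BSWD
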