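import Mathlib

/-!
# (Z3) of helper58's S0508 farm (#11739): `G` is `2`-transitive on `G ⧸ N(Q)` when `Q` is regular on the
points other than the base point
-/

set_option autoImplicit false

open Subgroup

namespace Cfsg.Agent.Helper81.BSWD

section Z

variable {G : Type*} [Group G] [Finite G] (Q D : Subgroup G)

omit [Finite G] in
/-- moving a point to the base point -/
theorem Z3_exists_to_base (a : G ⧸ normalizer (Q : Set G)) :
    ∃ g : G, g • a = ((1 : G) : G ⧸ normalizer (Q : Set G)) := by
  induction a using QuotientGroup.induction_on with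
  | H x =>
    refine ⟨x⁻¹, ?_⟩
    rw [MulAction.Quotient.smul_mk, smul_eq_mul, inv_mul_cancel]

omit [Finite G] in
/-- elements of `Q` fix the base point -/
theorem Z3_fix_base (u : G) (hu : u ∈ Q) :
    u • ((1 : G) : G ⧸ normalizer (Q : Set G)) = ((1 : G) : G ⧸ normalizer (Q : Set G)) := by
  rw [MulAction.Quotient.smul_mk, smul_eq_mul, mul_one, QuotientGroup.eq, mul_one, inv_mem_iff]
  exact le_normalizer hu

omit [Finite G] in
/-- (Z3) -/
theorem two_transitive
    (hreg : ∀ y z : G ⧸ normalizer (Q : Set G), y ≠ ((1 : G) : G ⧸ normalizer (Q : Set G)) →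
      z ≠ ((1 : G) : G ⧸ normalizer (Q : Set G)) → ∃! u : ↥Q, (u : G) • y = z) :
    MulAction.IsMultiplyPretransitive G (G ⧸ normalizer (Q : Set G)) 2 := by
  rw [MulAction.is_two_pretransitive_iff]
  intro a b c d hab hcd
  obtain ⟨g1, hg1⟩ := Z3_exists_to_base Q a
  obtain ⟨g2, hg2⟩ := Z3_exists_to_base Q c
  have h1 : g1 • b ≠ ((1 : G) : G ⧸ normalizer (Q : Set G)) := by
    intro h
    apply hab
    have := hg1.trans h.symm
    exact MulAction.injective g1 this
  have h2 : g2 • d ≠ ((1 : G) : G ⧸ normalizer (Q : Set G)) := by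
    intro h
    apply hcd
    have := hg2.trans h.symm
    exact MulAction.injective g2 this
  obtain ⟨u, hu, -⟩ := hreg (g1 • b) (g2 • d) h1 h2
  refine ⟨g2⁻¹ * (u : G) * g1, ?_, ?_⟩
  · rw [mul_smul, mul_smul, hg1, Z3_fix_base Q u u.2, ← hg2, inv_smul_smul]
  · rw [mul_smul, mul_smul, hu, inv_smul_smul]

end Z

end Cfsg.Agent.Helper81.BSWD
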