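import Mathlib
import Cfsg.Agent.Helper95.SzOrd.Defs
import Cfsg.Agent.Helper15.ZassInv
import Cfsg.Agent.Helper60.Zassenhaus

/-!
# (BPAIR) of helper95's Suzuki-order farm (#10993)

The number of ordered pairs of involutions with fixed-point-free product is `|G| q / 2`.
`BPAIR_of` takes the outputs of (BEL), (BOD), (BKI) that it needs as explicit hypotheses.
-/

set_option autoImplicit false
set_option linter.unusedSectionVars false

namespace Cfsg.Agent.Helper81.SzOrd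

open MulAction Cfsg.Agent.Helper95.SzOrd

variable {G Ω : Type*} [Group G] [Fintype G] [MulAction G Ω] [Fintype Ω]
variable {a b : Ω} {Q : Subgroup G} {q n : ℕ}

omit [Fintype G] [Fintype Ω] in
theorem BP_trans (F : ZTFacts a b Q q n) (c c' : Ω) : ∃ g : G, g • c = c' := by
  by_cases h : c = c'
  · exact ⟨1, by rw [one_smul, h]⟩
  · obtain ⟨g, hg, -⟩ := Cfsg.Agent.Helper60.Zassenhaus.exists_map2 F.zt.hZ.2.1 h (Ne.symm h)
    exact ⟨g, hg⟩

omit [Fintype G] [Fintype Ω] in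
theorem BP_sq_of_order {t : G} (ht : orderOf t = 2) : t * t = 1 := by
  rw [← pow_two, ← ht]
  exact pow_orderOf_eq_one t

omit [Fintype G] [Fintype Ω] in
theorem BP_ne_one_of_order {t : G} (ht : orderOf t = 2) : t ≠ 1 := by
  rintro rfl
  rw [orderOf_one] at ht
  omega

omit [Fintype G] [Fintype Ω] in
theorem BP_inv_of_order {t : G} (ht : orderOf t = 2) : t⁻¹ = t :=
  inv_eq_of_mul_eq_one_left (BP_sq_of_order ht)

omit [Fintype G] [Fintype Ω] in
theorem BP_order_of_sq {t : G} (h1 : t * t = 1) (h2 : t ≠ 1) : orderOf t = 2 := by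
  have : Fact (Nat.Prime 2) := ⟨Nat.prime_two⟩
  exact orderOf_eq_prime (by rw [pow_two]; exact h1) h2

omit [Fintype G] [Fintype Ω] in
theorem BP_even_card_Q (F : ZTFacts a b Q q n) : Even (Nat.card Q) := by
  have hn := F.hn
  have hq : Even q := by
    rw [F.hq]
    exact (Nat.even_pow.2 ⟨even_two, by omega⟩)
  rcases F.card_Q with h | h
  · rw [h]; exact Nat.even_pow.2 ⟨hq, by omega⟩
  · rw [h]; exact Nat.even_pow.2 ⟨hq, by omega⟩

/-- every involution fixes exactly one point -/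
theorem BP_fixOne (F : ZTFacts a b Q q n) (t : G) (ht : orderOf t = 2) : FixOne Ω t := by
  classical
  have htt := BP_sq_of_order ht
  have ht1 := BP_ne_one_of_order ht
  have hmod := Cfsg.Agent.Helper15.Zass.fx_modEq_of_sq (Ω := Ω) htt
  have hle := Cfsg.Agent.Helper15.Zass.fx_le_two (Ω := Ω) F.zt.hZ.2.2.1 ht1
  have hodd : Fintype.card Ω % 2 = 1 := by
    have h1 := F.card_Ω
    rw [Nat.card_eq_fintype_card] at h1
    obtain ⟨k, hk⟩ := BP_even_card_Q F
    omega
  unfold Nat.ModEq at hmod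
  have hone : Cfsg.Agent.Helper15.Zass.fx (Ω := Ω) t = 1 := by omega
  rw [Cfsg.Agent.Helper15.Zass.fx_def, Finset.card_eq_one] at hone
  obtain ⟨c, hc⟩ := hone
  refine ⟨ht1, c, ?_, ?_⟩
  · have : c ∈ Finset.univ.filter (fun c : Ω => t • c = c) := by rw [hc]; exact Finset.mem_singleton_self c
    exact (Finset.mem_filter.1 this).2
  · intro c' hc'
    have : c' ∈ Finset.univ.filter (fun c : Ω => t • c = c) := Finset.mem_filter.2 ⟨Finset.mem_univ _, hc'⟩
    rw [hc] at this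
    exact Finset.mem_singleton.1 this

omit [Fintype G] [Fintype Ω] in
/-- a `2`-element fixing `g • a` lies in the conjugate of `Q` -/
theorem BP_conj_mem_Q (F : ZTFacts a b Q q n) (g s : G) (hs : orderOf s = 2)
    (hfix : s • (g • a) = g • a) : g⁻¹ * s * g ∈ Q := by
  apply F.two_elt_mem
  · rw [mul_smul, mul_smul, hfix, inv_smul_smul]
  · refine ⟨1, ?_⟩
    rw [pow_one, pow_two]
    have := BP_sq_of_order hs
    calc g⁻¹ * s * g * (g⁻¹ * s * g) = g⁻¹ * (s * s) * g := by group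
      _ = 1 := by rw [this]; group

omit [Fintype G] [Fintype Ω] in
/-- two involutions with a common fixed point: the product is neither fixed-point-free nor fixes
two points -/
theorem BP_same_fix (F : ZTFacts a b Q q n) (s t : G) (hs : orderOf s = 2) (ht : orderOf t = 2)
    (c : Ω) (hsc : s • c = c) (htc : t • c = c) :
    ¬ IsFpf Ω (s * t) ∧ ¬ FixTwo Ω (s * t) := by
  constructor
  · intro h
    apply h c
    rw [mul_smul, htc, hsc]
  · rintro ⟨c1, c2, hne, h1, h2, hst1⟩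
    obtain ⟨g, hg⟩ := BP_trans F a c
    have hu : g⁻¹ * s * g ∈ Q := BP_conj_mem_Q F g s hs (by rw [hg]; exact hsc)
    have hv : g⁻¹ * t * g ∈ Q := BP_conj_mem_Q F g t ht (by rw [hg]; exact htc)
    have huv : g⁻¹ * (s * t) * g ∈ Q := by
      have : g⁻¹ * (s * t) * g = (g⁻¹ * s * g) * (g⁻¹ * t * g) := by group
      rw [this]
      exact Q.mul_mem hu hv
    have hne1 : g⁻¹ * (s * t) * g ≠ 1 := by
      intro h
      apply hst1
      have : s * t = g * (g⁻¹ * (s * t) * g) * g⁻¹ := by group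
      rw [this, h]; group
    have key : ∀ x : Ω, (s * t) • x = x → x = c := by
      intro x hx
      have h3 : (g⁻¹ * (s * t) * g) • (g⁻¹ • x) = g⁻¹ • x := by
        rw [mul_smul, mul_smul, smul_inv_smul, hx]
      have h4 := F.Q_fix _ huv hne1 _ h3
      rw [← hg, ← h4, smul_inv_smul]
    exact hne ((key c1 h1).trans (key c2 h2).symm)

omit [Fintype Ω] in
/-- the number of involutions fixing `a` -/
theorem BP_count_a (F : ZTFacts a b Q q n) :
    Nat.card {t : G // orderOf t = 2 ∧ t • a = a} = q - 1 := by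
  classical
  have h1 : Nat.card {t : G // orderOf t = 2 ∧ t • a = a} = Nat.card {z : G // z ∈ Zs Q ∧ z ≠ 1} := by
    apply Nat.card_congr
    apply Equiv.subtypeEquivRight
    intro t
    constructor
    · rintro ⟨ht, hta⟩
      have htQ : t ∈ Q := F.two_elt_mem t hta ⟨1, by rw [pow_one, pow_two]; exact BP_sq_of_order ht⟩
      have := (F.invol_Q t htQ).1 ⟨BP_ne_one_of_order ht, BP_sq_of_order ht⟩
      exact ⟨this.2, this.1⟩
    · rintro ⟨hz, hz1⟩
      have hzQ : t ∈ Q := (mem_Zs.1 hz).1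
      have := (F.invol_Q t hzQ).2 ⟨hz1, hz⟩
      exact ⟨BP_order_of_sq this.2 this.1, F.zt.Qle hzQ⟩
  rw [h1]
  have h2 : Nat.card {z : G // z ∈ Zs Q ∧ z ≠ 1} = ((Zs Q : Set G) \ {1}).ncard := by
    rw [← Nat.card_coe_set_eq]
    apply Nat.card_congr
    apply Equiv.subtypeEquivRight
    intro z
    simp
  have h3 : ((Zs Q : Set G)).ncard = q := by
    rw [← Nat.card_coe_set_eq]
    exact F.card_Zs
  rw [h2, Set.ncard_sdiff_singleton_of_mem (Zs Q).one_mem, h3]

/-- the number of involutions fixing a point -/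
theorem BP_count_point (F : ZTFacts a b Q q n) (c : Ω) :
    Nat.card {t : G // orderOf t = 2 ∧ t • c = c} = q - 1 := by
  obtain ⟨g, hg⟩ := BP_trans F a c
  rw [← BP_count_a F]
  apply Nat.card_congr
  refine
    { toFun := fun t => ⟨g⁻¹ * t.1 * g, ?_, ?_⟩
      invFun := fun t => ⟨g * t.1 * g⁻¹, ?_, ?_⟩
      left_inv := ?_
      right_inv := ?_ }
  · have h1 : g⁻¹ * t.1 * g = (MulAut.conj g⁻¹) t.1 := by simp
    rw [h1, MulEquiv.orderOf_eq]
    exact t.2.1
  · rw [mul_smul, mul_smul, hg, t.2.2, ← hg, inv_smul_smul]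
  · have h1 : g * t.1 * g⁻¹ = (MulAut.conj g) t.1 := by simp
    rw [h1, MulEquiv.orderOf_eq]
    exact t.2.1
  · rw [mul_smul, mul_smul, ← hg, inv_smul_smul, t.2.2]
  · intro t
    apply Subtype.ext
    show g * (g⁻¹ * t.1 * g) * g⁻¹ = t.1
    group
  · intro t
    apply Subtype.ext
    show g⁻¹ * (g * t.1 * g⁻¹) * g = t.1
    group

/-- a generic three-way split of a counted set -/
theorem BP_card_split {α : Type*} [Fintype α] (U FP FT SF : α → Prop)
    (h1 : ∀ x, U x → SF x → ¬ FP x ∧ ¬ FT x) (h2 : ∀ x, U x → ¬ SF x → FP x ∨ FT x)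
    (h3 : ∀ x, U x → FP x → ¬ FT x) :
    Nat.card {x // U x} = Nat.card {x // U x ∧ FP x} + Nat.card {x // U x ∧ FT x}
      + Nat.card {x // U x ∧ SF x} := by
  classical
  rw [Nat.card_eq_fintype_card, Nat.card_eq_fintype_card, Nat.card_eq_fintype_card,
    Nat.card_eq_fintype_card, Fintype.card_subtype, Fintype.card_subtype, Fintype.card_subtype,
    Fintype.card_subtype]
  simp only [Finset.card_filter]
  rw [← Finset.sum_add_distrib, ← Finset.sum_add_distrib]
  apply Finset.sum_congr rfl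
  intro x _
  by_cases hU : U x
  · by_cases hSF : SF x
    · have := h1 x hU hSF
      simp [hU, hSF, this.1, this.2]
    · rcases h2 x hU hSF with h | h
      · have := h3 x hU h
        simp [hU, hSF, h, this]
      · have : ¬ FP x := fun h' => h3 x hU h' h
        simp [hU, hSF, h, this]
  · simp [hU]

/-- pairs of involutions with a common fixed point -/
theorem BP_card_SF (F : ZTFacts a b Q q n) :
    Nat.card {p : G × G // (orderOf p.1 = 2 ∧ orderOf p.2 = 2) ∧
        ∃ c : Ω, p.1 • c = c ∧ p.2 • c = c}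
      = Nat.card {t : G // orderOf t = 2} * (q - 1) := by
  classical
  have e : {p : G × G // (orderOf p.1 = 2 ∧ orderOf p.2 = 2) ∧
        ∃ c : Ω, p.1 • c = c ∧ p.2 • c = c}
      ≃ Σ s : {t : G // orderOf t = 2},
          {t : G // orderOf t = 2 ∧ ∃ c : Ω, s.1 • c = c ∧ t • c = c} :=
    { toFun := fun p => ⟨⟨p.1.1, p.2.1.1⟩, ⟨p.1.2, p.2.1.2, p.2.2⟩⟩
      invFun := fun x => ⟨(x.1.1, x.2.1), ⟨x.1.2, x.2.2.1⟩, x.2.2.2⟩
      left_inv := fun p => rfl
      right_inv := fun x => rfl }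
  rw [Nat.card_congr e, Nat.card_sigma]
  have hfib : ∀ s : {t : G // orderOf t = 2},
      Nat.card {t : G // orderOf t = 2 ∧ ∃ c : Ω, s.1 • c = c ∧ t • c = c} = q - 1 := by
    intro s
    obtain ⟨-, c, hc, huniq⟩ := BP_fixOne F s.1 s.2
    rw [← BP_count_point F c]
    apply Nat.card_congr
    apply Equiv.subtypeEquivRight
    intro t
    constructor
    · rintro ⟨ht, c', hsc', htc'⟩
      rw [huniq c' hsc'] at htc'
      exact ⟨ht, htc'⟩
    · rintro ⟨ht, htc⟩
      exact ⟨ht, c, hc, htc⟩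
  rw [Finset.sum_congr rfl (fun s _ => hfib s), Finset.sum_const, Finset.card_univ, smul_eq_mul,
    Nat.card_eq_fintype_card]

theorem BP_pair_of_inv (F : ZTFacts a b Q q n) {u s : G} (hu : FixTwo Ω u) (hs : orderOf s = 2)
    (hinv : s * u * s⁻¹ = u⁻¹) : orderOf (s⁻¹ * u) = 2 := by
  have h1 := BP_inv_of_order hs
  apply BP_order_of_sq
  · rw [h1]
    rw [h1] at hinv
    calc s * u * (s * u) = (s * u * s) * u := by group
      _ = 1 := by rw [hinv]; group
  · intro h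
    have hus : u = s := by
      have : u = s * (s⁻¹ * u) := by group
      rw [this, h, mul_one]
    obtain ⟨c, c', hne, hc, hc', -⟩ := hu
    obtain ⟨-, d, -, huniq⟩ := BP_fixOne F s hs
    rw [hus] at hc hc'
    exact hne ((huniq c hc).trans (huniq c' hc').symm)

/-- pairs of involutions whose product fixes two points -/
theorem BP_card_FT (F : ZTFacts a b Q q n)
    (hBKI : ∀ u : G, FixTwo Ω u →
      Nat.card {s : G // orderOf s = 2 ∧ s * u * s⁻¹ = u⁻¹} = q - 1) :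
    Nat.card {p : G × G // (orderOf p.1 = 2 ∧ orderOf p.2 = 2) ∧ FixTwo Ω (p.1 * p.2)}
      = Nat.card {u : G // FixTwo Ω u} * (q - 1) := by
  classical
  have e : {p : G × G // (orderOf p.1 = 2 ∧ orderOf p.2 = 2) ∧ FixTwo Ω (p.1 * p.2)}
      ≃ Σ u : {u : G // FixTwo Ω u}, {s : G // orderOf s = 2 ∧ s * u.1 * s⁻¹ = u.1⁻¹} :=
    { toFun := fun p => ⟨⟨p.1.1 * p.1.2, p.2.2⟩, ⟨p.1.1, p.2.1.1, by
          have h1 := BP_inv_of_order p.2.1.1
          have h2 := BP_inv_of_order p.2.1.2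
          have h3 := BP_sq_of_order p.2.1.1
          rw [mul_inv_rev, h1, h2, ← mul_assoc, h3, one_mul]⟩⟩
      invFun := fun x => ⟨(x.2.1, x.2.1⁻¹ * x.1.1),
        ⟨x.2.2.1, BP_pair_of_inv F x.1.2 x.2.2.1 x.2.2.2⟩, by
          show FixTwo Ω (x.2.1 * (x.2.1⁻¹ * x.1.1))
          rw [mul_inv_cancel_left]
          exact x.1.2⟩
      left_inv := fun p => Subtype.ext (Prod.ext rfl (inv_mul_cancel_left p.1.1 p.1.2))
      right_inv := fun x =>
        Sigma.subtype_ext (Subtype.ext (mul_inv_cancel_left x.2.1 x.1.1)) rfl }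
  rw [Nat.card_congr e, Nat.card_sigma,
    Finset.sum_congr rfl (fun u _ => hBKI u.1 u.2), Finset.sum_const, Finset.card_univ,
    smul_eq_mul, Nat.card_eq_fintype_card]

/-- (BPAIR) from the outputs of (BEL), (BOD), (BKI) -/
theorem BPAIR_of (F : ZTFacts a b Q q n)
    (hBEL : 2 * Nat.card {g : G // FixTwo Ω g} = (Nat.card Q + 1) * Nat.card Q * (q - 2))
    (hBOD : ∀ s t : G, orderOf s = 2 → orderOf t = 2 → (∀ c : Ω, s • c = c → t • c ≠ c) →
      s * t ≠ 1 ∧ Odd (orderOf (s * t)) ∧ (IsFpf Ω (s * t) ∨ FixTwo Ω (s * t)))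
    (hBKI : ∀ u : G, FixTwo Ω u →
      Nat.card {s : G // orderOf s = 2 ∧ s * u * s⁻¹ = u⁻¹} = q - 1) :
    2 * Nat.card {p : G × G // orderOf p.1 = 2 ∧ orderOf p.2 = 2 ∧ IsFpf Ω (p.1 * p.2)}
      = Nat.card G * q := by
  classical
  have hsplit := BP_card_split (α := G × G) (fun p => orderOf p.1 = 2 ∧ orderOf p.2 = 2)
    (fun p => IsFpf Ω (p.1 * p.2)) (fun p => FixTwo Ω (p.1 * p.2))
    (fun p => ∃ c : Ω, p.1 • c = c ∧ p.2 • c = c)
    (by
      rintro p ⟨hs, ht⟩ ⟨c, hsc, htc⟩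
      exact BP_same_fix F p.1 p.2 hs ht c hsc htc)
    (by
      rintro p ⟨hs, ht⟩ hSF
      exact (hBOD p.1 p.2 hs ht (fun c hc htc => hSF ⟨c, hc, htc⟩)).2.2)
    (by
      rintro p - hFP ⟨c, c', -, h1, -⟩
      exact hFP c h1)
  have htot : Nat.card {p : G × G // orderOf p.1 = 2 ∧ orderOf p.2 = 2}
      = Nat.card {t : G // orderOf t = 2} * Nat.card {t : G // orderOf t = 2} := by
    rw [Nat.card_congr (Equiv.subtypeProdEquivProd (p := fun t : G => orderOf t = 2)
      (q := fun t : G => orderOf t = 2)), Nat.card_prod]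
  have hA : Nat.card {p : G × G // orderOf p.1 = 2 ∧ orderOf p.2 = 2 ∧ IsFpf Ω (p.1 * p.2)}
      = Nat.card {p : G × G // (orderOf p.1 = 2 ∧ orderOf p.2 = 2) ∧ IsFpf Ω (p.1 * p.2)} :=
    Nat.card_congr (Equiv.subtypeEquivRight (fun p => and_assoc.symm))
  rw [htot, BP_card_SF F, BP_card_FT F hBKI, F.card_invol] at hsplit
  rw [hA]
  have hG := F.card_G
  have hq4 : 4 ≤ q := by
    rw [F.hq]
    calc 4 = 2 ^ 2 := by norm_num
      _ ≤ 2 ^ n := Nat.pow_le_pow_right (by norm_num) F.hn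
  obtain ⟨d, hd⟩ : ∃ d, q = d + 2 := ⟨q - 2, by omega⟩
  rw [hG]
  subst hd
  simp only [Nat.add_sub_cancel, show d + 2 - 1 = d + 1 by omega] at hsplit hBEL ⊢
  set N := Nat.card Q
  set A := Nat.card {p : G × G // (orderOf p.1 = 2 ∧ orderOf p.2 = 2) ∧ IsFpf Ω (p.1 * p.2)}
  set T := Nat.card {g : G // FixTwo Ω g}
  zify at hsplit hBEL ⊢
  linear_combination (-2 : ℤ) * hsplit + (-(d : ℤ) - 1) * hBEL

/-- (BPAIR), with (BEL), (BOD), (BKI) as hypotheses in the exact form of the skeleton -/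
theorem BPAIR_of_skel (F : ZTFacts a b Q q n)
    (hBEL : (∀ g : G, g ≠ 1 → (IsFpf Ω g ∨ FixOne Ω g ∨ FixTwo Ω g)) ∧
      (∀ g : G, FixOne Ω g → ∃ h : G, h * g * h⁻¹ ∈ Q) ∧
      (∀ g : G, FixTwo Ω g → ∃ h : G, h * g * h⁻¹ ∈ Kab G a b) ∧
      2 * Nat.card {g : G // FixTwo Ω g} = (Nat.card Q + 1) * Nat.card Q * (q - 2) ∧
      Nat.card {g : G // FixOne Ω g} = (Nat.card Q + 1) * (Nat.card Q - 1) ∧
      2 * Nat.card {g : G // IsFpf Ω g} + 2 + 2 * ((Nat.card Q + 1) * (Nat.card Q - 1))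
        + (Nat.card Q + 1) * Nat.card Q * (q - 2) = 2 * Nat.card G)
    (hBOD : (∀ u : G, IsFpf Ω u → Odd (orderOf u)) ∧
      (∀ u : G, IsFpf Ω u → ∀ g ∈ Subgroup.centralizer ({u} : Set G), g ≠ 1 → IsFpf Ω g) ∧
      (∀ s t : G, orderOf s = 2 → orderOf t = 2 → (∀ c : Ω, s • c = c → t • c ≠ c) →
        s * t ≠ 1 ∧ Odd (orderOf (s * t)) ∧ (IsFpf Ω (s * t) ∨ FixTwo Ω (s * t))))
    (hBKI : ∀ u : G, FixTwo Ω u →
      Nat.card {s : G // orderOf s = 2 ∧ s * u * s⁻¹ = u⁻¹} = q - 1) :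
    2 * Nat.card {p : G × G // orderOf p.1 = 2 ∧ orderOf p.2 = 2 ∧ IsFpf Ω (p.1 * p.2)}
      = Nat.card G * q :=
  BPAIR_of F hBEL.2.2.2.1 hBOD.2.2 hBKI

end Cfsg.Agent.Helper81.SzOrd
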