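import Mathlib
import Cfsg.Agent.Helper81.SzOrdBPAIR
import Cfsg.Agent.Helper2.SzOrdBKI
import Cfsg.Agent.Helper97.SzOrdBOD

/-!
# (BPAIR) of helper95's Suzuki-order farm (#10993), with (BOD) and (BKI) plugged in

Only the count of the elements fixing two points (fourth clause of (BEL)) is left as a hypothesis.
-/

set_option autoImplicit false
set_option linter.unusedSectionVars false

namespace Cfsg.Agent.Helper81.SzOrd

open MulAction Cfsg.Agent.Helper95.SzOrd

variable {G Ω : Type*} [Group G] [Fintype G] [MulAction G Ω] [Fintype Ω]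
variable {a b : Ω} {Q : Subgroup G} {q n : ℕ}

/-- (BPAIR) from the count of elements fixing two points -/
theorem BPAIR_of_BEL (F : ZTFacts a b Q q n)
    (hBEL : 2 * Nat.card {g : G // FixTwo Ω g} = (Nat.card Q + 1) * Nat.card Q * (q - 2)) :
    2 * Nat.card {p : G × G // orderOf p.1 = 2 ∧ orderOf p.2 = 2 ∧ IsFpf Ω (p.1 * p.2)}
      = Nat.card G * q :=
  BPAIR_of F hBEL (Cfsg.Agent.Helper97.SzOrd.BOD F).2.2 (Cfsg.Agent.Helper2.SzOrd.BKI F)

end Cfsg.Agent.Helper81.SzOrd
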