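import Mathlib
import Cfsg.Agent.Helper81.SzOrdBPAIR2
import Cfsg.Agent.Helper2.SzOrdBEL

/-!
# (BPAIR) of helper95's Suzuki-order farm (#10993), hypothesis-free
-/

set_option autoImplicit false
set_option linter.unusedSectionVars false

namespace Cfsg.Agent.Helper81.SzOrd

open MulAction Cfsg.Agent.Helper95.SzOrd

variable {G Ω : Type*} [Group G] [Fintype G] [MulAction G Ω] [Fintype Ω]

section B

variable {a b : Ω} {Q : Subgroup G} {q n : ℕ}

/-- (BPAIR) The number of ordered pairs of involutions with fixed-point-free product is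
`|G| q / 2`. -/
theorem BPAIR (F : ZTFacts a b Q q n) :
    2 * Nat.card {p : G × G // orderOf p.1 = 2 ∧ orderOf p.2 = 2 ∧ IsFpf Ω (p.1 * p.2)}
      = Nat.card G * q :=
  BPAIR_of_BEL F (Cfsg.Agent.Helper2.SzOrd.BEL F).2.2.2.1

end B

end Cfsg.Agent.Helper81.SzOrd
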