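import Mathlib
import Cfsg.Agent.Helper61.HallDefs

set_option autoImplicit false
set_option linter.style.haveILetI false

/-!
# The index formula from Brauer–Wielandt (helper81; piece (T8) of helper61's proof of S4221)

`odd_index_eq_of_bw` is the statement with the Brauer–Wielandt formula (piece (T2)) as a hypothesis.
-/

namespace Cfsg.Agent.Helper81.HallT8

open MulAction Cfsg.Agent.Helper61.Hall

/-- the Brauer–Wielandt formula (piece (T2)) for subgroups of `Γ`, as a proposition -/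
def BWStmt (Γ : Type*) [Group Γ] : Prop :=
  ∀ (X : Subgroup Γ), Odd (Nat.card X) → ∀ (s t : Γ), s * s = 1 → t * t = 1 → s * t = t * s →
    (∀ g ∈ X, s * g * s⁻¹ ∈ X) → (∀ g ∈ X, t * g * t⁻¹ ∈ X) →
    Nat.card X *
        Nat.card (X ⊓ Subgroup.centralizer {s} ⊓ Subgroup.centralizer {t} : Subgroup Γ) ^ 2 =
      Nat.card (X ⊓ Subgroup.centralizer {s} : Subgroup Γ) *
        Nat.card (X ⊓ Subgroup.centralizer {t} : Subgroup Γ) *
        Nat.card (X ⊓ Subgroup.centralizer {s * t} : Subgroup Γ)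

variable {G : Type*} [Group G] {Ω : Type*} [MulAction G Ω]

theorem odd_index_eq_of_bw (hBW : BWStmt G) (hodd : OddStab4 G Ω) {s t : G}
    {p1 p2 p3 p4 x : Ω} (cfg : Config s t p1 p2 p3 p4)
    (hfs : ∀ q, s • q = q ↔ q = p3 ∨ q = p4 ∨ q = x)
    (hfst : ∀ q, (s * t) • q = q ↔ q = p1 ∨ q = p2 ∨ q = x) :
    Nat.card (stab4 G p1 p2 p3 p4) *
        Nat.card (stab4 G p1 p2 p3 p4 ⊓ Subgroup.centralizer {t} ⊓ stabilizer G x : Subgroup G) =
      Nat.card (stab4 G p1 p2 p3 p4 ⊓ stabilizer G x : Subgroup G) *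
        Nat.card (stab4 G p1 p2 p3 p4 ⊓ Subgroup.centralizer {t} : Subgroup G) := by
  classical
  set H : Subgroup G := stab4 G p1 p2 p3 p4 with hH
  have hHodd : Odd (Nat.card H) :=
    hodd p1 p2 p3 p4 cfg.h12 cfg.h13 cfg.h14 cfg.h23 cfg.h24 cfg.h34
  haveI : Finite H := by
    apply Nat.finite_of_card_ne_zero
    intro h
    rw [h] at hHodd
    exact absurd hHodd (by decide)
  have sinv : s⁻¹ = s := inv_eq_of_mul_eq_one_right cfg.hs
  have tinv : t⁻¹ = t := inv_eq_of_mul_eq_one_right cfg.ht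
  have sx : s • x = x := (hfs x).2 (Or.inr (Or.inr rfl))
  have stx : (s * t) • x = x := (hfst x).2 (Or.inr (Or.inr rfl))
  have tx : t • x = x := by
    rw [mul_smul] at stx
    exact MulAction.injective s (stx.trans sx.symm)
  have hsH : ∀ g ∈ H, s * g * s⁻¹ ∈ H := by
    intro g hg
    rw [hH, mem_stab4] at hg ⊢
    obtain ⟨g1, g2, g3, g4⟩ := hg
    rw [sinv]
    refine ⟨?_, ?_, ?_, ?_⟩
    · rw [mul_smul, mul_smul, cfg.s1, g2, cfg.s2]
    · rw [mul_smul, mul_smul, cfg.s2, g1, cfg.s1]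
    · rw [mul_smul, mul_smul, cfg.s3, g3, cfg.s3]
    · rw [mul_smul, mul_smul, cfg.s4, g4, cfg.s4]
  have htH : ∀ g ∈ H, t * g * t⁻¹ ∈ H := by
    intro g hg
    rw [hH, mem_stab4] at hg ⊢
    obtain ⟨g1, g2, g3, g4⟩ := hg
    rw [tinv]
    refine ⟨?_, ?_, ?_, ?_⟩
    · rw [mul_smul, mul_smul, cfg.t1, g2, cfg.t2]
    · rw [mul_smul, mul_smul, cfg.t2, g1, cfg.t1]
    · rw [mul_smul, mul_smul, cfg.t3, g4, cfg.t4]
    · rw [mul_smul, mul_smul, cfg.t4, g3, cfg.t3]
  set Hx : Subgroup G := H ⊓ stabilizer G x with hHx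
  have hHxodd : Odd (Nat.card Hx) :=
    hHodd.of_dvd_nat (Subgroup.card_dvd_of_le (inf_le_left : Hx ≤ H))
  have hsHx : ∀ g ∈ Hx, s * g * s⁻¹ ∈ Hx := by
    rintro g ⟨hg, hgx⟩
    refine ⟨hsH g hg, ?_⟩
    have hgx' : g • x = x := hgx
    show (s * g * s⁻¹) • x = x
    rw [sinv, mul_smul, mul_smul, sx, hgx', sx]
  have htHx : ∀ g ∈ Hx, t * g * t⁻¹ ∈ Hx := by
    rintro g ⟨hg, hgx⟩
    refine ⟨htH g hg, ?_⟩
    have hgx' : g • x = x := hgx
    show (t * g * t⁻¹) • x = x
    rw [tinv, mul_smul, mul_smul, tx, hgx', tx]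
  have bw1 := hBW H hHodd s t cfg.hs cfg.ht cfg.hst hsH htH
  have bw2 := hBW Hx hHxodd s t cfg.hs cfg.ht cfg.hst hsHx htHx
  -- `A = H ⊓ C(s)` fixes `x`
  have hAx : ∀ g ∈ H, g * s = s * g → g • x = x := by
    intro g hg hgs
    rw [hH, mem_stab4] at hg
    obtain ⟨g1, g2, g3, g4⟩ := hg
    have h1 : s • (g • x) = g • x := by
      rw [← mul_smul, ← hgs, mul_smul, sx]
    rcases (hfs (g • x)).1 h1 with h | h | h
    · have : x = p3 := MulAction.injective g (h.trans g3.symm)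
      rw [h, this]
    · have : x = p4 := MulAction.injective g (h.trans g4.symm)
      rw [h, this]
    · exact h
  have hA'x : ∀ g ∈ H, g * (s * t) = s * t * g → g • x = x := by
    intro g hg hgs
    rw [hH, mem_stab4] at hg
    obtain ⟨g1, g2, g3, g4⟩ := hg
    have h1 : (s * t) • (g • x) = g • x := by
      rw [← mul_smul, ← hgs, mul_smul, stx]
    rcases (hfst (g • x)).1 h1 with h | h | h
    · have : x = p1 := MulAction.injective g (h.trans g1.symm)
      rw [h, this]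
    · have : x = p2 := MulAction.injective g (h.trans g2.symm)
      rw [h, this]
    · exact h
  have eA : Hx ⊓ Subgroup.centralizer {s} = H ⊓ Subgroup.centralizer {s} := by
    apply le_antisymm (inf_le_inf_right _ inf_le_left)
    rintro g ⟨hg, hgs⟩
    exact ⟨⟨hg, hAx g hg (mem_cen.1 hgs)⟩, hgs⟩
  have eA' : Hx ⊓ Subgroup.centralizer {s * t} = H ⊓ Subgroup.centralizer {s * t} := by
    apply le_antisymm (inf_le_inf_right _ inf_le_left)
    rintro g ⟨hg, hgs⟩
    exact ⟨⟨hg, hA'x g hg (mem_cen.1 hgs)⟩, hgs⟩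
  have eT : Hx ⊓ Subgroup.centralizer {t} = H ⊓ Subgroup.centralizer {t} ⊓ stabilizer G x := by
    rw [hHx, inf_right_comm]
  rw [eA, eA', eT] at bw2
  -- positivity
  have hfin : ∀ L : Subgroup G, L ≤ H → 0 < Nat.card L := by
    intro L hL
    haveI : Finite L := Finite.of_injective (Subgroup.inclusion hL) (Subgroup.inclusion_injective _)
    exact Nat.card_pos
  have pW := hfin (H ⊓ Subgroup.centralizer {s} ⊓ Subgroup.centralizer {t})
    (inf_le_left.trans inf_le_left)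
  have pA := hfin (H ⊓ Subgroup.centralizer {s}) inf_le_left
  have pA' := hfin (H ⊓ Subgroup.centralizer {s * t}) inf_le_left
  generalize Nat.card H = h at *
  generalize Nat.card (H ⊓ Subgroup.centralizer {s} ⊓ Subgroup.centralizer {t} : Subgroup G) = w at *
  generalize Nat.card (H ⊓ Subgroup.centralizer {s} : Subgroup G) = cA at *
  generalize Nat.card (H ⊓ Subgroup.centralizer {s * t} : Subgroup G) = cA' at *
  generalize Nat.card (H ⊓ Subgroup.centralizer {t} : Subgroup G) = cT at *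
  generalize Nat.card (H ⊓ Subgroup.centralizer {t} ⊓ stabilizer G x : Subgroup G) = cTx at *
  generalize Nat.card Hx = hx at *
  have hpos : 0 < w ^ 2 * cA * cA' := by positivity
  apply Nat.eq_of_mul_eq_mul_right hpos
  calc h * cTx * (w ^ 2 * cA * cA') = (h * w ^ 2) * (cA * cTx * cA') := by ring
    _ = (cA * cT * cA') * (hx * w ^ 2) := by rw [bw1, bw2]
    _ = hx * cT * (w ^ 2 * cA * cA') := by ring

end Cfsg.Agent.Helper81.HallT8
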