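import Mathlib
import Cfsg.Agent.Helper61.HallDefs
import Cfsg.Agent.Helper63.HallBW
import Cfsg.Agent.Helper81.HallT8a

set_option autoImplicit false

/-!
# The index formula from Brauer–Wielandt (helper81; piece (T8) of helper61's proof of S4221)
-/

namespace Cfsg.Agent.Helper81.HallT8

open MulAction Cfsg.Agent.Helper61.Hall

variable {G : Type*} [Group G] {Ω : Type*} [MulAction G Ω]

theorem bwStmt (Γ : Type*) [Group Γ] : BWStmt Γ :=
  fun X hX _ _ hs ht hst hsX htX =>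
    Cfsg.Agent.Helper63.HallBW.brauer_wielandt X hX hs ht hst hsX htX

theorem odd_index_eq (hodd : OddStab4 G Ω) {s t : G} {p1 p2 p3 p4 x : Ω}
    (cfg : Config s t p1 p2 p3 p4)
    (hfs : ∀ q, s • q = q ↔ q = p3 ∨ q = p4 ∨ q = x)
    (hfst : ∀ q, (s * t) • q = q ↔ q = p1 ∨ q = p2 ∨ q = x) :
    Nat.card (stab4 G p1 p2 p3 p4) *
        Nat.card (stab4 G p1 p2 p3 p4 ⊓ Subgroup.centralizer {t} ⊓ stabilizer G x : Subgroup G) =
      Nat.card (stab4 G p1 p2 p3 p4 ⊓ stabilizer G x : Subgroup G) *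
        Nat.card (stab4 G p1 p2 p3 p4 ⊓ Subgroup.centralizer {t} : Subgroup G) :=
  odd_index_eq_of_bw (bwStmt G) hodd cfg hfs hfst

end Cfsg.Agent.Helper81.HallT8
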