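import Cfsg.Agent.Helper81.TwoPB4Core
import Cfsg.Agent.Helper63.TwoPAB
import Cfsg.Agent.Helper12.TwoPB3
import Cfsg.Agent.Helper41.TwoPB2

/-!
# (B4) of helper61's S4707: the standard form of the principal block; only (B2) is still a
hypothesis here (`exists_std'`).
-/

set_option autoImplicit false
set_option linter.unusedSectionVars false
set_option linter.unusedVariables false
set_option linter.style.haveILetI false

namespace Cfsg.Agent.Helper81.TwoP

open Cfsg MulAction Cfsg.Agent.Helper66.PD2 Cfsg.Agent.Helper66.BL Cfsg.Agent.Helper61.TwoP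
open scoped ComplexConjugate

/-- (B4), with only (B2) as a hypothesis. -/
theorem exists_std' {G : Type*} [Group G] [Finite G] {p : ℕ} [Fact p.Prime] (P : Sylow p G)
    (hp5 : 5 ≤ p) (hP : Nat.card (P : Subgroup G) = p)
    (hC : Subgroup.centralizer ((P : Subgroup G) : Set G) = P)
    (hN : Nat.card (Subgroup.normalizer ((P : Subgroup G) : Set G)) = 2 * p)
    (hB2 : ∀ {M : Ideal AlgInt} {X Y : Set (IrrCharacter G)} {a : IrrCharacter G → ℤ} {d δ : ℤ}
      {ζ : ((P : Subgroup G) →* ℂˣ) → IrrCharacter G}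
      (D : BLData M P 2 X Y a d δ ζ) (hab : IsMulCommutative P) (y : G)
      (hy : y ∈ (P : Subgroup G)) (hy1 : y ≠ 1),
      ∑ᶠ η ∈ Y, (η : G → ℂ) y = (Nat.card Y : ℂ) * (d : ℂ) - (δ : ℂ)) :
    ∃ (ε δ : ℤ) (χ1 : IrrCharacter G) (Y : Set (IrrCharacter G)), Std G p ε δ χ1 Y :=
  exists_std_of P hp5 hP hC hN
    (fun g hg => Cfsg.Agent.Helper63.TwoP.exists_conj_mem_of_dvd P hP hC g hg) hB2
    (fun D => Cfsg.Agent.Helper12.TwoP.norm_cases D hP hp5)

/-- (B4) -/
theorem exists_std {G : Type*} [Group G] [Finite G] {p : ℕ} [Fact p.Prime] (P : Sylow p G)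
    (hp5 : 5 ≤ p) (hP : Nat.card (P : Subgroup G) = p)
    (hC : Subgroup.centralizer ((P : Subgroup G) : Set G) = P)
    (hN : Nat.card (Subgroup.normalizer ((P : Subgroup G) : Set G)) = 2 * p) :
    ∃ (ε δ : ℤ) (χ1 : IrrCharacter G) (Y : Set (IrrCharacter G)), Std G p ε δ χ1 Y :=
  exists_std' P hp5 hP hC hN
    (fun D hab y hy hy1 => Cfsg.Agent.Helper41.TwoP.sum_Y_apply D hab y hy hy1)

end Cfsg.Agent.Helper81.TwoP
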