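import Mathlib
import Cfsg.Agent.Helper81.CliffordInd
import Cfsg.Agent.Helper81.RootCount
import Cfsg.Agent.Helper74.DegP
import Cfsg.Agent.Helper15.LinChar

/-!
# Characters of degree prime to `p` and the derived subgroup of a `p`-subgroup

If `χ` is a character of `G` of degree prime to `p`, `P` a `p`-subgroup and `M ≤ [P, P]`, then
`χ_M` contains the principal character: `χ_P` has a linear constituent, which is trivial on `P'`.
-/

set_option autoImplicit false
set_option linter.unusedSectionVars false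

namespace Cfsg.Agent.Helper81

open Cfsg Cfsg.Agent.Helper15
open scoped ComplexConjugate
open scoped commutatorElement

universe u

variable {G : Type u} [Group G] [Fintype G]

/-- A character of `p'`-degree has a linear constituent on every `p`-subgroup. -/
theorem exists_linear_constituent_of_not_dvd (p : ℕ) [hp : Fact p.Prime] (P : Subgroup G)
    [Fintype P] (hP : IsPGroup p P) [Fintype (IrrCharacter P)] {χ : G → ℂ} (hχ : IsCharacter G χ)
    (hdeg : ¬ p ∣ charDegree χ) :
    ∃ ξ : IrrCharacter P, classInner (fun t : P => χ t) (ξ : P → ℂ) ≠ 0 ∧ (ξ : P → ℂ) 1 = 1 := by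
  classical
  have hχP : IsCharacter P (fun t : P => χ t) := Helper74.isCharacter_restrict P hχ
  choose m hm using fun ξ : IrrCharacter P => Helper74.isCharacter_inner_irr_nat hχP ξ
  have hdec := Helper74.isCharacter_eq_sum_irr hχP
  have h1 := congrFun hdec 1
  simp only [Finset.sum_apply, Pi.smul_apply, smul_eq_mul, hm] at h1
  have hone : ((1 : P) : G) = 1 := rfl
  rw [hone, ← Helper74.charDegree_cast hχ] at h1
  have h2 : ∀ ξ : IrrCharacter P, (ξ : P → ℂ) 1 = (charDegree (ξ : P → ℂ) : ℂ) := fun ξ =>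
    (Helper74.charDegree_cast (Helper74.irr_isCharacter ξ)).symm
  simp only [h2] at h1
  have h3 : charDegree χ = ∑ ξ : IrrCharacter P, m ξ * charDegree (ξ : P → ℂ) := by
    exact_mod_cast h1
  by_contra hcon
  push Not at hcon
  apply hdeg
  rw [h3]
  apply Finset.dvd_sum
  intro ξ _
  by_cases hmξ : m ξ = 0
  · rw [hmξ, zero_mul]; exact dvd_zero p
  · have hne : classInner (fun t : P => χ t) (ξ : P → ℂ) ≠ 0 := by
      rw [hm ξ]; exact_mod_cast hmξ
    have hξ1 := hcon ξ hne
    have hdvd : charDegree (ξ : P → ℂ) ∣ Nat.card P := Helper74.charDegree_dvd_card ξ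
    obtain ⟨a, ha⟩ := IsPGroup.iff_card.mp hP
    rw [ha] at hdvd
    obtain ⟨i, _, hi⟩ := (Nat.dvd_prime_pow hp.out).mp hdvd
    have hi0 : i ≠ 0 := by
      rintro rfl
      apply hξ1
      rw [h2 ξ, hi, pow_zero, Nat.cast_one]
    refine Dvd.dvd.mul_left ?_ _
    rw [hi]
    exact dvd_pow_self p hi0

/-- A linear character of `P` is trivial on elements of `[P, P]`. -/
theorem linear_eq_one_of_mem_commutator (P : Subgroup G) {ξ : P → ℂ} (hξ : IsCharacter P ξ)
    (h1 : ξ 1 = 1) (x : P) (hx : (x : G) ∈ ⁅P, P⁆) : ξ x = 1 := by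
  let φ : P →* ℂˣ := linCharUnits hξ h1
  have hle : ⁅P, P⁆ ≤ φ.ker.map P.subtype := by
    rw [Subgroup.commutator_le]
    intro a ha b hb
    refine ⟨⁅(⟨a, ha⟩ : P), (⟨b, hb⟩ : P)⁆, ?_, rfl⟩
    rw [SetLike.mem_coe, MonoidHom.mem_ker, map_commutatorElement]
    exact commutatorElement_eq_one_iff_commute.mpr (Commute.all _ _)
  obtain ⟨y, hy, hyx⟩ := hle hx
  have hxy : y = x := Subtype.ext hyx
  rw [← hxy]
  have := MonoidHom.mem_ker.mp hy
  have h2 : ((φ y : ℂˣ) : ℂ) = ξ y := linCharUnits_apply hξ h1 y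
  rw [← h2, this]
  rfl

/-- If `χ` has degree prime to `p`, `P` is a `p`-subgroup and `M ≤ [P, P]`, then `χ_M` contains
the principal character of `M`. -/
theorem inner_one_ne_zero_of_le_commutator (p : ℕ) [hp : Fact p.Prime] (P : Subgroup G)
    [Fintype P] (hP : IsPGroup p P) (M : Subgroup G) [Fintype M] (hMP : M ≤ ⁅P, P⁆)
    {χ : G → ℂ} (hχ : IsCharacter G χ) (hdeg : ¬ p ∣ charDegree χ) :
    classInner (fun m : M => χ m) (fun _ : M => (1 : ℂ)) ≠ 0 := by
  classical
  let _ := Helper74.irrFintype P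
  have hPP : ⁅P, P⁆ ≤ P := by
    rw [Subgroup.commutator_le]
    intro a ha b hb
    exact P.mul_mem (P.mul_mem (P.mul_mem ha hb) (P.inv_mem ha)) (P.inv_mem hb)
  have hMP' : M ≤ P := hMP.trans hPP
  obtain ⟨ξ, hξne, hξ1⟩ := exists_linear_constituent_of_not_dvd p P hP hχ hdeg
  have hθ : IsCharacter M (fun _ : M => (1 : ℂ)) :=
    Helper74.isCharacter_of_isIrr isIrrCharacter_one
  obtain ⟨m, f, e, hm, hf, he, hsum⟩ := exists_nat_inner_restrict M P hMP' hχ hθ
  rw [he]
  have hfξ : f ξ = 1 := by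
    have h1 : classInner (resTo M P hMP' (ξ : P → ℂ)) (fun _ : M => (1 : ℂ)) = 1 := by
      have h2 : resTo M P hMP' (ξ : P → ℂ) = fun _ : M => (1 : ℂ) := by
        funext x
        rw [resTo_apply]
        exact linear_eq_one_of_mem_commutator P (Helper74.irr_isCharacter ξ) hξ1 _ (hMP x.2)
      rw [h2]
      exact Helper74.irr_inner_self (⟨fun _ : M => (1 : ℂ), isIrrCharacter_one⟩ : IrrCharacter M)
    rw [hf ξ] at h1
    exact_mod_cast h1
  have hmξ : m ξ ≠ 0 := by
    intro h0
    apply hξne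
    rw [hm ξ, h0, Nat.cast_zero]
  have hle : m ξ * f ξ ≤ e := by
    rw [hsum]
    exact Finset.single_le_sum (f := fun ξ => m ξ * f ξ) (fun _ _ => Nat.zero_le _)
      (Finset.mem_univ ξ)
  rw [hfξ, mul_one] at hle
  have : e ≠ 0 := by omega
  exact_mod_cast this

end Cfsg.Agent.Helper81
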