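import Mathlib
import Cfsg.Agent.Helper82.OddIndexReal
import Cfsg.Agent.Helper82.GaloisConj

/-!
# Galois automorphisms of 2-power order and odd index normal subgroups, part 1

* `sum_eq_sum_fixed_of_iterate_two_pow`: a `ZMod 2`-valued sum over a finite set invariant
  under a map of 2-power order equals the sum over the fixed points.
* `exists_odd_order_mul_mem`: modulo a normal subgroup of odd index every element is congruent
  to an element of odd order.
* `galIrr`: the action of `g ↦ g ^ k` on irreducible characters.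
* `eq_one_of_gal_fixed_of_kernel`.
-/

set_option autoImplicit false
set_option linter.unusedSectionVars false

namespace Cfsg.Agent.Helper81

open Cfsg
open scoped ComplexConjugate

universe u

section perm

variable {α : Type*} [DecidableEq α]

theorem iterate_mem_of_mem (s : Finset α) (f : α → α) (hf : ∀ a ∈ s, f a ∈ s) (n : ℕ) :
    ∀ a ∈ s, f^[n] a ∈ s := by
  induction n with
  | zero => intro a ha; exact ha
  | succ n ih =>
    intro a ha
    rw [Function.iterate_succ_apply']
    exact hf _ (ih a ha)

theorem iterate_invariant_of_mem {β : Type*} (F : α → β) (s : Finset α) (f : α → α)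
    (hf : ∀ a ∈ s, f a ∈ s) (hF : ∀ a ∈ s, F (f a) = F a) (n : ℕ) :
    ∀ a ∈ s, F (f^[n] a) = F a := by
  induction n with
  | zero => intro a _; rfl
  | succ n ih =>
    intro a ha
    rw [Function.iterate_succ_apply', hF _ (iterate_mem_of_mem s f hf n a ha)]
    exact ih a ha

/-- A `ZMod 2`-valued sum, over a finite set stable under a map of 2-power order that leaves
the summand invariant, equals the sum over the fixed points of the map. -/
theorem sum_eq_sum_fixed_of_iterate_two_pow (F : α → ZMod 2) :
    ∀ (e : ℕ) (s : Finset α) (f : α → α), (∀ a ∈ s, f a ∈ s) → (∀ a ∈ s, f^[2 ^ e] a = a) →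
      (∀ a ∈ s, F (f a) = F a) →
      ∑ a ∈ s, F a = ∑ a ∈ s.filter (fun a => f a = a), F a := by
  intro e
  induction e with
  | zero =>
    intro s f _ hfix _
    have : s.filter (fun a => f a = a) = s := by
      apply Finset.filter_true_of_mem
      intro a ha
      have := hfix a ha
      simpa using this
    rw [this]
  | succ e ih =>
    intro s f hf hfix hF
    set τ : α → α := f^[2 ^ e] with hτ
    have hτmem : ∀ a ∈ s, τ a ∈ s := iterate_mem_of_mem s f hf _
    have hFτ : ∀ a ∈ s, F (τ a) = F a := iterate_invariant_of_mem F s f hf hF _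
    have hττ : ∀ a ∈ s, τ (τ a) = a := by
      intro a ha
      rw [hτ, ← Function.iterate_add_apply]
      have : 2 ^ e + 2 ^ e = 2 ^ (e + 1) := by ring
      rw [this]
      exact hfix a ha
    have hsplit := Finset.sum_filter_add_sum_filter_not s (fun a => τ a = a) F
    have hzero : ∑ a ∈ s.filter (fun a => ¬ τ a = a), F a = 0 := by
      refine Finset.sum_involution (fun a _ => τ a) ?_ ?_ ?_ ?_
      · intro a ha
        rw [hFτ a (Finset.mem_filter.mp ha).1]
        exact CharTwo.add_self_eq_zero _
      · intro a ha _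
        exact (Finset.mem_filter.mp ha).2
      · intro a ha
        rw [Finset.mem_filter] at ha ⊢
        refine ⟨hτmem a ha.1, ?_⟩
        rw [hττ a ha.1]
        exact fun h => ha.2 h.symm
      · intro a ha
        exact hττ a (Finset.mem_filter.mp ha).1
    rw [hzero, add_zero] at hsplit
    rw [← hsplit]
    have hcomm : ∀ a, τ (f a) = f (τ a) := by
      intro a
      rw [hτ, ← Function.iterate_succ_apply, Function.iterate_succ_apply']
    rw [ih (s.filter (fun a => τ a = a)) f ?_ ?_ ?_]
    · congr 1
      ext a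
      simp only [Finset.mem_filter]
      constructor
      · rintro ⟨⟨ha, _⟩, hfa⟩
        exact ⟨ha, hfa⟩
      · rintro ⟨ha, hfa⟩
        exact ⟨⟨ha, Function.iterate_fixed hfa _⟩, hfa⟩
    · intro a ha
      rw [Finset.mem_filter] at ha ⊢
      refine ⟨hf a ha.1, ?_⟩
      rw [hcomm, ha.2]
    · intro a ha
      exact (Finset.mem_filter.mp ha).2
    · intro a ha
      exact hF a (Finset.mem_filter.mp ha).1

end perm

section lift

variable {G : Type u} [Group G] [Finite G]

/-- Modulo a normal subgroup of odd index, every element is congruent to a power of itself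
of odd order. -/
theorem exists_odd_order_mul_mem (N : Subgroup G) [N.Normal] (hodd : Odd N.index) (g : G) :
    ∃ g₀ : G, Odd (orderOf g₀) ∧ g₀⁻¹ * g ∈ N ∧ ∃ E : ℕ, g₀ = g ^ E := by
  obtain ⟨a, u, hu, hcard⟩ := Nat.exists_eq_two_pow_mul_odd (n := Nat.card G) Nat.card_pos.ne'
  set m := N.index with hm
  have hmpos : 0 < m := Nat.pos_of_ne_zero (Subgroup.index_ne_zero_of_finite)
  have hcop : Nat.Coprime (2 ^ a) m :=
    Nat.Coprime.pow_left a (Nat.coprime_two_left.mpr hodd)
  have hE := Nat.ModEq.pow_totient hcop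
  set E := (2 ^ a) ^ Nat.totient m with hEdef
  have hφ : 0 < Nat.totient m := Nat.totient_pos.mpr hmpos
  have hEpos : 1 ≤ E := Nat.one_le_pow _ _ (Nat.pos_of_ne_zero (by positivity))
  refine ⟨g ^ E, ?_, ?_, E, rfl⟩
  · -- odd order
    have h1 : (g ^ E) ^ u = 1 := by
      rw [← pow_mul]
      have h2 : Nat.card G ∣ E * u := by
        rw [hcard]
        apply Nat.mul_dvd_mul _ (dvd_refl u)
        rw [hEdef]
        exact dvd_pow_self _ hφ.ne'
      obtain ⟨c, hc⟩ := h2
      rw [hc, pow_mul, pow_card_eq_one', one_pow]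
    exact Odd.of_dvd_nat hu (orderOf_dvd_of_pow_eq_one h1)
  · -- congruent mod N
    have hdvd : m ∣ E - 1 := (Nat.modEq_iff_dvd' hEpos).mp hE.symm
    obtain ⟨c, hc⟩ := hdvd
    have h3 : (g ^ E)⁻¹ * g = ((g ^ m) ^ c)⁻¹ := by
      rw [← pow_mul, ← hc]
      have : g ^ E = g ^ (E - 1) * g := by
        rw [← pow_succ]; congr 1; omega
      rw [this]
      group
    rw [h3]
    exact N.inv_mem (N.pow_mem (Subgroup.pow_index_mem N g) c)

end lift

section gal

variable (G : Type u) [Group G] [Finite G]

/-- The action of the Galois automorphism induced by `g ↦ g ^ k` on `Irr G`. -/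
noncomputable def galIrr (k : ℕ) (hk : k.Coprime (Nat.card G)) (β : IrrCharacter G) :
    IrrCharacter G :=
  ⟨fun g => (β : G → ℂ) (g ^ k), Helper82.galoisConj_isIrrCharacter β.2 k hk⟩

variable {G}

theorem galIrr_apply (k : ℕ) (hk : k.Coprime (Nat.card G)) (β : IrrCharacter G) (g : G) :
    (galIrr G k hk β : G → ℂ) g = (β : G → ℂ) (g ^ k) := rfl

theorem galIrr_iterate (k : ℕ) (hk : k.Coprime (Nat.card G)) (m : ℕ) (β : IrrCharacter G)
    (g : G) : (((galIrr G k hk)^[m] β : IrrCharacter G) : G → ℂ) g = (β : G → ℂ) (g ^ (k ^ m)) := by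
  induction m generalizing g with
  | zero => simp
  | succ m ih =>
    rw [Function.iterate_succ_apply', galIrr_apply, ih, ← pow_mul, pow_succ, mul_comm]

theorem pow_pow_eq_self_of_modEq {k r : ℕ} (h : k ^ r ≡ 1 [MOD Nat.card G]) (g : G) :
    g ^ (k ^ r) = g := by
  conv_rhs => rw [← pow_one g]
  rw [pow_eq_pow_iff_modEq]
  exact h.of_dvd (orderOf_dvd_natCard g)

theorem galIrr_iterate_eq_self (k : ℕ) (hk : k.Coprime (Nat.card G)) {r : ℕ}
    (h : k ^ r ≡ 1 [MOD Nat.card G]) (β : IrrCharacter G) : (galIrr G k hk)^[r] β = β := by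
  apply Subtype.ext
  funext g
  rw [galIrr_iterate, pow_pow_eq_self_of_modEq h]

theorem galIrr_eq_self_iff (k : ℕ) (hk : k.Coprime (Nat.card G)) (β : IrrCharacter G) :
    galIrr G k hk β = β ↔ ∀ g : G, (β : G → ℂ) (g ^ k) = (β : G → ℂ) g := by
  constructor
  · intro h g
    have := congrArg (fun γ : IrrCharacter G => (γ : G → ℂ) g) h
    exact this
  · intro h
    apply Subtype.ext
    funext g
    exact h g

end gal

section kernel

variable {G : Type u} [Group G] [Fintype G] (N : Subgroup G) [hN : N.Normal] [Fintype N]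

/-- An irreducible character fixed by a Galois automorphism inverting odd-order roots of unity,
with the odd-index normal subgroup `N` in its kernel, is principal. -/
theorem eq_one_of_gal_fixed_of_kernel (hodd : Odd N.index) (k : ℕ)
    (hk₂ : ∀ g : G, Odd (orderOf g) → g ^ k = g⁻¹) {β : G → ℂ} (hβ : IsIrrCharacter G β)
    (hfix : ∀ g : G, β (g ^ k) = β g) (hker : ∀ n : N, β n = β 1) (g : G) : β g = 1 := by
  have hβc : IsCharacter G β := Helper74.isCharacter_of_isIrr hβ
  refine Helper82.eq_one_of_real_of_kernel N hodd hβ (fun g => ?_) hker g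
  obtain ⟨g₀, hg₀, hmem, -⟩ := exists_odd_order_mul_mem N hodd g
  have h1 : β g = β g₀ := by
    have : g = g₀ * (g₀⁻¹ * g) := by group
    rw [this]
    exact Helper80.IsCharacter.mul_mem_ker hβc g₀ _ (hker ⟨_, hmem⟩)
  rw [h1]
  have h2 : conj (β g₀) = β g₀ := by
    rw [← Helper74.char_inv hβc, ← hk₂ g₀ hg₀, hfix]
  exact Complex.conj_eq_iff_im.mp h2

end kernel

end Cfsg.Agent.Helper81
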