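import Mathlib
import Cfsg.Agent.Helper81.GalPar1
import Cfsg.Agent.Helper15.CliffordCorr

/-!
# Galois automorphisms of 2-power order and odd index normal subgroups, part 2

* `gal_parity_inner_restrict`: the parity lemma for characters fixed by the automorphism;
* `gal_fixed_over_unique`: uniqueness of the fixed irreducible character over a character of `N`;
* `exists_gal_fixed_over`: existence of a fixed irreducible character over a fixed character of `N`.
-/

set_option autoImplicit false
set_option linter.unusedSectionVars false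

namespace Cfsg.Agent.Helper81

open Cfsg
open scoped ComplexConjugate

universe u

section

variable {G : Type u} [Group G] [Fintype G] (N : Subgroup G) [hN : N.Normal] [Fintype N]

/-- The multiplicity of a Galois conjugate in a fixed class function. -/
theorem classInner_galIrr_of_fixed (k : ℕ) (hk : k.Coprime (Nat.card G)) {ψ : G → ℂ}
    (hfix : ∀ g : G, ψ (g ^ k) = ψ g) (β : IrrCharacter G) :
    classInner ψ (galIrr G k hk β : G → ℂ) = classInner ψ (β : G → ℂ) := by
  classical
  unfold classInner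
  congr 1
  have h1 : ∀ g : G, ψ g * conj ((galIrr G k hk β : G → ℂ) g) =
      ψ (g ^ k) * conj ((β : G → ℂ) (g ^ k)) := by
    intro g
    rw [hfix, galIrr_apply]
  rw [Finset.sum_congr rfl (fun g _ => h1 g)]
  exact Helper82.sum_pow_coprime_eq Finset.univ k hk (fun g _ => Finset.mem_univ _)
    (fun g => ψ g * conj ((β : G → ℂ) g))

/-- The multiplicity of the principal character of `N` in the restriction of a Galois
conjugate. -/
theorem classInner_restrict_galIrr_one (k : ℕ) (hk : k.Coprime (Nat.card G))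
    (β : IrrCharacter G) :
    classInner (fun n : N => (galIrr G k hk β : G → ℂ) n) (fun _ => (1 : ℂ)) =
      classInner (fun n : N => (β : G → ℂ) n) (fun _ => (1 : ℂ)) := by
  classical
  have hkN : k.Coprime (Nat.card N) :=
    hk.coprime_dvd_right (Subgroup.card_subgroup_dvd_card N)
  unfold classInner
  congr 1
  have h1 : ∀ n : N, (galIrr G k hk β : G → ℂ) (n : G) * conj (1 : ℂ) =
      (β : G → ℂ) ((n ^ k : N) : G) * conj (1 : ℂ) := by
    intro n
    rw [galIrr_apply, Subgroup.coe_pow]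
  rw [Finset.sum_congr rfl (fun n _ => h1 n)]
  exact Helper82.sum_pow_coprime_eq Finset.univ k hkN (fun g _ => Finset.mem_univ _)
    (fun n : N => (β : G → ℂ) (n : G) * conj (1 : ℂ))

/-- **Parity lemma**: for a character `ψ` of `G` fixed by a Galois automorphism of 2-power order
inverting the odd-order roots of unity, and `N ⊴ G` of odd index, the multiplicities `⟨ψ, 1_G⟩`
and `⟨ψ_N, 1_N⟩` have the same parity. -/
theorem gal_parity_inner_restrict (hodd : Odd N.index) (k e : ℕ) (hk : k.Coprime (Nat.card G))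
    (hke : k ^ (2 ^ e) ≡ 1 [MOD Nat.card G])
    (hk₂ : ∀ g : G, Odd (orderOf g) → g ^ k = g⁻¹) {ψ : G → ℂ} (hψ : IsCharacter G ψ)
    (hfix : ∀ g : G, ψ (g ^ k) = ψ g) :
    ∃ a b : ℕ, classInner ψ (fun _ => (1 : ℂ)) = a ∧
      classInner (fun n : N => ψ n) (fun _ => (1 : ℂ)) = b ∧ (a : ZMod 2) = (b : ZMod 2) := by
  classical
  let _ := Helper74.irrFintype G
  choose m hm using fun β : IrrCharacter G => Helper74.isCharacter_inner_irr_nat hψ β
  choose c hc using fun β : IrrCharacter G =>
    Helper74.isCharacter_inner_irr_nat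
      (Helper74.isCharacter_restrict N (Helper74.irr_isCharacter β)) (Helper81.trivialIrr N)
  have hdec := Helper74.isCharacter_eq_sum_irr hψ
  have hmgal : ∀ β : IrrCharacter G, m (galIrr G k hk β) = m β := by
    intro β
    have h1 := classInner_galIrr_of_fixed k hk hfix β
    rw [hm, hm] at h1
    exact_mod_cast h1
  have hcgal : ∀ β : IrrCharacter G, c (galIrr G k hk β) = c β := by
    intro β
    have h1 := classInner_restrict_galIrr_one N k hk β
    have h2 := hc (galIrr G k hk β)
    have h3 := hc β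
    change classInner (fun n : N => (galIrr G k hk β : G → ℂ) n) (fun _ => (1 : ℂ)) = _ at h2
    change classInner (fun n : N => (β : G → ℂ) n) (fun _ => (1 : ℂ)) = _ at h3
    rw [h2, h3] at h1
    exact_mod_cast h1
  have hres : classInner (fun n : N => ψ n) (fun _ => (1 : ℂ)) =
      ((∑ β : IrrCharacter G, m β * c β : ℕ) : ℂ) := by
    have h1 : (fun n : N => ψ n) =
        ∑ β : IrrCharacter G, (m β : ℂ) • (fun n : N => (β : G → ℂ) n) := by
      funext n
      conv_lhs => rw [hdec]
      simp only [Finset.sum_apply, Pi.smul_apply, smul_eq_mul, hm]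
    rw [h1, Helper74.classInner_sum_left]
    push_cast
    refine Finset.sum_congr rfl fun β _ => ?_
    rw [Helper74.classInner_smul_left]
    congr 1
    exact hc β
  refine ⟨m (Helper81.trivialIrr G), ∑ β : IrrCharacter G, m β * c β,
    hm (Helper81.trivialIrr G), hres, ?_⟩
  have hctriv : c (Helper81.trivialIrr G) = 1 := by
    have h1 := hc (Helper81.trivialIrr G)
    have h2 : classInner (fun n : N => (Helper81.trivialIrr G : G → ℂ) n)
        (Helper81.trivialIrr N : N → ℂ) = 1 :=
      Helper74.irr_inner_self (Helper81.trivialIrr N)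
    rw [h2] at h1
    exact_mod_cast h1.symm
  push_cast
  rw [sum_eq_sum_fixed_of_iterate_two_pow (fun β : IrrCharacter G => (m β : ZMod 2) * (c β : ZMod 2))
    e Finset.univ (galIrr G k hk) (fun _ _ => Finset.mem_univ _)
    (fun β _ => galIrr_iterate_eq_self k hk hke β)
    (fun β _ => by simp only [hmgal, hcgal])]
  have htrivfix : galIrr G k hk (Helper81.trivialIrr G) = Helper81.trivialIrr G := by
    apply Subtype.ext; funext g; rfl
  have htrivmem : Helper81.trivialIrr G ∈
      (Finset.univ : Finset (IrrCharacter G)).filter (fun a => galIrr G k hk a = a) :=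
    Finset.mem_filter.mpr ⟨Finset.mem_univ _, htrivfix⟩
  rw [Finset.sum_eq_single_of_mem (Helper81.trivialIrr G) htrivmem]
  · rw [hctriv]; simp
  · intro β hβ hne
    have hfixβ := (galIrr_eq_self_iff k hk β).mp (Finset.mem_filter.mp hβ).2
    have hc0 : c β = 0 := by
      by_contra hcne
      have h1 : classInner (fun n : N => (β : G → ℂ) n) (fun _ => (1 : ℂ)) ≠ 0 := by
        have := hc β
        change classInner (fun n : N => (β : G → ℂ) n) (fun _ => (1 : ℂ)) = _ at this
        rw [this]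
        exact_mod_cast hcne
      have hker := Helper82.const_of_inner_restrict_one_ne_zero N β.2 h1
      have hone := eq_one_of_gal_fixed_of_kernel N hodd k hk₂ β.2 hfixβ hker
      apply hne
      apply Subtype.ext
      funext g
      exact hone g
    rw [hc0]
    simp

/-- **Uniqueness**: two irreducible characters of `G`, fixed by the Galois automorphism and lying
over the same irreducible character of the odd-index normal subgroup `N`, are equal. -/
theorem gal_fixed_over_unique (hodd : Odd N.index) (k e : ℕ) (hk : k.Coprime (Nat.card G))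
    (hke : k ^ (2 ^ e) ≡ 1 [MOD Nat.card G])
    (hk₂ : ∀ g : G, Odd (orderOf g) → g ^ k = g⁻¹) {φ : N → ℂ} (hφ : IsIrrCharacter N φ)
    (χ₁ χ₂ : IrrCharacter G)
    (hf₁ : ∀ g : G, (χ₁ : G → ℂ) (g ^ k) = (χ₁ : G → ℂ) g)
    (hf₂ : ∀ g : G, (χ₂ : G → ℂ) (g ^ k) = (χ₂ : G → ℂ) g)
    (h₁ : classInner (fun n : N => (χ₁ : G → ℂ) n) φ ≠ 0)
    (h₂ : classInner (fun n : N => (χ₂ : G → ℂ) n) φ ≠ 0) : χ₁ = χ₂ := by
  classical
  by_contra hne
  obtain ⟨e₁, he₁⟩ := Helper74.isCharacter_inner_irr_nat
    (Helper74.isCharacter_restrict N (Helper74.irr_isCharacter χ₁)) ⟨φ, hφ⟩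
  obtain ⟨e₂, he₂⟩ := Helper74.isCharacter_inner_irr_nat
    (Helper74.isCharacter_restrict N (Helper74.irr_isCharacter χ₂)) ⟨φ, hφ⟩
  simp only at he₁ he₂
  have he₁0 : e₁ ≠ 0 := by
    rintro rfl; apply h₁; rw [he₁]; simp
  have he₂0 : e₂ ≠ 0 := by
    rintro rfl; apply h₂; rw [he₂]; simp
  set t := (Helper15.conjOrbit N φ).card with ht
  have key : ∀ (χ χ' : IrrCharacter G) (d d' : ℕ),
      (∀ g : G, (χ' : G → ℂ) (g ^ k) = (χ' : G → ℂ) g) →
      (∀ g : G, (χ : G → ℂ) (g ^ k) = (χ : G → ℂ) g) →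
      classInner (fun n : N => (χ : G → ℂ) n) φ = d →
      classInner (fun n : N => (χ' : G → ℂ) n) φ = d' → d ≠ 0 → d' ≠ 0 →
      ∃ a : ℕ, classInner (χ : G → ℂ) (χ' : G → ℂ) = a ∧
        (a : ZMod 2) = ((d * d' * t : ℕ) : ZMod 2) := by
    intro χ χ' d d' hr' hr he he' he0 he'0
    have hψ : IsCharacter G (fun g => (χ : G → ℂ) g * conj ((χ' : G → ℂ) g)) :=
      Helper74.isCharacter_mul (Helper74.irr_isCharacter χ)
        (Helper74.isCharacter_conj (Helper74.irr_isCharacter χ'))
    have hψr : ∀ g : G, (fun g => (χ : G → ℂ) g * conj ((χ' : G → ℂ) g)) (g ^ k) =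
        (fun g => (χ : G → ℂ) g * conj ((χ' : G → ℂ) g)) g := by
      intro g
      simp only [hr g, hr' g]
    obtain ⟨a, b, ha, hb, hab⟩ := gal_parity_inner_restrict N hodd k e hk hke hk₂ hψ hψr
    have ha' : classInner (χ : G → ℂ) (χ' : G → ℂ) = a := by
      rw [← ha]
      unfold classInner
      congr 1
      refine Finset.sum_congr rfl fun g _ => ?_
      rw [map_one, mul_one]
    have hb' : classInner (fun n : N => (χ : G → ℂ) n) (fun n : N => (χ' : G → ℂ) n) = b := by
      rw [← hb]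
      unfold classInner
      congr 1
      refine Finset.sum_congr rfl fun n _ => ?_
      rw [map_one, mul_one]
    rw [Helper82.inner_restrict_restrict_of_over N hφ χ.2 χ'.2 he he' he0 he'0] at hb'
    have hb'' : d * d' * t = b := by exact_mod_cast hb'
    exact ⟨a, ha', by rw [hab, hb'']⟩
  obtain ⟨a₁₁, ha₁₁, hp₁₁⟩ := key χ₁ χ₁ e₁ e₁ hf₁ hf₁ he₁ he₁ he₁0 he₁0
  obtain ⟨a₂₂, ha₂₂, hp₂₂⟩ := key χ₂ χ₂ e₂ e₂ hf₂ hf₂ he₂ he₂ he₂0 he₂0
  obtain ⟨a₁₂, ha₁₂, hp₁₂⟩ := key χ₁ χ₂ e₁ e₂ hf₂ hf₁ he₁ he₂ he₁0 he₂0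
  rw [Helper74.irr_inner_self] at ha₁₁ ha₂₂
  rw [Helper74.irr_inner_ne hne] at ha₁₂
  have h11 : a₁₁ = 1 := by exact_mod_cast ha₁₁.symm
  have h22 : a₂₂ = 1 := by exact_mod_cast ha₂₂.symm
  have h12 : a₁₂ = 0 := by exact_mod_cast ha₁₂.symm
  subst h11 h22 h12
  push_cast at hp₁₁ hp₂₂ hp₁₂
  have hcontra : (1 : ZMod 2) = 0 := by
    calc (1 : ZMod 2) = ((e₁ : ZMod 2) * e₁ * t) * ((e₂ : ZMod 2) * e₂ * t) := by
          rw [← hp₁₁, ← hp₂₂]; ring
      _ = ((e₁ : ZMod 2) * e₂ * t) * ((e₁ : ZMod 2) * e₂ * t) := by ring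
      _ = 0 := by rw [← hp₁₂]; ring
  exact one_ne_zero hcontra

end

end Cfsg.Agent.Helper81
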