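import Mathlib
import Cfsg.Agent.Helper81.GalPar2
import Cfsg.Agent.Helper15.IndChar

/-!
# Galois automorphisms of 2-power order and odd index normal subgroups, part 3

* `exists_gal_fixed_over`: if `N ⊴ G` has odd index, `σ` has 2-power order and `θ ∈ Irr N` is
  `σ`-fixed, then some `σ`-fixed `χ ∈ Irr G` lies over `θ`.
-/

set_option autoImplicit false
set_option linter.unusedSectionVars false

namespace Cfsg.Agent.Helper81

open Cfsg
open scoped ComplexConjugate

universe u

section

variable {G : Type u} [Group G] [Fintype G] (N : Subgroup G) [hN : N.Normal] [Fintype N]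

/-- `g ^ k ∈ N` iff `g ∈ N` for `k` coprime to the group order. -/
theorem pow_mem_iff_of_coprime (k : ℕ) (hk : k.Coprime (Nat.card G)) (g : G) :
    g ^ k ∈ N ↔ g ∈ N := by
  constructor
  · intro h
    have hcop : Nat.Coprime k (orderOf g) :=
      hk.coprime_dvd_right (orderOf_dvd_natCard g)
    obtain ⟨m, hm⟩ := exists_pow_eq_self_of_coprime hcop
    rw [← hm]
    exact N.pow_mem h m
  · intro h
    exact N.pow_mem h k

/-- The function induced from a Galois-fixed function on a normal subgroup is Galois-fixed. -/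
theorem indFun_pow_of_fixed (k : ℕ) (hk : k.Coprime (Nat.card G)) {θ : N → ℂ}
    (hθ : ∀ n : N, θ (n ^ k) = θ n) (g : G) :
    indFun N θ (g ^ k) = indFun N θ g := by
  by_cases hg : g ∈ N
  · have h1 := Helper15.indFun_normal_apply N θ ⟨g, hg⟩
    have h2 := Helper15.indFun_normal_apply N θ (⟨g, hg⟩ ^ k)
    rw [Subgroup.coe_pow] at h2
    change indFun N θ g = _ at h1
    change indFun N θ (g ^ k) = _ at h2
    rw [h1, h2]
    congr 1
    refine Finset.sum_congr rfl fun x _ => ?_
    rw [Helper15.conjFun_apply, Helper15.conjFun_apply]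
    have : (⟨x * (((⟨g, hg⟩ : N) ^ k : N) : G) * x⁻¹, hN.conj_mem _ (⟨g, hg⟩ ^ k : N).2 x⟩ : N) =
        (⟨x * g * x⁻¹, hN.conj_mem _ hg x⟩ : N) ^ k := by
      apply Subtype.ext
      show x * (((⟨g, hg⟩ : N) ^ k : N) : G) * x⁻¹ = (x * g * x⁻¹) ^ k
      rw [conj_pow]
      rfl
    rw [this, hθ]
  · have hgk : g ^ k ∉ N := fun h => hg ((pow_mem_iff_of_coprime N k hk g).mp h)
    rw [Helper15.indFun_normal_of_not_mem N θ hg, Helper15.indFun_normal_of_not_mem N θ hgk]

/-- `⟨(θ^G)_N, θ⟩ = |T| / |N|`, `T` the inertia group of the irreducible character `θ`. -/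
theorem classInner_restrict_indFun_self {θ : N → ℂ} (hθ : IsIrrCharacter N θ) :
    classInner (fun n : N => indFun N θ (n : G)) θ =
      (Nat.card N : ℂ)⁻¹ * (Nat.card (Helper15.inertia N θ) : ℂ) := by
  classical
  rw [Helper15.indFun_normal_restrict, Helper74.classInner_smul_left,
    Helper74.classInner_sum_left]
  congr 1
  have h1 : ∀ g : G, classInner (Helper15.conjFun N g θ) θ =
      if g ∈ Helper15.inertia N θ then (1 : ℂ) else 0 := by
    intro g
    split_ifs with hg
    · rw [(Helper15.mem_inertia N θ g).mp hg]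
      exact Helper74.irr_inner_self ⟨θ, hθ⟩
    · have h2 := Helper15.isIrrCharacter_conjFun N hθ g
      exact Helper74.irr_inner_ne (χ := ⟨Helper15.conjFun N g θ, h2⟩) (ψ := ⟨θ, hθ⟩)
        (fun h => hg ((Helper15.mem_inertia N θ g).mpr (congrArg Subtype.val h)))
  rw [Finset.sum_congr rfl (fun g _ => h1 g), Finset.sum_boole]
  congr 1
  rw [Nat.card_eq_fintype_card, Fintype.card_subtype]

/-- **Existence**: over a Galois-fixed irreducible character of the odd-index normal subgroup `N`
there is a Galois-fixed irreducible character of `G`. -/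
theorem exists_gal_fixed_over (hodd : Odd N.index) (k e : ℕ) (hk : k.Coprime (Nat.card G))
    (hke : k ^ (2 ^ e) ≡ 1 [MOD Nat.card G]) (θ : IrrCharacter N)
    (hθ : ∀ n : N, (θ : N → ℂ) (n ^ k) = (θ : N → ℂ) n) :
    ∃ χ : IrrCharacter G, (∀ g : G, (χ : G → ℂ) (g ^ k) = (χ : G → ℂ) g) ∧
      classInner (fun n : N => (χ : G → ℂ) n) (θ : N → ℂ) ≠ 0 := by
  classical
  let _ := Helper74.irrFintype G
  set ψ : G → ℂ := indFun N (θ : N → ℂ) with hψdef
  have hψ : IsCharacter G ψ := Helper15.isCharacter_indFun N (Helper74.irr_isCharacter θ)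
  have hψcf : IsClassFunction G ψ := Helper74.isClassFunction_of_isCharacter hψ
  have hfix : ∀ g : G, ψ (g ^ k) = ψ g := indFun_pow_of_fixed N k hk hθ
  choose m hm using fun β : IrrCharacter G => Helper74.isCharacter_inner_irr_nat hψ β
  have hmgal : ∀ β : IrrCharacter G, m (galIrr G k hk β) = m β := by
    intro β
    have h1 := classInner_galIrr_of_fixed k hk hfix β
    rw [hm, hm] at h1
    exact_mod_cast h1
  -- `∑ m² = ⟨ψ, ψ⟩`
  have hdec := Helper74.isCharacter_eq_sum_irr hψ
  have hsq : classInner ψ ψ = ((∑ β : IrrCharacter G, m β * m β : ℕ) : ℂ) := by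
    conv_lhs => arg 1; rw [hdec]
    rw [Helper74.classInner_sum_left]
    push_cast
    refine Finset.sum_congr rfl fun β _ => ?_
    rw [Helper74.classInner_smul_left, hm, ← Helper74.classInner_conj_symm ψ, hm,
      Complex.conj_natCast]
  -- `⟨ψ, ψ⟩ = |T| / |N|`
  have hinner : classInner ψ ψ =
      (Nat.card N : ℂ)⁻¹ * (Nat.card (Helper15.inertia N (θ : N → ℂ)) : ℂ) := by
    rw [← classInner_restrict_indFun_self N θ.2]
    exact Helper15.frobenius_reciprocity' N (θ : N → ℂ) ψ hψcf
  set S := ∑ β : IrrCharacter G, m β * m β with hS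
  set T := Helper15.inertia N (θ : N → ℂ) with hT
  have hNpos : (Nat.card N : ℂ) ≠ 0 := by
    have : Nat.card N ≠ 0 := Nat.card_pos.ne'
    exact_mod_cast this
  have hST : S * Nat.card N = Nat.card T := by
    have h1 : (S : ℂ) * (Nat.card N : ℂ) = (Nat.card T : ℂ) := by
      rw [← hsq, hinner]
      field_simp
    exact_mod_cast h1
  have hSodd : Odd S := by
    have h1 : S * T.index = N.index := by
      have h2 := N.card_mul_index
      have h3 := T.card_mul_index
      rw [← hST] at h3
      have h4 : Nat.card N * (S * T.index) = Nat.card N * N.index := by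
        rw [h2, ← h3]; ring
      exact Nat.eq_of_mul_eq_mul_left Nat.card_pos h4
    exact Odd.of_dvd_nat hodd ⟨T.index, h1.symm⟩
  have hS2 : (S : ZMod 2) = ∑ β ∈ (Finset.univ : Finset (IrrCharacter G)).filter
      (fun a => galIrr G k hk a = a), (m β : ZMod 2) * (m β : ZMod 2) := by
    rw [hS]
    push_cast
    exact sum_eq_sum_fixed_of_iterate_two_pow
      (fun β : IrrCharacter G => (m β : ZMod 2) * (m β : ZMod 2))
      e Finset.univ (galIrr G k hk) (fun _ _ => Finset.mem_univ _)
      (fun β _ => galIrr_iterate_eq_self k hk hke β)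
      (fun β _ => by simp only [hmgal])
  have hS1 : (S : ZMod 2) ≠ 0 := by
    rw [Ne, ZMod.natCast_eq_zero_iff_even, Nat.not_even_iff_odd]
    exact hSodd
  rw [hS2] at hS1
  obtain ⟨χ, hχmem, hχne⟩ := Finset.exists_ne_zero_of_sum_ne_zero hS1
  have hχfix := (galIrr_eq_self_iff k hk χ).mp (Finset.mem_filter.mp hχmem).2
  refine ⟨χ, hχfix, ?_⟩
  have hmne : m χ ≠ 0 := by
    rintro h0
    apply hχne
    rw [h0]
    simp
  have h1 : classInner ψ (χ : G → ℂ) ≠ 0 := by
    rw [hm]; exact_mod_cast hmne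
  rw [hψdef, Helper15.frobenius_reciprocity N (θ : N → ℂ) (χ : G → ℂ)
    (Helper74.irr_isClassFunction χ)] at h1
  intro h0
  apply h1
  rw [← Helper74.classInner_conj_symm, h0, map_zero]

end

end Cfsg.Agent.Helper81
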