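import Mathlib
import Cfsg.Agent.Helper81.GalPar3
import Cfsg.Agent.Helper81.LinTwist
import Cfsg.Agent.Helper80.Linear
import Cfsg.Agent.Helper15.Gallagher

/-!
# Galois automorphisms of 2-power order and odd index normal subgroups, part 4

* `exists_gal_fixed_extension`: if `N ⊴ G` has odd index, `σ` inverts the odd-order roots of
  unity, and the `σ`-fixed `θ ∈ Irr N` has an extension to `G`, then it has a `σ`-fixed one.
-/

set_option autoImplicit false
set_option linter.unusedSectionVars false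

namespace Cfsg.Agent.Helper81

open Cfsg
open scoped ComplexConjugate

universe u

section

variable {G : Type u} [Group G] [Fintype G] (N : Subgroup G) [hN : N.Normal] [Fintype N]

theorem exists_gal_fixed_extension (hodd : Odd N.index) (k : ℕ) (hk : k.Coprime (Nat.card G))
    (hk₂ : ∀ g : G, Odd (orderOf g) → g ^ k = g⁻¹) {θ : N → ℂ}
    (hθfix : ∀ n : N, θ (n ^ k) = θ n) {χ₀ : G → ℂ} (hχ₀ : IsIrrCharacter G χ₀)
    (hχ₀N : IsIrrCharacter N (fun n : N => χ₀ n)) (hres : ∀ n : N, χ₀ n = θ n) :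
    ∃ χ : G → ℂ, IsIrrCharacter G χ ∧ (∀ g : G, χ (g ^ k) = χ g) ∧ ∀ n : N, χ n = θ n := by
  classical
  set σχ : G → ℂ := fun g => χ₀ (g ^ k) with hσχ
  have hσirr : IsIrrCharacter G σχ := Helper82.galoisConj_isIrrCharacter hχ₀ k hk
  have hσres : (fun n : N => σχ n) = fun n : N => χ₀ n := by
    funext n
    show χ₀ ((n : G) ^ k) = χ₀ n
    rw [← Subgroup.coe_pow, hres, hres, hθfix]
  have hbij := Helper15.gallagher_bijOn N hχ₀ hχ₀N
  have hσmem : σχ ∈ {ψ : G → ℂ | IsIrrCharacter G ψ ∧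
      classInner (indFun N (fun n : N => χ₀ n)) ψ ≠ 0} := by
    refine ⟨hσirr, ?_⟩
    rw [Helper15.frobenius_reciprocity N _ σχ (Helper74.isClassFunction_of_isCharacter
      (Helper74.isCharacter_of_isIrr hσirr)), hσres]
    have := Helper74.irr_inner_self (⟨_, hχ₀N⟩ : IrrCharacter N)
    simp only at this
    rw [this]
    exact one_ne_zero
  obtain ⟨β, ⟨hβirr, hβ1⟩, hβeq⟩ := hbij.surjOn hσmem
  have hβc : IsCharacter G β := Helper74.isCharacter_of_isIrr hβirr
  have hβeq' : ∀ g : G, χ₀ (g ^ k) = β g * χ₀ g := by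
    intro g
    have := congrFun hβeq g
    exact this.symm
  -- `β` is linear
  obtain ⟨d, hdpos, hd⟩ := Helper15.irr_degree_pos hχ₀
  have hχ₀1 : χ₀ 1 ≠ 0 := by
    rw [hd]; exact_mod_cast hdpos.ne'
  have hβone : β 1 = 1 := by
    have h1 := hβeq' 1
    rw [one_pow] at h1
    have h2 : β 1 * χ₀ 1 = 1 * χ₀ 1 := by rw [one_mul]; exact h1.symm
    exact mul_right_cancel₀ hχ₀1 h2
  obtain ⟨φ, hφ⟩ := Helper80.IsCharacter.exists_monoidHom hβc hβone
  -- `N` is in the kernel of `β`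
  have hker : ∀ n : N, φ (n : G) = 1 := by
    intro n
    have h1 : classInner (fun n : N => β n) (fun _ => (1 : ℂ)) ≠ 0 := by
      rw [Helper15.frobenius_reciprocity N _ β
        (Helper74.isClassFunction_of_isCharacter hβc)] at hβ1
      intro h0
      apply hβ1
      rw [← Helper74.classInner_conj_symm, h0, map_zero]
    have h2 := Helper82.const_of_inner_restrict_one_ne_zero N hβirr h1 n
    rw [hβone, hφ] at h2
    exact Units.ext h2
  obtain ⟨j, hj⟩ := hodd
  have hpow : ∀ g : G, φ g ^ (2 * j + 1) = 1 := by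
    intro g
    rw [← map_pow, ← hj]
    exact hker ⟨_, Subgroup.pow_index_mem N g⟩
  have hinv : ∀ g : G, φ (g ^ k) = (φ g)⁻¹ := by
    intro g
    obtain ⟨g₀, hg₀, hmem, -⟩ := exists_odd_order_mul_mem N ⟨j, hj⟩ g
    have h1 : φ g = φ g₀ := by
      have h2 := hker ⟨_, hmem⟩
      simp only [map_mul, map_inv] at h2
      exact (inv_mul_eq_one.mp h2).symm
    rw [map_pow, h1, ← map_pow, hk₂ g₀ hg₀, map_inv]
  let ν : G →* ℂˣ := φ ^ (j + 1)
  have hν : ∀ g : G, ν g = φ g ^ (j + 1) := fun g => rfl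
  refine ⟨fun g => ((ν g : ℂˣ) : ℂ) * χ₀ g, isIrrCharacter_twist ν hχ₀, ?_, ?_⟩
  · intro g
    show ((ν (g ^ k) : ℂˣ) : ℂ) * χ₀ (g ^ k) = ((ν g : ℂˣ) : ℂ) * χ₀ g
    rw [hβeq', hφ, ← mul_assoc, ← Units.val_mul]
    congr 2
    rw [hν, hν, hinv]
    have h3 : φ g = φ g ^ (j + 1) * φ g ^ (j + 1) := by
      rw [← pow_add]
      have : j + 1 + (j + 1) = (2 * j + 1) + 1 := by ring
      rw [this, pow_succ, hpow, one_mul]
    rw [inv_pow, inv_mul_eq_iff_eq_mul]
    exact h3
  · intro n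
    show ((ν (n : G) : ℂˣ) : ℂ) * χ₀ n = θ n
    rw [hν, hker, one_pow, Units.val_one, one_mul, hres]

end

end Cfsg.Agent.Helper81
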