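import Mathlib
import Cfsg.Agent.Helper81.GalPar4
import Cfsg.Agent.S0886

/-!
# Galois automorphisms of 2-power order and odd index normal subgroups, part 5

* `exists_gal_fixed_extension_of_cyclic`: a `σ`-fixed invariant `θ ∈ Irr N` has a `σ`-fixed
  extension to `G` when `G ⧸ N` is cyclic of odd order;
* `exists_gal_fixed_extension_step`: relative version for `N ≤ Z`, both normal in `G`, yielding a
  `G`-invariant extension to `Z`;
* `exists_gal_fixed_extension_of_pgroup`: the same when `G ⧸ N` is a `p`-group.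
-/

set_option autoImplicit false
set_option linter.unusedSectionVars false

namespace Cfsg.Agent.Helper81

open Cfsg
open scoped ComplexConjugate

universe u

section cyclic

variable {G : Type u} [Group G] [Fintype G] (N : Subgroup G) [hN : N.Normal] [Fintype N]

theorem exists_gal_fixed_extension_of_cyclic (hodd : Odd N.index) (k : ℕ)
    (hk : k.Coprime (Nat.card G)) (hk₂ : ∀ g : G, Odd (orderOf g) → g ^ k = g⁻¹)
    (hcyc : IsCyclic (G ⧸ N)) {θ : N → ℂ} (hθ : IsIrrCharacter N θ)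
    (hθfix : ∀ n : N, θ (n ^ k) = θ n)
    (hinv : ∀ (g : G) (n : N), θ ⟨g * n * g⁻¹, hN.conj_mem (n : G) n.2 g⟩ = θ n) :
    ∃ χ : G → ℂ, IsIrrCharacter G χ ∧ (∀ g : G, χ (g ^ k) = χ g) ∧ ∀ n : N, χ n = θ n := by
  obtain ⟨χ₀, hχ₀, hres⟩ := Cfsg.Agent.S0886.result N hcyc θ hθ hinv
  have hχ₀N : IsIrrCharacter N (fun n : N => χ₀ n) := by
    have : (fun n : N => χ₀ n) = θ := funext hres
    rw [this]; exact hθ
  exact exists_gal_fixed_extension N hodd k hk hk₂ hθfix hχ₀ hχ₀N hres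

end cyclic

section step

variable {G : Type u} [Group G] [Fintype G]

theorem exists_gal_fixed_extension_step (N Z : Subgroup G) [hN : N.Normal] [hZ : Z.Normal]
    (hNZ : N ≤ Z) (hcyc : IsCyclic (↥Z ⧸ N.subgroupOf Z)) (hodd : Odd N.index) (k e : ℕ)
    (hk : k.Coprime (Nat.card G)) (hke : k ^ (2 ^ e) ≡ 1 [MOD Nat.card G])
    (hk₂ : ∀ g : G, Odd (orderOf g) → g ^ k = g⁻¹)
    {θ : N → ℂ} (hθ : IsIrrCharacter N θ) (hθfix : ∀ n : N, θ (n ^ k) = θ n)
    (hinv : ∀ (g : G) (n : N), θ ⟨g * n * g⁻¹, hN.conj_mem (n : G) n.2 g⟩ = θ n) :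
    ∃ η : Z → ℂ, IsIrrCharacter Z η ∧ (∀ z : Z, η (z ^ k) = η z) ∧
      (∀ (g : G) (z : Z), η ⟨g * z * g⁻¹, hZ.conj_mem (z : G) z.2 g⟩ = η z) ∧
      ∀ n : N, η ⟨(n : G), hNZ n.2⟩ = θ n := by
  classical
  have : Fintype Z := Fintype.ofFinite Z
  have : Fintype (N.subgroupOf Z) := Fintype.ofFinite _
  have hkZ : k.Coprime (Nat.card Z) := hk.coprime_dvd_right (Subgroup.card_subgroup_dvd_card Z)
  have hkeZ : k ^ (2 ^ e) ≡ 1 [MOD Nat.card Z] := hke.of_dvd (Subgroup.card_subgroup_dvd_card Z)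
  have hk₂Z : ∀ z : Z, Odd (orderOf z) → z ^ k = z⁻¹ := by
    intro z hz
    apply Subtype.ext
    rw [Subgroup.coe_pow, Subgroup.coe_inv]
    exact hk₂ z (by rwa [Subgroup.orderOf_coe])
  have hoddZ : Odd (N.subgroupOf Z).index :=
    Odd.of_dvd_nat hodd (Subgroup.relIndex_dvd_index_of_le hNZ)
  set θ' := Helper15.toSub N Z hNZ θ with hθ'def
  have hθ' : IsIrrCharacter (N.subgroupOf Z) θ' := Helper15.isIrrCharacter_toSub N Z hNZ hθ
  have hθ'fix : ∀ x : N.subgroupOf Z, θ' (x ^ k) = θ' x := by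
    intro x
    rw [hθ'def, Helper15.toSub_apply, Helper15.toSub_apply]
    have : (⟨(((x ^ k : N.subgroupOf Z) : Z) : G), (x ^ k).2⟩ : N) =
        (⟨((x : Z) : G), x.2⟩ : N) ^ k := by
      apply Subtype.ext
      simp
    rw [this, hθfix]
  have hθ'inv : ∀ (t : Z) (x : N.subgroupOf Z),
      θ' ⟨t * x * t⁻¹, (Subgroup.normal_subgroupOf (H := Z) (N := N)).conj_mem (x : Z) x.2 t⟩ =
        θ' x := by
    intro t x
    exact hinv (t : G) ⟨((x : Z) : G), x.2⟩
  obtain ⟨η, hηirr, hηfix, hηres⟩ := exists_gal_fixed_extension_of_cyclic (N.subgroupOf Z) hoddZ k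
    hkZ hk₂Z hcyc hθ' hθ'fix hθ'inv
  refine ⟨η, hηirr, hηfix, ?_, ?_⟩
  · intro g z
    set ξ := Helper15.conjFun Z g η with hξdef
    have hξirr : IsIrrCharacter Z ξ := Helper15.isIrrCharacter_conjFun Z hηirr g
    have hξfix : ∀ z : Z, ξ (z ^ k) = ξ z := by
      intro z
      rw [hξdef, Helper15.conjFun_apply, Helper15.conjFun_apply]
      have : (⟨g * ((z ^ k : Z) : G) * g⁻¹, hZ.conj_mem _ (z ^ k).2 g⟩ : Z) =
          (⟨g * (z : G) * g⁻¹, hZ.conj_mem _ z.2 g⟩ : Z) ^ k := by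
        apply Subtype.ext
        show g * ((z ^ k : Z) : G) * g⁻¹ = (g * (z : G) * g⁻¹) ^ k
        rw [conj_pow]
        rfl
      rw [this, hηfix]
    have hηres' : (fun x : N.subgroupOf Z => η x) = θ' := funext hηres
    have hξres : (fun x : N.subgroupOf Z => ξ x) = θ' := by
      funext x
      show ξ (x : Z) = θ' x
      rw [hξdef, Helper15.conjFun_apply]
      have hmem : g * ((x : Z) : G) * g⁻¹ ∈ N := hN.conj_mem _ x.2 g
      have h1 := hηres ⟨⟨g * ((x : Z) : G) * g⁻¹, hZ.conj_mem _ (x : Z).2 g⟩, hmem⟩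
      rw [h1, hθ'def, Helper15.toSub_apply, Helper15.toSub_apply]
      exact hinv g ⟨((x : Z) : G), x.2⟩
    have hself : classInner θ' θ' ≠ 0 := by
      have := Helper74.irr_inner_self (⟨θ', hθ'⟩ : IrrCharacter (N.subgroupOf Z))
      simp only at this
      rw [this]
      exact one_ne_zero
    have h1 : classInner (fun x : N.subgroupOf Z => ξ x) θ' ≠ 0 := by rw [hξres]; exact hself
    have h2 : classInner (fun x : N.subgroupOf Z => η x) θ' ≠ 0 := by rw [hηres']; exact hself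
    have h3 := gal_fixed_over_unique (N.subgroupOf Z) hoddZ k e hkZ hkeZ hk₂Z hθ'
      ⟨ξ, hξirr⟩ ⟨η, hηirr⟩ hξfix hηfix h1 h2
    have h4 := congrArg (fun γ : IrrCharacter Z => (γ : Z → ℂ) z) h3
    exact h4
  · intro n
    exact hηres ⟨⟨(n : G), hNZ n.2⟩, n.2⟩

/-- A `σ`-fixed invariant irreducible character of a normal subgroup `N` with `G ⧸ N` a `p`-group
of odd order has a `σ`-fixed extension to `G`. -/
theorem exists_gal_fixed_extension_of_pgroup (p : ℕ) [hp : Fact p.Prime] (k e : ℕ)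
    (hk : k.Coprime (Nat.card G)) (hke : k ^ (2 ^ e) ≡ 1 [MOD Nat.card G])
    (hk₂ : ∀ g : G, Odd (orderOf g) → g ^ k = g⁻¹) :
    ∀ (m : ℕ) (N : Subgroup G) [hN : N.Normal], N.index = m → Odd N.index →
      (∃ a, N.index = p ^ a) →
      ∀ θ : N → ℂ, IsIrrCharacter N θ → (∀ n : N, θ (n ^ k) = θ n) →
      (∀ (g : G) (n : N), θ ⟨g * n * g⁻¹, hN.conj_mem (n : G) n.2 g⟩ = θ n) →
      ∃ χ : G → ℂ, IsIrrCharacter G χ ∧ (∀ g : G, χ (g ^ k) = χ g) ∧ ∀ n : N, χ n = θ n := by
  intro m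
  induction m using Nat.strong_induction_on with
  | _ m ih =>
    intro N hN hm hodd hpa θ hθ hθfix hinv
    classical
    have : Fintype N := Fintype.ofFinite N
    by_cases hcyc : IsCyclic (G ⧸ N)
    · exact exists_gal_fixed_extension_of_cyclic N hodd k hk hk₂ hcyc hθ hθfix hinv
    · have hnt : Nontrivial (G ⧸ N) := by
        by_contra h
        rw [not_nontrivial_iff_subsingleton] at h
        exact hcyc isCyclic_of_subsingleton
      obtain ⟨a, ha⟩ := hpa
      have hpg : IsPGroup p (G ⧸ N) :=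
        IsPGroup.of_card (n := a) (by rw [← Subgroup.index_eq_card]; exact ha)
      have hcn := hpg.center_nontrivial
      obtain ⟨z, hz⟩ := exists_ne (1 : Subgroup.center (G ⧸ N))
      set C : Subgroup (G ⧸ N) := Subgroup.zpowers (z : G ⧸ N) with hC
      have hCle : C ≤ Subgroup.center (G ⧸ N) := Subgroup.zpowers_le.mpr z.2
      have hCn : C.Normal := ⟨fun x hx g => by
        have h1 := Subgroup.mem_center_iff.mp (hCle hx) g
        have h2 : g * x * g⁻¹ = x := by rw [h1, mul_inv_cancel_right]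
        rw [h2]; exact hx⟩
      set Z : Subgroup G := C.comap (QuotientGroup.mk' N) with hZdef
      have hZn : Z.Normal := hCn.comap _
      have hNZ : N ≤ Z := by
        intro n hn
        rw [hZdef, Subgroup.mem_comap]
        have : QuotientGroup.mk' N n = 1 := (QuotientGroup.eq_one_iff n).mpr hn
        rw [this]; exact C.one_mem
      obtain ⟨z₀, hz₀⟩ := QuotientGroup.mk'_surjective N (z : G ⧸ N)
      have hz₀Z : z₀ ∈ Z := by
        rw [hZdef, Subgroup.mem_comap, hz₀]; exact Subgroup.mem_zpowers _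
      have hz₀N : z₀ ∉ N := by
        intro h
        apply hz
        apply Subtype.ext
        rw [← hz₀]; exact (QuotientGroup.eq_one_iff z₀).mpr h
      have hlt : N < Z := lt_of_le_of_ne hNZ (fun h => hz₀N (h ▸ hz₀Z))
      have hidx : Z.index < m := hm ▸ Subgroup.index_strictAnti hlt
      have hZodd : Odd Z.index := Odd.of_dvd_nat hodd (Subgroup.index_dvd_of_le hNZ)
      have hZpa : ∃ b, Z.index = p ^ b := by
        have := Subgroup.index_dvd_of_le hNZ
        rw [ha] at this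
        obtain ⟨b, -, hb⟩ := (Nat.dvd_prime_pow hp.out).mp this
        exact ⟨b, hb⟩
      have hcycZ : IsCyclic (↥Z ⧸ N.subgroupOf Z) := by
        refine ⟨⟨QuotientGroup.mk ⟨z₀, hz₀Z⟩, fun q => ?_⟩⟩
        obtain ⟨x, rfl⟩ := QuotientGroup.mk_surjective q
        have hx : QuotientGroup.mk' N (x : G) ∈ C := x.2
        obtain ⟨i, hi⟩ := Subgroup.mem_zpowers_iff.mp hx
        refine Subgroup.mem_zpowers_iff.mpr ⟨i, ?_⟩
        rw [← QuotientGroup.mk_zpow, QuotientGroup.eq]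
        show ((⟨z₀, hz₀Z⟩ : Z) ^ i)⁻¹ * x ∈ N.subgroupOf Z
        rw [Subgroup.mem_subgroupOf]
        have h1 : (QuotientGroup.mk' N) ((z₀ ^ i)⁻¹ * (x : G)) = 1 := by
          rw [map_mul, map_inv, map_zpow, hz₀, hi, inv_mul_cancel]
        simpa using (QuotientGroup.eq_one_iff _).mp h1
      obtain ⟨η, hηirr, hηfix, hηinv, hηres⟩ := exists_gal_fixed_extension_step N Z hNZ hcycZ
        hodd k e hk hke hk₂ hθ hθfix hinv
      obtain ⟨χ, hχirr, hχfix, hχres⟩ := ih Z.index hidx Z rfl hZodd hZpa η hηirr hηfix hηinv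
      refine ⟨χ, hχirr, hχfix, fun n => ?_⟩
      rw [← hηres n]
      exact hχres ⟨(n : G), hNZ n.2⟩

end step

end Cfsg.Agent.Helper81
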