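import Mathlib
import Cfsg.Agent.Helper81.GalPar5
import Cfsg.Agent.S0888

/-!
# Galois automorphisms of 2-power order and odd index normal subgroups, part 6

* `exists_gal_fixed_extension_of_invariant`: if `N ⊴ G` has odd index, `σ` has 2-power order and
  inverts the odd-order roots of unity, then a `σ`-fixed `G`-invariant `θ ∈ Irr N` has a
  `σ`-fixed extension to `G`.
* `gal_fixed_over_main`: the main theorem (statement S4519).
-/

set_option autoImplicit false
set_option linter.unusedSectionVars false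

namespace Cfsg.Agent.Helper81

open Cfsg
open scoped ComplexConjugate

universe u

section

variable {G : Type u} [Group G] [Fintype G]

theorem exists_gal_fixed_extension_of_invariant (N : Subgroup G) [hN : N.Normal]
    (hodd : Odd N.index) (k e : ℕ)
    (hk : k.Coprime (Nat.card G)) (hke : k ^ (2 ^ e) ≡ 1 [MOD Nat.card G])
    (hk₂ : ∀ g : G, Odd (orderOf g) → g ^ k = g⁻¹)
    {θ : N → ℂ} (hθ : IsIrrCharacter N θ) (hθfix : ∀ n : N, θ (n ^ k) = θ n)
    (hinv : ∀ (g : G) (n : N), θ ⟨g * n * g⁻¹, hN.conj_mem (n : G) n.2 g⟩ = θ n) :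
    ∃ χ : G → ℂ, IsIrrCharacter G χ ∧ (∀ g : G, χ (g ^ k) = χ g) ∧ ∀ n : N, χ n = θ n := by
  classical
  have : Fintype N := Fintype.ofFinite N
  have hsyl : ∀ p : ℕ, p.Prime → ∃ (P : Subgroup G) (hNP : N ≤ P) (η : P → ℂ),
      Nat.Coprime P.index p ∧ (∃ a : ℕ, N.relIndex P = p ^ a) ∧ IsIrrCharacter P η ∧
        ∀ n : N, η ⟨(n : G), hNP n.2⟩ = θ n := by
    intro p hp
    have : Fact p.Prime := ⟨hp⟩
    obtain ⟨P'⟩ : Nonempty (Sylow p (G ⧸ N)) := inferInstance
    set P : Subgroup G := (P' : Subgroup (G ⧸ N)).comap (QuotientGroup.mk' N) with hPdef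
    have hNP : N ≤ P := by
      intro n hn
      rw [hPdef, Subgroup.mem_comap]
      have : QuotientGroup.mk' N n = 1 := (QuotientGroup.eq_one_iff n).mpr hn
      rw [this]; exact one_mem _
    have hPidx : P.index = (P' : Subgroup (G ⧸ N)).index :=
      Subgroup.index_comap_of_surjective _ (QuotientGroup.mk'_surjective N)
    have hcop : Nat.Coprime P.index p := by
      rw [hPidx, Nat.coprime_comm, Nat.Prime.coprime_iff_not_dvd hp]
      exact P'.not_dvd_index
    obtain ⟨a, ha⟩ := (IsPGroup.iff_card.mp P'.isPGroup')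
    have hrel : N.relIndex P = p ^ a := by
      have h1 := Subgroup.relIndex_mul_index hNP
      have h2 := (P' : Subgroup (G ⧸ N)).card_mul_index
      rw [← Subgroup.index_eq_card, ← hPidx, ha] at h2
      have h3 : N.relIndex P * P.index = p ^ a * P.index := by rw [h1, h2]
      exact Nat.eq_of_mul_eq_mul_right (Nat.pos_of_ne_zero Subgroup.index_ne_zero_of_finite) h3
    have : Fintype P := Fintype.ofFinite P
    have hkP : k.Coprime (Nat.card P) := hk.coprime_dvd_right (Subgroup.card_subgroup_dvd_card P)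
    have hkeP : k ^ (2 ^ e) ≡ 1 [MOD Nat.card P] :=
      hke.of_dvd (Subgroup.card_subgroup_dvd_card P)
    have hk₂P : ∀ z : P, Odd (orderOf z) → z ^ k = z⁻¹ := by
      intro z hz
      apply Subtype.ext
      rw [Subgroup.coe_pow, Subgroup.coe_inv]
      exact hk₂ z (by rwa [Subgroup.orderOf_coe])
    have hoddP : Odd (N.subgroupOf P).index :=
      Odd.of_dvd_nat hodd (Subgroup.relIndex_dvd_index_of_le hNP)
    set θ' := Helper15.toSub N P hNP θ with hθ'def
    have hθ' : IsIrrCharacter (N.subgroupOf P) θ' := Helper15.isIrrCharacter_toSub N P hNP hθ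
    have hθ'fix : ∀ x : N.subgroupOf P, θ' (x ^ k) = θ' x := by
      intro x
      rw [hθ'def, Helper15.toSub_apply, Helper15.toSub_apply]
      have : (⟨(((x ^ k : N.subgroupOf P) : P) : G), (x ^ k).2⟩ : N) =
          (⟨((x : P) : G), x.2⟩ : N) ^ k := by
        apply Subtype.ext
        simp
      rw [this, hθfix]
    have hθ'inv : ∀ (t : P) (x : N.subgroupOf P),
        θ' ⟨t * x * t⁻¹, (Subgroup.normal_subgroupOf (H := P) (N := N)).conj_mem (x : P) x.2 t⟩ =
          θ' x := by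
      intro t x
      exact hinv (t : G) ⟨((x : P) : G), x.2⟩
    obtain ⟨η, hηirr, -, hηres⟩ := exists_gal_fixed_extension_of_pgroup (G := P) p k e hkP hkeP
      hk₂P _ (N.subgroupOf P) rfl hoddP ⟨a, hrel⟩ θ' hθ' hθ'fix hθ'inv
    exact ⟨P, hNP, η, hcop, ⟨a, hrel⟩, hηirr, fun n => hηres ⟨⟨(n : G), hNP n.2⟩, n.2⟩⟩
  obtain ⟨χ₀, hχ₀, hres⟩ := Cfsg.Agent.S0888.result N θ hθ hinv hsyl
  have hχ₀N : IsIrrCharacter N (fun n : N => χ₀ n) := by
    have : (fun n : N => χ₀ n) = θ := funext hres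
    rw [this]; exact hθ
  exact exists_gal_fixed_extension N hodd k hk hk₂ hθfix hχ₀ hχ₀N hres

/-- **Main theorem**: `N ⊴ G` of odd index, `σ : g ↦ g ^ k` of 2-power order inverting the
odd-order elements; a `σ`-fixed `θ ∈ Irr N` lies under exactly one `σ`-fixed `χ ∈ Irr G`, and
`χ_N = θ` if `θ` is `G`-invariant. -/
theorem gal_fixed_over_main (N : Subgroup G) [hN : N.Normal] [Fintype N]
    (hodd : Odd N.index) (k e : ℕ)
    (hk : k.Coprime (Nat.card G)) (hke : k ^ (2 ^ e) ≡ 1 [MOD Nat.card G])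
    (hk₂ : ∀ g : G, Odd (orderOf g) → g ^ k = g⁻¹)
    (θ : IrrCharacter N) (hθfix : ∀ n : N, (θ : N → ℂ) (n ^ k) = (θ : N → ℂ) n) :
    ∃ χ : IrrCharacter G,
      (classInner (fun n : N => (χ : G → ℂ) n) (θ : N → ℂ) ≠ 0 ∧
        (∀ g : G, (χ : G → ℂ) (g ^ k) = (χ : G → ℂ) g) ∧
        ((∀ g : G, ∀ n : N, (θ : N → ℂ) ⟨g * n * g⁻¹, hN.conj_mem n n.2 g⟩ = (θ : N → ℂ) n) →
          ∀ n : N, (χ : G → ℂ) n = (θ : N → ℂ) n)) ∧
      ∀ χ' : IrrCharacter G, classInner (fun n : N => (χ' : G → ℂ) n) (θ : N → ℂ) ≠ 0 →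
        (∀ g : G, (χ' : G → ℂ) (g ^ k) = (χ' : G → ℂ) g) → χ' = χ := by
  classical
  obtain ⟨χ, hχfix, hχθ⟩ := exists_gal_fixed_over N hodd k e hk hke θ hθfix
  refine ⟨χ, ⟨hχθ, hχfix, ?_⟩, ?_⟩
  · intro hinv n
    obtain ⟨ξ, hξirr, hξfix, hξres⟩ := exists_gal_fixed_extension_of_invariant N hodd k e hk hke
      hk₂ θ.2 hθfix hinv
    have h1 : classInner (fun n : N => ξ n) (θ : N → ℂ) ≠ 0 := by
      have h2 : (fun n : N => ξ n) = (θ : N → ℂ) := funext hξres
      rw [h2, Helper74.irr_inner_self θ]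
      exact one_ne_zero
    have h3 := gal_fixed_over_unique N hodd k e hk hke hk₂ θ.2 ⟨ξ, hξirr⟩ χ hξfix hχfix h1 hχθ
    rw [← h3]
    exact hξres n
  · intro χ' hχ'θ hχ'fix
    exact gal_fixed_over_unique N hodd k e hk hke hk₂ θ.2 χ' χ hχ'fix hχfix hχ'θ hχθ

end

end Cfsg.Agent.Helper81
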