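import Mathlib
import Cfsg.Agent.Helper81.GalPar6
import Cfsg.Agent.S4708

/-!
# Principal 2-blocks and Galois-fixed characters over odd index normal subgroups, part 1

The class function `rt G = |G|_2 • 1_{odd order}` and the integers `[rt G, ξ]`.
-/

set_option autoImplicit false
set_option linter.unusedSectionVars false

namespace Cfsg.Agent.Helper81

open Cfsg
open scoped ComplexConjugate

universe u

section

variable {G : Type u} [Group G] [Fintype G]

/-- `|G|_2` times the indicator function of the elements of odd order. -/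
noncomputable def rt (G : Type u) [Group G] : G → ℂ :=
  Cfsg.Agent.S4426.cut 2 ((2 ^ (Nat.card G).factorization 2 : ℕ) : ℂ)
    ((Helper79.principalIrr G : IrrCharacter G) : G → ℂ)

omit [Fintype G] in
theorem rt_apply (x : G) :
    rt G x = if 2 ∣ orderOf x then (0 : ℂ) else ((2 ^ (Nat.card G).factorization 2 : ℕ) : ℂ) := by
  unfold rt Cfsg.Agent.S4426.cut
  split_ifs
  · rfl
  · show _ * (1 : ℂ) = _
    rw [mul_one]

omit [Fintype G] in
theorem rt_eq_smul_regInd :
    rt G = ((2 ^ (Nat.card G).factorization 2 : ℕ) : ℂ) • Helper79.regInd 2 G := by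
  funext x
  rw [rt_apply, Pi.smul_apply, Helper79.regInd_apply, smul_eq_mul]
  split_ifs <;> simp

omit [Fintype G] in
theorem isClassFunction_rt : IsClassFunction G (rt G) := by
  intro g h
  rw [rt_eq_smul_regInd, Pi.smul_apply, Pi.smul_apply,
    Cfsg.Agent.S4708.isClassFunction_regInd 2 g h]

omit [Fintype G] in
theorem rt_pow_of_coprime [Finite G] (k : ℕ) (hk : k.Coprime (Nat.card G)) (g : G) :
    rt G (g ^ k) = rt G g := by
  rw [rt_apply, rt_apply]
  have hcop : (orderOf g).Coprime k :=
    (hk.coprime_dvd_right (orderOf_dvd_natCard g)).symm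
  rw [Nat.Coprime.orderOf_pow hcop]

theorem two_pow_ne_zero_complex : (((2 ^ (Nat.card G).factorization 2 : ℕ) : ℂ)) ≠ 0 := by
  have : (2 ^ (Nat.card G).factorization 2 : ℕ) ≠ 0 := by positivity
  exact_mod_cast this

/-- `[rt G, ξ]` is an integer. -/
theorem exists_int_inner_rt (ξ : IrrCharacter G) :
    ∃ n : ℤ, classInner (rt G) (ξ : G → ℂ) = (n : ℂ) :=
  haveI : Fact (Nat.Prime 2) := ⟨Nat.prime_two⟩
  Cfsg.Agent.S4426.exists_int_inner 2 (Helper79.principalIrr G) ξ

/-- For `ξ` in the principal 2-block, `[rt G, ξ]` is a nonzero integer with the same 2-part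
as `ξ(1)`. -/
theorem inner_rt_of_mem_principalBlock {M : Ideal AlgInt} (hM : IsPModular 2 M)
    (ξ : IrrCharacter G) (hξ : ξ ∈ principalBlock M G) :
    ∃ n : ℤ, classInner (rt G) (ξ : G → ℂ) = (n : ℂ) ∧ n ≠ 0 ∧
      padicValInt 2 n = (charDegree (ξ : G → ℂ)).factorization 2 := by
  have : Fact (Nat.Prime 2) := ⟨Nat.prime_two⟩
  have hB : IsPBlock M (principalBlock M G) := ⟨Helper79.principalIrr G, rfl⟩
  have h0 := (Cfsg.Agent.S4426.height_zero_iff 2 hM _ hB (Helper79.principalIrr G)
    (Helper79.principalIrr_mem hM)).1 (Helper79.blockHeight_principalIrr hM)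
  exact (Cfsg.Agent.S4426.pred_iff 2 hM _ hB (Helper79.principalIrr G) ξ
    (Helper79.principalIrr_mem hM) hξ).2 h0

/-- `[rt G, ξ] ≠ 0` iff `ξ` lies in the principal 2-block. -/
theorem mem_principalBlock_iff_inner_rt {M : Ideal AlgInt} (hM : IsPModular 2 M)
    (ξ : IrrCharacter G) :
    ξ ∈ principalBlock M G ↔ classInner (rt G) (ξ : G → ℂ) ≠ 0 := by
  have : Fact (Nat.Prime 2) := ⟨Nat.prime_two⟩
  rw [Helper79.mem_principalBlock_iff_inner_regInd hM, rt_eq_smul_regInd,
    Helper74.classInner_smul_left]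
  constructor
  · intro h
    exact mul_ne_zero two_pow_ne_zero_complex h
  · intro h h0
    apply h
    rw [h0, mul_zero]

/-- The restriction of `rt G` to a subgroup of odd index. -/
theorem rt_restrict (N : Subgroup G) (hodd : Odd N.index) :
    (fun n : N => rt G (n : G)) = rt N := by
  funext n
  rw [rt_apply, rt_apply, Subgroup.orderOf_coe]
  have h1 : (Nat.card G).factorization 2 = (Nat.card N).factorization 2 := by
    rw [← N.card_mul_index, Nat.factorization_mul Nat.card_pos.ne'
      Subgroup.index_ne_zero_of_finite]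
    have : (N.index).factorization 2 = 0 := by
      apply Nat.factorization_eq_zero_of_not_dvd
      rw [← even_iff_two_dvd, Nat.not_even_iff_odd]
      exact hodd
    simp [this]
  rw [h1]

end

section degree

variable {G : Type u} [Group G] [Fintype G] (N : Subgroup G) [hN : N.Normal] [Fintype N]

/-- The degree of a constituent of `χ_N` divides the degree of `χ`. -/
theorem charDegree_dvd_of_constituent {χ : G → ℂ} (hχ : IsIrrCharacter G χ) {θ : N → ℂ}
    (hθ : IsIrrCharacter N θ) (hθχ : classInner (fun n : N => χ n) θ ≠ 0) :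
    charDegree θ ∣ charDegree χ := by
  classical
  have h := Helper15.clifford_restrict N hχ hθ hθχ
  obtain ⟨e, he⟩ := Helper74.isCharacter_inner_irr_nat
    (Helper74.isCharacter_restrict N (Helper74.isCharacter_of_isIrr hχ)) ⟨θ, hθ⟩
  simp only at he
  have h1 := congrFun h 1
  simp only [Pi.smul_apply, Finset.sum_apply, smul_eq_mul] at h1
  have h2 : ∀ φ ∈ Helper15.conjOrbit N θ, φ 1 = θ 1 := by
    intro φ hφ
    obtain ⟨g, rfl⟩ := (Helper15.mem_conjOrbit N).1 hφ
    rw [Helper15.conjFun_apply]
    congr 1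
    apply Subtype.ext
    simp
  rw [Finset.sum_congr rfl h2, Finset.sum_const, nsmul_eq_mul, he,
    Helper78.irrChar_one_eq_charDegree hθ] at h1
  have h3 : χ ((1 : N) : G) = (charDegree χ : ℂ) := by
    rw [Subgroup.coe_one]; exact Helper78.irrChar_one_eq_charDegree hχ
  rw [h3] at h1
  have h4 : charDegree χ = e * ((Helper15.conjOrbit N θ).card * charDegree θ) := by
    exact_mod_cast h1
  rw [h4]
  exact ⟨e * (Helper15.conjOrbit N θ).card, by ring⟩

end degree

end Cfsg.Agent.Helper81
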