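import Mathlib
import Cfsg.Agent.Helper81.GalBlock1

/-!
# Principal 2-blocks and Galois-fixed characters over odd index normal subgroups, part 2

* `mem_principalBlock_of_gal_fixed_over`: if `N ⊴ G` has odd index, `σ` has 2-power order and
  inverts odd-order roots of unity, `θ ∈ Irr N` is `σ`-fixed in the principal 2-block of `N`,
  then the `σ`-fixed `χ ∈ Irr G` over `θ` lies in the principal 2-block of `G`.
-/

set_option autoImplicit false
set_option linter.unusedSectionVars false

namespace Cfsg.Agent.Helper81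

open Cfsg
open scoped ComplexConjugate

universe u

section

variable {G : Type u} [Group G] [Fintype G] (N : Subgroup G) [hN : N.Normal] [Fintype N]

theorem mem_principalBlock_of_gal_fixed_over {M : Ideal AlgInt} (hM : IsPModular 2 M)
    (hodd : Odd N.index) (k e : ℕ) (hk : k.Coprime (Nat.card G))
    (hke : k ^ (2 ^ e) ≡ 1 [MOD Nat.card G])
    (hk₂ : ∀ g : G, Odd (orderOf g) → g ^ k = g⁻¹)
    (θ : IrrCharacter N) (hθfix : ∀ n : N, (θ : N → ℂ) (n ^ k) = (θ : N → ℂ) n)
    (χ : IrrCharacter G) (hχfix : ∀ g : G, (χ : G → ℂ) (g ^ k) = (χ : G → ℂ) g)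
    (hover : classInner (fun n : N => (χ : G → ℂ) n) (θ : N → ℂ) ≠ 0)
    (hθB : θ ∈ principalBlock M N) : χ ∈ principalBlock M G := by
  classical
  let _ := Helper74.irrFintype G
  set ψ : G → ℂ := indFun N (θ : N → ℂ) with hψdef
  have hψ : IsCharacter G ψ := Helper15.isCharacter_indFun N (Helper74.irr_isCharacter θ)
  have hψfix : ∀ g : G, ψ (g ^ k) = ψ g := indFun_pow_of_fixed N k hk hθfix
  choose m hm using fun β : IrrCharacter G => Helper74.isCharacter_inner_irr_nat hψ β
  have hmgal : ∀ β : IrrCharacter G, m (galIrr G k hk β) = m β := by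
    intro β
    have h1 := classInner_galIrr_of_fixed k hk hψfix β
    rw [hm, hm] at h1
    exact_mod_cast h1
  choose n hn using fun β : IrrCharacter G => exists_int_inner_rt β
  have hngal : ∀ β : IrrCharacter G, n (galIrr G k hk β) = n β := by
    intro β
    have h1 := classInner_galIrr_of_fixed k hk (rt_pow_of_coprime k hk) β
    rw [hn, hn] at h1
    exact_mod_cast h1
  -- the value for `θ`
  obtain ⟨nθ, hnθ, hnθ0, hnθv⟩ := inner_rt_of_mem_principalBlock hM θ hθB
  set v := (charDegree (θ : N → ℂ)).factorization 2 with hv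
  -- the sum formula
  have hsum : nθ = ∑ β : IrrCharacter G, (m β : ℤ) * n β := by
    have h1 : classInner (rt G) ψ = classInner (rt N) (θ : N → ℂ) := by
      rw [hψdef, Helper15.frobenius_reciprocity' N (θ : N → ℂ) (rt G) isClassFunction_rt,
        rt_restrict N hodd]
    have h2 : classInner (rt G) ψ = ∑ β : IrrCharacter G, (m β : ℂ) * (n β : ℂ) := by
      conv_lhs => arg 2; rw [Helper74.isCharacter_eq_sum_irr hψ]
      rw [Helper74.classInner_sum_right]
      refine Finset.sum_congr rfl fun β _ => ?_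
      rw [Helper74.classInner_smul_right, hm, hn, Complex.conj_natCast]
    rw [h1, hnθ] at h2
    exact_mod_cast h2
  -- divisibility
  have hdvd : ∀ β : IrrCharacter G, (2 : ℤ) ^ v ∣ (m β : ℤ) * n β := by
    intro β
    by_cases hm0 : m β = 0
    · rw [hm0]; simp
    by_cases hβB : β ∈ principalBlock M G
    · obtain ⟨n', hn', hn'0, hn'v⟩ := inner_rt_of_mem_principalBlock hM β hβB
      have hnn : n' = n β := by
        have := hn'.symm.trans (hn β)
        exact_mod_cast this
      subst hnn
      apply Dvd.dvd.mul_left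
      have hover' : classInner (fun x : N => (β : G → ℂ) x) (θ : N → ℂ) ≠ 0 := by
        have h1 : classInner ψ (β : G → ℂ) ≠ 0 := by
          rw [hm]; exact_mod_cast hm0
        rw [hψdef, Helper15.frobenius_reciprocity N (θ : N → ℂ) (β : G → ℂ)
          (Helper74.irr_isClassFunction β)] at h1
        intro h0
        apply h1
        rw [← Helper74.classInner_conj_symm, h0, map_zero]
      have hdd := charDegree_dvd_of_constituent N β.2 θ.2 hover'
      have hle : v ≤ (charDegree (β : G → ℂ)).factorization 2 := by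
        have hpos : charDegree (β : G → ℂ) ≠ 0 :=
          (Helper78.charDegree_pos_of_isIrrCharacter β.2).ne'
        have hposθ : charDegree (θ : N → ℂ) ≠ 0 :=
          (Helper78.charDegree_pos_of_isIrrCharacter θ.2).ne'
        exact (Nat.factorization_le_iff_dvd hposθ hpos).mpr hdd 2
      have : (2 : ℤ) ^ v ∣ n β := by
        have h2 : ((2 : ℕ) : ℤ) ^ v ∣ n β := by
          rw [padicValInt_dvd_iff]
          right
          rw [hn'v]
          exact hle
        exact_mod_cast h2
      exact this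
    · have h0 : n β = 0 := by
        have h1 := (mem_principalBlock_iff_inner_rt hM β).not.mp hβB
        push Not at h1
        rw [hn] at h1
        exact_mod_cast h1
      rw [h0]; simp
  choose c hc using hdvd
  have hcgal : ∀ β : IrrCharacter G, c (galIrr G k hk β) = c β := by
    intro β
    have h1 := hc (galIrr G k hk β)
    rw [hmgal, hngal, hc β] at h1
    have h2 : (2 : ℤ) ^ v ≠ 0 := by positivity
    exact (mul_left_cancel₀ h2 h1).symm
  -- the sum of the `c`'s is odd
  have hsumc : nθ = 2 ^ v * ∑ β : IrrCharacter G, c β := by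
    rw [hsum, Finset.mul_sum]
    exact Finset.sum_congr rfl fun β _ => hc β
  have hoddc : ¬ (2 : ℤ) ∣ ∑ β : IrrCharacter G, c β := by
    intro h2
    have h3 : ((2 : ℕ) : ℤ) ^ (v + 1) ∣ nθ := by
      rw [hsumc, pow_succ]
      push_cast
      exact mul_dvd_mul_left _ h2
    rw [padicValInt_dvd_iff] at h3
    rcases h3 with h3 | h3
    · exact hnθ0 h3
    · rw [hnθv] at h3
      omega
  have hS1 : ((∑ β : IrrCharacter G, c β : ℤ) : ZMod 2) ≠ 0 := by
    rw [Ne, ZMod.intCast_zmod_eq_zero_iff_dvd]
    exact_mod_cast hoddc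
  rw [Int.cast_sum, sum_eq_sum_fixed_of_iterate_two_pow (fun β : IrrCharacter G => (c β : ZMod 2))
    e Finset.univ (galIrr G k hk) (fun _ _ => Finset.mem_univ _)
    (fun β _ => galIrr_iterate_eq_self k hk hke β)
    (fun β _ => by simp only [hcgal])] at hS1
  obtain ⟨ξ, hξmem, hξne⟩ := Finset.exists_ne_zero_of_sum_ne_zero hS1
  have hξfix := (galIrr_eq_self_iff k hk ξ).mp (Finset.mem_filter.mp hξmem).2
  have hcne : c ξ ≠ 0 := by
    rintro h0
    apply hξne
    rw [h0]; simp
  have hmn : (m ξ : ℤ) * n ξ ≠ 0 := by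
    rw [hc ξ]
    exact mul_ne_zero (by positivity) hcne
  have hmξ : m ξ ≠ 0 := by
    rintro h0
    apply hmn
    rw [h0]; simp
  have hnξ : n ξ ≠ 0 := by
    rintro h0
    apply hmn
    rw [h0]; simp
  have hξB : ξ ∈ principalBlock M G := by
    rw [mem_principalBlock_iff_inner_rt hM, hn]
    exact_mod_cast hnξ
  have hξover : classInner (fun x : N => (ξ : G → ℂ) x) (θ : N → ℂ) ≠ 0 := by
    have h1 : classInner ψ (ξ : G → ℂ) ≠ 0 := by
      rw [hm]; exact_mod_cast hmξ
    rw [hψdef, Helper15.frobenius_reciprocity N (θ : N → ℂ) (ξ : G → ℂ)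
      (Helper74.irr_isClassFunction ξ)] at h1
    intro h0
    apply h1
    rw [← Helper74.classInner_conj_symm, h0, map_zero]
  have heq := gal_fixed_over_unique N hodd k e hk hke hk₂ θ.2 ξ χ hξfix hχfix hξover hover
  rw [← heq]
  exact hξB

/-- Statement S4520. -/
theorem gal_fixed_principalBlock_iff {M : Ideal AlgInt} (hM : IsPModular 2 M)
    (hodd : Odd N.index) (k e : ℕ) (hk : k.Coprime (Nat.card G))
    (hke : k ^ (2 ^ e) ≡ 1 [MOD Nat.card G])
    (hk₂ : ∀ g : G, Odd (orderOf g) → g ^ k = g⁻¹)
    (θ : IrrCharacter N) (hθfix : ∀ n : N, (θ : N → ℂ) (n ^ k) = (θ : N → ℂ) n)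
    (χ : IrrCharacter G) (hχfix : ∀ g : G, (χ : G → ℂ) (g ^ k) = (χ : G → ℂ) g)
    (hover : classInner (fun n : N => (χ : G → ℂ) n) (θ : N → ℂ) ≠ 0) :
    χ ∈ principalBlock M G ↔ θ ∈ principalBlock M N := by
  have : Fact (Nat.Prime 2) := ⟨Nat.prime_two⟩
  constructor
  · intro hχB
    exact Cfsg.Agent.S4708.mem_principalBlock_of_constituent hM N χ hχB θ hover
  · intro hθB
    exact mem_principalBlock_of_gal_fixed_over N hM hodd k e hk hke hk₂ θ hθfix χ hχfix hover hθB

end

end Cfsg.Agent.Helper81
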