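import Mathlib
import Cfsg.Agent.Helper81.GalBlock2
import Cfsg.Agent.S4517
import Cfsg.Agent.Helper81.ConjIrr

/-!
# Real characters of odd degree and the principal 2-block, part 1

* `mem_principalBlock_of_real_of_odd`: a real-valued irreducible character of odd degree lies in
  the principal 2-block.
* `exists_hom_of_two_extensions`: two extensions of an irreducible character of a normal subgroup
  differ by a linear character of the quotient.
-/

set_option autoImplicit false
set_option linter.unusedSectionVars false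

namespace Cfsg.Agent.Helper81

open Cfsg
open scoped ComplexConjugate

universe u

section real

variable {G : Type u} [Group G]

theorem centralizer_singleton_inv (g : G) :
    Subgroup.centralizer ({g⁻¹} : Set G) = Subgroup.centralizer ({g} : Set G) := by
  ext x
  simp only [Subgroup.mem_centralizer_iff, Set.mem_singleton_iff, forall_eq]
  constructor
  · intro h
    have h1 : x = g * x * g⁻¹ := by
      rw [mul_assoc, ← h, mul_inv_cancel_left]
    calc g * x = g * x * g⁻¹ * g := by group
      _ = x * g := by rw [← h1]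
  · intro h
    have h1 : x = g⁻¹ * x * g := by
      rw [mul_assoc, ← h, inv_mul_cancel_left]
    calc g⁻¹ * x = g⁻¹ * x * g * g⁻¹ := by group
      _ = x * g⁻¹ := by rw [← h1]

theorem centralChar_inv_of_isCharacter [Finite G] {χ : G → ℂ} (hχ : IsCharacter G χ) (g : G) :
    centralChar χ g⁻¹ = centralChar (fun x => conj (χ x)) g := by
  unfold centralChar
  rw [centralizer_singleton_inv, Helper74.char_inv hχ]
  obtain ⟨n, hn⟩ := Helper74.isCharacter_apply_one hχ
  simp only [hn, Complex.conj_natCast]

/-- A real-valued irreducible character of odd degree lies in the principal 2-block. -/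
theorem mem_principalBlock_of_real_of_odd [Finite G] {M : Ideal AlgInt} (hM : IsPModular 2 M)
    (ξ : IrrCharacter G) (hreal : ∀ g : G, ((ξ : G → ℂ) g).im = 0)
    (hodd : Odd (charDegree (ξ : G → ℂ))) : ξ ∈ principalBlock M G := by
  classical
  have : Fintype G := Fintype.ofFinite G
  have hMp := Helper78.isPrime_of_isPModular hM
  set B := blockOf M (ξ : G → ℂ) with hBdef
  have hB : IsPBlock M B := ⟨ξ, rfl⟩
  have hξB : ξ ∈ B := Helper78.mem_blockOf_self hMp ξ
  have hdef : blockDefect 2 B = (Nat.card G).factorization 2 := by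
    rw [Helper16.blockDefect_eq]
    have h1 := Helper16.minExp_le_of_mem 2 hξB
    have h2 : (charDegree (ξ : G → ℂ)).factorization 2 = 0 :=
      Nat.factorization_eq_zero_of_not_dvd (by rwa [← even_iff_two_dvd, Nat.not_even_iff_odd])
    omega
  set k := Nat.card G - 1 with hkdef
  have hcard : 1 ≤ Nat.card G := Nat.card_pos
  have hk1 : k + 1 = Nat.card G := by omega
  have hk : Nat.Coprime k (Nat.card G) := by
    rw [← hk1]
    simp
  have hpow : ∀ g : G, g ^ k = g⁻¹ := by
    intro g
    rw [eq_inv_iff_mul_eq_one, ← pow_succ, hk1]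
    exact pow_card_eq_one'
  have hξconj : (fun x => conj ((ξ : G → ℂ) x)) = (ξ : G → ℂ) := by
    funext x; exact Complex.conj_eq_iff_im.mpr (hreal x)
  have hstab : ∀ χ ∈ B, ∃ ψ ∈ B, ∀ g : G, (ψ : G → ℂ) g = (χ : G → ℂ) (g ^ k) := by
    intro χ hχ
    refine ⟨Helper81.irrConj G χ, ?_, ?_⟩
    · intro g
      have h : MemLocalIdeal M (centralChar (ξ : G → ℂ) g⁻¹ - centralChar (χ : G → ℂ) g⁻¹) :=
        hχ g⁻¹
      rw [centralChar_inv_of_isCharacter (Helper74.irr_isCharacter ξ),
        centralChar_inv_of_isCharacter (Helper74.irr_isCharacter χ), hξconj] at h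
      exact h
    · intro g
      rw [hpow, Helper81.irrConj_apply, Helper74.char_inv (Helper74.irr_isCharacter χ)]
  have h := Cfsg.Agent.S4517.result M hM k hk (fun g _ => hpow g) B hB hdef hstab
  rw [← h]
  exact hξB

end real

section ext

variable {G : Type u} [Group G] [Fintype G] (N : Subgroup G) [hN : N.Normal] [Fintype N]

/-- Two irreducible characters of `G` with the same irreducible restriction to `N ⊴ G` differ by
a linear character of `G ⧸ N`. -/
theorem exists_hom_of_two_extensions {χ₀ χ₁ : G → ℂ} (hχ₀ : IsIrrCharacter G χ₀)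
    (hχ₁ : IsIrrCharacter G χ₁) (hχ₀N : IsIrrCharacter N (fun n : N => χ₀ n))
    (hres : ∀ n : N, χ₁ n = χ₀ n) :
    ∃ φ : G →* ℂˣ, (∀ n : N, φ (n : G) = 1) ∧ ∀ g : G, χ₁ g = ((φ g : ℂˣ) : ℂ) * χ₀ g := by
  classical
  have hbij := Helper15.gallagher_bijOn N hχ₀ hχ₀N
  have hmem : χ₁ ∈ {ψ : G → ℂ | IsIrrCharacter G ψ ∧
      classInner (indFun N (fun n : N => χ₀ n)) ψ ≠ 0} := by
    refine ⟨hχ₁, ?_⟩
    rw [Helper15.frobenius_reciprocity N _ χ₁ (Helper74.isClassFunction_of_isCharacter
      (Helper74.isCharacter_of_isIrr hχ₁))]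
    have h1 : (fun n : N => χ₁ n) = fun n : N => χ₀ n := funext hres
    rw [h1]
    have := Helper74.irr_inner_self (⟨_, hχ₀N⟩ : IrrCharacter N)
    simp only at this
    rw [this]
    exact one_ne_zero
  obtain ⟨β, ⟨hβirr, hβ1⟩, hβeq⟩ := hbij.surjOn hmem
  have hβc : IsCharacter G β := Helper74.isCharacter_of_isIrr hβirr
  have hβeq' : ∀ g : G, χ₁ g = β g * χ₀ g := by
    intro g
    have := congrFun hβeq g
    exact this.symm
  obtain ⟨d, hdpos, hd⟩ := Helper15.irr_degree_pos hχ₀
  have hχ₀1 : χ₀ 1 ≠ 0 := by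
    rw [hd]; exact_mod_cast hdpos.ne'
  have hβone : β 1 = 1 := by
    have h1 := hβeq' 1
    have h2 := hres 1
    rw [Subgroup.coe_one] at h2
    rw [h2] at h1
    have h3 : β 1 * χ₀ 1 = 1 * χ₀ 1 := by rw [one_mul]; exact h1.symm
    exact mul_right_cancel₀ hχ₀1 h3
  obtain ⟨φ, hφ⟩ := Helper80.IsCharacter.exists_monoidHom hβc hβone
  refine ⟨φ, ?_, fun g => by rw [hβeq', hφ]⟩
  intro n
  have h1 : classInner (fun n : N => β n) (fun _ => (1 : ℂ)) ≠ 0 := by
    rw [Helper15.frobenius_reciprocity N _ β
      (Helper74.isClassFunction_of_isCharacter hβc)] at hβ1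
    intro h0
    apply hβ1
    rw [← Helper74.classInner_conj_symm, h0, map_zero]
  have h2 := Helper82.const_of_inner_restrict_one_ne_zero N hβirr h1 n
  rw [hβone, hφ] at h2
  exact Units.ext h2

end ext

end Cfsg.Agent.Helper81
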