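import Mathlib
import Cfsg.Agent.Helper81.RealExt1
import Cfsg.Agent.Helper81.Gallagher

/-!
# Real characters of odd degree and the principal 2-block, part 2

* `exists_extension_in_principalBlock`: a real-valued irreducible character of odd degree of a
  normal subgroup that extends to `G` has an extension in the principal 2-block of `G`.
-/

set_option autoImplicit false
set_option linter.unusedSectionVars false

namespace Cfsg.Agent.Helper81

open Cfsg
open scoped ComplexConjugate

universe u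

section

variable {G : Type u} [Group G] [Fintype G]

/-- If the restriction of an irreducible character to `N` is irreducible, so is its restriction
to every `H ≥ N`. -/
theorem isIrrCharacter_restrict_of_le {χ : G → ℂ} (hχ : IsIrrCharacter G χ) {N H : Subgroup G}
    [Fintype N] (hNH : N ≤ H) (hN : IsIrrCharacter N (fun n : N => χ n)) :
    IsIrrCharacter H (fun h : H => χ h) := by
  obtain ⟨n, ρ, _, rfl⟩ := hχ
  have h1 : (resRep ρ N).IsIrreducible := by
    apply isIrreducible_of_isIrrCharacter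
    exact hN
  have h2 := isIrreducible_resRep_of_le ρ hNH h1
  exact ⟨n, resRep ρ H, h2, rfl⟩

theorem conj_units_of_finite_order (z : ℂˣ) {n : ℕ} (hn : n ≠ 0) (hz : z ^ n = 1) :
    conj (z : ℂ) = ((z⁻¹ : ℂˣ) : ℂ) := by
  have h1 : (z : ℂ) ^ n = 1 := by
    have := congrArg (fun w : ℂˣ => (w : ℂ)) hz
    simpa using this
  have h2 : ‖(z : ℂ)‖ = 1 := Complex.norm_eq_one_of_pow_eq_one h1 hn
  rw [Units.val_inv_eq_inv_val, Complex.inv_eq_conj h2]

variable (N : Subgroup G) [hN : N.Normal] [Fintype N]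

theorem exists_extension_in_principalBlock {M : Ideal AlgInt} (hM : IsPModular 2 M)
    (θ : IrrCharacter N) (hreal : ∀ n : N, ((θ : N → ℂ) n).im = 0)
    (hodd : Odd (charDegree (θ : N → ℂ))) (η : IrrCharacter G)
    (hη : ∀ n : N, (η : G → ℂ) n = (θ : N → ℂ) n) :
    ∃ η' : IrrCharacter G, (∀ n : N, (η' : G → ℂ) n = (θ : N → ℂ) n) ∧
      η' ∈ principalBlock M G := by
  classical
  have hcardne : Nat.card G ≠ 0 := Nat.card_pos.ne'
  -- the linear character relating `η` and its conjugate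
  have hηN : IsIrrCharacter N (fun n : N => (η : G → ℂ) n) := by
    have : (fun n : N => (η : G → ℂ) n) = (θ : N → ℂ) := funext hη
    rw [this]; exact θ.2
  have hres : ∀ n : N, ((Helper81.irrConj G η : IrrCharacter G) : G → ℂ) n = (η : G → ℂ) n := by
    intro n
    rw [Helper81.irrConj_apply, hη]
    exact Complex.conj_eq_iff_im.mpr (hreal n)
  obtain ⟨φ, hφN, hφ⟩ := exists_hom_of_two_extensions N η.2 (Helper81.irrConj G η).2 hηN hres
  have hφ' : ∀ g : G, conj ((η : G → ℂ) g) = ((φ g : ℂˣ) : ℂ) * (η : G → ℂ) g := by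
    intro g
    rw [← hφ g, Helper81.irrConj_apply]
  obtain ⟨a, u, hu, hcard⟩ := Nat.exists_eq_two_pow_mul_odd hcardne
  obtain ⟨j, hj⟩ := hu
  have hφcard : ∀ g : G, φ g ^ Nat.card G = 1 := by
    intro g
    rw [← map_pow, pow_card_eq_one', map_one]
  let ν : G →* ℂˣ := φ ^ (j + 1)
  have hν : ∀ g : G, ν g = φ g ^ (j + 1) := fun g => rfl
  let δ : G →* ℂˣ := φ ^ u
  have hδ : ∀ g : G, δ g = φ g ^ u := fun g => rfl
  set χ' : G → ℂ := fun g => ((ν g : ℂˣ) : ℂ) * (η : G → ℂ) g with hχ'def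
  have hχ'irr : IsIrrCharacter G χ' := isIrrCharacter_twist ν η.2
  have hχ'res : ∀ n : N, χ' n = (θ : N → ℂ) n := by
    intro n
    show ((ν (n : G) : ℂˣ) : ℂ) * (η : G → ℂ) n = _
    rw [hν, hφN, one_pow, Units.val_one, one_mul, hη]
  -- conjugate of `χ'`
  have hconj : ∀ g : G, conj (χ' g) = (((δ g)⁻¹ : ℂˣ) : ℂ) * χ' g := by
    intro g
    show conj (((ν g : ℂˣ) : ℂ) * (η : G → ℂ) g) = (((δ g)⁻¹ : ℂˣ) : ℂ) *
      (((ν g : ℂˣ) : ℂ) * (η : G → ℂ) g)
    have hνfin : ν g ^ Nat.card G = 1 := by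
      rw [hν, ← pow_mul, mul_comm, pow_mul, hφcard, one_pow]
    have key : (ν g)⁻¹ * φ g = (δ g)⁻¹ * ν g := by
      rw [hν, hδ, hj]
      group
    rw [map_mul, conj_units_of_finite_order (ν g) hcardne hνfin, hφ', ← mul_assoc, ← mul_assoc,
      ← Units.val_mul, ← Units.val_mul, key]
  set H : Subgroup G := δ.ker with hHdef
  have hNH : N ≤ H := by
    intro n hn
    rw [hHdef, MonoidHom.mem_ker, hδ, hφN ⟨n, hn⟩, one_pow]
  have : Fintype H := Fintype.ofFinite H
  -- odd order elements lie in `H`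
  have hoddH : ∀ y : G, ¬ 2 ∣ orderOf y → y ∈ H := by
    intro y hy
    rw [hHdef, MonoidHom.mem_ker]
    have h1 : δ y ^ (2 ^ a) = 1 := by
      rw [hδ, ← pow_mul, mul_comm, ← hcard, hφcard]
    have h2 : δ y ^ orderOf y = 1 := by
      rw [← map_pow, pow_orderOf_eq_one, map_one]
    have h3 := (pow_gcd_eq_one (a := δ y) (m := 2 ^ a) (n := orderOf y)).mpr ⟨h1, h2⟩
    have h4 : Nat.gcd (2 ^ a) (orderOf y) = 1 :=
      Nat.Coprime.pow_left a ((Nat.Prime.coprime_iff_not_dvd Nat.prime_two).mpr hy)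
    rw [h4, pow_one] at h3
    exact h3
  -- the restriction of `χ'` to `H`
  have hχ'N : IsIrrCharacter N (fun n : N => χ' n) := by
    have : (fun n : N => χ' n) = (θ : N → ℂ) := funext hχ'res
    rw [this]; exact θ.2
  have hχ'H : IsIrrCharacter H (fun h : H => χ' h) :=
    isIrrCharacter_restrict_of_le hχ'irr hNH hχ'N
  have hrealH : ∀ h : H, ((fun h : H => χ' h) h).im = 0 := by
    intro h
    apply Complex.conj_eq_iff_im.mp
    show conj (χ' h) = χ' h
    rw [hconj]
    have : δ (h : G) = 1 := h.2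
    rw [this, inv_one, Units.val_one, one_mul]
  have hdegH : charDegree (fun h : H => χ' h) = charDegree (θ : N → ℂ) := by
    unfold charDegree
    have h1 := hχ'res 1
    rw [Subgroup.coe_one] at h1
    show ⌊(χ' ((1 : H) : G)).re⌋₊ = _
    rw [Subgroup.coe_one, h1]
  have hmemH : (⟨fun h : H => χ' h, hχ'H⟩ : IrrCharacter H) ∈ principalBlock M H :=
    mem_principalBlock_of_real_of_odd hM ⟨fun h : H => χ' h, hχ'H⟩ hrealH (by rw [hdegH]; exact hodd)
  have : Fact (Nat.Prime 2) := ⟨Nat.prime_two⟩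
  rw [Helper79.mem_principalBlock_iff_inner_regInd hM] at hmemH
  refine ⟨⟨χ', hχ'irr⟩, hχ'res, ?_⟩
  rw [Helper79.mem_principalBlock_iff_inner_regInd hM]
  intro h0
  apply hmemH
  unfold classInner at h0 ⊢
  have hG : (Nat.card G : ℂ)⁻¹ ≠ 0 := by
    apply inv_ne_zero
    exact_mod_cast hcardne
  have h1 := (mul_eq_zero.mp h0).resolve_left hG
  have h1' : ∑ g : G, Helper79.regInd 2 G g * conj (χ' g) = 0 := h1
  have h2 : ∑ g : G, Helper79.regInd 2 G g * conj (χ' g) =
      ∑ h : H, Helper79.regInd 2 G (h : G) * conj (χ' (h : G)) := by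
    have hs : ∑ g : G, Helper79.regInd 2 G g * conj (χ' g) =
        ∑ g ∈ Finset.univ.filter (fun g : G => g ∈ H), Helper79.regInd 2 G g * conj (χ' g) := by
      rw [Finset.sum_filter]
      refine Finset.sum_congr rfl fun g _ => ?_
      split_ifs with hg
      · rfl
      · rw [Helper79.regInd_apply, if_pos, zero_mul]
        by_contra h2
        exact hg (hoddH g h2)
    rw [hs]
    exact Finset.sum_subtype _ (fun g => by simp) _
  have h3 : ∀ h : H, Helper79.regInd 2 H h = Helper79.regInd 2 G (h : G) := by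
    intro h
    rw [Helper79.regInd_apply, Helper79.regInd_apply, Subgroup.orderOf_coe]
  show (Nat.card H : ℂ)⁻¹ * ∑ h : H, Helper79.regInd 2 H h * conj (χ' (h : G)) = 0
  rw [Finset.sum_congr rfl (fun h _ => by rw [h3 h]), ← h2, h1', mul_zero]

end

end Cfsg.Agent.Helper81
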