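import Mathlib

/-!
# Semidirect products `N ⋊ P` with `N` the unique minimal normal subgroup: group theory

* `exists_retraction`: a normal subgroup with a complement has a retraction onto the complement;
* `exists_central_involution`: a non-trivial `2`-group has a central involution;
* `involution_inverts`: in `G = N ⋊ P`, `N` abelian and the unique minimal normal subgroup, a
  central involution of `P` inverts `N`.
-/

set_option autoImplicit false

namespace Cfsg.Agent.Helper81

variable {G : Type*} [Group G]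

/-- A normal subgroup `N` with a complement `P` admits a retraction `ρ : G → P` with kernel `N`. -/
theorem exists_retraction (N P : Subgroup G) (hN : N.Normal) (hdisj : N ⊓ P = ⊥)
    (hprod : N ⊔ P = ⊤) :
    ∃ ρ : G →* G, (∀ g, ρ g ∈ P) ∧ (∀ g, g * (ρ g)⁻¹ ∈ N) ∧ (∀ x ∈ P, ρ x = x) ∧
      (∀ n ∈ N, ρ n = 1) := by
  have := hN
  have hc : P.IsComplement' N := by
    apply Subgroup.isComplement'_of_disjoint_and_mul_eq_univ
    · rw [disjoint_iff, inf_comm]; exact hdisj
    · rw [← Subgroup.mul_normal, sup_comm, hprod]; rfl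
  let e : G ⧸ N ≃* P := hc.QuotientMulEquiv
  have hes : ∀ x : P, e.symm x = QuotientGroup.mk (x : G) := fun x => rfl
  let ρ : G →* G := P.subtype.comp (e.toMonoidHom.comp (QuotientGroup.mk' N))
  have hρ : ∀ g, ρ g = ((e (QuotientGroup.mk g) : P) : G) := fun g => rfl
  have h2 : ∀ g, g * (ρ g)⁻¹ ∈ N := by
    intro g
    have h1 : (QuotientGroup.mk (ρ g) : G ⧸ N) = QuotientGroup.mk g := by
      rw [hρ, ← hes, MulEquiv.symm_apply_apply]
    rw [QuotientGroup.eq] at h1
    have := hN.conj_mem _ h1 g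
    have h3 : g * ((ρ g)⁻¹ * g) * g⁻¹ = g * (ρ g)⁻¹ := by group
    rwa [h3] at this
  have h1 : ∀ g, ρ g ∈ P := fun g => (e (QuotientGroup.mk g)).2
  refine ⟨ρ, h1, h2, ?_, ?_⟩
  · intro x hx
    rw [hρ]
    have : e (QuotientGroup.mk x) = ⟨x, hx⟩ := by
      rw [← MulEquiv.eq_symm_apply, hes]
    rw [this]
  · intro n hn
    have h3 : ρ n ∈ N := by
      have := N.mul_mem (N.inv_mem (h2 n)) hn
      have h4 : (n * (ρ n)⁻¹)⁻¹ * n = ρ n := by group
      rwa [h4] at this
    have h4 : ρ n ∈ N ⊓ P := ⟨h3, h1 n⟩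
    rw [hdisj] at h4
    exact Subgroup.mem_bot.mp h4

/-- A non-trivial `2`-group has a central involution. -/
theorem exists_central_involution (P : Subgroup G) [Finite P] (hP : IsPGroup 2 P) (hP1 : P ≠ ⊥) :
    ∃ z ∈ P, z ≠ 1 ∧ z * z = 1 ∧ ∀ x ∈ P, x * z = z * x := by
  have : Nontrivial P := (Subgroup.nontrivial_iff_ne_bot P).mpr hP1
  have : Nontrivial (Subgroup.center P) := hP.center_nontrivial
  have hZ : IsPGroup 2 (Subgroup.center P) := hP.to_subgroup _
  obtain ⟨k, hk⟩ := IsPGroup.iff_card.mp hZ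
  have hk0 : k ≠ 0 := by
    intro h0
    rw [h0, pow_zero] at hk
    have := (Nat.card_eq_one_iff_unique.mp hk).1
    exact not_subsingleton (Subgroup.center P) this
  have h2 : 2 ∣ Nat.card (Subgroup.center P) := by
    rw [hk]; exact dvd_pow_self 2 hk0
  obtain ⟨c, hc⟩ := exists_prime_orderOf_dvd_card' 2 h2
  have hc2 : c ^ 2 = 1 := by rw [← hc]; exact pow_orderOf_eq_one c
  have hc1 : c ≠ 1 := by
    intro h
    rw [h, orderOf_one] at hc
    omega
  refine ⟨((c : P) : G), (c : P).2, ?_, ?_, ?_⟩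
  · intro h
    apply hc1
    apply Subtype.ext
    apply Subtype.ext
    simpa using h
  · have := congrArg (fun u : Subgroup.center P => ((u : P) : G)) hc2
    simpa [sq] using this
  · intro x hx
    have hmem := (c : Subgroup.center P).2
    rw [Subgroup.mem_center_iff] at hmem
    have := hmem ⟨x, hx⟩
    have := congrArg (fun u : P => (u : G)) this
    simpa using this

/-- In `G = N ⋊ P` with `N` abelian and the unique minimal normal subgroup, a central involution
of `P` inverts `N`. -/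
theorem involution_inverts (N P : Subgroup G) (hN : N.Normal)
    (hcomm : ∀ a ∈ N, ∀ b ∈ N, a * b = b * a) (hdisj : N ⊓ P = ⊥) (hprod : N ⊔ P = ⊤)
    (hmin : N ≠ ⊥ ∧ ∀ M : Subgroup G, M.Normal → M ≠ ⊥ → N ≤ M)
    (z : G) (hzP : z ∈ P) (hz1 : z ≠ 1) (hzz : z * z = 1) (hzc : ∀ x ∈ P, x * z = z * x) :
    ∀ n ∈ N, z * n * z⁻¹ = n⁻¹ := by
  have hzinv : z⁻¹ = z := inv_eq_of_mul_eq_one_right hzz
  -- the centraliser of `z` in `N`
  let C : Subgroup G := N ⊓ Subgroup.centralizer {z}
  have hmemC : ∀ c, c ∈ C ↔ c ∈ N ∧ z * c = c * z := by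
    intro c
    show c ∈ N ∧ c ∈ Subgroup.centralizer {z} ↔ _
    rw [Subgroup.mem_centralizer_iff]
    constructor
    · rintro ⟨h1, h2⟩
      exact ⟨h1, h2 z rfl⟩
    · rintro ⟨h1, h2⟩
      refine ⟨h1, ?_⟩
      intro y hy
      rw [Set.mem_singleton_iff] at hy
      rw [hy]; exact h2
  -- one-directional stability under `N` and `P`
  have hstabN : ∀ g ∈ N, ∀ c ∈ C, g * c * g⁻¹ ∈ C := by
    intro g hg c hc
    have hcN := ((hmemC c).mp hc).1
    have : g * c * g⁻¹ = c := by
      rw [hcomm g hg c hcN, mul_assoc, mul_inv_cancel, mul_one]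
    rw [this]; exact hc
  have hstabP : ∀ g ∈ P, ∀ c ∈ C, g * c * g⁻¹ ∈ C := by
    intro g hg c hc
    obtain ⟨hcN, hcz⟩ := (hmemC c).mp hc
    rw [hmemC]
    refine ⟨hN.conj_mem c hcN g, ?_⟩
    have h1 : g * z = z * g := hzc g hg
    have h2 : g⁻¹ * z = z * g⁻¹ := hzc g⁻¹ (P.inv_mem hg)
    calc z * (g * c * g⁻¹) = (z * g) * c * g⁻¹ := by group
      _ = g * (z * c) * g⁻¹ := by rw [← h1]; group
      _ = g * c * (z * g⁻¹) := by rw [hcz]; group
      _ = g * c * g⁻¹ * z := by rw [← h2]; group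
  have hnorm : C.Normal := by
    rw [← Subgroup.normalizer_eq_top_iff, eq_top_iff, ← hprod, sup_le_iff]
    constructor
    · intro g hg
      rw [Subgroup.mem_normalizer_iff]
      intro h
      constructor
      · exact hstabN g hg h
      · intro hh
        have := hstabN g⁻¹ (N.inv_mem hg) _ hh
        have h3 : g⁻¹ * (g * h * g⁻¹) * g⁻¹⁻¹ = h := by group
        rwa [h3] at this
    · intro g hg
      rw [Subgroup.mem_normalizer_iff]
      intro h
      constructor
      · exact hstabP g hg h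
      · intro hh
        have := hstabP g⁻¹ (P.inv_mem hg) _ hh
        have h3 : g⁻¹ * (g * h * g⁻¹) * g⁻¹⁻¹ = h := by group
        rwa [h3] at this
  have hCbot : C = ⊥ := by
    by_contra hC
    have hNC : N ≤ C := hmin.2 C hnorm hC
    -- `z` is central in `G`
    have hzcent : ∀ g : G, g * z = z * g := by
      have : (⊤ : Subgroup G) ≤ Subgroup.centralizer {z} := by
        rw [← hprod, sup_le_iff]
        constructor
        · intro g hg
          exact (hNC hg).2
        · intro g hg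
          rw [Subgroup.mem_centralizer_iff]
          intro y hy
          rw [Set.mem_singleton_iff] at hy
          rw [hy]; exact (hzc g hg).symm
      intro g
      have := this (Subgroup.mem_top g)
      rw [Subgroup.mem_centralizer_iff] at this
      exact (this z rfl).symm
    have hZn : (Subgroup.zpowers z).Normal := by
      refine ⟨fun a ha g => ?_⟩
      obtain ⟨k, rfl⟩ := Subgroup.mem_zpowers_iff.mp ha
      have : g * z ^ k * g⁻¹ = z ^ k := by
        have hc : Commute g z := hzcent g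
        rw [(hc.zpow_right k).eq, mul_assoc, mul_inv_cancel, mul_one]
      rw [this]
      exact Subgroup.zpow_mem_zpowers z k
    have hZ1 : Subgroup.zpowers z ≠ ⊥ := by
      rw [Ne, Subgroup.zpowers_eq_bot]; exact hz1
    have hNZ : N ≤ Subgroup.zpowers z := hmin.2 _ hZn hZ1
    have hZP : Subgroup.zpowers z ≤ P := by
      rw [Subgroup.zpowers_le]; exact hzP
    apply hmin.1
    rw [eq_bot_iff, ← hdisj]
    exact le_inf le_rfl (hNZ.trans hZP)
  intro n hn
  have hzn : z * n * z⁻¹ ∈ N := hN.conj_mem n hn z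
  have hm : n * (z * n * z⁻¹) ∈ C := by
    rw [hmemC]
    refine ⟨N.mul_mem hn hzn, ?_⟩
    have h1 : n * (z * n * z⁻¹) = (z * n * z⁻¹) * n := hcomm n hn _ hzn
    calc z * (n * (z * n * z⁻¹)) = (z * n * z⁻¹) * (z * z) * n * z⁻¹ := by group
      _ = (z * n * z⁻¹) * n * z := by rw [hzz, mul_one, hzinv]
      _ = n * (z * n * z⁻¹) * z := by rw [← h1]
  rw [hCbot, Subgroup.mem_bot] at hm
  exact (eq_inv_of_mul_eq_one_right hm)

/-- In a semidirect product `N ⋊ P` the index of `N` is the order of `P`. -/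
theorem index_eq_card_of_semidirect (N P : Subgroup G) (hN : N.Normal) (hdisj : N ⊓ P = ⊥)
    (hprod : N ⊔ P = ⊤) : N.index = Nat.card P := by
  have := hN
  have hc : P.IsComplement' N := by
    apply Subgroup.isComplement'_of_disjoint_and_mul_eq_univ
    · rw [disjoint_iff, inf_comm]; exact hdisj
    · rw [← Subgroup.mul_normal, sup_comm, hprod]; rfl
  exact hc.index_eq_card

/-- A non-trivial finite abelian subgroup has a non-trivial linear character. -/
theorem exists_hom_apply_ne_one (N : Subgroup G) [Finite N]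
    (hcomm : ∀ a ∈ N, ∀ b ∈ N, a * b = b * a) (hN1 : N ≠ ⊥) :
    ∃ (θ₀ : N →* ℂˣ) (n₀ : N), θ₀ n₀ ≠ 1 := by
  let _ : CommGroup N :=
    { (inferInstance : Group N) with
      mul_comm := fun a b => Subtype.ext (hcomm a a.2 b b.2) }
  have : Nontrivial N := (Subgroup.nontrivial_iff_ne_bot N).mpr hN1
  obtain ⟨n₀, hn₀⟩ := exists_ne (1 : N)
  have : NeZero (Monoid.exponent N) := ⟨Monoid.exponent_ne_zero_of_finite⟩
  obtain ⟨θ₀, hθ₀⟩ := CommGroup.exists_apply_ne_one_of_hasEnoughRootsOfUnity N ℂ hn₀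
  exact ⟨θ₀, n₀, hθ₀⟩

end Cfsg.Agent.Helper81
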