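import Mathlib
import Cfsg.Prelude.Def_Blocks
import Cfsg.Agent.Helper81.FSInduced
import Cfsg.Agent.Helper81.SReal1

/-!
# Frobenius–Schur indicator of a character induced from a linear character

* `exists_extension_via_retraction`: a linear character `θ₀` of `N ⊴ G` extends to its inertia
  group `T` when `N` has a retraction;
* `fsInd_indFun_of_inverting`: if `ξ₀` is a linear character of `T = I_G(θ₀)` extending `θ₀` and an
  involution `z` inverts `N` and `ξ₀`, then `ν(ξ₀^G) = 1`.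
-/

set_option autoImplicit false
set_option linter.unusedSectionVars false

namespace Cfsg.Agent.Helper81

open Cfsg Cfsg.Agent.Helper15

universe u

variable {G : Type u} [Group G]

/-- The extension of a linear character to its inertia group via a retraction. -/
theorem exists_extension_via_retraction (N : Subgroup G) [hN : N.Normal] (θ₀ : N →* ℂˣ)
    (T : Subgroup G) (hT : T = inertia N (fun n => ((θ₀ n : ℂˣ) : ℂ))) (hNT : N ≤ T)
    (ρ : G →* G) (hρN : ∀ g, g * (ρ g)⁻¹ ∈ N) :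
    ∃ ξ₀ : T →* ℂˣ, ∀ t : T, ξ₀ t = θ₀ ⟨(t : G) * (ρ t)⁻¹, hρN t⟩ := by
  have hρT : ∀ t : T, ρ t ∈ T := by
    intro t
    have h1 : ((t : G) * (ρ t)⁻¹)⁻¹ * t = ρ t := by group
    rw [← h1]
    exact T.mul_mem (T.inv_mem (hNT (hρN t))) t.2
  have hinv : ∀ r ∈ T, ∀ b : N, θ₀ ⟨r * b * r⁻¹, hN.conj_mem (b : G) b.2 r⟩ = θ₀ b := by
    intro r hr b
    rw [hT, mem_inertia_iff] at hr
    exact Units.ext (hr b)
  refine ⟨MonoidHom.mk' (fun t : T => θ₀ ⟨(t : G) * (ρ t)⁻¹, hρN t⟩) ?_, fun t => rfl⟩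
  intro t t'
  have h1 : (⟨((t * t' : T) : G) * (ρ ((t * t' : T) : G))⁻¹, hρN _⟩ : N) =
      ⟨(t : G) * (ρ t)⁻¹, hρN t⟩ * ⟨ρ t * ((t' : G) * (ρ t')⁻¹) * (ρ t)⁻¹,
        hN.conj_mem _ (hρN t') (ρ t)⟩ := by
    apply Subtype.ext
    simp only [Subgroup.coe_mul, map_mul]
    group
  rw [h1, map_mul]
  congr 1
  exact hinv (ρ t) (hρT t) ⟨(t' : G) * (ρ t')⁻¹, hρN t'⟩

variable [Fintype G]

/-- If `ξ₀` is a linear character of the inertia group `T` of the linear character `θ₀` of `N`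
extending `θ₀`, and an involution `z` inverts `N` and `ξ₀`, then `ν(ξ₀^G) = 1`. -/
theorem fsInd_indFun_of_inverting (N : Subgroup G) [hN : N.Normal] [Fintype N]
    (θ₀ : N →* ℂˣ) (T : Subgroup G) [Fintype T]
    (hT : T = inertia N (fun n => ((θ₀ n : ℂˣ) : ℂ))) (hNT : N ≤ T)
    (ξ₀ : T →* ℂˣ) (hξθ : ∀ n : N, ξ₀ ⟨n, hNT n.2⟩ = θ₀ n)
    (z : G) (hzz : z * z = 1) (hzN : ∀ n ∈ N, z * n * z⁻¹ = n⁻¹)
    (hzT : ∀ t : T, ∃ h : z * t * z⁻¹ ∈ T, ξ₀ ⟨z * t * z⁻¹, h⟩ = (ξ₀ t)⁻¹) :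
    fsInd (indFun T (fun t => ((ξ₀ t : ℂˣ) : ℂ))) = 1 := by
  classical
  have hzinv : z⁻¹ = z := inv_eq_of_mul_eq_one_right hzz
  set ξ : T → ℂ := fun t => ((ξ₀ t : ℂˣ) : ℂ) with hξ
  rw [fsInd_indFun]
  have hTne : (Nat.card T : ℂ) ≠ 0 := by
    have : 0 < Nat.card T := Nat.card_pos
    exact_mod_cast this.ne'
  suffices hsum : ∑ g : G, extendByZero T ξ (g * g) = (Nat.card T : ℂ) by
    rw [hsum, inv_mul_cancel₀ hTne]
  set F : G → ℂ := fun h => extendByZero T ξ ((z * h) * (z * h)) with hF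
  have hre : ∑ g : G, extendByZero T ξ (g * g) = ∑ h : G, F h :=
    (Equiv.sum_comp (Equiv.mulLeft z) (fun g => extendByZero T ξ (g * g))).symm
  rw [hre, ← Finset.sum_filter_add_sum_filter_not Finset.univ (fun g : G => g ∈ T)]
  -- the part outside `T` vanishes
  have h2 : ∑ g ∈ Finset.univ.filter (fun g : G => g ∉ T), F g = 0 := by
    apply sum_compl_eq_zero_of_coset_sums N T hNT F
    intro g hg
    -- rewrite the argument
    have hzn : ∀ n : N, (n : G) * z = z * (n : G)⁻¹ := by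
      intro n
      have := hzN n n.2
      calc (n : G) * z = z * (z * n * z⁻¹) * (z⁻¹ * z) := by
            rw [hzinv, ← mul_assoc, ← mul_assoc, ← mul_assoc, hzz, one_mul, mul_assoc, mul_assoc,
              hzz, mul_one]
        _ = z * (n : G)⁻¹ := by rw [this, inv_mul_cancel, mul_one]
    have harg : ∀ n : N, (z * (g * n)) * (z * (g * n)) =
        ((z * g) * (z * g)) * ((g⁻¹ * (n : G)⁻¹ * g⁻¹⁻¹) * n) := by
      intro n
      calc (z * (g * n)) * (z * (g * n)) = z * g * ((n : G) * z) * g * n := by group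
        _ = z * g * (z * (n : G)⁻¹) * g * n := by rw [hzn n]
        _ = _ := by group
    set w : G := (z * g) * (z * g) with hw
    have hmN : ∀ n : N, (g⁻¹ * (n : G)⁻¹ * g⁻¹⁻¹) * n ∈ N := fun n =>
      N.mul_mem (hN.conj_mem _ (N.inv_mem n.2) g⁻¹) n.2
    by_cases hwT : w ∈ T
    · -- the character `κ = (θ₀ ∘ conj g⁻¹)⁻¹ * θ₀` is non-trivial
      set κ : N →* ℂˣ := (θ₀.comp (MulAut.conjNormal g⁻¹ : N ≃* N).toMonoidHom)⁻¹ * θ₀ with hκ
      have hκ1 : ((Units.coeHom ℂ).comp κ) ≠ 1 := by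
        intro h1
        apply hg
        have hginv : g⁻¹ ∈ T := by
          rw [hT, mem_inertia_iff]
          intro n
          have h3 := DFunLike.congr_fun h1 n
          simp only [MonoidHom.comp_apply, Units.coeHom_apply, MonoidHom.one_apply] at h3
          have h4 : κ n = 1 := Units.ext h3
          rw [hκ, MonoidHom.mul_apply, MonoidHom.inv_apply, inv_mul_eq_one] at h4
          have h5 : (MulAut.conjNormal g⁻¹ : N ≃* N).toMonoidHom n =
              ⟨g⁻¹ * n * g⁻¹⁻¹, hN.conj_mem (n : G) n.2 g⁻¹⟩ := by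
            apply Subtype.ext
            simp
          rw [MonoidHom.comp_apply, h5] at h4
          rw [h4]
        have := T.inv_mem hginv
        rwa [inv_inv] at this
      have hterm : ∀ n : N, F (g * n) = ((ξ₀ ⟨w, hwT⟩ : ℂˣ) : ℂ) * ((Units.coeHom ℂ).comp κ) n := by
        intro n
        rw [hF]
        simp only
        rw [harg n]
        have hmem : w * ((g⁻¹ * (n : G)⁻¹ * g⁻¹⁻¹) * n) =
            ((⟨w, hwT⟩ * ⟨(g⁻¹ * (n : G)⁻¹ * g⁻¹⁻¹) * n, hNT (hmN n)⟩ : T) : G) := rfl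
        rw [hmem, extendByZero_coe, hξ]
        simp only
        rw [map_mul, Units.val_mul]
        congr 1
        have h6 : (⟨(g⁻¹ * (n : G)⁻¹ * g⁻¹⁻¹) * n, hNT (hmN n)⟩ : T) =
            ⟨((⟨(g⁻¹ * (n : G)⁻¹ * g⁻¹⁻¹) * n, hmN n⟩ : N) : G), hNT (hmN n)⟩ := rfl
        rw [h6, hξθ]
        have h7 : (⟨(g⁻¹ * (n : G)⁻¹ * g⁻¹⁻¹) * n, hmN n⟩ : N) =
            ((MulAut.conjNormal g⁻¹ : N ≃* N).toMonoidHom n)⁻¹ * n := by
          apply Subtype.ext
          simp
          group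
        rw [h7, map_mul, map_inv]
        simp only [MonoidHom.comp_apply, Units.coeHom_apply, hκ, MonoidHom.mul_apply,
          MonoidHom.inv_apply]
      rw [Finset.sum_congr rfl fun n _ => hterm n, ← Finset.mul_sum,
        sum_hom_units_eq_zero _ hκ1, mul_zero]
    · apply Finset.sum_eq_zero
      intro n _
      rw [hF]
      simp only
      rw [harg n]
      apply extendByZero_of_not_mem
      intro hmem
      apply hwT
      exact (T.mul_mem_cancel_right (hNT (hmN n))).mp hmem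
  rw [h2, add_zero]
  -- the part inside `T`
  have h1 : ∀ g ∈ Finset.univ.filter (fun g : G => g ∈ T), F g = 1 := by
    intro g hg
    rw [Finset.mem_filter] at hg
    obtain ⟨hmem, hval⟩ := hzT ⟨g, hg.2⟩
    rw [hF]
    simp only
    have harg : (z * g) * (z * g) = ((⟨z * g * z⁻¹, hmem⟩ * ⟨g, hg.2⟩ : T) : G) := by
      show _ = z * g * z⁻¹ * g
      rw [hzinv]; group
    rw [harg, extendByZero_coe, hξ]
    simp only
    rw [map_mul, hval, inv_mul_cancel, Units.val_one]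
  rw [Finset.sum_congr rfl h1, Finset.sum_const, nsmul_eq_mul, mul_one]
  congr 1
  rw [Nat.card_eq_fintype_card, Fintype.card_subtype]

end Cfsg.Agent.Helper81
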