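import Mathlib
import Cfsg.Agent.Helper81.CliffordInd
import Cfsg.Agent.Helper81.ConjIrr
import Cfsg.Agent.Helper81.GlaubReal
import Cfsg.Agent.Helper81.SReal1
import Cfsg.Agent.Helper81.SReal2
import Cfsg.Agent.Helper81.RealExt2
import Cfsg.Agent.Helper74.RestrictIrr
import Cfsg.Agent.Helper15.IndChar
import Cfsg.Agent.Helper80.Linear

/-!
# Producing real-valued irreducible characters

* `exists_real_over_of_odd_index`: a real-valued `θ ∈ Irr K`, `K ⊴ G` of odd index, lies under a
  real-valued `χ ∈ Irr G`;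
* `indFun_real_of_conj`: an induced function is real-valued when some element normalizing the
  subgroup conjugates the inducing function to its complex conjugate;
* `exists_real_irr_of_complement`: if the abelian normal subgroup `N` has a complement and the
  linear character `λ` of `N` is conjugate to its inverse, then `G` has a real-valued irreducible
  character over `λ` of degree `[G : I_G(λ)]`.
-/

set_option autoImplicit false
set_option linter.unusedSectionVars false

namespace Cfsg.Agent.Helper81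

open Cfsg Cfsg.Agent.Helper15
open scoped ComplexConjugate

universe u

section oddIndex

variable {G : Type u} [Group G] [Fintype G] (K : Subgroup G) [hK : K.Normal] [Fintype K]

/-- A real-valued irreducible character of a normal subgroup of odd index lies under a real-valued
irreducible character. -/
theorem exists_real_over_of_odd_index (hodd : Odd K.index) (θ : IrrCharacter K)
    (hθ : irrConj K θ = θ) :
    ∃ χ : IrrCharacter G, irrConj G χ = χ ∧
      classInner (fun k : K => (χ : G → ℂ) k) (θ : K → ℂ) ≠ 0 := by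
  classical
  let _ := Helper74.irrFintype G
  choose e he using fun χ : IrrCharacter G => Helper74.isCharacter_inner_irr_nat
    (Helper74.isCharacter_restrict K (Helper74.irr_isCharacter χ)) θ
  set t := (conjOrbit K (θ : K → ℂ)).card with ht
  have hind : IsCharacter G (indFun K (θ : K → ℂ)) :=
    isCharacter_indFun K (Helper74.irr_isCharacter θ)
  have hdec := Helper74.isCharacter_eq_sum_irr hind
  have h1 := congrFun hdec 1
  have hcoef : ∀ χ : IrrCharacter G, classInner (indFun K (θ : K → ℂ)) (χ : G → ℂ) = e χ := by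
    intro χ
    rw [frobenius_reciprocity K (θ : K → ℂ) (χ : G → ℂ) (Helper74.irr_isClassFunction χ),
      ← classInner_conj_symm, he χ, Complex.conj_natCast]
  have hθ1 : (θ : K → ℂ) 1 ≠ 0 := Helper80.IsIrrCharacter.map_one_ne_zero θ.2
  have hdeg : ∀ χ : IrrCharacter G, (e χ : ℂ) * (χ : G → ℂ) 1 =
      ((e χ * e χ * t : ℕ) : ℂ) * (θ : K → ℂ) 1 := by
    intro χ
    by_cases h0 : e χ = 0
    · simp [h0]
    · have hne : classInner (fun k : K => (χ : G → ℂ) k) (θ : K → ℂ) ≠ 0 := by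
        rw [he χ]; exact_mod_cast h0
      obtain ⟨e', he', hχ1, _⟩ := Helper74.clifford_degree_data K χ.2 θ.2 hne
      have hee : e' = e χ := by
        have := he'.symm.trans (he χ)
        exact_mod_cast this
      rw [hχ1, hee]
      push_cast
      ring
  simp only [Finset.sum_apply, Pi.smul_apply, smul_eq_mul, hcoef, hdeg] at h1
  rw [indFun_apply_one, ← Finset.sum_mul] at h1
  have h2 : (K.index : ℂ) = ∑ χ : IrrCharacter G, ((e χ * e χ * t : ℕ) : ℂ) :=
    mul_right_cancel₀ hθ1 h1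
  have h3 : K.index = ∑ χ : IrrCharacter G, e χ * e χ * t := by exact_mod_cast h2
  rw [← Finset.sum_mul] at h3
  have hoddsum : Odd (∑ χ : IrrCharacter G, e χ * e χ) := by
    rw [h3] at hodd
    exact (Nat.odd_mul.mp hodd).1
  -- invariance of `e` under complex conjugation
  have he_conj : ∀ χ : IrrCharacter G, e (irrConj G χ) = e χ := by
    intro χ
    have hθfun : (fun k : K => conj ((θ : K → ℂ) k)) = (θ : K → ℂ) := by
      have := congrArg (fun ψ : IrrCharacter K => (ψ : K → ℂ)) hθ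
      exact this
    have h5 : classInner (fun k : K => (irrConj G χ : G → ℂ) k) (θ : K → ℂ) = e χ := by
      have h6 := classInner_conj_conj (fun k : K => (χ : G → ℂ) k) (θ : K → ℂ)
      rw [hθfun, he χ, Complex.conj_natCast] at h6
      exact h6
    rw [he (irrConj G χ)] at h5
    exact_mod_cast h5
  by_contra hcon
  push Not at hcon
  have hzero : ∑ χ : IrrCharacter G, ((e χ * e χ : ℕ) : ZMod 2) = 0 := by
    refine Finset.sum_involution (fun χ _ => irrConj G χ) ?_ ?_ ?_ ?_
    · intro χ _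
      rw [he_conj]
      have : (2 : ZMod 2) = 0 := rfl
      linear_combination ((e χ * e χ : ℕ) : ZMod 2) * this
    · intro χ _ hne hfix
      apply hne
      have h7 := hcon χ hfix
      rw [he χ] at h7
      have h8 : e χ = 0 := by exact_mod_cast h7
      rw [h8]; simp
    · intro χ _; exact Finset.mem_univ _
    · intro χ _
      apply Subtype.ext; funext x; simp
  rw [← Nat.cast_sum] at hzero
  obtain ⟨r, hr⟩ := hoddsum
  rw [hr] at hzero
  push_cast at hzero
  have h2z : (2 : ZMod 2) = 0 := rfl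
  rw [h2z, zero_mul, zero_add] at hzero
  exact one_ne_zero hzero

end oddIndex

section induced

variable {G : Type u} [Group G] [Fintype G]

/-- An induced function is real-valued if some `h` normalizing `T` conjugates the inducing
function to its complex conjugate. -/
theorem indFun_real_of_conj (T : Subgroup G) (ξ : T → ℂ) (h : G)
    (hT : ∀ y : G, y ∈ T ↔ h * y * h⁻¹ ∈ T)
    (hξ : ∀ (y : T) (hy : h * (y : G) * h⁻¹ ∈ T), ξ ⟨h * (y : G) * h⁻¹, hy⟩ = conj (ξ y))
    (x : G) : conj (indFun T ξ x) = indFun T ξ x := by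
  rw [indFun_apply, map_mul, map_inv₀, Complex.conj_natCast, map_sum]
  congr 1
  have h1 : ∀ z : G, conj (extendByZero T ξ z) = extendByZero T ξ (h * z * h⁻¹) := by
    intro z
    by_cases hz : z ∈ T
    · have hz' := (hT z).mp hz
      rw [extendByZero_of_mem T ξ hz, extendByZero_of_mem T ξ hz']
      exact (hξ ⟨z, hz⟩ hz').symm
    · have hz' : h * z * h⁻¹ ∉ T := fun hc => hz ((hT z).mpr hc)
      rw [extendByZero_of_not_mem T ξ hz, extendByZero_of_not_mem T ξ hz', map_zero]
  rw [Finset.sum_congr rfl fun y _ => h1 _]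
  rw [← Equiv.sum_comp (Equiv.mulRight h⁻¹) (fun y => extendByZero T ξ (y⁻¹ * x * y))]
  refine Finset.sum_congr rfl fun y _ => ?_
  congr 1
  simp only [Equiv.coe_mulRight, mul_inv_rev, inv_inv]
  group

variable (N H : Subgroup G) [hN : N.Normal] [Fintype N]

/-- If the abelian normal subgroup `N` has a complement `H` and the linear character `lam` of `N`
is carried to its inverse by some `g ∈ G`, then there is a real-valued irreducible character of
`G` lying over `lam`, of degree `[G : I_G(lam)]`. -/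
theorem exists_real_irr_of_complement (hab : ∀ x ∈ N, ∀ y ∈ N, x * y = y * x)
    (hdisj : N ⊓ H = ⊥) (hsup : N ⊔ H = ⊤) (lam : N →* ℂˣ) (g : G)
    (hg : ∀ n : N, lam ⟨g * (n : G) * g⁻¹, hN.conj_mem (n : G) n.2 g⟩ = (lam n)⁻¹) :
    ∃ χ : IrrCharacter G, irrConj G χ = χ ∧
      classInner (fun n : N => (χ : G → ℂ) n) (fun n : N => ((lam n : ℂˣ) : ℂ)) ≠ 0 ∧
      charDegree (χ : G → ℂ) = (inertia N (fun n : N => ((lam n : ℂˣ) : ℂ))).index := by
  classical
  obtain ⟨ρ, hρH, hρN, hρid, hρ1⟩ := exists_retraction N H hN hdisj hsup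
  set θ : N → ℂ := fun n : N => ((lam n : ℂˣ) : ℂ) with hθdef
  have hθirr : IsIrrCharacter N θ := Helper80.isIrrCharacter_of_monoidHom lam
  set T := inertia N θ with hTdef
  let _ : Fintype T := Fintype.ofFinite T
  have hNT : N ≤ T := le_inertia N
    (Helper74.isClassFunction_of_isCharacter (Helper74.isCharacter_of_isIrr hθirr))
  obtain ⟨ξ₀, hξ₀⟩ := exists_extension_via_retraction N lam T rfl hNT ρ hρN
  set ξ : T → ℂ := fun t => ((ξ₀ t : ℂˣ) : ℂ) with hξdef
  have hξirr : IsIrrCharacter T ξ := Helper80.isIrrCharacter_of_monoidHom ξ₀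
  have hres : resTo N T hNT ξ = θ := by
    funext n
    rw [resTo_apply, hξdef, hθdef]
    simp only
    rw [hξ₀]
    congr 2
    apply Subtype.ext
    show (n : G) * (ρ (n : G))⁻¹ = (n : G)
    rw [hρ1 (n : G) n.2, inv_one, mul_one]
  have hne : classInner (resTo N T hNT ξ) θ ≠ 0 := by
    rw [hres, Helper74.irr_inner_self (⟨θ, hθirr⟩ : IrrCharacter N)]
    exact one_ne_zero
  obtain ⟨hχirr, hχθ⟩ := isIrrCharacter_indFun_inertia N hθirr T rfl hNT hξirr hne
  -- the element of `H` acting like `g`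
  set h := ρ g with hh
  have hgh : ∀ n : G, n ∈ N → g * n * g⁻¹ = h * n * h⁻¹ := by
    intro n hn
    have h1 : g * h⁻¹ ∈ N := hρN g
    have h2 : h * n * h⁻¹ ∈ N := hN.conj_mem n hn h
    have h3 : g * n * g⁻¹ = (g * h⁻¹) * (h * n * h⁻¹) * (g * h⁻¹)⁻¹ := by group
    rw [h3, hab _ h1 _ h2]
    group
  have hlamh : ∀ (n : N) (hn : h * (n : G) * h⁻¹ ∈ N), lam ⟨h * (n : G) * h⁻¹, hn⟩ = (lam n)⁻¹ := by
    intro n hn
    rw [← hg n]
    congr 1
    apply Subtype.ext
    exact (hgh (n : G) n.2).symm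
  have hlamh' : ∀ (n : N) (hn : h⁻¹ * (n : G) * h ∈ N), lam ⟨h⁻¹ * (n : G) * h, hn⟩ = (lam n)⁻¹ := by
    intro n hn
    have h1 : h * (h⁻¹ * (n : G) * h) * h⁻¹ ∈ N := by
      have : h * (h⁻¹ * (n : G) * h) * h⁻¹ = (n : G) := by group
      rw [this]; exact n.2
    have h2 := hlamh ⟨h⁻¹ * (n : G) * h, hn⟩ h1
    have h3 : (⟨h * (h⁻¹ * (n : G) * h) * h⁻¹, h1⟩ : N) = n := by
      apply Subtype.ext
      show h * (h⁻¹ * (n : G) * h) * h⁻¹ = (n : G)
      group
    rw [h3] at h2
    rw [h2, inv_inv]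
  -- `h` normalizes `T`
  have hTfwd : ∀ y : G, y ∈ T → h * y * h⁻¹ ∈ T := by
    intro y hy
    rw [hTdef, mem_inertia_iff] at hy ⊢
    intro n
    have hn1 : h⁻¹ * (n : G) * h ∈ N := by
      have := hN.conj_mem (n : G) n.2 h⁻¹
      rwa [inv_inv] at this
    have h4 := hy ⟨h⁻¹ * (n : G) * h, hn1⟩
    have h5 : y * (h⁻¹ * (n : G) * h) * y⁻¹ ∈ N := hN.conj_mem _ hn1 y
    have h6 : h * (y * (h⁻¹ * (n : G) * h) * y⁻¹) * h⁻¹ ∈ N := hN.conj_mem _ h5 h
    have h7 := hlamh ⟨y * (h⁻¹ * (n : G) * h) * y⁻¹, h5⟩ h6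
    have h8 : (⟨h * y * h⁻¹ * (n : G) * (h * y * h⁻¹)⁻¹,
        hN.conj_mem (n : G) n.2 (h * y * h⁻¹)⟩ : N) =
        ⟨h * (y * (h⁻¹ * (n : G) * h) * y⁻¹) * h⁻¹, h6⟩ := by
      apply Subtype.ext
      show h * y * h⁻¹ * (n : G) * (h * y * h⁻¹)⁻¹ = h * (y * (h⁻¹ * (n : G) * h) * y⁻¹) * h⁻¹
      group
    show ((lam _ : ℂˣ) : ℂ) = ((lam n : ℂˣ) : ℂ)
    rw [h8, h7]
    have h9 : lam ⟨y * (h⁻¹ * (n : G) * h) * y⁻¹, h5⟩ = lam ⟨h⁻¹ * (n : G) * h, hn1⟩ :=
      Units.ext h4
    rw [h9, hlamh' n hn1, inv_inv]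
  have hT : ∀ y : G, y ∈ T ↔ h * y * h⁻¹ ∈ T := by
    intro y
    refine ⟨hTfwd y, fun hy => ?_⟩
    -- use a power of `h`
    have hfin : ∃ k : ℕ, 0 < k ∧ h ^ k = 1 := ⟨orderOf h, orderOf_pos h, pow_orderOf_eq_one h⟩
    obtain ⟨k, hk0, hk⟩ := hfin
    have hpow : ∀ j : ℕ, ∀ z : G, z ∈ T → h ^ j * z * (h ^ j)⁻¹ ∈ T := by
      intro j
      induction j with
      | zero => intro z hz; simpa using hz
      | succ j ih =>
        intro z hz
        have := hTfwd _ (ih z hz)
        have h10 : h * (h ^ j * z * (h ^ j)⁻¹) * h⁻¹ = h ^ (j + 1) * z * (h ^ (j + 1))⁻¹ := by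
          rw [pow_succ']; group
        rwa [h10] at this
    obtain ⟨j, rfl⟩ : ∃ j, k = j + 1 := Nat.exists_eq_succ_of_ne_zero hk0.ne'
    have h11 := hpow j _ hy
    have h12 : h ^ j * (h * y * h⁻¹) * (h ^ j)⁻¹ = h ^ (j + 1) * y * (h ^ (j + 1))⁻¹ := by
      rw [pow_succ]; group
    rw [h12, hk] at h11
    simpa using h11
  have hξconj : ∀ (y : T) (hy : h * (y : G) * h⁻¹ ∈ T),
      ξ ⟨h * (y : G) * h⁻¹, hy⟩ = conj (ξ y) := by
    intro y hy
    have hord : (ξ₀ y) ^ (orderOf y) = 1 := by rw [← map_pow, pow_orderOf_eq_one, map_one]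
    rw [hξdef]
    simp only
    rw [conj_units_of_finite_order (ξ₀ y) (orderOf_pos y).ne' hord]
    congr 1
    rw [hξ₀, hξ₀]
    have hyN : (y : G) * (ρ (y : G))⁻¹ ∈ N := hρN y
    have h13 : h * ((y : G) * (ρ (y : G))⁻¹) * h⁻¹ ∈ N := hN.conj_mem _ hyN h
    have h14 := hlamh ⟨(y : G) * (ρ (y : G))⁻¹, hyN⟩ h13
    rw [← h14]
    congr 1
    apply Subtype.ext
    show h * (y : G) * h⁻¹ * (ρ (h * (y : G) * h⁻¹))⁻¹ = h * ((y : G) * (ρ (y : G))⁻¹) * h⁻¹
    have hρh : ρ h = h := hρid h (hρH g)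
    rw [map_mul, map_mul, map_inv, hρh]
    group
  refine ⟨⟨indFun T ξ, hχirr⟩, ?_, ?_, ?_⟩
  · apply Subtype.ext
    funext x
    exact indFun_real_of_conj T ξ h hT hξconj x
  · show classInner (fun n : N => indFun T ξ n) θ ≠ 0
    rw [hχθ]
    exact hne
  · have h15 : (indFun T ξ) 1 = (T.index : ℂ) := by
      rw [indFun_apply_one]
      have : ξ 1 = 1 := by
        rw [hξdef]; simp
      rw [this, mul_one]
    have h16 := Helper74.charDegree_cast (Helper74.isCharacter_of_isIrr hχirr)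
    rw [h15] at h16
    exact_mod_cast h16

end induced

end Cfsg.Agent.Helper81
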