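import Mathlib
import Cfsg.Agent.Helper81.GalPar6
import Cfsg.Agent.Helper81.CliffordInd
import Cfsg.Agent.Helper81.RealP2
import Cfsg.Agent.Helper81.GlaubReal

/-!
# Real characters and normal subgroups of odd index

`M ⊴ X` of odd index.
* `real_over_main`: a real-valued `θ ∈ Irr M` lies under a unique real-valued `χ ∈ Irr X`, which
  extends `θ` when `θ` is `X`-invariant (complex conjugation case of `gal_fixed_over_main`);
* `exists_real_constituent`: a real-valued `χ ∈ Irr X` has a real-valued constituent on `M`;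
* `real_over_degree`: if the real `χ` lies over the real `θ` then `χ(1) = |X : I_X(θ)| θ(1)`.
-/

set_option autoImplicit false
set_option linter.unusedSectionVars false

namespace Cfsg.Agent.Helper81

open Cfsg Cfsg.Agent.Helper15
open scoped ComplexConjugate

universe u

section

variable {X : Type u} [Group X] [Fintype X]

theorem pow_two_card_sub_one (g : X) : g ^ (2 * Nat.card X - 1) = g⁻¹ := by
  have hpos : 0 < Nat.card X := Nat.card_pos
  have h1 : g ^ (2 * Nat.card X - 1) * g = 1 := by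
    rw [← pow_succ, Nat.sub_add_cancel (by omega), pow_mul, pow_card_eq_one']
  exact eq_inv_of_mul_eq_one_left h1

theorem real_over_main (M : Subgroup X) [hM : M.Normal] [Fintype M] (hodd : Odd M.index)
    (θ : IrrCharacter M) (hθ : ∀ m : M, conj ((θ : M → ℂ) m) = (θ : M → ℂ) m) :
    ∃ χ : IrrCharacter X,
      (classInner (fun m : M => (χ : X → ℂ) m) (θ : M → ℂ) ≠ 0 ∧
        (∀ g : X, conj ((χ : X → ℂ) g) = (χ : X → ℂ) g) ∧
        ((∀ g : X, Helper15.conjFun M g (θ : M → ℂ) = θ) →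
          ∀ m : M, (χ : X → ℂ) m = (θ : M → ℂ) m)) ∧
      ∀ χ' : IrrCharacter X, classInner (fun m : M => (χ' : X → ℂ) m) (θ : M → ℂ) ≠ 0 →
        (∀ g : X, conj ((χ' : X → ℂ) g) = (χ' : X → ℂ) g) → χ' = χ := by
  obtain ⟨n', hn'⟩ : ∃ n' : ℕ, Nat.card X = n' + 1 :=
    Nat.exists_eq_succ_of_ne_zero (Nat.card_pos (α := X)).ne'
  have hkpow : ∀ g : X, g ^ (2 * n' + 1) = g⁻¹ := by
    intro g
    have := pow_two_card_sub_one g
    rw [hn'] at this
    have e : 2 * (n' + 1) - 1 = 2 * n' + 1 := by omega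
    rwa [e] at this
  have hcop : (2 * n' + 1).Coprime (Nat.card X) := by
    rw [hn']
    have h1 : Nat.gcd (2 * n' + 1) (n' + 1) ∣ 2 * n' + 1 := Nat.gcd_dvd_left _ _
    have h2 : Nat.gcd (2 * n' + 1) (n' + 1) ∣ n' + 1 := Nat.gcd_dvd_right _ _
    have h3 : Nat.gcd (2 * n' + 1) (n' + 1) ∣ (2 * n' + 1) + 1 := by
      have : (2 * n' + 1) + 1 = 2 * (n' + 1) := by ring
      rw [this]; exact Dvd.dvd.mul_left h2 2
    exact Nat.dvd_one.mp ((Nat.dvd_add_right h1).mp h3)
  have hke : (2 * n' + 1) ^ (2 ^ 1) ≡ 1 [MOD Nat.card X] := by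
    rw [hn']
    have e : (2 * n' + 1) ^ (2 ^ 1) = (n' + 1) * (4 * n') + 1 := by ring
    show (2 * n' + 1) ^ (2 ^ 1) % (n' + 1) = 1 % (n' + 1)
    rw [e, Nat.mul_add_mod]
  have hθfix : ∀ m : M, (θ : M → ℂ) (m ^ (2 * n' + 1)) = (θ : M → ℂ) m := by
    intro m
    have h1 : m ^ (2 * n' + 1) = m⁻¹ := by
      apply Subtype.ext
      rw [Subgroup.coe_pow, hkpow, Subgroup.coe_inv]
    rw [h1, Helper74.char_inv (Helper74.irr_isCharacter θ), hθ]
  obtain ⟨χ, ⟨h1, h2, h3⟩, h4⟩ :=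
    gal_fixed_over_main M hodd (2 * n' + 1) 1 hcop hke (fun g _ => hkpow g) θ hθfix
  refine ⟨χ, ⟨h1, ?_, ?_⟩, ?_⟩
  · intro g
    rw [← Helper74.char_inv (Helper74.irr_isCharacter χ), ← hkpow, h2]
  · intro hinv m
    apply h3
    intro g n
    have := congrFun (hinv g) n
    rwa [conjFun_apply] at this
  · intro χ' h5 h6
    apply h4 χ' h5
    intro g
    rw [hkpow, Helper74.char_inv (Helper74.irr_isCharacter χ'), h6]

theorem exists_real_constituent (M : Subgroup X) [hM : M.Normal] [Fintype M] (hodd : Odd M.index)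
    (χ : IrrCharacter X) (hχ : ∀ g : X, conj ((χ : X → ℂ) g) = (χ : X → ℂ) g) :
    ∃ θ : IrrCharacter M, (∀ m : M, conj ((θ : M → ℂ) m) = (θ : M → ℂ) m) ∧
      classInner (fun m : M => (χ : X → ℂ) m) (θ : M → ℂ) ≠ 0 := by
  classical
  have hres : IsCharacter M (fun m : M => (χ : X → ℂ) m) :=
    Helper74.isCharacter_restrict M (Helper74.irr_isCharacter χ)
  have h1 : (fun m : M => (χ : X → ℂ) m) 1 ≠ 0 := Helper80.IsIrrCharacter.map_one_ne_zero χ.2
  obtain ⟨θ₀, hθ₀⟩ := exists_irr_constituent hres h1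
  have hcard : Odd (conjOrbit M (θ₀ : M → ℂ)).card := by
    rw [card_conjOrbit]
    exact Odd.of_dvd_nat hodd
      (Subgroup.index_dvd_of_le (le_inertia M (Helper74.irr_isClassFunction θ₀)))
  have hχcf : IsClassFunction X (χ : X → ℂ) := Helper74.irr_isClassFunction χ
  have hover : ∀ φ ∈ conjOrbit M (θ₀ : M → ℂ),
      classInner (fun m : M => (χ : X → ℂ) m) φ ≠ 0 := by
    intro φ hφ
    obtain ⟨g, rfl⟩ := (mem_conjOrbit M).mp hφ
    rw [classInner_restrict_conjFun M hχcf]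
    exact hθ₀
  have hmem : ∀ φ ∈ conjOrbit M (θ₀ : M → ℂ),
      (fun m => conj (φ m)) ∈ conjOrbit M (θ₀ : M → ℂ) := by
    intro φ hφ
    have hφirr := isIrrCharacter_of_mem_conjOrbit M θ₀.2 hφ
    have hcc : classInner (fun m : M => (χ : X → ℂ) m) (fun m => conj (φ m)) ≠ 0 := by
      have h2 := classInner_conj_conj (fun m : M => (χ : X → ℂ) m) φ
      have h3 : (fun m : M => conj ((χ : X → ℂ) m)) = fun m : M => (χ : X → ℂ) m :=
        funext fun m => hχ m
      rw [h3] at h2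
      rw [h2]
      intro h0
      exact hover φ hφ ((map_eq_zero _).mp h0)
    obtain ⟨g, hg⟩ := exists_conj_of_constituents M χ.2 θ₀.2 (isIrrCharacter_conj hφirr) hθ₀ hcc
    exact (mem_conjOrbit M).mpr ⟨g, hg⟩
  let f : Function.End (conjOrbit M (θ₀ : M → ℂ)) :=
    fun φ => ⟨fun m => conj (φ.1 m), hmem φ.1 φ.2⟩
  have hf : f ^ 2 ^ 1 = 1 := by
    funext φ
    apply Subtype.ext
    funext m
    show conj (conj (φ.1 m)) = φ.1 m
    simp
  have hmod := Equiv.Perm.card_fixedPoints_modEq (p := 2) (n := 1) hf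
  rw [Fintype.card_coe] at hmod
  have hne : Fintype.card (Function.fixedPoints f) ≠ 0 := by
    intro h0
    rw [h0] at hmod
    have h5 : (conjOrbit M (θ₀ : M → ℂ)).card % 2 = 1 := Nat.odd_iff.mp hcard
    have h6 : (conjOrbit M (θ₀ : M → ℂ)).card % 2 = 0 % 2 := hmod
    omega
  obtain ⟨⟨φ, hφfix⟩⟩ := Fintype.card_pos_iff.mp (Nat.pos_of_ne_zero hne)
  have hφirr := isIrrCharacter_of_mem_conjOrbit M θ₀.2 φ.2
  refine ⟨⟨φ.1, hφirr⟩, ?_, hover φ.1 φ.2⟩
  intro m
  have h7 : f φ = φ := hφfix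
  have h8 := congrArg (fun ψ : conjOrbit M (θ₀ : M → ℂ) => ψ.1 m) h7
  exact h8

theorem real_over_degree (M : Subgroup X) [hM : M.Normal] [Fintype M] (hodd : Odd M.index)
    (θ : IrrCharacter M) (hθ : ∀ m : M, conj ((θ : M → ℂ) m) = (θ : M → ℂ) m)
    (χ : IrrCharacter X) (hχ : ∀ g : X, conj ((χ : X → ℂ) g) = (χ : X → ℂ) g)
    (hover : classInner (fun m : M => (χ : X → ℂ) m) (θ : M → ℂ) ≠ 0) :
    charDegree (χ : X → ℂ) = (inertia M (θ : M → ℂ)).index * charDegree (θ : M → ℂ) := by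
  classical
  obtain ⟨T, hT⟩ : ∃ T : Subgroup X, T = inertia M (θ : M → ℂ) := ⟨_, rfl⟩
  have hMT : M ≤ T := by
    rw [hT]; exact le_inertia M (Helper74.irr_isClassFunction θ)
  let _ : Fintype T := Fintype.ofFinite T
  let _ : Fintype (M.subgroupOf T) := Fintype.ofFinite _
  have hM' : (M.subgroupOf T).Normal := hM.subgroupOf T
  have hodd' : Odd (M.subgroupOf T).index := by
    have h1 : (M.subgroupOf T).index = M.relIndex T := rfl
    rw [h1]
    exact Odd.of_dvd_nat hodd (Subgroup.relIndex_dvd_index_of_le hMT)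
  have hθ'irr : IsIrrCharacter (M.subgroupOf T) (toSub M T hMT (θ : M → ℂ)) :=
    isIrrCharacter_toSub M T hMT θ.2
  have hθ'real : ∀ m : M.subgroupOf T,
      conj (toSub M T hMT (θ : M → ℂ) m) = toSub M T hMT (θ : M → ℂ) m := fun m => hθ _
  have hinv' : ∀ t : T, Helper15.conjFun (M.subgroupOf T) t (toSub M T hMT (θ : M → ℂ)) =
      toSub M T hMT (θ : M → ℂ) := by
    intro t
    rw [conjFun_toSub]
    have : (t : X) ∈ inertia M (θ : M → ℂ) := hT ▸ t.2
    rw [(mem_inertia M (θ : M → ℂ) _).mp this]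
  obtain ⟨ψ, ⟨_, hψreal, hψext⟩, _⟩ :=
    real_over_main (M.subgroupOf T) hodd' ⟨_, hθ'irr⟩ hθ'real
  have hψres : resTo M T hMT (ψ : T → ℂ) = (θ : M → ℂ) := by
    apply toSub_injective M T hMT
    have e : (fun x : M.subgroupOf T => (ψ : T → ℂ) x) =
        toSub M T hMT (resTo M T hMT (ψ : T → ℂ)) := restrict_subgroupOf M T hMT _
    rw [← e]
    funext m
    exact hψext hinv' m
  have hne : classInner (resTo M T hMT (ψ : T → ℂ)) (θ : M → ℂ) ≠ 0 := by
    rw [hψres, Helper74.irr_inner_self θ]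
    exact one_ne_zero
  obtain ⟨hχ₁irr, hχ₁θ⟩ := isIrrCharacter_indFun_inertia M θ.2 T hT hMT ψ.2 hne
  have hχ₁real : ∀ g : X, conj (indFun T (ψ : T → ℂ) g) = indFun T (ψ : T → ℂ) g := by
    intro g
    refine indFun_real_of_conj T (ψ : T → ℂ) 1 ?_ ?_ g
    · intro y; simp
    · intro y hy
      have e : (⟨1 * (y : X) * (1 : X)⁻¹, hy⟩ : T) = y := by
        apply Subtype.ext; simp
      rw [e, hψreal]
  obtain ⟨χ₀, _, huniq⟩ := real_over_main M hodd θ hθ
  have e1 : χ = χ₀ := huniq χ hover hχ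
  have e2 : (⟨indFun T (ψ : T → ℂ), hχ₁irr⟩ : IrrCharacter X) = χ₀ := by
    apply huniq _ _ hχ₁real
    show classInner (fun m : M => indFun T (ψ : T → ℂ) m) (θ : M → ℂ) ≠ 0
    rw [hχ₁θ]; exact hne
  have e3 : (χ : X → ℂ) = indFun T (ψ : T → ℂ) := by
    rw [e1, ← e2]
  have h15 : (χ : X → ℂ) 1 = (T.index : ℂ) * (θ : M → ℂ) 1 := by
    rw [e3, indFun_apply_one]
    congr 1
    have := congrFun hψres 1
    rw [resTo_apply] at this
    exact this
  have h16 := Helper74.charDegree_cast (Helper74.irr_isCharacter χ)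
  have h17 := Helper74.charDegree_cast (Helper74.irr_isCharacter θ)
  rw [h15, ← h17] at h16
  rw [← hT]
  exact_mod_cast h16

end

end Cfsg.Agent.Helper81
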