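import Mathlib
import Cfsg.Prelude.Def_Blocks
import Cfsg.Agent.Helper81.GlaubStep

/-!
# Relative Glauberman congruence

`T` (a `p`-group) acts on `G` and on `N`, `j : N →* G` is equivariant; `C`, `D` model the fixed
points, `j' : D →* C` is the induced map.  For invariant `χ ∈ Irr G`, `θ ∈ Irr N` with
correspondents `β`, `φ`:
`[χ_N, θ] [θ_D, φ] ≡ [χ_C, β] [β_D, φ]` modulo `p`.
-/

set_option autoImplicit false
set_option linter.unusedSectionVars false

namespace Cfsg.Agent.Helper81

open Cfsg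
open scoped ComplexConjugate

universe u v w

/-- Orbit sums modulo `p`, for natural-valued invariant functions. -/
theorem sum_natCast_zmod_eq_sum_fixed {p : ℕ} [hp : Fact p.Prime] {T X : Type*} [Group T]
    [Fintype X] [MulAction T X] (hT : IsPGroup p T) (f : X → ℕ)
    [DecidablePred (· ∈ MulAction.fixedPoints T X)]
    (hf : ∀ (t : T) (x : X), f (t • x) = f x) :
    (∑ x, (f x : ZMod p)) = ∑ x with x ∈ MulAction.fixedPoints T X, (f x : ZMod p) := by
  have h := sum_intModEq_sum_fixedPoints (p := p) hT (fun x => (f x : ℂ))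
    (fun t x => by rw [hf]) (fun x => isIntegral_algebraMap (R := ℤ) (A := ℂ) (x := (f x : ℤ)))
  have h' : IntModEq p ((∑ x, f x : ℕ) : ℂ)
      ((∑ x with x ∈ MulAction.fixedPoints T X, f x : ℕ) : ℂ) := by
    push_cast
    exact h
  have := IntModEq.natCast_zmod_eq hp.out.ne_zero h'
  push_cast at this
  exact this

theorem classInner_comp_eq_sum {N : Type u} {D : Type v} [Group N] [Fintype N] [Group D]
    [Fintype D] [Fintype (IrrCharacter N)] (ι : D →* N) {f : N → ℂ} (hf : IsCharacter N f)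
    (φ : D → ℂ) :
    classInner (f ∘ ι) φ =
      ∑ θ : IrrCharacter N, classInner f (θ : N → ℂ) * classInner ((θ : N → ℂ) ∘ ι) φ := by
  have h1 : f ∘ ι = ∑ θ : IrrCharacter N, classInner f (θ : N → ℂ) • ((θ : N → ℂ) ∘ ι) := by
    conv_lhs => rw [Helper74.isCharacter_eq_sum_irr hf]
    funext d
    simp only [Function.comp_apply, Finset.sum_apply, Pi.smul_apply, smul_eq_mul]
  rw [h1, Helper74.classInner_sum_left]
  refine Finset.sum_congr rfl fun θ _ => ?_
  rw [Helper74.classInner_smul_left]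

section rel

variable {G : Type*} [Group G] [Fintype G] {N : Type*} [Group N] [Fintype N]
  {C : Type*} [Group C] [Fintype C] {D : Type*} [Group D] [Fintype D]
  {T : Type*} [Group T] [MulDistribMulAction T G] [MulDistribMulAction T N]
  {p : ℕ} [hp : Fact p.Prime]
  (ιG : C →* G) (ιN : D →* N) (j : N →* G) (j' : D →* C)

/-- `[χ_D, φ] = ∑_θ' [χ_N, θ'] [θ'_D, φ]`. -/
theorem classInner_comp_comp_left [Fintype (IrrCharacter N)] (χ : IrrCharacter G)
    (φ : IrrCharacter D) :
    classInner (((χ : G → ℂ) ∘ j) ∘ ιN) (φ : D → ℂ) =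
      ∑ θ : IrrCharacter N, (mult j χ θ : ℂ) * (mult ιN θ φ : ℂ) := by
  rw [classInner_comp_eq_sum ιN (Helper74.isCharacter_comp j (Helper74.irr_isCharacter χ))]
  simp only [mult_spec]

/-- `mult j χ` is constant on `T`-orbits when `χ` is invariant and `j` is equivariant. -/
theorem mult_smul_right (hj : ∀ (t : T) (n : N), j (t • n) = t • j n) (χ : IrrCharacter G)
    (hχ : ∀ (t : T) (g : G), (χ : G → ℂ) (t • g) = (χ : G → ℂ) g) (t : T) (θ : IrrCharacter N) :
    mult j χ (letI := irrSMulAction T N; t • θ : IrrCharacter N) = mult j χ θ := by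
  have h1 := mult_spec j χ (letI := irrSMulAction T N; t • θ : IrrCharacter N)
  have h2 := mult_spec j χ θ
  rw [← classInner_comp_equiv (MulAction.toPerm (t⁻¹ : T))] at h2
  have h3 : ((χ : G → ℂ) ∘ j) ∘ (MulAction.toPerm (t⁻¹ : T) : Equiv.Perm N) =
      (χ : G → ℂ) ∘ j := by
    funext n
    simp only [Function.comp_apply, MulAction.toPerm_apply]
    rw [hj, hχ]
  have h4 : ((letI := irrSMulAction T N; t • θ : IrrCharacter N) : N → ℂ) =
      (θ : N → ℂ) ∘ (MulAction.toPerm (t⁻¹ : T) : Equiv.Perm N) := by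
    funext n
    rfl
  rw [h3, ← h4, h1] at h2
  exact_mod_cast h2

variable (hsq : ∀ d : D, ιG (j' d) = j (ιN d))
  (hj : ∀ (t : T) (n : N), j (t • n) = t • j n)
  (hT : IsPGroup p T)
  (hinjG : Function.Injective ιG) (hfixG : ∀ g : G, g ∈ Set.range ιG ↔ ∀ t : T, t • g = g)
  (hinjN : Function.Injective ιN) (hfixN : ∀ n : N, n ∈ Set.range ιN ↔ ∀ t : T, t • n = n)
  (hpG : ¬ p ∣ Nat.card G) (hpN : ¬ p ∣ Nat.card N)

include hsq hj hT hinjG hfixG hinjN hfixN hpG hpN in
/-- The relative congruence. -/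
theorem mult_rel_zmod (χ : IrrCharacter G)
    (hχ : ∀ (t : T) (g : G), (χ : G → ℂ) (t • g) = (χ : G → ℂ) g) (θ : IrrCharacter N)
    (hθ : ∀ (t : T) (n : N), (θ : N → ℂ) (t • n) = (θ : N → ℂ) n)
    (β : IrrCharacter C) (φ : IrrCharacter D)
    (hβ : ¬ p ∣ mult ιG χ β) (hφ : ¬ p ∣ mult ιN θ φ) :
    (mult j χ θ : ZMod p) * (mult ιN θ φ : ZMod p) =
      (mult ιG χ β : ZMod p) * (mult j' β φ : ZMod p) := by
  classical
  let _ := Helper74.irrFintype N
  let _ := Helper74.irrFintype C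
  let _ := Helper74.irrFintype D
  -- the two expansions of `[χ_D, φ]`
  have hA := classInner_comp_comp_left ιN j χ φ
  have hB := classInner_comp_comp_left j' ιG χ φ
  have hfun : ((χ : G → ℂ) ∘ j) ∘ ιN = ((χ : G → ℂ) ∘ ιG) ∘ j' := by
    funext d
    simp only [Function.comp_apply, hsq]
  rw [hfun, hB] at hA
  have hnat : (∑ θ' : IrrCharacter N, mult j χ θ' * mult ιN θ' φ) =
      ∑ ψ : IrrCharacter C, mult ιG χ ψ * mult j' ψ φ := by
    have : ((∑ ψ : IrrCharacter C, mult ιG χ ψ * mult j' ψ φ : ℕ) : ℂ) =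
        ((∑ θ' : IrrCharacter N, mult j χ θ' * mult ιN θ' φ : ℕ) : ℂ) := by
      push_cast
      exact hA
    exact_mod_cast this.symm
  have hz := congrArg (fun n : ℕ => (n : ZMod p)) hnat
  simp only [Nat.cast_sum, Nat.cast_mul] at hz
  -- right side: only `β` survives
  have hR : ∑ ψ : IrrCharacter C, (mult ιG χ ψ : ZMod p) * (mult j' ψ φ : ZMod p) =
      (mult ιG χ β : ZMod p) * (mult j' β φ : ZMod p) := by
    rw [Finset.sum_eq_single β]
    · intro ψ _ hne
      rw [mult_zmod_eq_zero_of_ne ιG hT hinjG hfixG hpG χ hχ hβ hne, zero_mul]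
    · intro h; exact absurd (Finset.mem_univ β) h
  -- left side: orbit sums, then only `θ` survives
  let _ := irrSMulAction T N
  have hL1 := sum_natCast_zmod_eq_sum_fixed (p := p) (T := T) (X := IrrCharacter N) hT
    (fun θ' => mult j χ θ' * mult ιN θ' φ)
    (fun t θ' => by
      rw [mult_smul_right j hj χ hχ t θ', mult_smul ιN hT hinjN hfixN t θ' φ])
  simp only [Nat.cast_mul] at hL1
  have hL2 : ∑ θ' : IrrCharacter N with θ' ∈ MulAction.fixedPoints T (IrrCharacter N),
      (mult j χ θ' : ZMod p) * (mult ιN θ' φ : ZMod p) =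
      (mult j χ θ : ZMod p) * (mult ιN θ φ : ZMod p) := by
    have hθfix : θ ∈ MulAction.fixedPoints T (IrrCharacter N) :=
      fun t => (irrSMul_eq_self_iff θ).mpr hθ t
    rw [Finset.sum_eq_single θ]
    · intro θ' hθ' hne
      have hθ'fix := (Finset.mem_filter.mp hθ').2
      have hθ'inv : ∀ (t : T) (n : N), (θ' : N → ℂ) (t • n) = (θ' : N → ℂ) n :=
        (irrSMul_eq_self_iff θ').mp hθ'fix
      have : (mult ιN θ' φ : ZMod p) = 0 := by
        rw [ZMod.natCast_eq_zero_iff]
        by_contra hnd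
        exact hne (corr_injective ιN hT hinjN hfixN hpN θ' θ hθ'inv hθ hnd hφ)
      rw [this, mul_zero]
    · intro h
      exact absurd (Finset.mem_filter.mpr ⟨Finset.mem_univ _, hθfix⟩) h
  rw [← hL2, ← hL1, hz, hR]

end rel

end Cfsg.Agent.Helper81
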