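import Mathlib

/-!
# Actions by automorphisms on invariant subgroups and on quotients by invariant normal subgroups
-/

set_option autoImplicit false

namespace Cfsg.Agent.Helper81

variable {P : Type*} [Group P] {K : Type*} [Group K] [MulDistribMulAction P K]

/-- Restriction of an action by automorphisms to an invariant subgroup. -/
@[reducible] def subgroupMDMA (H : Subgroup K) (h : ∀ s : P, ∀ k ∈ H, s • k ∈ H) :
    MulDistribMulAction P H where
  smul s x := ⟨s • (x : K), h s x x.2⟩
  one_smul x := Subtype.ext (one_smul P (x : K))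
  mul_smul s t x := Subtype.ext (mul_smul s t (x : K))
  smul_mul s x y := Subtype.ext (smul_mul' s (x : K) (y : K))
  smul_one s := Subtype.ext (smul_one s)

theorem subgroupMDMA_coe (H : Subgroup K) (h : ∀ s : P, ∀ k ∈ H, s • k ∈ H) (s : P) (x : H) :
    ((letI := subgroupMDMA H h; s • x : H) : K) = s • (x : K) := rfl

/-- The endomorphism of the quotient induced by an operator. -/
noncomputable def quotSmulHom (M : Subgroup K) [M.Normal] (h : ∀ s : P, ∀ k ∈ M, s • k ∈ M)
    (s : P) : K ⧸ M →* K ⧸ M :=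
  QuotientGroup.map M M (MulDistribMulAction.toMonoidHom K s)
    (by intro k hk; exact Subgroup.mem_comap.mpr (h s k hk))

theorem quotSmulHom_mk (M : Subgroup K) [M.Normal] (h : ∀ s : P, ∀ k ∈ M, s • k ∈ M)
    (s : P) (k : K) : quotSmulHom M h s (k : K ⧸ M) = ((s • k : K) : K ⧸ M) := rfl

/-- The induced action on the quotient by an invariant normal subgroup. -/
@[reducible] noncomputable def quotientMDMA (M : Subgroup K) [M.Normal]
    (h : ∀ s : P, ∀ k ∈ M, s • k ∈ M) : MulDistribMulAction P (K ⧸ M) where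
  smul s x := quotSmulHom M h s x
  one_smul x := by
    induction x using QuotientGroup.induction_on with
    | H k =>
      show quotSmulHom M h 1 (k : K ⧸ M) = _
      rw [quotSmulHom_mk, one_smul]
  mul_smul s t x := by
    induction x using QuotientGroup.induction_on with
    | H k =>
      show quotSmulHom M h (s * t) (k : K ⧸ M) = quotSmulHom M h s (quotSmulHom M h t (k : K ⧸ M))
      rw [quotSmulHom_mk, quotSmulHom_mk, quotSmulHom_mk, mul_smul]
  smul_mul s x y := map_mul (quotSmulHom M h s) x y
  smul_one s := map_one (quotSmulHom M h s)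

theorem quotientMDMA_mk (M : Subgroup K) [M.Normal] (h : ∀ s : P, ∀ k ∈ M, s • k ∈ M)
    (s : P) (k : K) :
    (letI := quotientMDMA M h; s • (k : K ⧸ M)) = ((s • k : K) : K ⧸ M) := rfl

/-- A coset is fixed iff the representative is fixed modulo `M`. -/
theorem quotientMDMA_fixed_iff (M : Subgroup K) [hM : M.Normal] (h : ∀ s : P, ∀ k ∈ M, s • k ∈ M)
    (k : K) :
    (∀ s : P, (letI := quotientMDMA M h; s • (k : K ⧸ M)) = (k : K ⧸ M)) ↔
      ∀ s : P, (s • k) * k⁻¹ ∈ M := by
  constructor
  · intro hk s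
    have h1 := hk s
    rw [quotientMDMA_mk, QuotientGroup.eq] at h1
    have h2 := hM.conj_mem _ h1 (s • k)
    have h3 : s • k * ((s • k)⁻¹ * k) * (s • k)⁻¹ = k * (s • k)⁻¹ := by group
    rw [h3] at h2
    have h4 := M.inv_mem h2
    rwa [mul_inv_rev, inv_inv] at h4
  · intro hk s
    rw [quotientMDMA_mk, QuotientGroup.eq]
    have h2 := hM.conj_mem _ (hk s) (s • k)⁻¹
    have h3 : (s • k)⁻¹ * (s • k * k⁻¹) * (s • k)⁻¹⁻¹ = k⁻¹ * (s • k) := by group
    rw [h3] at h2
    have h4 := M.inv_mem h2
    rwa [mul_inv_rev, inv_inv] at h4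

end Cfsg.Agent.Helper81
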