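import Mathlib
import Cfsg.Agent.Helper81.RG1
import Cfsg.Agent.Helper81.GlaubCls

/-!
# Glauberman's lemma for a `p`-group of operators, relative to an invariant normal subgroup

If the `p`-group `P` acts on `K`, `Q ⊴ K` is invariant of index prime to `p`, `Q ≤ H ≤ K` and the
coset `H k₀` is `P`-invariant, then it contains an element fixed by `P` modulo `Q`.
-/

set_option autoImplicit false
set_option linter.unusedSectionVars false

namespace Cfsg.Agent.Helper81

universe u w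

variable {K : Type u} [Group K] [Fintype K] {P : Type w} [Group P] [MulDistribMulAction P K]
  {p : ℕ} [hp : Fact p.Prime]

theorem exists_fixed_mod_in_coset (hP : IsPGroup p P) (Q : Subgroup K) [hQ : Q.Normal]
    (hQP : ∀ s : P, ∀ q ∈ Q, s • q ∈ Q) (hQi : ¬ p ∣ Q.index)
    (H : Subgroup K) (hQH : Q ≤ H) (k₀ : K)
    (hA : ∀ (s : P) (k : K), k * k₀⁻¹ ∈ H → (s • k) * k₀⁻¹ ∈ H) :
    ∃ k : K, k * k₀⁻¹ ∈ H ∧ ∀ s : P, (s • k) * k⁻¹ ∈ Q := by
  classical
  let _ : MulDistribMulAction P (K ⧸ Q) := quotientMDMA Q hQP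
  let _ : Fintype (K ⧸ Q) := Fintype.ofFinite _
  set Hb : Subgroup (K ⧸ Q) := H.map (QuotientGroup.mk' Q) with hHb
  have hmem : ∀ x : K, ((x : K ⧸ Q)) ∈ Hb ↔ x ∈ H := by
    intro x
    rw [hHb, Subgroup.mem_map]
    constructor
    · rintro ⟨h, hh, hhx⟩
      have h1 : h⁻¹ * x ∈ Q := QuotientGroup.eq.mp hhx
      have h2 := H.mul_mem hh (hQH h1)
      rwa [mul_inv_cancel_left] at h2
    · intro hx
      exact ⟨x, hx, rfl⟩
  set A : Set (K ⧸ Q) := {x | x * ((k₀ : K ⧸ Q))⁻¹ ∈ Hb} with hAdef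
  have hAmk : ∀ x : K, ((x : K ⧸ Q)) ∈ A ↔ x * k₀⁻¹ ∈ H := by
    intro x
    rw [hAdef, Set.mem_ofPred_eq, ← hmem]
    rfl
  have hAinv : ∀ s : P, ∀ x ∈ A, s • x ∈ A := by
    intro s x hx
    induction x using QuotientGroup.induction_on with
    | H k =>
      rw [quotientMDMA_mk, hAmk]
      exact hA s k ((hAmk k).mp hx)
  have hcard : (Finset.univ.filter (· ∈ A)).card ∣ Nat.card (K ⧸ Q) := by
    have h1 : (Finset.univ.filter (· ∈ A)).card =
        (Finset.univ.filter (fun x : K ⧸ Q => x ∈ Hb)).card := by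
      apply Finset.card_equiv (Equiv.mulRight ((k₀ : K ⧸ Q))⁻¹)
      intro x
      simp only [Finset.mem_filter, Finset.mem_univ, true_and, Equiv.coe_mulRight]
      rfl
    rw [h1]
    have h2 : (Finset.univ.filter (fun x : K ⧸ Q => x ∈ Hb)).card = Nat.card Hb := by
      rw [Nat.card_eq_fintype_card, Fintype.card_subtype]
    rw [h2]
    exact Subgroup.card_subgroup_dvd_card Hb
  have hpG : ¬ p ∣ Nat.card (K ⧸ Q) := hQi
  obtain ⟨c, hc⟩ := exists_fixed_of_card_dvd (p := p) (S := P)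
    (FixedPoints.subgroup P (K ⧸ Q)).subtype hP
    (fun g => by
      constructor
      · rintro ⟨c, rfl⟩
        exact c.2
      · intro h
        exact ⟨⟨g, h⟩, rfl⟩) hpG A hAinv hcard
  obtain ⟨k, hk⟩ := QuotientGroup.mk_surjective (c : K ⧸ Q)
  refine ⟨k, ?_, ?_⟩
  · rw [← hAmk, hk]
    exact hc
  · have hfix : ∀ s : P, s • (k : K ⧸ Q) = (k : K ⧸ Q) := by
      intro s
      rw [hk]
      exact c.2 s
    exact (quotientMDMA_fixed_iff Q hQP k).mp hfix

end Cfsg.Agent.Helper81
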