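import Mathlib
import Cfsg.Prelude.Def_Blocks
import Cfsg.Agent.Helper81.RG2
import Cfsg.Agent.Helper81.GlaubRel1
import Cfsg.Agent.Helper81.CliffordInd

/-!
# Invariant constituents on an invariant normal subgroup of index prime to `p`

`P` a `p`-group acting on `K`, `Q ⊴ K` invariant with `p ∤ |K : Q|`, `χ ∈ Irr(K)` invariant:
* `exists_invariant_constituent`: `χ_Q` has a `P`-invariant irreducible constituent;
* `exists_conj_fixed_mod`: two `P`-invariant constituents are conjugate by an element of `K`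
  fixed by `P` modulo `Q`.
-/

set_option autoImplicit false
set_option linter.unusedSectionVars false

namespace Cfsg.Agent.Helper81

open Cfsg Cfsg.Agent.Helper15
open scoped ComplexConjugate

universe u w

variable {K : Type u} [Group K] [Fintype K] {P : Type w} [Group P] [MulDistribMulAction P K]
  {p : ℕ} [hp : Fact p.Prime]

theorem exists_invariant_constituent (hP : IsPGroup p P) (Q : Subgroup K) [hQ : Q.Normal]
    [Fintype Q] (hQP : ∀ s : P, ∀ q ∈ Q, s • q ∈ Q) (hQi : ¬ p ∣ Q.index)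
    (χ : IrrCharacter K) (hχ : ∀ (s : P) (k : K), (χ : K → ℂ) (s • k) = (χ : K → ℂ) k) :
    ∃ θ : IrrCharacter Q,
      (∀ (s : P) (q : Q), (θ : Q → ℂ) ⟨s • (q : K), hQP s q q.2⟩ = (θ : Q → ℂ) q) ∧
      classInner (fun q : Q => (χ : K → ℂ) q) (θ : Q → ℂ) ≠ 0 := by
  classical
  let _ : MulDistribMulAction P Q := subgroupMDMA Q hQP
  let _ : MulAction P (IrrCharacter Q) := irrSMulAction P Q
  let _ : Fintype (IrrCharacter Q) := Helper74.irrFintype Q
  have hχc : IsCharacter K (χ : K → ℂ) := Helper74.irr_isCharacter χ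
  have hχcf : IsClassFunction K (χ : K → ℂ) := Helper74.irr_isClassFunction χ
  have hres : IsCharacter Q (fun q : Q => (χ : K → ℂ) q) := Helper74.isCharacter_restrict Q hχc
  have hspec : ∀ θ : IrrCharacter Q,
      classInner (fun q : Q => (χ : K → ℂ) q) (θ : Q → ℂ) = (mult Q.subtype χ θ : ℂ) :=
    fun θ => mult_spec Q.subtype χ θ
  -- a first constituent
  obtain ⟨θ₁, hθ₁⟩ := exists_irr_constituent hres (by
    show (χ : K → ℂ) ((1 : Q) : K) ≠ 0
    exact Helper80.IsIrrCharacter.map_one_ne_zero χ.2)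
  set f : IrrCharacter Q → ℕ := fun θ => if mult Q.subtype χ θ ≠ 0 then 1 else 0 with hf
  have hfinv : ∀ (s : P) (θ : IrrCharacter Q), f (s • θ) = f θ := by
    intro s θ
    simp only [hf]
    rw [mult_smul_right Q.subtype (fun t n => rfl) χ hχ s θ]
  have hsum := sum_natCast_zmod_eq_sum_fixed (p := p) hP f hfinv
  -- the left-hand side counts the orbit
  have hcount : ∑ θ : IrrCharacter Q, f θ = (conjOrbit Q (θ₁ : Q → ℂ)).card := by
    simp only [hf]
    rw [Finset.sum_ite, Finset.sum_const_zero, add_zero, Finset.sum_const, smul_eq_mul, mul_one]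
    rw [← Finset.card_image_of_injective _ (Subtype.val_injective (p := IsIrrCharacter Q))]
    congr 1
    ext φ
    rw [Finset.mem_image, mem_conjOrbit]
    constructor
    · rintro ⟨θ, hθ, rfl⟩
      rw [Finset.mem_filter] at hθ
      have h1 : classInner (fun q : Q => (χ : K → ℂ) q) (θ : Q → ℂ) ≠ 0 := by
        rw [hspec]; exact_mod_cast hθ.2
      exact exists_conj_of_constituents Q χ.2 θ₁.2 θ.2 hθ₁ h1
    · rintro ⟨g, rfl⟩
      refine ⟨⟨conjFun Q g (θ₁ : Q → ℂ), isIrrCharacter_conjFun Q θ₁.2 g⟩, ?_, rfl⟩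
      rw [Finset.mem_filter]
      refine ⟨Finset.mem_univ _, ?_⟩
      have h1 := classInner_restrict_conjFun Q hχcf g (θ₁ : Q → ℂ)
      have h2 := hspec ⟨conjFun Q g (θ₁ : Q → ℂ), isIrrCharacter_conjFun Q θ₁.2 g⟩
      rw [h1] at h2
      intro h0
      rw [h0, Nat.cast_zero] at h2
      exact hθ₁ h2
  have hnd : ¬ p ∣ (conjOrbit Q (θ₁ : Q → ℂ)).card := by
    rw [card_conjOrbit]
    intro h
    exact hQi (h.trans (Subgroup.index_dvd_of_le
      (le_inertia Q (Helper74.irr_isClassFunction θ₁))))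
  have hL : (∑ θ : IrrCharacter Q, (f θ : ZMod p)) ≠ 0 := by
    rw [← Nat.cast_sum, hcount]
    intro h0
    exact hnd ((ZMod.natCast_eq_zero_iff _ _).mp h0)
  rw [hsum] at hL
  obtain ⟨θ, hθmem, hθne⟩ := Finset.exists_ne_zero_of_sum_ne_zero hL
  rw [Finset.mem_filter] at hθmem
  refine ⟨θ, ?_, ?_⟩
  · have h1 : ∀ s : P, s • θ = θ := fun s => hθmem.2 s
    have h2 := (irrSMul_eq_self_iff (S := P) θ).mp h1
    intro s q
    exact h2 s q
  · rw [hspec]
    intro h0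
    apply hθne
    simp only [hf]
    have : mult Q.subtype χ θ = 0 := by exact_mod_cast h0
    rw [if_neg (by rw [this]; exact fun h => h rfl), Nat.cast_zero]

theorem exists_conj_fixed_mod (hP : IsPGroup p P) (Q : Subgroup K) [hQ : Q.Normal]
    [Fintype Q] (hQP : ∀ s : P, ∀ q ∈ Q, s • q ∈ Q) (hQi : ¬ p ∣ Q.index)
    (χ : IrrCharacter K)
    (θ θ' : IrrCharacter Q)
    (hθ : ∀ (s : P) (q : Q), (θ : Q → ℂ) ⟨s • (q : K), hQP s q q.2⟩ = (θ : Q → ℂ) q)
    (hθ' : ∀ (s : P) (q : Q), (θ' : Q → ℂ) ⟨s • (q : K), hQP s q q.2⟩ = (θ' : Q → ℂ) q)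
    (h1 : classInner (fun q : Q => (χ : K → ℂ) q) (θ : Q → ℂ) ≠ 0)
    (h2 : classInner (fun q : Q => (χ : K → ℂ) q) (θ' : Q → ℂ) ≠ 0) :
    ∃ k : K, (∀ s : P, (s • k) * k⁻¹ ∈ Q) ∧ (θ' : Q → ℂ) = conjFun Q k (θ : Q → ℂ) := by
  classical
  obtain ⟨k₀, hk₀⟩ := exists_conj_of_constituents Q χ.2 θ.2 θ'.2 h1 h2
  set H : Subgroup K := inertia Q (θ : Q → ℂ) with hH
  have hQH : Q ≤ H := le_inertia Q (Helper74.irr_isClassFunction θ)
  have hiff : ∀ k : K, k * k₀⁻¹ ∈ H ↔ conjFun Q k (θ : Q → ℂ) = (θ' : Q → ℂ) := by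
    intro k
    rw [hH, mem_inertia, conjFun_mul, hk₀]
    constructor
    · intro h
      have := congrArg (conjFun Q k₀) h
      rwa [conjFun_conjFun_inv] at this
    · intro h
      rw [h, conjFun_inv_conjFun]
  have hA : ∀ (s : P) (k : K), k * k₀⁻¹ ∈ H → (s • k) * k₀⁻¹ ∈ H := by
    intro s k hk
    rw [hiff] at hk ⊢
    funext q
    rw [conjFun_apply]
    have hq' : s⁻¹ • (q : K) ∈ Q := hQP s⁻¹ q q.2
    have harg : (s • k) * (q : K) * (s • k)⁻¹ = s • (k * (s⁻¹ • (q : K)) * k⁻¹) := by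
      rw [smul_mul', smul_mul', smul_inv', smul_inv_smul]
    have h3 : (⟨(s • k) * (q : K) * (s • k)⁻¹, hQ.conj_mem (q : K) q.2 (s • k)⟩ : Q) =
        ⟨s • ((⟨k * (s⁻¹ • (q : K)) * k⁻¹, hQ.conj_mem _ hq' k⟩ : Q) : K),
          hQP s _ (hQ.conj_mem _ hq' k)⟩ := Subtype.ext harg
    rw [h3, hθ s]
    have h4 := congrFun hk ⟨s⁻¹ • (q : K), hq'⟩
    rw [conjFun_apply] at h4
    rw [h4]
    have h5 := hθ' s ⟨s⁻¹ • (q : K), hq'⟩
    rw [← h5]
    exact congrArg (θ' : Q → ℂ) (Subtype.ext (smul_inv_smul s (q : K)))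
  obtain ⟨k, hk, hkfix⟩ := exists_fixed_mod_in_coset hP Q hQP hQi H hQH k₀ hA
  exact ⟨k, hkfix, ((hiff k).mp hk).symm⟩

end Cfsg.Agent.Helper81
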