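import Mathlib
import Cfsg.Prelude.Def_Blocks
import Cfsg.Agent.Helper81.CliffordInd
import Cfsg.Agent.Helper81.GlaubRel1

/-!
# Clifford correspondents and multiplicities along an embedding

`ι : C → K` an embedding, `Q ⊴ K` with `Q ≤ ι(C)`, `θ ∈ Irr(Q)`, `θC = θ ∘ ι` on `Q.comap ι`.
If `χ = ψ^K` with `ψ ∈ Irr(K₁ | θ)`, `K₁` the inertia group, and `ξ = η^C` with `η ∈ Irr(C₁ | θC)`,
`C₁ ≤ C` mapped into `K₁`, then `[χ ∘ ι, ξ] = [ψ ∘ j, η]`.
-/

set_option autoImplicit false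
set_option linter.unusedSectionVars false

namespace Cfsg.Agent.Helper81

open Cfsg Cfsg.Agent.Helper15
open scoped ComplexConjugate

universe u

section

variable {K : Type u} [Group K] [Fintype K] {C : Type u} [Group C] [Fintype C]
  (ι : C →* K) (hinj : Function.Injective ι)
  (Q : Subgroup K) [hQ : Q.Normal] [Fintype Q] [Fintype (Q.comap ι)]
  (hQι : ∀ q ∈ Q, q ∈ Set.range ι)

include hQι in
theorem subgroupComap_surjective_of_le : Function.Surjective (ι.subgroupComap Q) := by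
  rintro ⟨q, hq⟩
  obtain ⟨c, hc⟩ := hQι q hq
  refine ⟨⟨c, ?_⟩, Subtype.ext hc⟩
  rw [Subgroup.mem_comap, hc]
  exact hq

include hinj in
theorem subgroupComap_injective_of_injective : Function.Injective (ι.subgroupComap Q) := by
  intro a b h
  apply Subtype.ext
  apply hinj
  exact congrArg Subtype.val h

/-- The isomorphism `Q.comap ι ≃* Q`. -/
noncomputable def comapEquiv : Q.comap ι ≃* Q :=
  MulEquiv.ofBijective (ι.subgroupComap Q)
    ⟨subgroupComap_injective_of_injective ι hinj Q, subgroupComap_surjective_of_le ι Q hQι⟩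

theorem comapEquiv_apply (q : Q.comap ι) :
    ((comapEquiv ι hinj Q hQι q : Q) : K) = ι (q : C) := rfl

/-- The character `θ ∘ ι` of `Q.comap ι`. -/
noncomputable def thetaC (θ : IrrCharacter Q) : IrrCharacter (Q.comap ι) :=
  ⟨fun q => (θ : Q → ℂ) (ι.subgroupComap Q q),
    Helper80.IsIrrCharacter.comp_surjective θ.2 (ι.subgroupComap Q)
      (subgroupComap_surjective_of_le ι Q hQι)⟩

theorem thetaC_apply (θ : IrrCharacter Q) (q : Q.comap ι) :
    (thetaC ι Q hQι θ : Q.comap ι → ℂ) q = (θ : Q → ℂ) ⟨ι (q : C), q.2⟩ := rfl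

include hinj hQι in
/-- Restriction to `Q.comap ι` of a pulled-back function and inner products. -/
theorem classInner_comap (f g : Q → ℂ) :
    classInner (fun q : Q.comap ι => f (ι.subgroupComap Q q))
      (fun q : Q.comap ι => g (ι.subgroupComap Q q)) = classInner f g :=
  classInner_comp_mulEquiv (comapEquiv ι hinj Q hQι) f g

/-- The inertia group of `θC` is the preimage of the inertia group of `θ`. -/
theorem mem_inertia_thetaC (θ : IrrCharacter Q) (c : C) :
    c ∈ inertia (Q.comap ι) (thetaC ι Q hQι θ : Q.comap ι → ℂ) ↔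
      ι c ∈ inertia Q (θ : Q → ℂ) := by
  rw [mem_inertia_iff, mem_inertia_iff]
  constructor
  · intro h q
    obtain ⟨q', hq'⟩ := subgroupComap_surjective_of_le ι Q hQι q
    have h1 := h q'
    rw [thetaC_apply, thetaC_apply] at h1
    have h2 : (⟨ι ((q' : C)), q'.2⟩ : Q) = q := hq'
    rw [h2] at h1
    rw [← h1]
    refine congrArg (θ : Q → ℂ) (Subtype.ext ?_)
    show ι c * (q : K) * (ι c)⁻¹ = ι (c * (q' : C) * c⁻¹)
    rw [map_mul, map_mul, map_inv, ← h2]
  · intro h q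
    rw [thetaC_apply, thetaC_apply]
    have h1 := h ⟨ι (q : C), q.2⟩
    rw [← h1]
    refine congrArg (θ : Q → ℂ) (Subtype.ext ?_)
    show ι (c * (q : C) * c⁻¹) = ι c * ι (q : C) * (ι c)⁻¹
    rw [map_mul, map_mul, map_inv]

end

section transfer

variable {K : Type u} [Group K] [Fintype K] {C : Type u} [Group C] [Fintype C]
  (ι : C →* K) (hinj : Function.Injective ι)
  (Q : Subgroup K) [hQ : Q.Normal] [Fintype Q] [Fintype (Q.comap ι)]
  (hQι : ∀ q ∈ Q, q ∈ Set.range ι) (θ : IrrCharacter Q)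
  (K₁ : Subgroup K) [Fintype K₁] (hQK₁ : Q ≤ K₁)
  (C₁ : Subgroup C) [Fintype C₁] (hQC₁ : Q.comap ι ≤ C₁)
  (j : C₁ →* K₁) (hj : ∀ c : C₁, ((j c : K₁) : K) = ι (c : C))

include hinj hQι hj in
/-- If `ψ' ∈ Irr(K₁)` does not lie over `θ` and `η ∈ Irr(C₁)` lies over `θC`, then `η` is not a
constituent of `ψ' ∘ j`. -/
theorem inner_comp_eq_zero_of_not_over (ψ' : IrrCharacter K₁) (η : IrrCharacter C₁)
    (hψ' : classInner (resTo Q K₁ hQK₁ (ψ' : K₁ → ℂ)) (θ : Q → ℂ) = 0)
    (hη : classInner (resTo (Q.comap ι) C₁ hQC₁ (η : C₁ → ℂ))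
      (thetaC ι Q hQι θ : Q.comap ι → ℂ) ≠ 0) :
    classInner ((ψ' : K₁ → ℂ) ∘ j) (η : C₁ → ℂ) = 0 := by
  classical
  let _ := Helper74.irrFintype C₁
  by_contra hne
  have hchar : IsCharacter C₁ ((ψ' : K₁ → ℂ) ∘ j) :=
    Helper74.isCharacter_comp j (Helper74.irr_isCharacter ψ')
  have hsum := classInner_comp_eq_sum (Subgroup.inclusion hQC₁) hchar
    (thetaC ι Q hQι θ : Q.comap ι → ℂ)
  -- the left side vanishes
  have hL : classInner (((ψ' : K₁ → ℂ) ∘ j) ∘ (Subgroup.inclusion hQC₁))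
      (thetaC ι Q hQι θ : Q.comap ι → ℂ) = 0 := by
    have h1 : ((ψ' : K₁ → ℂ) ∘ j) ∘ (Subgroup.inclusion hQC₁) =
        fun q : Q.comap ι => (resTo Q K₁ hQK₁ (ψ' : K₁ → ℂ)) (ι.subgroupComap Q q) := by
      funext q
      simp only [Function.comp_apply, resTo_apply]
      refine congrArg (ψ' : K₁ → ℂ) (Subtype.ext ?_)
      rw [hj]
      rfl
    rw [h1]
    have h2 : (thetaC ι Q hQι θ : Q.comap ι → ℂ) =
        fun q : Q.comap ι => (θ : Q → ℂ) (ι.subgroupComap Q q) := rfl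
    rw [h2, classInner_comap ι hinj Q hQι, hψ']
  rw [hL] at hsum
  -- but the right side has a positive term
  have hterm : ∀ η' : IrrCharacter C₁, ∃ a b : ℕ,
      classInner ((ψ' : K₁ → ℂ) ∘ j) (η' : C₁ → ℂ) = a ∧
      classInner ((η' : C₁ → ℂ) ∘ (Subgroup.inclusion hQC₁))
        (thetaC ι Q hQι θ : Q.comap ι → ℂ) = b := by
    intro η'
    obtain ⟨a, ha⟩ := Helper74.isCharacter_inner_irr_nat hchar η'
    obtain ⟨b, hb⟩ := Helper74.isCharacter_inner_irr_nat
      (Helper74.isCharacter_comp (Subgroup.inclusion hQC₁) (Helper74.irr_isCharacter η'))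
      (thetaC ι Q hQι θ)
    exact ⟨a, b, ha, hb⟩
  choose a b ha hb using hterm
  have hsum' : (0 : ℂ) = ((∑ η' : IrrCharacter C₁, a η' * b η' : ℕ) : ℂ) := by
    rw [hsum]
    push_cast
    refine Finset.sum_congr rfl fun η' _ => ?_
    rw [ha, hb]
  have hzero : ∑ η' : IrrCharacter C₁, a η' * b η' = 0 := by exact_mod_cast hsum'.symm
  have h0 := (Finset.sum_eq_zero_iff.mp hzero) η (Finset.mem_univ η)
  rcases Nat.mul_eq_zero.mp h0 with h1 | h1
  · apply hne
    rw [ha, h1, Nat.cast_zero]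
  · apply hη
    have := hb η
    rw [h1, Nat.cast_zero] at this
    exact this

include hinj hQι hj in
/-- The multiplicity transfer through the two Clifford correspondences. -/
theorem mult_clifford_transfer (χ : IrrCharacter K) (ψ : IrrCharacter K₁)
    (hind : indFun K₁ (ψ : K₁ → ℂ) = (χ : K → ℂ))
    (hfull : classInner (resTo Q K₁ hQK₁ (ψ : K₁ → ℂ)) (θ : Q → ℂ) =
      classInner (fun q : Q => (χ : K → ℂ) q) (θ : Q → ℂ))
    (ξ : IrrCharacter C) (η : IrrCharacter C₁)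
    (hindC : indFun C₁ (η : C₁ → ℂ) = (ξ : C → ℂ))
    (hη : classInner (resTo (Q.comap ι) C₁ hQC₁ (η : C₁ → ℂ))
      (thetaC ι Q hQι θ : Q.comap ι → ℂ) ≠ 0) :
    mult ι χ ξ = mult j ψ η := by
  classical
  let _ := Helper74.irrFintype K₁
  have hχc : IsCharacter K (χ : K → ℂ) := Helper74.irr_isCharacter χ
  have hχcf : IsClassFunction K (χ : K → ℂ) := Helper74.irr_isClassFunction χ
  have hχι : IsClassFunction C ((χ : K → ℂ) ∘ ι) :=
    Helper74.isClassFunction_of_isCharacter (Helper74.isCharacter_comp ι hχc)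
  have h1 := mult_spec ι χ ξ
  rw [← hindC, frobenius_reciprocity' C₁ (η : C₁ → ℂ) _ hχι] at h1
  have hχK₁ : IsCharacter K₁ (fun t : K₁ => (χ : K → ℂ) t) := Helper74.isCharacter_restrict K₁ hχc
  have h2 : (fun c : C₁ => ((χ : K → ℂ) ∘ ι) c) = (fun t : K₁ => (χ : K → ℂ) t) ∘ j := by
    funext c
    simp only [Function.comp_apply]
    rw [hj]
  rw [h2, classInner_comp_eq_sum j hχK₁ (η : C₁ → ℂ), Finset.sum_eq_single ψ] at h1
  · have h3 : classInner (fun t : K₁ => (χ : K → ℂ) t) (ψ : K₁ → ℂ) = 1 := by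
      rw [← frobenius_reciprocity' K₁ (ψ : K₁ → ℂ) _ hχcf, hind, Helper74.irr_inner_self]
    rw [h3, one_mul, mult_spec] at h1
    exact_mod_cast h1.symm
  · intro ψ' _ hne
    by_cases hcon : classInner (fun t : K₁ => (χ : K → ℂ) t) (ψ' : K₁ → ℂ) = 0
    · rw [hcon, zero_mul]
    · have hψ'θ : classInner (resTo Q K₁ hQK₁ (ψ' : K₁ → ℂ)) (θ : Q → ℂ) = 0 := by
        by_contra hne'
        apply hne
        have hconψ : classInner (fun t : K₁ => (χ : K → ℂ) t) (ψ : K₁ → ℂ) ≠ 0 := by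
          rw [← frobenius_reciprocity' K₁ (ψ : K₁ → ℂ) _ hχcf, hind, Helper74.irr_inner_self]
          exact one_ne_zero
        exact Subtype.ext (clifford_unique_constituent Q θ.2 K₁ hQK₁ hχc ψ.2 hconψ hfull ψ'.2
          hcon hne')
      rw [inner_comp_eq_zero_of_not_over ι hinj Q hQι θ K₁ hQK₁ C₁ hQC₁ j hj ψ' η hψ'θ hη,
        mul_zero]
  · intro h
    exact absurd (Finset.mem_univ ψ) h

end transfer

end Cfsg.Agent.Helper81
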