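import Mathlib
import Cfsg.Prelude.Def_Blocks
import Cfsg.Agent.Helper81.RG1
import Cfsg.Agent.Helper81.CliffordInd
import Cfsg.Agent.Helper81.GlaubStep

/-!
# Invariance and the Clifford correspondence

`P` acts on `K`, `Q ⊴ K` invariant, `θ ∈ Irr(Q)` invariant, `K₁` the inertia group of `θ`.
* `smul_mem_inertia`: `K₁` is `P`-invariant;
* `clifford_corr_invariant`: the Clifford correspondent of an invariant `χ ∈ Irr(K | θ)` is invariant;
* `indFun_invariant`: the character induced from an invariant `ψ ∈ Irr(K₁ | θ)` is invariant.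
-/

set_option autoImplicit false
set_option linter.unusedSectionVars false

namespace Cfsg.Agent.Helper81

open Cfsg Cfsg.Agent.Helper15
open scoped ComplexConjugate

universe u w

variable {K : Type u} [Group K] [Fintype K] {P : Type w} [Group P] [MulDistribMulAction P K]
  (Q : Subgroup K) [hQ : Q.Normal] [Fintype Q] (hQP : ∀ s : P, ∀ q ∈ Q, s • q ∈ Q)

/-- Inner products are invariant under the action on an invariant subgroup. -/
theorem classInner_smul_subgroup (H : Subgroup K) [Fintype H] (hHP : ∀ s : P, ∀ k ∈ H, s • k ∈ H)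
    (s : P) (f g : H → ℂ) :
    classInner (fun x : H => f ⟨s • (x : K), hHP s x x.2⟩)
      (fun x : H => g ⟨s • (x : K), hHP s x x.2⟩) = classInner f g := by
  let _ : MulDistribMulAction P H := subgroupMDMA H hHP
  exact classInner_comp_equiv (MulAction.toPerm s : Equiv.Perm H) f g

theorem smul_mem_inertia (θ : Q → ℂ)
    (hθP : ∀ (s : P) (q : Q), θ ⟨s • (q : K), hQP s q q.2⟩ = θ q) :
    ∀ s : P, ∀ k ∈ inertia Q θ, s • k ∈ inertia Q θ := by
  intro s k hk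
  rw [mem_inertia_iff] at hk ⊢
  intro q
  have hq' : s⁻¹ • (q : K) ∈ Q := hQP s⁻¹ q q.2
  have harg : (s • k) * (q : K) * (s • k)⁻¹ = s • (k * (s⁻¹ • (q : K)) * k⁻¹) := by
    rw [smul_mul', smul_mul', smul_inv', smul_inv_smul]
  have h3 : (⟨(s • k) * (q : K) * (s • k)⁻¹, hQ.conj_mem (q : K) q.2 (s • k)⟩ : Q) =
      ⟨s • ((⟨k * (s⁻¹ • (q : K)) * k⁻¹, hQ.conj_mem _ hq' k⟩ : Q) : K),
        hQP s _ (hQ.conj_mem _ hq' k)⟩ := Subtype.ext harg
  rw [h3, hθP s, hk ⟨s⁻¹ • (q : K), hq'⟩]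
  have h5 := hθP s ⟨s⁻¹ • (q : K), hq'⟩
  rw [← h5]
  exact congrArg θ (Subtype.ext (smul_inv_smul s (q : K)))

variable (θ : IrrCharacter Q)
  (hθP : ∀ (s : P) (q : Q), (θ : Q → ℂ) ⟨s • (q : K), hQP s q q.2⟩ = (θ : Q → ℂ) q)
  (K₁ : Subgroup K) [Fintype K₁] (hQK₁ : Q ≤ K₁)
  (hK₁P : ∀ s : P, ∀ k ∈ K₁, s • k ∈ K₁)

include hθP in
/-- The Clifford correspondent of an invariant character is invariant. -/
theorem clifford_corr_invariant (χ : IrrCharacter K)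
    (hχP : ∀ (s : P) (k : K), (χ : K → ℂ) (s • k) = (χ : K → ℂ) k)
    (ψ : IrrCharacter K₁) (hind : indFun K₁ (ψ : K₁ → ℂ) = (χ : K → ℂ))
    (hfull : classInner (resTo Q K₁ hQK₁ (ψ : K₁ → ℂ)) (θ : Q → ℂ) =
      classInner (fun q : Q => (χ : K → ℂ) q) (θ : Q → ℂ))
    (hover : classInner (fun q : Q => (χ : K → ℂ) q) (θ : Q → ℂ) ≠ 0) :
    ∀ (s : P) (x : K₁), (ψ : K₁ → ℂ) ⟨s • (x : K), hK₁P s x x.2⟩ = (ψ : K₁ → ℂ) x := by
  intro s
  let _ : MulDistribMulAction P K₁ := subgroupMDMA K₁ hK₁P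
  have hχc : IsCharacter K (χ : K → ℂ) := Helper74.irr_isCharacter χ
  have hχcf : IsClassFunction K (χ : K → ℂ) := Helper74.irr_isClassFunction χ
  have hconψ : classInner (fun t : K₁ => (χ : K → ℂ) t) (ψ : K₁ → ℂ) ≠ 0 := by
    rw [← frobenius_reciprocity' K₁ (ψ : K₁ → ℂ) _ hχcf, hind, Helper74.irr_inner_self]
    exact one_ne_zero
  set ψ' : K₁ → ℂ := fun x : K₁ => (ψ : K₁ → ℂ) ⟨s • (x : K), hK₁P s x x.2⟩ with hψ'
  have hψ'irr : IsIrrCharacter K₁ ψ' :=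
    Helper80.IsIrrCharacter.comp_surjective ψ.2 (MulDistribMulAction.toMonoidHom K₁ s)
      (MulAction.surjective s)
  have hcon' : classInner (fun t : K₁ => (χ : K → ℂ) t) ψ' ≠ 0 := by
    have h2 := classInner_smul_subgroup K₁ hK₁P s (fun t : K₁ => (χ : K → ℂ) t) (ψ : K₁ → ℂ)
    have h1 : (fun x : K₁ => (fun t : K₁ => (χ : K → ℂ) t) ⟨s • (x : K), hK₁P s x x.2⟩) =
        (fun t : K₁ => (χ : K → ℂ) t) := funext fun x => hχP s x
    rw [h1] at h2
    rw [hψ', h2]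
    exact hconψ
  have hθ' : classInner (resTo Q K₁ hQK₁ ψ') (θ : Q → ℂ) ≠ 0 := by
    have h3 := classInner_smul_subgroup Q hQP s (resTo Q K₁ hQK₁ (ψ : K₁ → ℂ)) (θ : Q → ℂ)
    have h1 : resTo Q K₁ hQK₁ ψ' =
        fun q : Q => (resTo Q K₁ hQK₁ (ψ : K₁ → ℂ)) ⟨s • (q : K), hQP s q q.2⟩ := rfl
    have h2 : (fun q : Q => (θ : Q → ℂ) ⟨s • (q : K), hQP s q q.2⟩) = (θ : Q → ℂ) :=
      funext fun q => hθP s q
    rw [h2] at h3
    rw [h1, h3, hfull]
    exact hover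
  have := clifford_unique_constituent Q θ.2 K₁ hQK₁ hχc ψ.2 hconψ hfull hψ'irr hcon' hθ'
  intro x
  exact congrFun this x

/-- The character induced from an invariant character of an invariant subgroup is invariant, when
irreducible. -/
theorem indFun_invariant (ψ : IrrCharacter K₁)
    (hψP : ∀ (s : P) (x : K₁), (ψ : K₁ → ℂ) ⟨s • (x : K), hK₁P s x x.2⟩ = (ψ : K₁ → ℂ) x)
    (hirr : IsIrrCharacter K (indFun K₁ (ψ : K₁ → ℂ))) :
    ∀ (s : P) (k : K), indFun K₁ (ψ : K₁ → ℂ) (s • k) = indFun K₁ (ψ : K₁ → ℂ) k := by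
  intro s
  set χ : K → ℂ := indFun K₁ (ψ : K₁ → ℂ) with hχ
  have hχcf : IsClassFunction K χ :=
    Helper74.isClassFunction_of_isCharacter (Helper74.isCharacter_of_isIrr hirr)
  set χ' : K → ℂ := fun k => χ (s • k) with hχ'
  have hχ'irr : IsIrrCharacter K χ' :=
    Helper80.IsIrrCharacter.comp_surjective hirr (MulDistribMulAction.toMonoidHom K s)
      (MulAction.surjective s)
  have hχ'cf : IsClassFunction K χ' :=
    Helper74.isClassFunction_of_isCharacter (Helper74.isCharacter_of_isIrr hχ'irr)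
  have h1 : classInner χ' χ ≠ 0 := by
    rw [hχ, frobenius_reciprocity' K₁ (ψ : K₁ → ℂ) χ' hχ'cf]
    have h4 := classInner_smul_subgroup K₁ hK₁P s (fun t : K₁ => χ t) (ψ : K₁ → ℂ)
    have h2 : (fun x : K₁ => (ψ : K₁ → ℂ) ⟨s • (x : K), hK₁P s x x.2⟩) = (ψ : K₁ → ℂ) :=
      funext fun x => hψP s x
    rw [h2] at h4
    have h3 : (fun h : K₁ => χ' h) =
        fun x : K₁ => (fun t : K₁ => χ t) ⟨s • (x : K), hK₁P s x x.2⟩ := rfl
    rw [h3, h4, ← frobenius_reciprocity' K₁ (ψ : K₁ → ℂ) χ hχcf]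
    have h5 := Helper74.irr_inner_self (⟨χ, hirr⟩ : IrrCharacter K)
    rw [h5]
    exact one_ne_zero
  have h2 : (⟨χ', hχ'irr⟩ : IrrCharacter K) = ⟨χ, hirr⟩ := by
    by_contra hne
    have h6 := Helper74.irr_inner_ne (χ := (⟨χ', hχ'irr⟩ : IrrCharacter K))
      (ψ := (⟨χ, hirr⟩ : IrrCharacter K)) hne
    exact h1 h6
  intro k
  exact congrFun (congrArg Subtype.val h2) k

end Cfsg.Agent.Helper81
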