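import Mathlib
import Cfsg.Prelude.Def_Blocks
import Cfsg.Agent.Helper81.RG3
import Cfsg.Agent.Helper81.RG8
import Cfsg.Agent.Helper81.RG9a

/-!
# Auxiliary lemmas for the global relative Glauberman correspondence
-/

set_option autoImplicit false
set_option linter.unusedSectionVars false

namespace Cfsg.Agent.Helper81

open Cfsg Cfsg.Agent.Helper15
open scoped ComplexConjugate

universe u w

variable {K : Type u} [Group K] [Fintype K] {C : Type u} [Group C] [Fintype C]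
  (ι : C →* K) (hinj : Function.Injective ι)
  (Q : Subgroup K) [hQ : Q.Normal] [Fintype Q] [Fintype (Q.comap ι)]
  (hQι : ∀ q ∈ Q, q ∈ Set.range ι)

include hinj in
/-- If `ξ` is a constituent of `χ ∘ ι` lying over `θ ∘ ι`, then `χ` lies over `θ`. -/
theorem over_of_mult_ne_zero (χ : IrrCharacter K) (ξ : IrrCharacter C) (θ : IrrCharacter Q)
    (hm : mult ι χ ξ ≠ 0)
    (hξ : classInner (fun q : Q.comap ι => (ξ : C → ℂ) q)
      (thetaC ι Q hQι θ : Q.comap ι → ℂ) ≠ 0) :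
    classInner (fun q : Q => (χ : K → ℂ) q) (θ : Q → ℂ) ≠ 0 := by
  classical
  let _ := Helper74.irrFintype C
  have hchar : IsCharacter C ((χ : K → ℂ) ∘ ι) :=
    Helper74.isCharacter_comp ι (Helper74.irr_isCharacter χ)
  have hsum := classInner_comp_eq_sum (Q.comap ι).subtype hchar
    (thetaC ι Q hQι θ : Q.comap ι → ℂ)
  have hL : classInner (((χ : K → ℂ) ∘ ι) ∘ (Q.comap ι).subtype)
      (thetaC ι Q hQι θ : Q.comap ι → ℂ) =
      classInner (fun q : Q => (χ : K → ℂ) q) (θ : Q → ℂ) := by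
    have h1 : ((χ : K → ℂ) ∘ ι) ∘ (Q.comap ι).subtype =
        fun q : Q.comap ι => (fun q : Q => (χ : K → ℂ) q) (ι.subgroupComap Q q) := rfl
    have h2 : (thetaC ι Q hQι θ : Q.comap ι → ℂ) =
        fun q : Q.comap ι => (θ : Q → ℂ) (ι.subgroupComap Q q) := rfl
    rw [h1, h2]
    exact classInner_comap ι hinj Q hQι (fun q : Q => (χ : K → ℂ) q) (θ : Q → ℂ)
  rw [hL] at hsum
  have hterm : ∀ ξ' : IrrCharacter C, ∃ b : ℕ,
      classInner ((ξ' : C → ℂ) ∘ (Q.comap ι).subtype)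
        (thetaC ι Q hQι θ : Q.comap ι → ℂ) = b := by
    intro ξ'
    exact Helper74.isCharacter_inner_irr_nat
      (Helper74.isCharacter_comp (Q.comap ι).subtype (Helper74.irr_isCharacter ξ'))
      (thetaC ι Q hQι θ)
  choose b hb using hterm
  have hsum' : classInner (fun q : Q => (χ : K → ℂ) q) (θ : Q → ℂ) =
      ((∑ ξ' : IrrCharacter C, mult ι χ ξ' * b ξ' : ℕ) : ℂ) := by
    rw [hsum]
    push_cast
    refine Finset.sum_congr rfl fun ξ' _ => ?_
    rw [mult_spec, hb]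
  rw [hsum']
  have hpos : 0 < ∑ ξ' : IrrCharacter C, mult ι χ ξ' * b ξ' := by
    apply Finset.sum_pos'
    · intro _ _; exact Nat.zero_le _
    · refine ⟨ξ, Finset.mem_univ _, Nat.mul_pos (Nat.pos_of_ne_zero hm) (Nat.pos_of_ne_zero ?_)⟩
      intro h0
      apply hξ
      have := hb ξ
      rw [h0, Nat.cast_zero] at this
      exact this
  exact_mod_cast hpos.ne'

/-- Conjugating `θ` by `ι c` corresponds to conjugating `θ ∘ ι` by `c`. -/
theorem thetaC_conj (θ θ' : IrrCharacter Q) (c : C)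
    (h : (θ' : Q → ℂ) = conjFun Q (ι c) (θ : Q → ℂ)) :
    (thetaC ι Q hQι θ' : Q.comap ι → ℂ) =
      conjFun (Q.comap ι) c (thetaC ι Q hQι θ : Q.comap ι → ℂ) := by
  funext q
  rw [thetaC_apply, conjFun_apply, thetaC_apply, h, conjFun_apply]
  refine congrArg (θ : Q → ℂ) (Subtype.ext ?_)
  show ι c * ι (q : C) * (ι c)⁻¹ = ι (c * (q : C) * c⁻¹)
  rw [map_mul, map_mul, map_inv]

section action

variable {P : Type w} [Group P] [MulDistribMulAction P K] [MulDistribMulAction P C]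
  {p : ℕ} [hp : Fact p.Prime] (hP : IsPGroup p P)
  (hι : ∀ (s : P) (c : C), ι (s • c) = s • ι c)
  (hQP : ∀ s : P, ∀ q ∈ Q, s • q ∈ Q)

include hι hQP in
theorem comap_smul_mem : ∀ s : P, ∀ c ∈ Q.comap ι, s • c ∈ Q.comap ι := by
  intro s c hc
  rw [Subgroup.mem_comap, hι]
  exact hQP s _ hc

include hι in
/-- `θ ∘ ι` is `P`-invariant when `θ` is. -/
theorem thetaC_invariant (θ : IrrCharacter Q)
    (hθP : ∀ (s : P) (q : Q), (θ : Q → ℂ) ⟨s • (q : K), hQP s q q.2⟩ = (θ : Q → ℂ) q)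
    (s : P) (q : Q.comap ι) :
    (thetaC ι Q hQι θ : Q.comap ι → ℂ) ⟨s • (q : C), comap_smul_mem ι Q hι hQP s q q.2⟩ =
      (thetaC ι Q hQι θ : Q.comap ι → ℂ) q := by
  rw [thetaC_apply, thetaC_apply]
  have h1 := hθP s ⟨ι (q : C), q.2⟩
  rw [← h1]
  exact congrArg (θ : Q → ℂ) (Subtype.ext (hι s (q : C)))

include hP hinj hι in
/-- A `P`-invariant irreducible character of `C` lies over `θ ∘ ι` for some `P`-invariant
`θ ∈ Irr(Q)`. -/
theorem exists_invariant_constituent_C (hQi : ¬ p ∣ Q.index) (ξ : IrrCharacter C)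
    (hξP : ∀ (s : P) (c : C), (ξ : C → ℂ) (s • c) = (ξ : C → ℂ) c) :
    ∃ θ : IrrCharacter Q,
      (∀ (s : P) (q : Q), (θ : Q → ℂ) ⟨s • (q : K), hQP s q q.2⟩ = (θ : Q → ℂ) q) ∧
      classInner (fun q : Q.comap ι => (ξ : C → ℂ) q)
        (thetaC ι Q hQι θ : Q.comap ι → ℂ) ≠ 0 := by
  have hQCi : ¬ p ∣ (Q.comap ι).index := by
    rw [Subgroup.index_comap]
    intro h
    apply hQi
    have hle : Q ≤ ι.range := fun q hq => hQι q hq
    exact h.trans (Subgroup.relIndex_dvd_index_of_le hle)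
  obtain ⟨θC, hθCP, hθC⟩ := exists_invariant_constituent hP (Q.comap ι)
    (comap_smul_mem ι Q hι hQP) hQCi ξ hξP
  set e := comapEquiv ι hinj Q hQι with he
  set θ : IrrCharacter Q := ⟨fun q => (θC : Q.comap ι → ℂ) (e.symm q),
    Helper80.IsIrrCharacter.comp_surjective θC.2 e.symm.toMonoidHom e.symm.surjective⟩ with hθ
  have hθθC : (thetaC ι Q hQι θ : Q.comap ι → ℂ) = (θC : Q.comap ι → ℂ) := by
    funext q
    show (θC : Q.comap ι → ℂ) (e.symm (ι.subgroupComap Q q)) = _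
    have : ι.subgroupComap Q q = e q := rfl
    rw [this, MulEquiv.symm_apply_apply]
  refine ⟨θ, ?_, by rw [hθθC]; exact hθC⟩
  intro s q
  show (θC : Q.comap ι → ℂ) (e.symm ⟨s • (q : K), hQP s q q.2⟩) = (θC : Q.comap ι → ℂ) (e.symm q)
  have h1 := hθCP s (e.symm q)
  rw [← h1]
  refine congrArg (θC : Q.comap ι → ℂ) ?_
  apply e.injective
  rw [MulEquiv.apply_symm_apply]
  apply Subtype.ext
  rw [comapEquiv_apply]
  show s • (q : K) = ι (s • ((e.symm q : Q.comap ι) : C))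
  rw [hι, ← comapEquiv_apply ι hinj Q hQι (e.symm q), ← he, MulEquiv.apply_symm_apply]

end action

end Cfsg.Agent.Helper81
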