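import Mathlib
import Cfsg.Prelude.Def_Blocks
import Cfsg.Agent.Helper15.Gallagher
import Cfsg.Agent.Helper80.Pullback
import Cfsg.Agent.Helper81.CliffordInd

/-!
# Gallagher's theorem as an equivalence

`M ⊴ X`, `θh ∈ Irr(X)` with `θh_M` irreducible: `β ↦ β θh` is a bijection from `Irr(X ⧸ M)` onto
the irreducible characters of `X` lying over `θh_M`.
-/

set_option autoImplicit false
set_option linter.unusedSectionVars false

namespace Cfsg.Agent.Helper81

open Cfsg Cfsg.Agent.Helper15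
open scoped ComplexConjugate

universe u

variable {X : Type u} [Group X] [Fintype X] (M : Subgroup X) [hM : M.Normal] [Fintype M]

/-- "Lying over" in the induced form is the same as in the restricted form. -/
theorem inner_indFun_ne_zero_iff (θ : M → ℂ) {ψ : X → ℂ} (hψ : IsClassFunction X ψ) :
    classInner (indFun M θ) ψ ≠ 0 ↔ classInner (fun m : M => ψ m) θ ≠ 0 := by
  rw [frobenius_reciprocity M θ ψ hψ, ← Helper15.classInner_conj_symm]
  simp

/-- The inflation of an irreducible character of `X ⧸ M` lies over `1_M`. -/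
theorem inflation_over_one (β : IrrCharacter (X ⧸ M)) :
    classInner (fun m : M => (β : X ⧸ M → ℂ) ((m : X) : X ⧸ M)) (fun _ : M => (1 : ℂ)) ≠ 0 := by
  have h1 : (fun m : M => (β : X ⧸ M → ℂ) ((m : X) : X ⧸ M)) =
      (β : X ⧸ M → ℂ) 1 • (fun _ : M => (1 : ℂ)) := by
    funext m
    have : ((m : X) : X ⧸ M) = 1 := (QuotientGroup.eq_one_iff _).mpr m.2
    simp [this]
  rw [h1, Helper74.classInner_smul_left]
  have := Helper74.irr_inner_self (⟨fun _ => (1 : ℂ), isIrrCharacter_one M⟩ : IrrCharacter M)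
  rw [this, mul_one]
  exact Helper80.IsIrrCharacter.map_one_ne_zero β.2

variable (θh : IrrCharacter X) (hθM : IsIrrCharacter M (fun m : M => (θh : X → ℂ) m))

/-- The Gallagher product `β θh`. -/
noncomputable def gallagherFun (β : IrrCharacter (X ⧸ M)) :
    {ψ : IrrCharacter X //
      classInner (fun m : M => (ψ : X → ℂ) m) (fun m : M => (θh : X → ℂ) m) ≠ 0} :=
  have hβ : IsIrrCharacter X (fun x : X => (β : X ⧸ M → ℂ) (x : X ⧸ M)) :=
    Helper80.IsIrrCharacter.comp_surjective β.2 (QuotientGroup.mk' M)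
      (QuotientGroup.mk'_surjective M)
  have hmem := (gallagher_bijOn M θh.2 hθM).mapsTo
    (show (fun x : X => (β : X ⧸ M → ℂ) (x : X ⧸ M)) ∈
      {β : X → ℂ | IsIrrCharacter X β ∧ classInner (indFun M (fun _ => (1 : ℂ))) β ≠ 0} from
      ⟨hβ, (inner_indFun_ne_zero_iff M _ (Helper74.isClassFunction_of_isCharacter
        (Helper74.isCharacter_of_isIrr hβ))).mpr (inflation_over_one M β)⟩)
  ⟨⟨(fun x : X => (β : X ⧸ M → ℂ) (x : X ⧸ M)) * (θh : X → ℂ), hmem.1⟩,
    (inner_indFun_ne_zero_iff M _ (Helper74.isClassFunction_of_isCharacter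
      (Helper74.isCharacter_of_isIrr hmem.1))).mp hmem.2⟩

theorem gallagherFun_apply (β : IrrCharacter (X ⧸ M)) (x : X) :
    ((gallagherFun M θh hθM β).1 : X → ℂ) x = (β : X ⧸ M → ℂ) (x : X ⧸ M) * (θh : X → ℂ) x := rfl

theorem gallagherFun_bijective : Function.Bijective (gallagherFun M θh hθM) := by
  have hbij := gallagher_bijOn M θh.2 hθM
  constructor
  · intro β β' h
    have hβ : IsIrrCharacter X (fun x : X => (β : X ⧸ M → ℂ) (x : X ⧸ M)) :=
      Helper80.IsIrrCharacter.comp_surjective β.2 (QuotientGroup.mk' M)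
        (QuotientGroup.mk'_surjective M)
    have hβ' : IsIrrCharacter X (fun x : X => (β' : X ⧸ M → ℂ) (x : X ⧸ M)) :=
      Helper80.IsIrrCharacter.comp_surjective β'.2 (QuotientGroup.mk' M)
        (QuotientGroup.mk'_surjective M)
    have hfun : (fun x : X => (β : X ⧸ M → ℂ) (x : X ⧸ M)) * (θh : X → ℂ) =
        (fun x : X => (β' : X ⧸ M → ℂ) (x : X ⧸ M)) * (θh : X → ℂ) :=
      congrArg (fun ψ : {ψ : IrrCharacter X // classInner (fun m : M => (ψ : X → ℂ) m)
        (fun m : M => (θh : X → ℂ) m) ≠ 0} => (ψ.1 : X → ℂ)) h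
    have h1 := hbij.injOn
      ⟨hβ, (inner_indFun_ne_zero_iff M _ (Helper74.isClassFunction_of_isCharacter
        (Helper74.isCharacter_of_isIrr hβ))).mpr (inflation_over_one M β)⟩
      ⟨hβ', (inner_indFun_ne_zero_iff M _ (Helper74.isClassFunction_of_isCharacter
        (Helper74.isCharacter_of_isIrr hβ'))).mpr (inflation_over_one M β')⟩ hfun
    apply Subtype.ext
    funext y
    obtain ⟨x, rfl⟩ := QuotientGroup.mk_surjective y
    exact congrFun h1 x
  · rintro ⟨ψ, hψ⟩
    have hψmem : (ψ : X → ℂ) ∈ {ψ : X → ℂ | IsIrrCharacter X ψ ∧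
        classInner (indFun M (fun m : M => (θh : X → ℂ) m)) ψ ≠ 0} :=
      ⟨ψ.2, (inner_indFun_ne_zero_iff M _ (Helper74.irr_isClassFunction ψ)).mpr hψ⟩
    obtain ⟨b, ⟨hb, hb1⟩, hbψ⟩ := hbij.surjOn hψmem
    have hb1' := (inner_indFun_ne_zero_iff M _ (Helper74.isClassFunction_of_isCharacter
      (Helper74.isCharacter_of_isIrr hb))).mp hb1
    have hker : ∀ n ∈ M, b n = b 1 := by
      intro n hn
      have := normal_mul_of_inner_one_ne_zero M hb hb1' ⟨n, hn⟩ 1
      simpa using this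
    set β : IrrCharacter (X ⧸ M) := (Helper80.irrQuotientEquiv M).symm ⟨⟨b, hb⟩, hker⟩ with hβdef
    have hβb : ∀ x : X, (β : X ⧸ M → ℂ) (x : X ⧸ M) = b x :=
      fun x => Helper80.irrQuotientEquiv_symm_apply M ⟨⟨b, hb⟩, hker⟩ x
    refine ⟨β, ?_⟩
    apply Subtype.ext
    apply Subtype.ext
    funext x
    rw [gallagherFun_apply, hβb, ← hbψ]
    rfl

/-- **Gallagher's theorem** as an equivalence. -/
noncomputable def gallagherEquiv :
    IrrCharacter (X ⧸ M) ≃ {ψ : IrrCharacter X //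
      classInner (fun m : M => (ψ : X → ℂ) m) (fun m : M => (θh : X → ℂ) m) ≠ 0} :=
  Equiv.ofBijective (gallagherFun M θh hθM) (gallagherFun_bijective M θh hθM)

theorem gallagherEquiv_apply (β : IrrCharacter (X ⧸ M)) (x : X) :
    ((gallagherEquiv M θh hθM β).1 : X → ℂ) x =
      (β : X ⧸ M → ℂ) (x : X ⧸ M) * (θh : X → ℂ) x := rfl

end Cfsg.Agent.Helper81
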