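import Mathlib
import Cfsg.Prelude.Def_Blocks
import Cfsg.Agent.Helper81.RG1
import Cfsg.Agent.Helper81.RG4
import Cfsg.Agent.Helper81.GlaubEquiv
import Cfsg.Agent.Helper81.GlaubStep
import Cfsg.Agent.Helper81.Gallagher

/-!
# The relative Glauberman correspondence over an invariant, extendible character

`P` a `p`-group acting on `X`, `M ⊴ X` invariant with `p ∤ |X : M|`, `θh ∈ Irr(X)` invariant with
`θh_M` irreducible, `j : Y → X` injective with image the elements fixed by `P` modulo `M`.
Then the `P`-invariant characters of `X` over `θh_M` correspond to the characters of `Y` over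
`θh_M ∘ j`, with the Glauberman multiplicities.
-/

set_option autoImplicit false
set_option linter.unusedSectionVars false

namespace Cfsg.Agent.Helper81

open Cfsg Cfsg.Agent.Helper15
open scoped ComplexConjugate

universe u v w

/-- A character with an irreducible restriction to a subgroup is irreducible. -/
theorem isIrrCharacter_of_restrict {Y : Type*} [Group Y] [Fintype Y] {θ : Y → ℂ}
    (hθ : IsCharacter Y θ) (H : Subgroup Y) (hH : IsIrrCharacter H (fun h : H => θ h)) :
    IsIrrCharacter Y θ := by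
  obtain ⟨n, ρ, rfl⟩ := hθ
  have h1 : (resRep ρ H).IsIrreducible := by
    have := Fintype.ofFinite H
    apply isIrreducible_of_isIrrCharacter
    exact hH
  exact ⟨n, ρ, isIrreducible_of_resRep ρ h1, rfl⟩

section

variable {X : Type u} [Group X] [Fintype X] {Y : Type v} [Group Y] [Fintype Y]
  {P : Type w} [Group P] [MulDistribMulAction P X] {p : ℕ} [hp : Fact p.Prime]
  (j : Y →* X) (hj : Function.Injective j)
  (M : Subgroup X) [hM : M.Normal] [Fintype M] [Fintype (M.comap j)]
  [Fintype (X ⧸ M)] [Fintype (Y ⧸ M.comap j)]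
  (hMP : ∀ s : P, ∀ m ∈ M, s • m ∈ M) (hMi : ¬ p ∣ M.index)
  (hrange : ∀ x : X, x ∈ Set.range j ↔ ∀ s : P, (s • x) * x⁻¹ ∈ M)
  (hP : IsPGroup p P)
  (θh : IrrCharacter X) (hθP : ∀ (s : P) (x : X), (θh : X → ℂ) (s • x) = (θh : X → ℂ) x)
  (hθM : IsIrrCharacter M (fun m : M => (θh : X → ℂ) m))

include hMP hrange in
theorem le_range_of_hrange : ∀ m ∈ M, m ∈ Set.range j := by
  intro m hm
  rw [hrange]
  intro s
  exact M.mul_mem (hMP s m hm) (M.inv_mem hm)

/-- The induced map on the quotients. -/
noncomputable def quotHom : Y ⧸ M.comap j →* X ⧸ M :=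
  QuotientGroup.map (M.comap j) M j le_rfl

theorem quotHom_mk (y : Y) : quotHom j M (y : Y ⧸ M.comap j) = ((j y : X) : X ⧸ M) := rfl

theorem quotHom_injective : Function.Injective (quotHom j M) := by
  rw [injective_iff_map_eq_one]
  intro a ha
  induction a using QuotientGroup.induction_on with
  | H y =>
    rw [quotHom_mk, QuotientGroup.eq_one_iff] at ha
    exact (QuotientGroup.eq_one_iff y).mpr ha

include hMP hrange in
theorem quotHom_range_iff (g : X ⧸ M) :
    g ∈ Set.range (quotHom j M) ↔
      ∀ s : P, (letI := quotientMDMA M hMP; s • g) = g := by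
  induction g using QuotientGroup.induction_on with
  | H x =>
    rw [quotientMDMA_fixed_iff M hMP x, ← hrange]
    constructor
    · rintro ⟨a, ha⟩
      induction a using QuotientGroup.induction_on with
      | H y =>
        rw [quotHom_mk, QuotientGroup.eq] at ha
        obtain ⟨y', hy'⟩ := le_range_of_hrange j M hMP hrange _ ha
        refine ⟨y * y', ?_⟩
        rw [map_mul, hy', mul_inv_cancel_left]
    · rintro ⟨y, rfl⟩
      exact ⟨(y : Y ⧸ M.comap j), rfl⟩

include hMP hrange in
/-- The restriction of `j` to `M.comap j → M` is surjective. -/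
theorem subgroupComap_surjective' : Function.Surjective (j.subgroupComap M) := by
  rintro ⟨m, hm⟩
  obtain ⟨y, hy⟩ := le_range_of_hrange j M hMP hrange m hm
  refine ⟨⟨y, ?_⟩, Subtype.ext hy⟩
  rw [Subgroup.mem_comap, hy]
  exact hm

include hMP hrange hθM in
/-- The restriction of `θh ∘ j` to `M.comap j` is irreducible. -/
theorem isIrr_comp_restrict :
    IsIrrCharacter (M.comap j) (fun m : M.comap j => (θh : X → ℂ) (j m)) :=
  Helper80.IsIrrCharacter.comp_surjective hθM (j.subgroupComap M)
    (subgroupComap_surjective' j M hMP hrange)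

include hMP hrange hθM in
theorem isIrr_comp : IsIrrCharacter Y (fun y : Y => (θh : X → ℂ) (j y)) :=
  isIrrCharacter_of_restrict (Helper80.IsCharacter.comp_hom (Helper74.irr_isCharacter θh) j)
    (M.comap j) (isIrr_comp_restrict j M hMP hrange θh hθM)

/-- `θh ∘ j` as an irreducible character of `Y`. -/
noncomputable def thetaY : IrrCharacter Y :=
  ⟨fun y : Y => (θh : X → ℂ) (j y), isIrr_comp j M hMP hrange θh hθM⟩

/-- The Gallagher parametrisation on `X`. -/
noncomputable abbrev gX := gallagherEquiv M θh hθM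

/-- The Gallagher parametrisation on `Y`. -/
noncomputable abbrev gY :=
  gallagherEquiv (M.comap j) (thetaY j M hMP hrange θh hθM)
    (isIrr_comp_restrict j M hMP hrange θh hθM)

theorem gX_apply (β : IrrCharacter (X ⧸ M)) (x : X) :
    ((gX M θh hθM β).1 : X → ℂ) x = (β : X ⧸ M → ℂ) (x : X ⧸ M) * (θh : X → ℂ) x := rfl

theorem gY_apply (γ : IrrCharacter (Y ⧸ M.comap j)) (y : Y) :
    ((gY j M hMP hrange θh hθM γ).1 : Y → ℂ) y =
      (γ : Y ⧸ M.comap j → ℂ) (y : Y ⧸ M.comap j) * (θh : X → ℂ) (j y) := rfl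

/-- The multiplicities are those of the quotient groups. -/
theorem mult_gallagher (β : IrrCharacter (X ⧸ M)) (γ : IrrCharacter (Y ⧸ M.comap j)) :
    mult j (gX M θh hθM β).1 (gY j M hMP hrange θh hθM γ).1 = mult (quotHom j M) β γ := by
  classical
  let _ : Fintype (IrrCharacter (Y ⧸ M.comap j)) := Helper74.irrFintype _
  have h1 := mult_spec j (gX M θh hθM β).1 (gY j M hMP hrange θh hθM γ).1
  have hdec := Helper74.isCharacter_eq_sum_irr
    (Helper74.isCharacter_comp (quotHom j M) (Helper74.irr_isCharacter β))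
  have hfun : ((gX M θh hθM β).1 : X → ℂ) ∘ j =
      ∑ γ' : IrrCharacter (Y ⧸ M.comap j), (mult (quotHom j M) β γ' : ℂ) •
        ((gY j M hMP hrange θh hθM γ').1 : Y → ℂ) := by
    funext y
    rw [Function.comp_apply, gX_apply, Finset.sum_apply]
    have h2 := congrFun hdec (y : Y ⧸ M.comap j)
    rw [Function.comp_apply, quotHom_mk, Finset.sum_apply] at h2
    rw [h2, Finset.sum_mul]
    refine Finset.sum_congr rfl fun γ' _ => ?_
    rw [Pi.smul_apply, Pi.smul_apply, smul_eq_mul, smul_eq_mul, mult_spec, gY_apply,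
      mul_assoc]
  rw [hfun, Helper74.classInner_sum_left, Finset.sum_eq_single γ] at h1
  · rw [Helper74.classInner_smul_left, Helper74.irr_inner_self, mul_one] at h1
    exact_mod_cast h1.symm
  · intro γ' _ hne
    rw [Helper74.classInner_smul_left, Helper74.irr_inner_ne, mul_zero]
    intro h
    apply hne
    exact (gY j M hMP hrange θh hθM).injective (Subtype.ext h)
  · intro h
    exact absurd (Finset.mem_univ γ) h

include hθP in
/-- Invariance passes through the Gallagher parametrisation. -/
theorem gX_invariant_iff (β : IrrCharacter (X ⧸ M)) :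
    (∀ (s : P) (x : X), ((gX M θh hθM β).1 : X → ℂ) (s • x) = ((gX M θh hθM β).1 : X → ℂ) x) ↔
      ∀ (s : P) (g : X ⧸ M), (β : X ⧸ M → ℂ) (letI := quotientMDMA M hMP; s • g) =
        (β : X ⧸ M → ℂ) g := by
  let _ : MulDistribMulAction P (X ⧸ M) := quotientMDMA M hMP
  constructor
  · intro h
    apply (irrSMul_eq_self_iff (S := P) β).mp
    intro s
    apply (gX M θh hθM).injective
    apply Subtype.ext
    apply Subtype.ext
    funext x
    rw [gX_apply, gX_apply, irrSMulAction_apply]
    have h1 := h s⁻¹ x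
    rw [gX_apply, gX_apply, hθP] at h1
    have h2 : (s⁻¹ • (x : X ⧸ M)) = ((s⁻¹ • x : X) : X ⧸ M) := quotientMDMA_mk M hMP s⁻¹ x
    rw [h2]
    have hne : (θh : X → ℂ) x = 0 ∨ (θh : X → ℂ) x ≠ 0 := eq_or_ne _ _
    rcases hne with h0 | h0
    · rw [h0, mul_zero, mul_zero]
    · rw [mul_right_cancel₀ h0 h1]
  · intro h s x
    rw [gX_apply, gX_apply, hθP]
    have h2 : ((s • x : X) : X ⧸ M) = s • (x : X ⧸ M) := (quotientMDMA_mk M hMP s x).symm
    rw [h2, h]

end

end Cfsg.Agent.Helper81
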