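import Mathlib
import Cfsg.Prelude.Def_Blocks
import Cfsg.Agent.Helper81.RG5

/-!
# The relative Glauberman correspondence over an invariant, extendible character: the three facts
-/

set_option autoImplicit false
set_option linter.unusedSectionVars false

namespace Cfsg.Agent.Helper81

open Cfsg Cfsg.Agent.Helper15
open scoped ComplexConjugate

universe u v w

section

variable {X : Type u} [Group X] [Fintype X] {Y : Type v} [Group Y] [Fintype Y]
  {P : Type w} [Group P] [MulDistribMulAction P X] {p : ℕ} [hp : Fact p.Prime]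
  (j : Y →* X) (hj : Function.Injective j)
  (M : Subgroup X) [hM : M.Normal] [Fintype M] [Fintype (M.comap j)]
  [Fintype (X ⧸ M)] [Fintype (Y ⧸ M.comap j)]
  (hMP : ∀ s : P, ∀ m ∈ M, s • m ∈ M) (hMi : ¬ p ∣ M.index)
  (hrange : ∀ x : X, x ∈ Set.range j ↔ ∀ s : P, (s • x) * x⁻¹ ∈ M)
  (hP : IsPGroup p P)
  (θh : IrrCharacter X) (hθP : ∀ (s : P) (x : X), (θh : X → ℂ) (s • x) = (θh : X → ℂ) x)
  (hθM : IsIrrCharacter M (fun m : M => (θh : X → ℂ) m))

/-- The Glauberman correspondence of the quotients. -/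
noncomputable def geQuot :
    (letI := quotientMDMA M hMP; InvIrr P (X ⧸ M)) ≃ IrrCharacter (Y ⧸ M.comap j) :=
  let _ := quotientMDMA M hMP
  glaubEquiv (quotHom j M) hP (quotHom_injective j M) (quotHom_range_iff j M hMP hrange) hMi

theorem geQuot_eq_iff (β : (letI := quotientMDMA M hMP; InvIrr P (X ⧸ M)))
    (γ : IrrCharacter (Y ⧸ M.comap j)) :
    geQuot j M hMP hMi hrange hP β = γ ↔ ¬ p ∣ mult (quotHom j M) β.1 γ := by
  let _ := quotientMDMA M hMP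
  exact glaubEquiv_eq_iff (quotHom j M) hP (quotHom_injective j M)
    (quotHom_range_iff j M hMP hrange) hMi β γ

include hMi hrange hP in
theorem geQuot_sq (β : (letI := quotientMDMA M hMP; InvIrr P (X ⧸ M)))
    (γ : IrrCharacter (Y ⧸ M.comap j)) (h : ¬ p ∣ mult (quotHom j M) β.1 γ) :
    (mult (quotHom j M) β.1 γ : ZMod p) * (mult (quotHom j M) β.1 γ : ZMod p) = 1 := by
  let _ := quotientMDMA M hMP
  let _ := Helper74.irrFintype (Y ⧸ M.comap j)
  exact mult_sq_eq_one (quotHom j M) hP (quotHom_injective j M)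
    (quotHom_range_iff j M hMP hrange) hMi β.1 β.2 h

include hj hMP hMi hrange hP hθP hθM in
theorem relGlaub_exists (ψ : IrrCharacter X)
    (hψP : ∀ (s : P) (x : X), (ψ : X → ℂ) (s • x) = (ψ : X → ℂ) x)
    (hψθ : classInner (fun m : M => (ψ : X → ℂ) m) (fun m : M => (θh : X → ℂ) m) ≠ 0) :
    ∃ η : IrrCharacter Y,
      classInner (fun m : M.comap j => (η : Y → ℂ) m)
        (fun m : M.comap j => (θh : X → ℂ) (j m)) ≠ 0 ∧
      (mult j ψ η : ZMod p) * (mult j ψ η : ZMod p) = 1 ∧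
      ∀ η' : IrrCharacter Y,
        classInner (fun m : M.comap j => (η' : Y → ℂ) m)
          (fun m : M.comap j => (θh : X → ℂ) (j m)) ≠ 0 → η' ≠ η → p ∣ mult j ψ η' := by
  let _ := quotientMDMA M hMP
  set β : IrrCharacter (X ⧸ M) := (gX M θh hθM).symm ⟨ψ, hψθ⟩ with hβ
  have hβψ : (gX M θh hθM β).1 = ψ := by
    rw [hβ, Equiv.apply_symm_apply]
  have hβinv : ∀ (s : P) (g : X ⧸ M), (β : X ⧸ M → ℂ) (s • g) = (β : X ⧸ M → ℂ) g := by
    apply (gX_invariant_iff M hMP θh hθP hθM β).mp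
    rw [hβψ]
    exact hψP
  set βI : InvIrr P (X ⧸ M) := ⟨β, hβinv⟩ with hβI
  set γ : IrrCharacter (Y ⧸ M.comap j) := geQuot j M hMP hMi hrange hP βI with hγ
  have hγnd : ¬ p ∣ mult (quotHom j M) β γ :=
    (geQuot_eq_iff j M hMP hMi hrange hP βI γ).mp rfl
  refine ⟨(gY j M hMP hrange θh hθM γ).1, (gY j M hMP hrange θh hθM γ).2, ?_, ?_⟩
  · rw [← hβψ, mult_gallagher]
    exact geQuot_sq j M hMP hMi hrange hP βI γ hγnd
  · intro η' hη' hne
    set γ' : IrrCharacter (Y ⧸ M.comap j) := (gY j M hMP hrange θh hθM).symm ⟨η', hη'⟩ with hγ'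
    have hγ'η : (gY j M hMP hrange θh hθM γ').1 = η' := by
      rw [hγ', Equiv.apply_symm_apply]
    rw [← hβψ, ← hγ'η, mult_gallagher]
    by_contra hnd
    have h1 := (geQuot_eq_iff j M hMP hMi hrange hP βI γ').mpr hnd
    apply hne
    rw [← hγ'η, ← h1]

include hj hMP hMi hrange hP hθP hθM in
theorem relGlaub_surj (η : IrrCharacter Y)
    (hη : classInner (fun m : M.comap j => (η : Y → ℂ) m)
        (fun m : M.comap j => (θh : X → ℂ) (j m)) ≠ 0) :
    ∃ ψ : IrrCharacter X, (∀ (s : P) (x : X), (ψ : X → ℂ) (s • x) = (ψ : X → ℂ) x) ∧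
      classInner (fun m : M => (ψ : X → ℂ) m) (fun m : M => (θh : X → ℂ) m) ≠ 0 ∧
      ¬ p ∣ mult j ψ η := by
  let _ := quotientMDMA M hMP
  set γ : IrrCharacter (Y ⧸ M.comap j) := (gY j M hMP hrange θh hθM).symm ⟨η, hη⟩ with hγ
  have hγη : (gY j M hMP hrange θh hθM γ).1 = η := by
    rw [hγ, Equiv.apply_symm_apply]
  set βI : InvIrr P (X ⧸ M) := (geQuot j M hMP hMi hrange hP).symm γ with hβI
  have h1 : geQuot j M hMP hMi hrange hP βI = γ := by
    rw [hβI, Equiv.apply_symm_apply]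
  refine ⟨(gX M θh hθM βI.1).1, ?_, (gX M θh hθM βI.1).2, ?_⟩
  · exact (gX_invariant_iff M hMP θh hθP hθM βI.1).mpr βI.2
  · rw [← hγη, mult_gallagher]
    exact (geQuot_eq_iff j M hMP hMi hrange hP βI γ).mp h1

include hj hMP hMi hrange hP hθP hθM in
theorem relGlaub_inj (ψ ψ' : IrrCharacter X)
    (hψP : ∀ (s : P) (x : X), (ψ : X → ℂ) (s • x) = (ψ : X → ℂ) x)
    (hψθ : classInner (fun m : M => (ψ : X → ℂ) m) (fun m : M => (θh : X → ℂ) m) ≠ 0)
    (hψ'P : ∀ (s : P) (x : X), (ψ' : X → ℂ) (s • x) = (ψ' : X → ℂ) x)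
    (hψ'θ : classInner (fun m : M => (ψ' : X → ℂ) m) (fun m : M => (θh : X → ℂ) m) ≠ 0)
    (η : IrrCharacter Y)
    (hη : classInner (fun m : M.comap j => (η : Y → ℂ) m)
        (fun m : M.comap j => (θh : X → ℂ) (j m)) ≠ 0)
    (h : ¬ p ∣ mult j ψ η) (h' : ¬ p ∣ mult j ψ' η) : ψ = ψ' := by
  let _ := quotientMDMA M hMP
  set γ : IrrCharacter (Y ⧸ M.comap j) := (gY j M hMP hrange θh hθM).symm ⟨η, hη⟩ with hγ
  have hγη : (gY j M hMP hrange θh hθM γ).1 = η := by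
    rw [hγ, Equiv.apply_symm_apply]
  set β : IrrCharacter (X ⧸ M) := (gX M θh hθM).symm ⟨ψ, hψθ⟩ with hβ
  have hβψ : (gX M θh hθM β).1 = ψ := by
    rw [hβ, Equiv.apply_symm_apply]
  set β' : IrrCharacter (X ⧸ M) := (gX M θh hθM).symm ⟨ψ', hψ'θ⟩ with hβ'
  have hβ'ψ : (gX M θh hθM β').1 = ψ' := by
    rw [hβ', Equiv.apply_symm_apply]
  have hβinv : ∀ (s : P) (g : X ⧸ M), (β : X ⧸ M → ℂ) (s • g) = (β : X ⧸ M → ℂ) g := by
    apply (gX_invariant_iff M hMP θh hθP hθM β).mp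
    rw [hβψ]
    exact hψP
  have hβ'inv : ∀ (s : P) (g : X ⧸ M), (β' : X ⧸ M → ℂ) (s • g) = (β' : X ⧸ M → ℂ) g := by
    apply (gX_invariant_iff M hMP θh hθP hθM β').mp
    rw [hβ'ψ]
    exact hψ'P
  rw [← hβψ, ← hγη, mult_gallagher] at h
  rw [← hβ'ψ, ← hγη, mult_gallagher] at h'
  have h1 := (geQuot_eq_iff j M hMP hMi hrange hP ⟨β, hβinv⟩ γ).mpr h
  have h2 := (geQuot_eq_iff j M hMP hMi hrange hP ⟨β', hβ'inv⟩ γ).mpr h'
  have h3 : (⟨β, hβinv⟩ : InvIrr P (X ⧸ M)) = ⟨β', hβ'inv⟩ :=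
    (geQuot j M hMP hMi hrange hP).injective (h1.trans h2.symm)
  have h4 : β = β' := congrArg Subtype.val h3
  rw [← hβψ, ← hβ'ψ, h4]

end

end Cfsg.Agent.Helper81
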