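import Mathlib
import Cfsg.Prelude.Def_Blocks
import Cfsg.Prelude.Def_CharExt
import Cfsg.Agent.S0867
import Cfsg.Agent.Helper15.Gallagher
import Cfsg.Agent.Helper15.CliffordCorr
import Cfsg.Agent.Helper81.LinTwist
import Cfsg.Agent.Helper81.CliffordInd
import Cfsg.Agent.Helper79.CharComplete
import Cfsg.Agent.Helper80.Degree

/-!
# Characters of degree coprime to the index of a normal Hall subgroup

`M ⊴ X` with `(|M|, |X : M|) = 1`.  The irreducible characters of `X` of degree coprime to
`|X : M|` are the products `β θ̂` with `θ ∈ Irr M` invariant, `θ̂` an extension, and `β` a linear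
character of `X` trivial on `M`.
-/

set_option autoImplicit false
set_option linter.unusedSectionVars false

namespace Cfsg.Agent.Helper81

open Cfsg Helper15
open scoped ComplexConjugate

universe u

section

variable {X : Type u} [Group X] [Fintype X] (M : Subgroup X) [hM : M.Normal] [Fintype M]

theorem detOrder_dvd_card' {θ : M → ℂ} (hθ : IsCharacter M θ) : detOrder θ ∣ Nat.card M := by
  obtain ⟨hl, hl1⟩ := isCharacter_detChar hθ
  unfold detOrder
  apply orderOf_dvd_of_pow_eq_one
  funext m
  rw [Pi.pow_apply, ← linChar_pow hl hl1, pow_card_eq_one', hl1]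
  rfl

/-- A coprime invariant irreducible character extends. -/
theorem exists_extension_of_coprime (hcop : (Nat.card M).Coprime M.index) (θ : IrrCharacter M)
    (hinv : ∀ (x : X) (m : M), (θ : M → ℂ) ⟨x * m * x⁻¹, hM.conj_mem m m.2 x⟩ = (θ : M → ℂ) m) :
    ∃ χ : IrrCharacter X, ∀ m : M, (χ : X → ℂ) m = (θ : M → ℂ) m := by
  have hd := Helper79.irr_one θ
  have h1 : detOrder (θ : M → ℂ) ∣ Nat.card M := detOrder_dvd_card' M (Helper74.irr_isCharacter θ)
  have h2 : charDegree (θ : M → ℂ) ∣ Nat.card M := Helper80.IsIrrCharacter.charDegree_dvd_card θ.2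
  have hc : Nat.Coprime M.index (detOrder (θ : M → ℂ) * charDegree (θ : M → ℂ)) := by
    apply Nat.Coprime.mul_right
    · exact (Nat.Coprime.coprime_dvd_left h1 hcop).symm
    · exact (Nat.Coprime.coprime_dvd_left h2 hcop).symm
  obtain ⟨χ, ⟨hχ, hext, -⟩, -⟩ := Cfsg.Agent.S0867.result M (θ : M → ℂ) θ.2 hinv _ hd hc
  exact ⟨⟨χ, hχ⟩, hext⟩

end

end Cfsg.Agent.Helper81
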