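import Mathlib
import Cfsg.Prelude.Def_Blocks
import Cfsg.Prelude.Def_CharExt
import Cfsg.Agent.S0867
import Cfsg.Agent.Helper81.CoprimeDeg1

/-!
# An invariant extension of an invariant character of a normal Sylow subgroup

`M ⊴ X` a `p`-group of index prime to `p`, `P` acting on `X` leaving `M` invariant,
`θ ∈ Irr(M)` invariant under `X` and `P`: the canonical extension of `θ` to `X` is `P`-invariant.
-/

set_option autoImplicit false
set_option linter.unusedSectionVars false

namespace Cfsg.Agent.Helper81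

open Cfsg Cfsg.Agent.Helper15
open scoped ComplexConjugate

universe u w

theorem detOrder_comp_of_bijective {X : Type u} [Group X] [Finite X] (σ : X →* X)
    (hσ : Function.Bijective σ) {χ : X → ℂ} (hχ : IsCharacter X χ) :
    detOrder (fun x => χ (σ x)) = detOrder χ := by
  unfold detOrder
  rw [orderOf_eq_orderOf_iff]
  intro n
  have h1 : detChar (fun x => χ (σ x)) = fun x => detChar χ (σ x) :=
    funext fun x => detChar_comp σ hχ x
  rw [h1]
  constructor
  · intro h
    funext y
    obtain ⟨x, rfl⟩ := hσ.2 y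
    have := congrFun h x
    simpa using this
  · intro h
    funext x
    have := congrFun h (σ x)
    simpa using this

variable {X : Type u} [Group X] [Fintype X] {P : Type w} [Group P] [MulDistribMulAction P X]
  {p : ℕ} [hp : Fact p.Prime]

theorem exists_invariant_extension (M : Subgroup X) [hM : M.Normal] [Fintype M]
    (hMp : IsPGroup p M) (hMi : ¬ p ∣ M.index) (hMP : ∀ s : P, ∀ m ∈ M, s • m ∈ M)
    (θ : IrrCharacter M)
    (hinv : ∀ (x : X) (m : M),
      (θ : M → ℂ) ⟨x * m * x⁻¹, hM.conj_mem m m.2 x⟩ = (θ : M → ℂ) m)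
    (hθP : ∀ (s : P) (m : M), (θ : M → ℂ) ⟨s • (m : X), hMP s m m.2⟩ = (θ : M → ℂ) m) :
    ∃ θh : IrrCharacter X, (∀ m : M, (θh : X → ℂ) m = (θ : M → ℂ) m) ∧
      ∀ (s : P) (x : X), (θh : X → ℂ) (s • x) = (θh : X → ℂ) x := by
  have hd := Helper79.irr_one θ
  have hcopM : (Nat.card M).Coprime M.index := by
    obtain ⟨a, ha⟩ := IsPGroup.iff_card.mp hMp
    rw [ha]
    apply Nat.Coprime.pow_left
    exact (Nat.Prime.coprime_iff_not_dvd hp.out).mpr hMi
  have h1 : detOrder (θ : M → ℂ) ∣ Nat.card M := detOrder_dvd_card' M (Helper74.irr_isCharacter θ)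
  have h2 : charDegree (θ : M → ℂ) ∣ Nat.card M := Helper80.IsIrrCharacter.charDegree_dvd_card θ.2
  have hc1 : Nat.Coprime M.index (detOrder (θ : M → ℂ)) :=
    (Nat.Coprime.coprime_dvd_left h1 hcopM).symm
  have hc : Nat.Coprime M.index (detOrder (θ : M → ℂ) * charDegree (θ : M → ℂ)) := by
    apply Nat.Coprime.mul_right hc1
    exact (Nat.Coprime.coprime_dvd_left h2 hcopM).symm
  obtain ⟨χ, ⟨hχ, hext, hdet⟩, huniq⟩ :=
    Cfsg.Agent.S0867.result M (θ : M → ℂ) θ.2 hinv _ hd hc
  refine ⟨⟨χ, hχ⟩, hext, ?_⟩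
  intro s x
  set σ : X →* X := MulDistribMulAction.toMonoidHom X s with hσ
  have hσbij : Function.Bijective σ := MulAction.bijective s
  have hχ' : IsIrrCharacter X (fun x => χ (σ x)) :=
    Helper80.IsIrrCharacter.comp_surjective hχ σ hσbij.2
  have hext' : ∀ m : M, (fun x => χ (σ x)) m = (θ : M → ℂ) m := by
    intro m
    show χ (s • (m : X)) = _
    have := hext ⟨s • (m : X), hMP s m m.2⟩
    rw [← hθP s m, ← this]
  have hdet' : Nat.Coprime M.index (detOrder (fun x => χ (σ x))) := by
    rw [detOrder_comp_of_bijective σ hσbij (Helper74.isCharacter_of_isIrr hχ), hdet]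
    exact hc1
  have := huniq (fun x => χ (σ x)) hχ' hext' hdet'
  exact congrFun this x

end Cfsg.Agent.Helper81
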