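import Mathlib
import Cfsg.Prelude.Def_Blocks
import Cfsg.Agent.Helper81.RG6
import Cfsg.Agent.Helper81.RG7
import Cfsg.Agent.Helper81.RG8
import Cfsg.Agent.Helper81.RG9a

/-!
# The relative Glauberman correspondence over a fixed invariant character of the Sylow subgroup
-/

set_option autoImplicit false
set_option linter.unusedSectionVars false
set_option maxHeartbeats 1600000

namespace Cfsg.Agent.Helper81

open Cfsg Cfsg.Agent.Helper15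
open scoped ComplexConjugate

universe u w

variable {K : Type u} [Group K] [Fintype K] {C : Type u} [Group C] [Fintype C]
  {P : Type w} [Group P] [MulDistribMulAction P K]
  {p : ℕ} [hp : Fact p.Prime] (hP : IsPGroup p P)
  (ι : C →* K) (hinj : Function.Injective ι)
  (Q : Subgroup K) [hQ : Q.Normal] [Fintype Q] [Fintype (Q.comap ι)]
  (hQp : IsPGroup p Q) (hQi : ¬ p ∣ Q.index) (hQP : ∀ s : P, ∀ q ∈ Q, s • q ∈ Q)
  (hQι : ∀ q ∈ Q, q ∈ Set.range ι)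
  (hrange : ∀ k : K, k ∈ Set.range ι ↔ ∀ s : P, (s • k) * k⁻¹ ∈ Q)
  (θ : IrrCharacter Q)
  (hθP : ∀ (s : P) (q : Q), (θ : Q → ℂ) ⟨s • (q : K), hQP s q q.2⟩ = (θ : Q → ℂ) q)

include hP hinj hQp hQi hrange hθP in
theorem local_corr :
    (∀ χ : IrrCharacter K, (∀ (s : P) (k : K), (χ : K → ℂ) (s • k) = (χ : K → ℂ) k) →
      classInner (fun q : Q => (χ : K → ℂ) q) (θ : Q → ℂ) ≠ 0 →
      ∃ ξ₀ : IrrCharacter C,
        classInner (fun q : Q.comap ι => (ξ₀ : C → ℂ) q)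
          (thetaC ι Q hQι θ : Q.comap ι → ℂ) ≠ 0 ∧
        (mult ι χ ξ₀ : ZMod p) * (mult ι χ ξ₀ : ZMod p) = 1 ∧
        ∀ ξ : IrrCharacter C,
          classInner (fun q : Q.comap ι => (ξ : C → ℂ) q)
            (thetaC ι Q hQι θ : Q.comap ι → ℂ) ≠ 0 → ξ ≠ ξ₀ → p ∣ mult ι χ ξ) ∧
    (∀ ξ : IrrCharacter C,
      classInner (fun q : Q.comap ι => (ξ : C → ℂ) q)
        (thetaC ι Q hQι θ : Q.comap ι → ℂ) ≠ 0 →
      ∃ χ : IrrCharacter K, (∀ (s : P) (k : K), (χ : K → ℂ) (s • k) = (χ : K → ℂ) k) ∧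
        classInner (fun q : Q => (χ : K → ℂ) q) (θ : Q → ℂ) ≠ 0 ∧ ¬ p ∣ mult ι χ ξ) ∧
    (∀ χ χ' : IrrCharacter K,
      (∀ (s : P) (k : K), (χ : K → ℂ) (s • k) = (χ : K → ℂ) k) →
      classInner (fun q : Q => (χ : K → ℂ) q) (θ : Q → ℂ) ≠ 0 →
      (∀ (s : P) (k : K), (χ' : K → ℂ) (s • k) = (χ' : K → ℂ) k) →
      classInner (fun q : Q => (χ' : K → ℂ) q) (θ : Q → ℂ) ≠ 0 →
      ∀ ξ : IrrCharacter C,
        classInner (fun q : Q.comap ι => (ξ : C → ℂ) q)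
          (thetaC ι Q hQι θ : Q.comap ι → ℂ) ≠ 0 →
        ¬ p ∣ mult ι χ ξ → ¬ p ∣ mult ι χ' ξ → χ = χ') := by
  classical
  -- the `K`-side
  set K₁ : Subgroup K := inertia Q (θ : Q → ℂ) with hK₁
  let _ : Fintype K₁ := Fintype.ofFinite K₁
  have hQK₁ : Q ≤ K₁ := le_inertia Q (Helper74.irr_isClassFunction θ)
  have hK₁P : ∀ s : P, ∀ k ∈ K₁, s • k ∈ K₁ := smul_mem_inertia Q hQP (θ : Q → ℂ) hθP
  let _ : MulDistribMulAction P K₁ := subgroupMDMA K₁ hK₁P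
  set M : Subgroup K₁ := Q.subgroupOf K₁ with hM
  let _ : Fintype M := Fintype.ofFinite M
  have hMp : IsPGroup p M := hQp.comap_subtype
  have hMi : ¬ p ∣ M.index := fun h => hQi (h.trans (Subgroup.relIndex_dvd_index_of_le hQK₁))
  have hMP : ∀ s : P, ∀ m ∈ M, s • m ∈ M := fun s m hm => hQP s _ hm
  set θ₁ : IrrCharacter M := ⟨toSub Q K₁ hQK₁ (θ : Q → ℂ), isIrrCharacter_toSub Q K₁ hQK₁ θ.2⟩
    with hθ₁
  have hMn : M.Normal := inferInstance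
  have hinv₁ : ∀ (x : K₁) (m : M),
      (θ₁ : M → ℂ) ⟨x * m * x⁻¹, hMn.conj_mem (m : K₁) m.2 x⟩ =
        (θ₁ : M → ℂ) m := by
    intro x m
    have hx := (mem_inertia_iff Q (θ : Q → ℂ) x).mp x.2 ⟨((m : K₁) : K), m.2⟩
    exact hx
  have hθ₁P : ∀ (s : P) (m : M),
      (θ₁ : M → ℂ) ⟨s • (m : K₁), hMP s m m.2⟩ = (θ₁ : M → ℂ) m := by
    intro s m
    exact hθP s ⟨((m : K₁) : K), m.2⟩
  obtain ⟨θh, hext, hθhP⟩ := exists_invariant_extension M hMp hMi hMP θ₁ hinv₁ hθ₁P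
  have hθM : IsIrrCharacter M (fun m : M => (θh : K₁ → ℂ) m) := by
    rw [funext hext]
    exact θ₁.2
  -- the `C`-side
  set θC : IrrCharacter (Q.comap ι) := thetaC ι Q hQι θ with hθC
  set C₁ : Subgroup C := inertia (Q.comap ι) (θC : Q.comap ι → ℂ) with hC₁
  let _ : Fintype C₁ := Fintype.ofFinite C₁
  have hQC₁ : Q.comap ι ≤ C₁ := le_inertia (Q.comap ι) (Helper74.irr_isClassFunction θC)
  have hmemC₁ : ∀ c : C, c ∈ C₁ ↔ ι c ∈ K₁ := mem_inertia_thetaC ι Q hQι θ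
  let j : C₁ →* K₁ := (ι.comp C₁.subtype).codRestrict K₁ (fun c => (hmemC₁ c).mp c.2)
  have hj : ∀ c : C₁, ((j c : K₁) : K) = ι (c : C) := fun c => rfl
  have hjinj : Function.Injective j := by
    intro a b hab
    apply Subtype.ext
    apply hinj
    have := congrArg (fun x : K₁ => (x : K)) hab
    simpa [hj] using this
  have hrangeX : ∀ x : K₁, x ∈ Set.range j ↔ ∀ s : P, (s • x) * x⁻¹ ∈ M := by
    intro x
    constructor
    · rintro ⟨c, rfl⟩ s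
      show (s • ((j c : K₁) : K)) * ((j c : K₁) : K)⁻¹ ∈ Q
      rw [hj]
      exact (hrange (ι c)).mp ⟨c, rfl⟩ s
    · intro h
      have h1 : (x : K) ∈ Set.range ι := (hrange x).mpr (fun s => h s)
      obtain ⟨c, hc⟩ := h1
      have hcC₁ : c ∈ C₁ := (hmemC₁ c).mpr (by rw [hc]; exact x.2)
      exact ⟨⟨c, hcC₁⟩, Subtype.ext hc⟩
  let _ : Fintype (M.comap j) := Fintype.ofFinite _
  let _ : Fintype (K₁ ⧸ M) := Fintype.ofFinite _
  let _ : Fintype (C₁ ⧸ M.comap j) := Fintype.ofFinite _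
  -- bridges between the two forms of "lying over"
  have BK : ∀ ψ : IrrCharacter K₁,
      classInner (fun m : M => (ψ : K₁ → ℂ) m) (fun m : M => (θh : K₁ → ℂ) m) =
        classInner (resTo Q K₁ hQK₁ (ψ : K₁ → ℂ)) (θ : Q → ℂ) := by
    intro ψ
    rw [funext hext]
    have h1 := restrict_subgroupOf Q K₁ hQK₁ (ψ : K₁ → ℂ)
    rw [h1]
    exact classInner_toSub Q K₁ hQK₁ _ _
  let e : (M.comap j) ≃* (Q.comap ι) :=
    { toFun := fun m => ⟨((m : C₁) : C), m.2⟩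
      invFun := fun q => ⟨⟨(q : C), hQC₁ q.2⟩, q.2⟩
      left_inv := fun m => rfl
      right_inv := fun q => rfl
      map_mul' := fun a b => rfl }
  have BC : ∀ η : IrrCharacter C₁,
      classInner (fun m : M.comap j => (η : C₁ → ℂ) m)
        (fun m : M.comap j => (θh : K₁ → ℂ) (j m)) =
      classInner (resTo (Q.comap ι) C₁ hQC₁ (η : C₁ → ℂ)) (θC : Q.comap ι → ℂ) := by
    intro η
    have h1 : (fun m : M.comap j => (η : C₁ → ℂ) m) =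
        fun m : M.comap j => (resTo (Q.comap ι) C₁ hQC₁ (η : C₁ → ℂ)) (e m) := rfl
    have h2 : (fun m : M.comap j => (θh : K₁ → ℂ) (j m)) =
        fun m : M.comap j => (θC : Q.comap ι → ℂ) (e m) := by
      funext m
      exact hext ⟨j m, m.2⟩
    rw [h1, h2]
    exact classInner_comp_mulEquiv e _ _
  -- Clifford on the `K`-side, packaged
  have cliffK : ∀ χ : IrrCharacter K,
      (∀ (s : P) (k : K), (χ : K → ℂ) (s • k) = (χ : K → ℂ) k) →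
      classInner (fun q : Q => (χ : K → ℂ) q) (θ : Q → ℂ) ≠ 0 →
      ∃ ψ : IrrCharacter K₁, indFun K₁ (ψ : K₁ → ℂ) = (χ : K → ℂ) ∧
        classInner (resTo Q K₁ hQK₁ (ψ : K₁ → ℂ)) (θ : Q → ℂ) =
          classInner (fun q : Q => (χ : K → ℂ) q) (θ : Q → ℂ) ∧
        (∀ (s : P) (x : K₁), (ψ : K₁ → ℂ) (s • x) = (ψ : K₁ → ℂ) x) ∧
        classInner (fun m : M => (ψ : K₁ → ℂ) m) (fun m : M => (θh : K₁ → ℂ) m) ≠ 0 := by
    intro χ hχP hχθ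
    obtain ⟨ψf, hψirr, hind, hfull⟩ :=
      clifford_correspondence_exists Q θ.2 K₁ rfl hQK₁ χ.2 hχθ
    refine ⟨⟨ψf, hψirr⟩, hind, hfull, ?_, ?_⟩
    · exact clifford_corr_invariant Q hQP θ hθP K₁ hQK₁ hK₁P χ hχP ⟨ψf, hψirr⟩ hind hfull hχθ
    · rw [BK]
      show classInner (resTo Q K₁ hQK₁ ψf) (θ : Q → ℂ) ≠ 0
      have : classInner (resTo Q K₁ hQK₁ ψf) (θ : Q → ℂ) =
          classInner (fun q : Q => (χ : K → ℂ) q) (θ : Q → ℂ) := hfull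
      rw [this]
      exact hχθ
  -- Clifford on the `C`-side, packaged
  have cliffC : ∀ ξ : IrrCharacter C,
      classInner (fun q : Q.comap ι => (ξ : C → ℂ) q) (θC : Q.comap ι → ℂ) ≠ 0 →
      ∃ η : IrrCharacter C₁, indFun C₁ (η : C₁ → ℂ) = (ξ : C → ℂ) ∧
        classInner (resTo (Q.comap ι) C₁ hQC₁ (η : C₁ → ℂ)) (θC : Q.comap ι → ℂ) ≠ 0 := by
    intro ξ hξ
    obtain ⟨ηf, hηirr, hindξ, hfullξ⟩ :=
      clifford_correspondence_exists (Q.comap ι) θC.2 C₁ rfl hQC₁ ξ.2 hξ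
    refine ⟨⟨ηf, hηirr⟩, hindξ, ?_⟩
    have : classInner (resTo (Q.comap ι) C₁ hQC₁ ηf) (θC : Q.comap ι → ℂ) =
        classInner (fun q : Q.comap ι => (ξ : C → ℂ) q) (θC : Q.comap ι → ℂ) := hfullξ
    show classInner (resTo (Q.comap ι) C₁ hQC₁ ηf) (θC : Q.comap ι → ℂ) ≠ 0
    rw [this]
    exact hξ
  refine ⟨?_, ?_, ?_⟩
  · -- existence and uniqueness
    intro χ hχP hχθ
    obtain ⟨ψ, hind, hfull, hψP, hψθ⟩ := cliffK χ hχP hχθ
    obtain ⟨η, hη, hsq, hothers⟩ :=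
      relGlaub_exists j hjinj M hMP hMi hrangeX hP θh hθhP hθM ψ hψP hψθ
    have hηC : classInner (resTo (Q.comap ι) C₁ hQC₁ (η : C₁ → ℂ)) (θC : Q.comap ι → ℂ) ≠ 0 := by
      rw [← BC]; exact hη
    obtain ⟨hξirr, hξover⟩ :=
      isIrrCharacter_indFun_inertia (Q.comap ι) θC.2 C₁ rfl hQC₁ η.2 hηC
    refine ⟨⟨indFun C₁ (η : C₁ → ℂ), hξirr⟩, ?_, ?_, ?_⟩
    · show classInner (fun q : Q.comap ι => indFun C₁ (η : C₁ → ℂ) q) (θC : Q.comap ι → ℂ) ≠ 0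
      rw [hξover]; exact hηC
    · rw [mult_clifford_transfer ι hinj Q hQι θ K₁ hQK₁ C₁ hQC₁ j hj χ ψ hind hfull
        ⟨indFun C₁ (η : C₁ → ℂ), hξirr⟩ η rfl hηC]
      exact hsq
    · intro ξ hξ hne
      obtain ⟨η', hindξ, hη'C⟩ := cliffC ξ hξ
      have hne' : η' ≠ η := by
        rintro rfl
        apply hne
        exact Subtype.ext hindξ.symm
      rw [mult_clifford_transfer ι hinj Q hQι θ K₁ hQK₁ C₁ hQC₁ j hj χ ψ hind hfull ξ η' hindξ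
        hη'C]
      exact hothers η' (by rw [BC]; exact hη'C) hne'
  · -- surjectivity
    intro ξ hξ
    obtain ⟨η, hindξ, hηC⟩ := cliffC ξ hξ
    obtain ⟨ψ, hψP, hψθ, hnd⟩ :=
      relGlaub_surj j hjinj M hMP hMi hrangeX hP θh hθhP hθM η (by rw [BC]; exact hηC)
    have hψθ' : classInner (resTo Q K₁ hQK₁ (ψ : K₁ → ℂ)) (θ : Q → ℂ) ≠ 0 := by
      rw [← BK]; exact hψθ
    obtain ⟨hχirr, hχover⟩ := isIrrCharacter_indFun_inertia Q θ.2 K₁ rfl hQK₁ ψ.2 hψθ'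
    refine ⟨⟨indFun K₁ (ψ : K₁ → ℂ), hχirr⟩, ?_, ?_, ?_⟩
    · exact indFun_invariant K₁ hK₁P ψ hψP hχirr
    · show classInner (fun q : Q => indFun K₁ (ψ : K₁ → ℂ) q) (θ : Q → ℂ) ≠ 0
      rw [hχover]; exact hψθ'
    · rw [mult_clifford_transfer ι hinj Q hQι θ K₁ hQK₁ C₁ hQC₁ j hj
        ⟨indFun K₁ (ψ : K₁ → ℂ), hχirr⟩ ψ rfl hχover.symm ξ η hindξ hηC]
      exact hnd
  · -- injectivity
    intro χ χ' hχP hχθ hχ'P hχ'θ ξ hξ hnd hnd'
    obtain ⟨ψ, hind, hfull, hψP, hψθ⟩ := cliffK χ hχP hχθ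
    obtain ⟨ψ', hind', hfull', hψ'P, hψ'θ⟩ := cliffK χ' hχ'P hχ'θ
    obtain ⟨η, hindξ, hηC⟩ := cliffC ξ hξ
    rw [mult_clifford_transfer ι hinj Q hQι θ K₁ hQK₁ C₁ hQC₁ j hj χ ψ hind hfull ξ η hindξ
      hηC] at hnd
    rw [mult_clifford_transfer ι hinj Q hQι θ K₁ hQK₁ C₁ hQC₁ j hj χ' ψ' hind' hfull' ξ η hindξ
      hηC] at hnd'
    have h1 := relGlaub_inj j hjinj M hMP hMi hrangeX hP θh hθhP hθM ψ ψ' hψP hψθ hψ'P hψ'θ η
      (by rw [BC]; exact hηC) hnd hnd'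
    apply Subtype.ext
    rw [← hind, ← hind', h1]

end Cfsg.Agent.Helper81
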