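import Mathlib
import Cfsg.Prelude.Def_Blocks
import Cfsg.Agent.Helper81.RG9
import Cfsg.Agent.Helper81.RG10
import Cfsg.Agent.Helper79.CharComplete

/-!
# The relative Glauberman correspondence (abstract form)

`P` a `p`-group acting on `K` and `C`, `ι : C → K` an equivariant embedding, `Q ⊴ K` an invariant
normal Sylow `p`-subgroup, `ι(C)` the set of elements of `K` fixed by `P` modulo `Q`.  Then
`χ ↦ ξ`, `p ∤ [χ ∘ ι, ξ]`, is a bijection from the invariant irreducible characters of `K` onto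
those of `C`.
-/

set_option autoImplicit false
set_option linter.unusedSectionVars false
set_option maxHeartbeats 1600000

namespace Cfsg.Agent.Helper81

open Cfsg Cfsg.Agent.Helper15
open scoped ComplexConjugate

universe u w

variable {K : Type u} [Group K] [Fintype K] {C : Type u} [Group C] [Fintype C]
  {P : Type w} [Group P] [MulDistribMulAction P K] [MulDistribMulAction P C]
  {p : ℕ} [hp : Fact p.Prime] (hP : IsPGroup p P)
  (ι : C →* K) (hinj : Function.Injective ι) (hι : ∀ (s : P) (c : C), ι (s • c) = s • ι c)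
  (Q : Subgroup K) [hQ : Q.Normal]
  (hQp : IsPGroup p Q) (hQi : ¬ p ∣ Q.index) (hQP : ∀ s : P, ∀ q ∈ Q, s • q ∈ Q)
  (hrange : ∀ k : K, k ∈ Set.range ι ↔ ∀ s : P, (s • k) * k⁻¹ ∈ Q)

include hQP hrange in
theorem le_range_of_fixed : ∀ q ∈ Q, q ∈ Set.range ι := by
  intro q hq
  rw [hrange]
  intro s
  exact Q.mul_mem (hQP s q hq) (Q.inv_mem hq)

theorem not_dvd_of_sq_eq_one {m : ℕ} (h : (m : ZMod p) * (m : ZMod p) = 1) : ¬ p ∣ m := by
  intro hd
  rw [(ZMod.natCast_eq_zero_iff m p).mpr hd, mul_zero] at h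
  exact zero_ne_one h

include hP hinj hι hQp hQi hQP hrange in
theorem exists_unique_corr (χ : InvIrr P K) :
    ∃ ξ : InvIrr P C, (mult ι χ.1 ξ.1 : ZMod p) * (mult ι χ.1 ξ.1 : ZMod p) = 1 ∧
      ∀ ξ' : InvIrr P C, ¬ p ∣ mult ι χ.1 ξ'.1 → ξ' = ξ := by
  classical
  let _ : Fintype Q := Fintype.ofFinite Q
  let _ : Fintype (Q.comap ι) := Fintype.ofFinite _
  have hQι := le_range_of_fixed ι Q hQP hrange
  obtain ⟨θ, hθP, hθχ⟩ := exists_invariant_constituent hP Q hQP hQi χ.1 χ.2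
  obtain ⟨L1, -, -⟩ := local_corr hP ι hinj Q hQp hQi hQP hQι hrange θ hθP
  obtain ⟨ξ₀, hξ₀θ, hsq, hothers⟩ := L1 χ.1 χ.2 hθχ
  have hnd₀ : ¬ p ∣ mult ι χ.1 ξ₀ := not_dvd_of_sq_eq_one hsq
  have hQCP := comap_smul_mem ι Q hι hQP
  -- `ξ₀` is invariant
  have hξ₀P : ∀ (s : P) (c : C), (ξ₀ : C → ℂ) (s • c) = (ξ₀ : C → ℂ) c := by
    apply (irrSMul_eq_self_iff (S := P) ξ₀).mp
    intro s
    by_contra hne
    have h1 : classInner (fun q : Q.comap ι =>
        ((letI := irrSMulAction P C; s • ξ₀ : IrrCharacter C) : C → ℂ) q)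
        (thetaC ι Q hQι θ : Q.comap ι → ℂ) ≠ 0 := by
      have h2 := classInner_smul_subgroup (Q.comap ι) hQCP s⁻¹
        (fun q : Q.comap ι => (ξ₀ : C → ℂ) q) (thetaC ι Q hQι θ : Q.comap ι → ℂ)
      have h3 : (fun x : Q.comap ι => (thetaC ι Q hQι θ : Q.comap ι → ℂ)
          ⟨s⁻¹ • (x : C), hQCP s⁻¹ x x.2⟩) = (thetaC ι Q hQι θ : Q.comap ι → ℂ) :=
        funext fun x => thetaC_invariant ι Q hQι hι hQP θ hθP s⁻¹ x
      rw [h3] at h2
      have h4 : (fun q : Q.comap ι =>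
          ((letI := irrSMulAction P C; s • ξ₀ : IrrCharacter C) : C → ℂ) q) =
          fun x : Q.comap ι => (fun q : Q.comap ι => (ξ₀ : C → ℂ) q)
            ⟨s⁻¹ • (x : C), hQCP s⁻¹ x x.2⟩ := rfl
      rw [h4, h2]
      exact hξ₀θ
    have h5 := hothers _ h1 hne
    rw [mult_smul_right ι hι χ.1 χ.2 s ξ₀] at h5
    exact hnd₀ h5
  refine ⟨⟨ξ₀, hξ₀P⟩, hsq, ?_⟩
  intro ξ' hnd'
  obtain ⟨θ', hθ'P, hξ'θ'⟩ :=
    exists_invariant_constituent_C ι hinj Q hQι hP hι hQP hQi ξ'.1 ξ'.2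
  have hm' : mult ι χ.1 ξ'.1 ≠ 0 := fun h0 => hnd' (h0 ▸ dvd_zero p)
  have hχθ' := over_of_mult_ne_zero ι hinj Q hQι χ.1 ξ'.1 θ' hm' hξ'θ'
  obtain ⟨k, hkfix, hkconj⟩ := exists_conj_fixed_mod hP Q hQP hQi χ.1 θ θ' hθP hθ'P hθχ hχθ'
  obtain ⟨c, rfl⟩ := (hrange k).mpr hkfix
  have h3 := thetaC_conj ι Q hQι θ θ' c hkconj
  have hξ'θ : classInner (fun q : Q.comap ι => (ξ'.1 : C → ℂ) q)
      (thetaC ι Q hQι θ : Q.comap ι → ℂ) ≠ 0 := by
    rw [h3, classInner_restrict_conjFun (Q.comap ι) (Helper74.irr_isClassFunction ξ'.1) c] at hξ'θ'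
    exact hξ'θ'
  by_contra hne
  have hne' : ξ'.1 ≠ ξ₀ := fun h => hne (Subtype.ext h)
  exact hnd' (hothers ξ'.1 hξ'θ hne')

include hP hinj hι hQp hQi hQP hrange in
theorem exists_corr_surj (ξ : InvIrr P C) : ∃ χ : InvIrr P K, ¬ p ∣ mult ι χ.1 ξ.1 := by
  classical
  let _ : Fintype Q := Fintype.ofFinite Q
  let _ : Fintype (Q.comap ι) := Fintype.ofFinite _
  have hQι := le_range_of_fixed ι Q hQP hrange
  obtain ⟨θ, hθP, hξθ⟩ :=
    exists_invariant_constituent_C ι hinj Q hQι hP hι hQP hQi ξ.1 ξ.2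
  obtain ⟨-, L2, -⟩ := local_corr hP ι hinj Q hQp hQi hQP hQι hrange θ hθP
  obtain ⟨χ, hχP, -, hnd⟩ := L2 ξ.1 hξθ
  exact ⟨⟨χ, hχP⟩, hnd⟩

include hP hinj hι hQp hQi hQP hrange in
theorem corr_inj (χ χ' : InvIrr P K) (ξ : InvIrr P C) (h : ¬ p ∣ mult ι χ.1 ξ.1)
    (h' : ¬ p ∣ mult ι χ'.1 ξ.1) : χ = χ' := by
  classical
  let _ : Fintype Q := Fintype.ofFinite Q
  let _ : Fintype (Q.comap ι) := Fintype.ofFinite _
  have hQι := le_range_of_fixed ι Q hQP hrange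
  obtain ⟨θ, hθP, hξθ⟩ :=
    exists_invariant_constituent_C ι hinj Q hQι hP hι hQP hQi ξ.1 ξ.2
  obtain ⟨-, -, L3⟩ := local_corr hP ι hinj Q hQp hQi hQP hQι hrange θ hθP
  have hm : mult ι χ.1 ξ.1 ≠ 0 := fun h0 => h (h0 ▸ dvd_zero p)
  have hm' : mult ι χ'.1 ξ.1 ≠ 0 := fun h0 => h' (h0 ▸ dvd_zero p)
  have hχθ := over_of_mult_ne_zero ι hinj Q hQι χ.1 ξ.1 θ hm hξθ
  have hχ'θ := over_of_mult_ne_zero ι hinj Q hQι χ'.1 ξ.1 θ hm' hξθ
  exact Subtype.ext (L3 χ.1 χ'.1 χ.2 hχθ χ'.2 hχ'θ ξ.1 hξθ h h')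

/-- The degree of `χ` in terms of the multiplicities. -/
theorem charDegree_eq_sum_mult [Fintype (IrrCharacter C)] (χ : IrrCharacter K) :
    charDegree (χ : K → ℂ) = ∑ ξ : IrrCharacter C, mult ι χ ξ * charDegree (ξ : C → ℂ) := by
  have hdec := Helper74.isCharacter_eq_sum_irr
    (Helper74.isCharacter_comp ι (Helper74.irr_isCharacter χ))
  have h1 := congrFun hdec 1
  rw [Function.comp_apply, map_one, Finset.sum_apply, Helper79.irr_one] at h1
  have h2 : ((charDegree (χ : K → ℂ) : ℕ) : ℂ) =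
      ((∑ ξ : IrrCharacter C, mult ι χ ξ * charDegree (ξ : C → ℂ) : ℕ) : ℂ) := by
    rw [h1]
    push_cast
    refine Finset.sum_congr rfl fun ξ _ => ?_
    rw [Pi.smul_apply, smul_eq_mul, mult_spec, Helper79.irr_one]
  exact_mod_cast h2

include hP hinj hι hQp hQi hQP hrange in
/-- **The relative Glauberman correspondence**, abstract form. -/
theorem relative_glauberman_abstract :
    ∃ f : InvIrr P K → InvIrr P C, Function.Bijective f ∧ ∀ χ : InvIrr P K,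
      (∀ ξ : InvIrr P C,
        (ξ = f χ → ((mult ι χ.1 ξ.1 : ZMod p) = 1 ∨ (mult ι χ.1 ξ.1 : ZMod p) = -1)) ∧
        (ξ ≠ f χ → p ∣ mult ι χ.1 ξ.1)) ∧
      ((charDegree ((f χ).1 : C → ℂ) : ZMod p) = (charDegree (χ.1 : K → ℂ) : ZMod p) ∨
        (charDegree ((f χ).1 : C → ℂ) : ZMod p) = -(charDegree (χ.1 : K → ℂ) : ZMod p)) := by
  classical
  choose f hfsq hfuniq using exists_unique_corr hP ι hinj hι Q hQp hQi hQP hrange
  have hfnd : ∀ χ : InvIrr P K, ¬ p ∣ mult ι χ.1 (f χ).1 := fun χ =>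
    not_dvd_of_sq_eq_one (hfsq χ)
  have hpm : ∀ χ : InvIrr P K, (mult ι χ.1 (f χ).1 : ZMod p) = 1 ∨
      (mult ι χ.1 (f χ).1 : ZMod p) = -1 := by
    intro χ
    have h := hfsq χ
    have h1 : ((mult ι χ.1 (f χ).1 : ZMod p) - 1) * ((mult ι χ.1 (f χ).1 : ZMod p) + 1) = 0 := by
      ring_nf
      rw [sq, h]
      ring
    rcases mul_eq_zero.mp h1 with h2 | h2
    · left; exact sub_eq_zero.mp h2
    · right; exact eq_neg_of_add_eq_zero_left h2
  refine ⟨f, ⟨?_, ?_⟩, ?_⟩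
  · intro χ χ' h
    refine corr_inj hP ι hinj hι Q hQp hQi hQP hrange χ χ' (f χ) (hfnd χ) ?_
    rw [h]
    exact hfnd χ'
  · intro ξ
    obtain ⟨χ, hχ⟩ := exists_corr_surj hP ι hinj hι Q hQp hQi hQP hrange ξ
    exact ⟨χ, (hfuniq χ ξ hχ).symm⟩
  · intro χ
    have hdvd : ∀ ξ : InvIrr P C, ξ ≠ f χ → p ∣ mult ι χ.1 ξ.1 := by
      intro ξ hne
      by_contra hnd
      exact hne (hfuniq χ ξ hnd)
    refine ⟨fun ξ => ⟨fun h => by rw [h]; exact hpm χ, hdvd ξ⟩, ?_⟩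
    -- degrees
    let _ : Fintype (IrrCharacter C) := Helper74.irrFintype C
    let _ : MulAction P (IrrCharacter C) := irrSMulAction P C
    have hdeg := charDegree_eq_sum_mult ι χ.1
    have hinv : ∀ (s : P) (ξ : IrrCharacter C),
        mult ι χ.1 (s • ξ) * charDegree ((s • ξ : IrrCharacter C) : C → ℂ) =
          mult ι χ.1 ξ * charDegree (ξ : C → ℂ) := by
      intro s ξ
      rw [mult_smul_right ι hι χ.1 χ.2 s ξ]
      congr 1
      unfold charDegree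
      rw [irrSMulAction_apply, smul_one]
    have hsum := sum_natCast_zmod_eq_sum_fixed (p := p) hP
      (fun ξ : IrrCharacter C => mult ι χ.1 ξ * charDegree (ξ : C → ℂ)) hinv
    have hdegz : (charDegree (χ.1 : K → ℂ) : ZMod p) =
        ∑ ξ : IrrCharacter C, ((mult ι χ.1 ξ * charDegree (ξ : C → ℂ) : ℕ) : ZMod p) := by
      rw [hdeg]
      push_cast
      rfl
    rw [hsum] at hdegz
    have hfix : (f χ).1 ∈ MulAction.fixedPoints P (IrrCharacter C) :=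
      fun s => (irrSMul_eq_self_iff (S := P) (f χ).1).mpr (f χ).2 s
    rw [Finset.sum_eq_single (f χ).1] at hdegz
    · push_cast at hdegz
      rcases hpm χ with h1 | h1
      · left
        rw [hdegz, h1, one_mul]
      · right
        rw [hdegz, h1]
        ring
    · intro ξ hξ hne
      have hξfix := (Finset.mem_filter.mp hξ).2
      have hξinv : ∀ (s : P) (c : C), (ξ : C → ℂ) (s • c) = (ξ : C → ℂ) c :=
        (irrSMul_eq_self_iff (S := P) ξ).mp hξfix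
      have h1 := hdvd ⟨ξ, hξinv⟩ (fun h => hne (congrArg Subtype.val h))
      push_cast
      rw [(ZMod.natCast_eq_zero_iff _ _).mpr h1, zero_mul]
    · intro h
      exact absurd (Finset.mem_filter.mpr ⟨Finset.mem_univ _, hfix⟩) h

end Cfsg.Agent.Helper81
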