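import Mathlib
import Cfsg.Agent.Helper61.PSLCongr

/-!
# S4073 farm (architect helper74), leaf (ISO): `PSL₂` of a field with `2^f` elements is `PSL₂ (GaloisField 2 f)`
-/

set_option autoImplicit false
set_option linter.unusedSectionVars false
set_option linter.unusedVariables false

namespace Cfsg.Agent.Helper81.SNG

universe u

/-- (ISO) -/
theorem nonempty_PSL2_equiv_galoisField {F : Type} [Field F] [Fintype F] (f : ℕ) (hf : f ≠ 0)
    (hF : Fintype.card F = 2 ^ f) :
    Nonempty (Matrix.ProjectiveSpecialLinearGroup (Fin 2) F ≃*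
      Matrix.ProjectiveSpecialLinearGroup (Fin 2) (GaloisField 2 f)) := by
  haveI : Fintype (GaloisField 2 f) := Fintype.ofFinite _
  have hcard : Fintype.card F = Fintype.card (GaloisField 2 f) := by
    rw [hF, ← Nat.card_eq_fintype_card, GaloisField.card 2 f hf]
  exact ⟨Cfsg.Agent.Helper61.pslCongr (FiniteField.ringEquivOfCardEq hcard)⟩

end Cfsg.Agent.Helper81.SNG
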