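import Mathlib
import Cfsg.Agent.Helper77.KnorrDefs

set_option autoImplicit false
set_option linter.style.haveILetI false

/-!
# Gauss sums as "theta" functions (helper81; piece (K-W2) for helper77's S4958)

For a homomorphism `ρ : C →* Fˣ` into the units of a finite field of characteristic `p`,
we construct `θ : C → ℂ` (negated Gauss sums) with `θ c = 1` when `ρ c = 1`,
`|θ c|² = |F|` when `ρ c ≠ 1`, `θ` a `RootSum`-combination of linear characters of `C`,
and `θ c ∈ (1 - ζ_p)` when `ρ c ≠ 1`.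
-/

namespace Cfsg.Agent.Helper81.KnorrW2

open Cfsg.Agent.Helper77.Knorr
open scoped ComplexConjugate

/-- `Fˣ ≃* MulChar F ℂ` for a finite field. -/
theorem exists_mulEquiv_mulChar (F : Type*) [Field F] [Fintype F] :
    Nonempty (Fˣ ≃* MulChar F ℂ) := by
  haveI : NeZero ((Monoid.exponent Fˣ : ℕ) : ℂ) :=
    ⟨by exact_mod_cast Monoid.exponent_ne_zero_of_finite⟩
  haveI : HasEnoughRootsOfUnity ℂ (Monoid.exponent Fˣ) := inferInstance
  exact ⟨(MulChar.mulEquiv_units F ℂ).some.symm⟩

/-- a nontrivial additive character of a finite field, with `p`-th-root-of-unity values -/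
theorem exists_addChar (F : Type*) [Field F] [Fintype F] (p : ℕ) [Fact p.Prime] [CharP F p] :
    ∃ ψ : AddChar F ℂ, ψ ≠ 1 ∧ ∀ a, ψ a ^ p = 1 := by
  obtain ⟨ψ, hψ⟩ := (AddChar.exists_apply_ne_zero (α := F) (a := 1)).2 one_ne_zero
  refine ⟨ψ, ?_, ?_⟩
  · rintro rfl
    exact hψ (by simp)
  · intro a
    rw [← AddChar.map_nsmul_eq_pow]
    have : p • a = 0 := by
      rw [nsmul_eq_mul, CharP.cast_eq_zero, zero_mul]
    rw [this, AddChar.map_zero_eq_one]

theorem exists_theta_field {F : Type*} [Field F] [Fintype F] {C : Type*} [Group C] [Finite C]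
    (ρ : C →* Fˣ) (p : ℕ) [Fact p.Prime] [CharP F p] (n : ℕ) (hn2 : 2 ∣ n) (hnp : p ∣ n)
    (hnC : Nat.card C ∣ n) :
    ∃ θ : C → ℂ, (∀ c, ρ c = 1 → θ c = 1) ∧
      (∀ c, ρ c ≠ 1 → θ c * conj (θ c) = (Fintype.card F : ℂ)) ∧
      (∃ (k : ℕ) (ν : Fin k → (C →* ℂˣ)) (t : Fin k → ℂ), (∀ i, RootSum n (t i)) ∧
        ∀ c, θ c = ∑ i, t i * ((ν i c : ℂˣ) : ℂ)) ∧
      (∀ c, ρ c ≠ 1 → RootSumP n p (θ c)) := by
  classical
  obtain ⟨ι⟩ := exists_mulEquiv_mulChar F
  obtain ⟨ψ, hψ1, hψp⟩ := exists_addChar F p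
  have hψprim : ψ.IsPrimitive := AddChar.IsPrimitive.of_ne_one hψ1
  -- the multiplicative characters
  let χ : C →* MulChar F ℂ := ι.toMonoidHom.comp ρ
  have hχ1 : ∀ c, χ c = 1 ↔ ρ c = 1 := by
    intro c
    show ι (ρ c) = 1 ↔ ρ c = 1
    exact ι.map_eq_one_iff
  have hχpow : ∀ c (a : F), a ≠ 0 → (χ c a) ^ n = 1 := by
    intro c a ha
    obtain ⟨m, rfl⟩ := hnC
    have h1 : (χ c) ^ Nat.card C = 1 := by
      rw [← map_pow, pow_card_eq_one', map_one]
    have h2 : (χ c a) ^ Nat.card C = 1 := by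
      rw [← MulChar.pow_apply' _ (Nat.card_pos (α := C)).ne', h1,
        MulChar.one_apply (isUnit_iff_ne_zero.2 ha)]
    rw [pow_mul, h2, one_pow]
  have hneg1 : ((-1 : ℂ)) ^ n = 1 := by
    obtain ⟨m, rfl⟩ := hn2
    rw [pow_mul]; norm_num
  refine ⟨fun c => - gaussSum (χ c) ψ, ?_, ?_, ?_, ?_⟩
  · -- (1)
    intro c hc
    show - gaussSum (χ c) ψ = 1
    rw [(hχ1 c).2 hc, gaussSum_one_left hψ1, neg_neg]
  · -- (2)
    intro c hc
    have hχc : χ c ≠ 1 := fun h => hc ((hχ1 c).1 h)
    show - gaussSum (χ c) ψ * conj (- gaussSum (χ c) ψ) = _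
    rw [map_neg, neg_mul_neg, starRingEnd_apply, star_gaussSum_eq,
      gaussSum_mul_gaussSum_eq_card hχc hψprim]
  · -- (3)
    let e : Fˣ ≃ Fin (Fintype.card Fˣ) := Fintype.equivFin Fˣ
    refine ⟨Fintype.card Fˣ,
      fun i => { toFun := fun c => (χ c).toUnitHom (e.symm i)
                 map_one' := by
                   rw [map_one]
                   ext
                   rw [MulChar.coe_toUnitHom, MulChar.one_apply_coe, Units.val_one]
                 map_mul' := fun c d => by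
                   rw [map_mul]
                   ext
                   rw [MulChar.coe_toUnitHom, MulChar.mul_apply, Units.val_mul,
                     MulChar.coe_toUnitHom, MulChar.coe_toUnitHom] },
      fun i => - ψ ((e.symm i : Fˣ) : F), ?_, ?_⟩
    · intro i
      exact RootSum.neg hn2 ((RootSum.of_pow_eq_one (hψp _)).mono hnp)
    · intro c
      show - gaussSum (χ c) ψ =
        ∑ i, (fun x : Fˣ => - ψ ((x : Fˣ) : F) * (((χ c).toUnitHom x : ℂˣ) : ℂ)) (e.symm i)
      rw [e.symm.sum_comp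
        (fun x : Fˣ => - ψ ((x : Fˣ) : F) * (((χ c).toUnitHom x : ℂˣ) : ℂ))]
      simp only [MulChar.coe_toUnitHom]
      rw [gaussSum, ← Finset.sum_neg_distrib]
      -- sum over F vs sum over units
      have hsplit : ∑ a : F, -((χ c) a * ψ a) =
          ∑ a ∈ (Finset.univ.filter fun a : F => a ≠ 0), -((χ c) a * ψ a) := by
        symm
        apply Finset.sum_subset (Finset.filter_subset _ _)
        intro a _ ha
        have : a = 0 := by simpa using ha
        rw [this, MulChar.map_zero, zero_mul, neg_zero]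
      rw [hsplit]
      symm
      refine Finset.sum_bij (fun (x : Fˣ) _ => (x : F)) ?_ ?_ ?_ ?_
      · intro x _
        simp
      · intro x _ y _ h
        exact Units.ext h
      · intro a ha
        have ha' : a ≠ 0 := by simpa using ha
        exact ⟨Units.mk0 a ha', Finset.mem_univ _, rfl⟩
      · intro x _
        ring
  · -- (4)
    intro c hc
    have hχc : χ c ≠ 1 := fun h => hc ((hχ1 c).1 h)
    show RootSumP n p (- gaussSum (χ c) ψ)
    have hsum : ∑ a : F, (χ c) a = 0 := MulChar.sum_eq_zero_of_ne_one hχc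
    have hrew : - gaussSum (χ c) ψ = ∑ a : F, (-(χ c) a) * (ψ a - 1) := by
      rw [gaussSum]
      have : ∑ a : F, (-(χ c) a) * (ψ a - 1) = - ∑ a : F, (χ c) a * ψ a + ∑ a : F, (χ c) a := by
        rw [← Finset.sum_neg_distrib, ← Finset.sum_add_distrib]
        apply Finset.sum_congr rfl
        intro a _
        ring
      rw [this, hsum, add_zero]
    rw [hrew]
    apply RootSumP.sum
    intro a _
    by_cases ha : a = 0
    · rw [ha, MulChar.map_zero, neg_zero, zero_mul]
      exact RootSumP.zero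
    · apply RootSumP.of_roots _ (hψp a)
      rw [neg_pow, hneg1, one_mul, hχpow c a ha]

end Cfsg.Agent.Helper81.KnorrW2
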