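import Cfsg.Agent.Helper78.HKLemmas
import Cfsg.Agent.Helper77.DefectOrder
import Cfsg.Agent.Helper16.CentralRank
import Cfsg.Agent.Helper16.MajorCount
import Cfsg.Agent.S4491

/-!
# (B-CONV) of helper78's S4607: a block with a defect group of order `2` has exactly two
irreducible characters.
-/

set_option autoImplicit false
set_option linter.style.haveILetI false
set_option linter.unusedSectionVars false
set_option linter.unusedVariables false

namespace Cfsg.Agent.Helper81.BrandtCONV

open Cfsg

universe u

variable {G : Type u} [Group G] [Fintype G] (M : Ideal AlgInt) [M.IsPrime]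

/-- (B-CONV) the easy direction `|D| = 2 ⟹ k(B) = 2`. -/
theorem card_block_eq_two_of_card_defectGroup_eq_two (p : ℕ) [Fact p.Prime]
    (hM : IsPModular p M) (B : Set (IrrCharacter G)) (hB : IsPBlock M B) (D : Subgroup G)
    (hD : IsDefectGroup p M B D) (hcard : Nat.card D = 2) : Nat.card B = 2 := by
  classical
  have hpr : p.Prime := Fact.out
  have hMp : M.IsPrime := inferInstance
  haveI : Finite (IrrCharacter G) := Helper79.irr_finite'
  -- (0) `p = 2` and the defect is `1`
  have hcardD : Nat.card D = p ^ blockDefect p B := Helper77.card_defectGroup hM hB D hD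
  rw [hcard] at hcardD
  have hd0 : blockDefect p B ≠ 0 := by
    intro h0
    rw [h0, pow_zero] at hcardD
    omega
  have hp2 : p = 2 := by
    have h1 : p ∣ 2 := by rw [hcardD]; exact dvd_pow_self p hd0
    exact (Nat.prime_dvd_prime_iff_eq hpr Nat.prime_two).mp h1
  have hd1 : blockDefect p B = 1 := by
    rw [hp2] at hcardD
    have h2 : (2 : ℕ) ^ 1 = 2 ^ blockDefect 2 B := by rw [pow_one]; exact hcardD
    have := Nat.pow_right_injective (le_refl 2) h2
    rw [hp2]
    exact this.symm
  -- the involution
  have hDp : IsPGroup p D := IsPGroup.of_card (n := blockDefect p B) (by rw [hcard, hcardD])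
  obtain ⟨y0, hy0, huniq⟩ := (Nat.card_eq_two_iff' (1 : D)).mp hcard
  set y : G := (y0 : G) with hy
  have hyD : y ∈ D := y0.2
  have hy1 : y ≠ 1 := fun h => hy0 (Subtype.ext h)
  have hDelts : ∀ x ∈ D, x = 1 ∨ x = y := by
    intro x hx
    by_cases hx1 : x = 1
    · exact Or.inl hx1
    · right
      have h2 : (⟨x, hx⟩ : D) ≠ 1 := fun h => hx1 (congrArg Subtype.val h)
      exact congrArg Subtype.val (huniq ⟨x, hx⟩ h2)
  have hyy : y * y = 1 := by
    rcases hDelts (y * y) (D.mul_mem hyD hyD) with h | h
    · exact h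
    · exfalso
      apply hy1
      have : y * y = y * 1 := by rw [h, mul_one]
      exact mul_left_cancel this
  have hord : orderOf y = 2 := orderOf_eq_prime (by rw [pow_two]; exact hyy) hy1
  set H : Subgroup G := Subgroup.centralizer ({y} : Set G) with hH
  haveI : Fintype H := Fintype.ofFinite H
  have hyH : y ∈ H := Subgroup.mem_centralizer_singleton_iff.mpr rfl
  have hDH : D ≤ H := by
    intro x hx
    rcases hDelts x hx with rfl | rfl
    · exact H.one_mem
    · exact hyH
  have hNH : Subgroup.normalizer (D : Set G) ≤ H := by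
    intro n hn
    rw [hH, Subgroup.mem_centralizer_singleton_iff]
    have hmem : n * y * n⁻¹ ∈ D := (Subgroup.mem_normalizer_iff.mp hn y).mp hyD
    rcases hDelts _ hmem with h | h
    · exfalso
      apply hy1
      have : y = n⁻¹ * (n * y * n⁻¹) * n := by group
      rw [this, h]; group
    · calc n * y = n * y * n⁻¹ * n := by group
        _ = y * n := by rw [h]
  obtain ⟨c, hc, hcD, hind⟩ := (Helper78.first_main_over hM D H hDp hNH).2.1 B hB hD
  have hcardDH : Nat.card (D.subgroupOf H) = 2 := by
    rw [Nat.card_congr (Subgroup.subgroupOfEquivOfLe hDH).toEquiv, hcard]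
  have hcardc : Nat.card (D.subgroupOf H) = p ^ blockDefect p c :=
    Helper77.card_defectGroup hM hc (D.subgroupOf H) hcD
  have hdc : blockDefect p c = 1 := by
    rw [hcardDH, hp2] at hcardc
    have h2 : (2 : ℕ) ^ 1 = 2 ^ blockDefect 2 c := by rw [pow_one]; exact hcardc
    have := Nat.pow_right_injective (le_refl 2) h2
    rw [hp2]
    exact this.symm
  have hyc : (⟨y, hyH⟩ : H) ∈ Subgroup.center H := by
    rw [Subgroup.mem_center_iff]
    intro g
    apply Subtype.ext
    have := Subgroup.mem_centralizer_singleton_iff.mp g.2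
    simpa using this
  have hDZ : D.subgroupOf H ≤ Subgroup.center H := by
    intro x hx
    rw [Subgroup.mem_subgroupOf] at hx
    rcases hDelts _ hx with h | h
    · have : x = 1 := Subtype.ext h
      rw [this]; exact Subgroup.one_mem _
    · have : x = ⟨y, hyH⟩ := Subtype.ext h
      rw [this]; exact hyc
  have hrank : blockRank p c ≤ 1 :=
    (Helper16.card_le_and_blockRank_le_one_of_central hM hc (D.subgroupOf H) hDZ hcardc).2
  have hle := Helper16.card_block_le_pow_mul_blockRank hM hB H ⟨y, hyH⟩ hyc rfl
    ⟨1, by rw [pow_one, hp2]; exact hord⟩ hind (by rw [hdc, hd1])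
  have hle2 : Nat.card B ≤ 2 := by
    rw [hd1, pow_one, hp2] at hle
    have : 2 * blockRank 2 c ≤ 2 * 1 := Nat.mul_le_mul_left 2 (by rw [hp2] at hrank; exact hrank)
    omega
  -- (2) lower bound
  have hne : B.Nonempty := Helper78.isPBlock_nonempty hMp hB
  have hpos : 0 < Nat.card B := by
    obtain ⟨χ, hχ⟩ := hne
    haveI : Nonempty B := ⟨⟨χ, hχ⟩⟩
    exact Nat.card_pos
  have hne1 : Nat.card B ≠ 1 := by
    intro h1
    obtain ⟨χ, hχ⟩ := Nat.card_eq_one_iff_exists.mp h1
    have hBeq : B = {χ.1} := by
      ext ψ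
      constructor
      · intro hψ
        have := hχ ⟨ψ, hψ⟩
        exact congrArg Subtype.val this
      · rintro rfl
        exact χ.2
    have hS := Cfsg.Agent.S4491.result p M hM B hB
    rw [hBeq, finsum_mem_singleton, Nat.factorization_pow, ← hBeq, hd1] at hS
    obtain ⟨ψ, hψ, hdef, -⟩ := Helper16.exists_height_zero' p B hne
    rw [hd1] at hdef
    simp only [Finsupp.smul_apply, smul_eq_mul] at hS
    omega
  omega

end Cfsg.Agent.Helper81.BrandtCONV
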