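import Mathlib
import Cfsg.Prelude.Def_Blocks
import Cfsg.Agent.Helper15.IndChar
import Cfsg.Agent.Helper15.LinChar

/-!
# Artin's induction theorem

`artinSpan G` is the additive subgroup of `G → ℂ` generated by the functions induced from
homomorphisms `A →* ℂˣ` of cyclic subgroups `A`.  We prove `|G| • χ ∈ artinSpan G` for every
character `χ` (`card_smul_mem_artinSpan`) and unfold membership into an explicit list
(`exists_list_of_mem_artinSpan`).
-/

set_option autoImplicit false
set_option linter.unusedSectionVars false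

namespace Cfsg.Agent.Helper81

open Cfsg Cfsg.Agent.Helper15

universe u

variable {G : Type u} [Group G] [Fintype G]

/-- The additive group generated by the functions induced from linear characters of cyclic
subgroups. -/
def artinSpan (G : Type u) [Group G] [Fintype G] : AddSubgroup (G → ℂ) :=
  AddSubgroup.closure {f | ∃ (A : Subgroup G) (lam : A →* ℂˣ), IsCyclic A ∧
    f = indFun A (fun a => ((lam a : ℂˣ) : ℂ))}

theorem indFun_mem_artinSpan (A : Subgroup G) (hA : IsCyclic A) (lam : A →* ℂˣ) :
    indFun A (fun a => ((lam a : ℂˣ) : ℂ)) ∈ artinSpan G :=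
  AddSubgroup.subset_closure ⟨A, lam, hA, rfl⟩

/-- Every character of a cyclic group is a sum of homomorphisms into `ℂˣ`; hence inducing it
lands in `artinSpan`. -/
theorem indFun_character_mem_artinSpan (A : Subgroup G) (hA : IsCyclic A) {ξ : A → ℂ}
    (hξ : IsCharacter A ξ) : indFun A ξ ∈ artinSpan G := by
  classical
  have : Fintype A := Fintype.ofFinite A
  let _ := Helper74.irrFintype A
  rw [Helper74.isCharacter_eq_sum_irr hξ, indFun_finset_sum]
  apply sum_mem
  intro μ _
  obtain ⟨m, hm⟩ := Helper74.isCharacter_inner_irr_nat hξ μ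
  rw [hm, indFun_smul, Nat.cast_smul_eq_nsmul]
  apply nsmul_mem
  -- `μ` is linear
  have hμ1 : (μ : A → ℂ) 1 = 1 := by
    obtain ⟨n, ρ, hρ, hρμ⟩ := μ.2
    have := hρ
    have h1 := Representation.IsIrreducible.finrank_eq_one_of_isMulCommutative ρ
    rw [← hρμ, Representation.char_one, h1]
    simp
  have hμc := Helper74.irr_isCharacter μ
  exact indFun_mem_artinSpan A hA (linCharUnits hμc hμ1)

/-- `artinSpan` is stable under multiplication by characters. -/
theorem mul_mem_artinSpan {χ : G → ℂ} (hχ : IsCharacter G χ) {f : G → ℂ}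
    (hf : f ∈ artinSpan G) : f * χ ∈ artinSpan G := by
  unfold artinSpan at hf
  induction hf using AddSubgroup.closure_induction with
  | mem f hf =>
    obtain ⟨A, lam, hA, rfl⟩ := hf
    rw [← indFun_mul_restrict A _ χ (Helper74.isClassFunction_of_isCharacter hχ)]
    apply indFun_character_mem_artinSpan A hA
    have h1 : IsCharacter A (fun a => ((lam a : ℂˣ) : ℂ)) :=
      (isCharacter_of_hom ((Units.coeHom ℂ).comp lam)).1
    exact Helper74.isCharacter_mul h1 (Helper74.isCharacter_restrict A hχ)
  | zero => rw [zero_mul]; exact zero_mem _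
  | add f g _ _ hf hg => rw [add_mul]; exact add_mem hf hg
  | neg f _ hf => rw [neg_mul]; exact neg_mem hf

/-- `Θ_A g = #{x | ⟨x⁻¹ g x⟩ = A}`. -/
noncomputable def artinTheta (A : Subgroup G) (g : G) : ℂ :=
  open Classical in
  ((Finset.univ.filter fun x : G => Subgroup.zpowers (x⁻¹ * g * x) = A).card : ℂ)

theorem artinTheta_eq_zero_of_not_cyclic (A : Subgroup G) (hA : ¬ IsCyclic A) :
    artinTheta A = 0 := by
  classical
  funext g
  unfold artinTheta
  rw [Pi.zero_apply, Nat.cast_eq_zero, Finset.card_eq_zero, Finset.filter_eq_empty_iff]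
  intro x _ h
  apply hA
  rw [← h]
  infer_instance

/-- `∑_{B ≤ A} Θ_B = |A| • (1_A)^G`. -/
theorem sum_artinTheta_le [Fintype (Subgroup G)] [DecidableRel (α := Subgroup G) (· ≤ ·)]
    (A : Subgroup G) :
    ∑ B ∈ Finset.univ.filter (fun B : Subgroup G => B ≤ A), artinTheta B =
      (Nat.card A : ℂ) • indFun A (fun _ : A => (1 : ℂ)) := by
  classical
  funext g
  rw [Finset.sum_apply, Pi.smul_apply, indFun_apply, smul_eq_mul]
  have hA : (Nat.card A : ℂ) ≠ 0 := by
    have : 0 < Nat.card A := Nat.card_pos
    exact_mod_cast this.ne'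
  rw [← mul_assoc, mul_inv_cancel₀ hA, one_mul]
  have h1 : ∀ x : G, extendByZero A (fun _ : A => (1 : ℂ)) (x⁻¹ * g * x) =
      if x⁻¹ * g * x ∈ A then 1 else 0 := by
    intro x
    split_ifs with hx
    · rw [extendByZero_of_mem A _ hx]
    · rw [extendByZero_of_not_mem A _ hx]
  rw [Finset.sum_congr rfl fun x _ => h1 x, Finset.sum_boole]
  have hmaps : ((Finset.univ.filter fun x : G => x⁻¹ * g * x ∈ A : Finset G) : Set G).MapsTo
      (fun x => Subgroup.zpowers (x⁻¹ * g * x))
      (Finset.univ.filter (fun B : Subgroup G => B ≤ A)) := by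
    intro x hx
    simp only [Finset.coe_filter, Finset.mem_univ, true_and, Set.mem_ofPred_eq] at hx ⊢
    exact Subgroup.zpowers_le.mpr hx
  rw [Finset.card_eq_sum_card_fiberwise hmaps]
  push_cast
  refine Finset.sum_congr rfl fun B hB => ?_
  unfold artinTheta
  congr 2
  ext x
  simp only [Finset.mem_filter, Finset.mem_univ, true_and]
  constructor
  · intro h
    refine ⟨?_, h⟩
    have hBA : B ≤ A := (Finset.mem_filter.mp hB).2
    exact hBA (h ▸ Subgroup.mem_zpowers _)
  · intro h; exact h.2

/-- `∑_A Θ_A = |G|`. -/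
theorem sum_artinTheta [Fintype (Subgroup G)] :
    ∑ A : Subgroup G, artinTheta A = fun _ : G => (Nat.card G : ℂ) := by
  classical
  funext g
  rw [Finset.sum_apply]
  have hmaps : ((Finset.univ : Finset G) : Set G).MapsTo
      (fun x => Subgroup.zpowers (x⁻¹ * g * x)) (Finset.univ : Finset (Subgroup G)) := by
    intro x _; simp
  have h := Finset.card_eq_sum_card_fiberwise hmaps
  rw [Finset.card_univ, ← Nat.card_eq_fintype_card] at h
  rw [h]
  push_cast
  refine Finset.sum_congr rfl fun B _ => ?_
  unfold artinTheta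
  rfl

theorem artinTheta_mem_artinSpan (A : Subgroup G) : artinTheta A ∈ artinSpan G := by
  classical
  have : Fintype (Subgroup G) := Fintype.ofFinite _
  induction hn : Nat.card A using Nat.strong_induction_on generalizing A with
  | _ n ih =>
    by_cases hA : IsCyclic A
    · have h1 := sum_artinTheta_le A
      have hsplit : Finset.univ.filter (fun B : Subgroup G => B ≤ A) =
          insert A (Finset.univ.filter (fun B : Subgroup G => B < A)) := by
        ext B
        simp only [Finset.mem_filter, Finset.mem_univ, true_and, Finset.mem_insert]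
        rw [le_iff_eq_or_lt]
      rw [hsplit, Finset.sum_insert (by simp)] at h1
      have h2 : artinTheta A = (Nat.card A : ℂ) • indFun A (fun _ : A => (1 : ℂ)) -
          ∑ B ∈ Finset.univ.filter (fun B : Subgroup G => B < A), artinTheta B := by
        rw [← h1]; ring
      rw [h2]
      apply sub_mem
      · rw [Nat.cast_smul_eq_nsmul]
        apply nsmul_mem
        have := indFun_mem_artinSpan A hA 1
        simpa using this
      · apply sum_mem
        intro B hB
        have hBA : B < A := (Finset.mem_filter.mp hB).2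
        apply ih (Nat.card B) _ B rfl
        rw [← hn]
        have hle := Subgroup.card_le_of_le hBA.le
        have hne : Nat.card B ≠ Nat.card A :=
          fun h => hBA.ne (Subgroup.eq_of_le_of_card_ge hBA.le h.ge)
        omega
    · rw [artinTheta_eq_zero_of_not_cyclic A hA]
      exact zero_mem _

/-- **Artin's induction theorem**, membership form. -/
theorem card_smul_mem_artinSpan {χ : G → ℂ} (hχ : IsCharacter G χ) :
    (Nat.card G : ℂ) • χ ∈ artinSpan G := by
  classical
  have : Fintype (Subgroup G) := Fintype.ofFinite _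
  have h1 : (fun _ : G => (Nat.card G : ℂ)) ∈ artinSpan G := by
    rw [← sum_artinTheta]
    exact sum_mem fun A _ => artinTheta_mem_artinSpan A
  have h2 := mul_mem_artinSpan hχ h1
  have h3 : (fun _ : G => (Nat.card G : ℂ)) * χ = (Nat.card G : ℂ) • χ := by
    funext g
    simp
  rwa [h3] at h2

/-- Negating the integer coefficients negates the sum. -/
theorem list_sum_neg_aux (l : List ((A : Subgroup G) × ((A →* ℂˣ) × ℤ))) :
    (l.map ((fun t : (A : Subgroup G) × ((A →* ℂˣ) × ℤ) =>
        (t.2.2 : ℂ) • indFun t.1 (fun a => ((t.2.1 a : ℂˣ) : ℂ))) ∘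
        fun t => ⟨t.1, t.2.1, -t.2.2⟩)).sum =
      -(l.map fun t : (A : Subgroup G) × ((A →* ℂˣ) × ℤ) =>
        (t.2.2 : ℂ) • indFun t.1 (fun a => ((t.2.1 a : ℂˣ) : ℂ))).sum := by
  induction l with
  | nil => simp
  | cons a l ih =>
    rw [List.map_cons, List.sum_cons, ih, List.map_cons, List.sum_cons, neg_add]
    congr 1
    simp

/-- Unfolding membership in `artinSpan` to an explicit list. -/
theorem exists_list_of_mem_artinSpan {f : G → ℂ} (hf : f ∈ artinSpan G) :
    ∃ l : List ((A : Subgroup G) × ((A →* ℂˣ) × ℤ)), (∀ t ∈ l, IsCyclic t.1) ∧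
      f = (l.map fun t => (t.2.2 : ℂ) • indFun t.1 (fun a => ((t.2.1 a : ℂˣ) : ℂ))).sum := by
  unfold artinSpan at hf
  induction hf using AddSubgroup.closure_induction with
  | mem f hf =>
    obtain ⟨A, lam, hA, rfl⟩ := hf
    refine ⟨[⟨A, lam, 1⟩], ?_, ?_⟩
    · intro t ht
      rw [List.mem_singleton] at ht
      rw [ht]; exact hA
    · simp
  | zero => exact ⟨[], by simp, by simp⟩
  | add f g _ _ hf hg =>
    obtain ⟨l₁, h₁, rfl⟩ := hf
    obtain ⟨l₂, h₂, rfl⟩ := hg
    refine ⟨l₁ ++ l₂, ?_, ?_⟩
    · intro t ht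
      rcases List.mem_append.mp ht with h | h
      · exact h₁ t h
      · exact h₂ t h
    · rw [List.map_append, List.sum_append]
  | neg f _ hf =>
    obtain ⟨l, h, rfl⟩ := hf
    refine ⟨l.map (fun t => ⟨t.1, t.2.1, -t.2.2⟩), ?_, ?_⟩
    · intro t ht
      obtain ⟨s, hs, rfl⟩ := List.mem_map.mp ht
      exact h s hs
    · rw [List.map_map]
      exact (list_sum_neg_aux l).symm

end Cfsg.Agent.Helper81
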