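import Mathlib
import Cfsg.Prelude.Def_Blocks
import Cfsg.Agent.Helper80.Pullback
import Cfsg.Agent.Helper80.Induced
import Cfsg.Agent.Helper15.CliffordCorr
import Cfsg.Agent.Helper15.IndChar
import Cfsg.Agent.Helper15.ConjChar

/-!
# Broline–Garrison, part 1: supplements of the kernel of an irreducible character

`χ ∈ Irr(G)`, `N ⊴ G` with `N ≤ ker χ`, `H ≤ G` with `N H = G`.

* `isIrrCharacter_restrict_of_sup_eq_top`: `χ_H` is irreducible;
* `eq_of_restrict_eq`: two such characters with the same restriction to `H` agree;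
* `restrict_eq_of_degree_le`: a constituent `ψ` of `(χ_H)^G` with `ψ(1) ≤ χ(1)` restricts to `χ_H`;
* `eq_deg_of_constituent`: the kernel of a character lies in the kernel of every constituent;
* `exists_larger_of_coatom` (Isaacs 12.17): if `H` is a maximal subgroup with `K H = G`,
  `K = ker χ`, and no normal subgroup of `G` lies properly between `K ∩ H` and `K`, there is
  `ψ ∈ Irr(G)` with `ψ(1) > χ(1)` and `ker ψ < K`.
-/

set_option autoImplicit false
set_option linter.unusedSectionVars false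

namespace Cfsg.Agent.Helper81

open Cfsg Cfsg.Agent.Helper15 Cfsg.Agent.Helper80
open scoped ComplexConjugate

universe u

section supp

variable {G : Type u} [Group G] [Fintype G]

/-- If `N ≤ ker χ` and `N H = G` then `χ_H` is irreducible. -/
theorem isIrrCharacter_restrict_of_sup_eq_top {χ : G → ℂ} (hχ : IsIrrCharacter G χ)
    (N H : Subgroup G) [N.Normal] (hN : ∀ n ∈ N, χ n = χ 1) (hNH : N ⊔ H = ⊤) :
    IsIrrCharacter H (fun h : H => χ h) := by
  obtain ⟨ψ, hψ, hψχ⟩ := IsIrrCharacter.exists_descend hχ (QuotientGroup.mk' N)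
    (QuotientGroup.mk'_surjective N) (fun g hg => hN g ((QuotientGroup.eq_one_iff g).mp hg))
  have hsurj : Function.Surjective ((QuotientGroup.mk' N).comp H.subtype) := by
    intro q
    obtain ⟨g, rfl⟩ := QuotientGroup.mk'_surjective N q
    have hg : g ∈ N ⊔ H := hNH ▸ Subgroup.mem_top g
    obtain ⟨n, hn, h, hh, rfl⟩ := Subgroup.mem_sup_of_normal_left.mp hg
    refine ⟨⟨h, hh⟩, ?_⟩
    simp only [MonoidHom.coe_comp, Function.comp_apply, Subgroup.coe_subtype,
      QuotientGroup.mk'_apply]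
    rw [QuotientGroup.mk_mul, (QuotientGroup.eq_one_iff n).mpr hn, one_mul]
  have h2 := IsIrrCharacter.comp_surjective hψ _ hsurj
  have h3 : (fun h : H => χ h) = fun h : H => ψ (((QuotientGroup.mk' N).comp H.subtype) h) := by
    funext h
    exact hψχ h
  rw [h3]; exact h2

/-- Two characters with `N` in their kernels which agree on a supplement `H` of `N` agree. -/
theorem eq_of_restrict_eq {χ ψ : G → ℂ} (hχ : IsCharacter G χ) (hψ : IsCharacter G ψ)
    (N H : Subgroup G) [N.Normal] (hN : ∀ n ∈ N, χ n = χ 1) (hN' : ∀ n ∈ N, ψ n = ψ 1)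
    (hNH : N ⊔ H = ⊤) (hres : ∀ h ∈ H, ψ h = χ h) : ψ = χ := by
  funext g
  have hg : g ∈ H ⊔ N := by rw [sup_comm, hNH]; exact Subgroup.mem_top g
  obtain ⟨h, hh, n, hn, rfl⟩ := Subgroup.mem_sup_of_normal_right.mp hg
  rw [IsCharacter.mul_mem_ker hψ h n (hN' n hn), IsCharacter.mul_mem_ker hχ h n (hN n hn)]
  exact hres h hh

end supp

section cons

variable {H : Type u} [Group H] [Fintype H]

/-- The kernel of a character lies in the kernel of each of its irreducible constituents. -/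
theorem eq_deg_of_constituent {Ψ : H → ℂ} (hΨ : IsCharacter H Ψ) (ϑ : IrrCharacter H)
    (hne : classInner Ψ (ϑ : H → ℂ) ≠ 0) {d : H} (hd : Ψ d = Ψ 1) :
    (ϑ : H → ℂ) d = (ϑ : H → ℂ) 1 := by
  classical
  let _ : Fintype (IrrCharacter H) := Helper74.irrFintype H
  have hdec := eq_sum_mult Ψ hΨ
  have h1 := congrFun hdec 1
  have hdd := congrFun hdec d
  simp only [Finset.sum_apply, Pi.smul_apply, smul_eq_mul] at h1 hdd
  -- each irreducible: Re ξ(d) ≤ ξ(1)
  have hre : ∀ ξ : IrrCharacter H, ((ξ : H → ℂ) d).re ≤ (charDegree (ξ : H → ℂ) : ℝ) := by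
    intro ξ
    exact le_trans (Complex.re_le_norm _) (IsCharacter.norm_le (Helper74.irr_isCharacter ξ) d)
  have hdeg : ∀ ξ : IrrCharacter H, ((ξ : H → ℂ) 1) = (charDegree (ξ : H → ℂ) : ℂ) := fun ξ =>
    (IsCharacter.charDegree_cast (Helper74.irr_isCharacter ξ)).symm
  -- the real part of Ψ 1 - Ψ d
  have hsum : ∑ ξ : IrrCharacter H, (mult Ψ hΨ ξ : ℝ) *
      ((charDegree (ξ : H → ℂ) : ℝ) - ((ξ : H → ℂ) d).re) = 0 := by
    have h2 : (Ψ 1 - Ψ d).re = 0 := by rw [hd]; simp
    rw [h1, hdd, ← Finset.sum_sub_distrib, Complex.re_sum] at h2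
    rw [← h2]
    apply Finset.sum_congr rfl
    intro ξ _
    rw [hdeg ξ]
    simp [Complex.sub_re, Complex.mul_re]
    ring
  have hnonneg : ∀ ξ ∈ (Finset.univ : Finset (IrrCharacter H)), 0 ≤ (mult Ψ hΨ ξ : ℝ) *
      ((charDegree (ξ : H → ℂ) : ℝ) - ((ξ : H → ℂ) d).re) := by
    intro ξ _
    exact mul_nonneg (Nat.cast_nonneg _) (sub_nonneg.mpr (hre ξ))
  have hz := (Finset.sum_eq_zero_iff_of_nonneg hnonneg).mp hsum ϑ (Finset.mem_univ ϑ)
  have hm : (mult Ψ hΨ ϑ : ℝ) ≠ 0 := by
    have : (mult Ψ hΨ ϑ : ℂ) ≠ 0 := by rw [← mult_spec]; exact hne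
    exact_mod_cast this
  have hre1 : ((ϑ : H → ℂ) d).re = (charDegree (ϑ : H → ℂ) : ℝ) := by
    rcases mul_eq_zero.mp hz with h | h
    · exact absurd h hm
    · linarith
  have hnorm := IsCharacter.norm_le (Helper74.irr_isCharacter ϑ) d
  have him : ((ϑ : H → ℂ) d).im = 0 := by
    have h3 : ‖(ϑ : H → ℂ) d‖ ^ 2 ≤ (charDegree (ϑ : H → ℂ) : ℝ) ^ 2 :=
      pow_le_pow_left₀ (norm_nonneg _) hnorm 2
    rw [← Complex.normSq_eq_norm_sq, Complex.normSq_apply, hre1] at h3
    have h4 : ((ϑ : H → ℂ) d).im * ((ϑ : H → ℂ) d).im ≤ 0 := by nlinarith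
    have h5 : 0 ≤ ((ϑ : H → ℂ) d).im * ((ϑ : H → ℂ) d).im := mul_self_nonneg _
    have h6 : ((ϑ : H → ℂ) d).im * ((ϑ : H → ℂ) d).im = 0 := le_antisymm h4 h5
    exact mul_self_eq_zero.mp h6
  rw [hdeg ϑ]
  apply Complex.ext
  · rw [hre1]; simp
  · rw [him]; simp

end cons

section lemmaA

variable {G : Type u} [Group G] [Fintype G]

/-- A constituent `ψ` of `(χ_H)^G` of degree at most `χ(1)` restricts to `χ_H` (here `χ_H` is
irreducible). -/
theorem restrict_eq_of_degree_le (H : Subgroup G) {χ : G → ℂ} (hχ : IsCharacter G χ)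
    (hϑ : IsIrrCharacter H (fun h : H => χ h)) (ψ : IrrCharacter G)
    (hne : classInner (indFun H (fun h : H => χ h)) (ψ : G → ℂ) ≠ 0)
    (hle : charDegree (ψ : G → ℂ) ≤ charDegree χ) :
    (fun h : H => (ψ : G → ℂ) h) = fun h : H => χ h := by
  classical
  have hψc : IsCharacter G (ψ : G → ℂ) := Helper74.irr_isCharacter ψ
  have hψcf : IsClassFunction G (ψ : G → ℂ) := IsCharacter.isClassFunction hψc
  rw [frobenius_reciprocity H _ _ hψcf] at hne
  have hne' : classInner (fun h : H => (ψ : G → ℂ) h) (fun h : H => χ h) ≠ 0 := by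
    rw [← classInner_conj_symm]
    intro h0
    apply hne
    have := congrArg conj h0
    simpa using this
  exact eq_of_constituent_of_degree_le (Helper74.isCharacter_restrict H hψc) hϑ hne'
    (charDegree (ψ : G → ℂ)) (charDegree χ)
    (IsCharacter.charDegree_cast hψc).symm (IsCharacter.charDegree_cast hχ).symm hle

/-- **Isaacs, Lemma 12.17.** Let `K = ker χ`, `H` a maximal subgroup with `K H = G` such that no
normal subgroup of `G` lies properly between `K ∩ H` and `K`.  Then some `ψ ∈ Irr(G)` has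
`ψ(1) > χ(1)` and `ker ψ < K`. -/
theorem exists_larger_of_coatom (χ : IrrCharacter G) (K H : Subgroup G) [K.Normal]
    (hK : ∀ g, g ∈ K ↔ (χ : G → ℂ) g = (χ : G → ℂ) 1)
    (hH : IsCoatom H) (hKH : K ⊔ H = ⊤)
    (hdag : ∀ L : Subgroup G, L.Normal → K ⊓ H ≤ L → L ≤ K → L = K) :
    ∃ ψ : IrrCharacter G, charDegree (χ : G → ℂ) < charDegree (ψ : G → ℂ) ∧
      ∃ L : Subgroup G, (∀ g, g ∈ L ↔ (ψ : G → ℂ) g = (ψ : G → ℂ) 1) ∧ L < K := by
  classical
  let _ : Fintype (IrrCharacter G) := Helper74.irrFintype G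
  have hχc : IsCharacter G (χ : G → ℂ) := Helper74.irr_isCharacter χ
  have hϑ : IsIrrCharacter H (fun h : H => (χ : G → ℂ) h) :=
    isIrrCharacter_restrict_of_sup_eq_top χ.2 K H (fun n hn => (hK n).mp hn) hKH
  have hϑc : IsCharacter H (fun h : H => (χ : G → ℂ) h) := Helper74.isCharacter_of_isIrr hϑ
  have hΨ : IsCharacter G (indFun H (fun h : H => (χ : G → ℂ) h)) := isCharacter_indFun H hϑc
  have hχ1 : (χ : G → ℂ) 1 ≠ 0 := IsIrrCharacter.map_one_ne_zero χ.2
  -- Step 1: a constituent of larger degree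
  have step1 : ∃ ψ : IrrCharacter G,
      classInner (indFun H (fun h : H => (χ : G → ℂ) h)) (ψ : G → ℂ) ≠ 0 ∧
      charDegree (χ : G → ℂ) < charDegree (ψ : G → ℂ) := by
    by_contra hcon
    push Not at hcon
    have hall : ∀ ψ : IrrCharacter G,
        classInner (indFun H (fun h : H => (χ : G → ℂ) h)) (ψ : G → ℂ) ≠ 0 → ψ = χ := by
      intro ψ hne
      have hψc : IsCharacter G (ψ : G → ℂ) := Helper74.irr_isCharacter ψ
      have hres := restrict_eq_of_degree_le H hχc hϑ ψ hne (hcon ψ hne)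
      have hres' : ∀ h ∈ H, (ψ : G → ℂ) h = (χ : G → ℂ) h := fun h hh =>
        congrFun hres ⟨h, hh⟩
      have hdeg1 : (ψ : G → ℂ) 1 = (χ : G → ℂ) 1 := hres' 1 H.one_mem
      -- `K ≤ ker ψ`
      have hL : K ⊓ kerChar (ψ : G → ℂ) hψc = K := by
        apply hdag _ inferInstance
        · intro x hx
          refine ⟨hx.1, (mem_kerChar hψc x).mpr ?_⟩
          rw [hres' x hx.2, hdeg1]
          exact (hK x).mp hx.1
        · exact inf_le_left
      have hKψ : ∀ n ∈ K, (ψ : G → ℂ) n = (ψ : G → ℂ) 1 := by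
        intro n hn
        have : n ∈ K ⊓ kerChar (ψ : G → ℂ) hψc := by rw [hL]; exact hn
        exact (mem_kerChar hψc n).mp this.2
      apply Subtype.ext
      exact eq_of_restrict_eq hχc hψc K H (fun n hn => (hK n).mp hn) hKψ hKH hres'
    have hdec := Helper74.isCharacter_eq_sum_irr hΨ
    rw [Finset.sum_eq_single χ (fun ψ _ hne => by
        have h0 : classInner (indFun H (fun h : H => (χ : G → ℂ) h)) (ψ : G → ℂ) = 0 := by
          by_contra h
          exact hne (hall ψ h)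
        rw [h0, zero_smul])
      (fun h => absurd (Finset.mem_univ χ) h)] at hdec
    have hcoef : classInner (indFun H (fun h : H => (χ : G → ℂ) h)) (χ : G → ℂ) = 1 := by
      rw [frobenius_reciprocity H _ _ (IsCharacter.isClassFunction hχc)]
      exact Helper74.irr_inner_self ⟨_, hϑ⟩
    rw [hcoef, one_smul] at hdec
    have h1 := congrFun hdec 1
    rw [indFun_apply_one] at h1
    have h2 : ((H.index : ℂ) - 1) * (χ : G → ℂ) 1 = 0 := by
      have h3 : (H.index : ℂ) * (χ : G → ℂ) 1 = (χ : G → ℂ) 1 := h1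
      rw [sub_mul, h3, one_mul, sub_self]
    have h4 : (H.index : ℂ) = 1 := by
      rcases mul_eq_zero.mp h2 with h | h
      · exact sub_eq_zero.mp h
      · exact absurd h hχ1
    have h5 : H.index = 1 := by exact_mod_cast h4
    exact hH.1 (Subgroup.index_eq_one.mp h5)
  obtain ⟨ψ, hne, hlt⟩ := step1
  have hψc : IsCharacter G (ψ : G → ℂ) := Helper74.irr_isCharacter ψ
  have hψcf : IsClassFunction G (ψ : G → ℂ) := IsCharacter.isClassFunction hψc
  refine ⟨ψ, hlt, kerChar (ψ : G → ℂ) hψc, fun g => mem_kerChar hψc g, ?_⟩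
  set D := kerChar (ψ : G → ℂ) hψc with hD
  -- `D H ≠ G`
  have hDH : D ⊔ H ≠ ⊤ := by
    intro htop
    have hirr : IsIrrCharacter H (fun h : H => (ψ : G → ℂ) h) :=
      isIrrCharacter_restrict_of_sup_eq_top ψ.2 D H (fun n hn => (mem_kerChar hψc n).mp hn) htop
    have hne2 := hne
    rw [frobenius_reciprocity H _ _ hψcf] at hne2
    set ϑ' : IrrCharacter H := ⟨fun h : H => (χ : G → ℂ) h, hϑ⟩ with hϑ'
    set ψ' : IrrCharacter H := ⟨fun h : H => (ψ : G → ℂ) h, hirr⟩ with hψ'
    have heq : ϑ' = ψ' := by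
      by_contra hne3
      have h0 := Helper74.irr_inner_ne hne3
      exact hne2 h0
    have h1 : (χ : G → ℂ) 1 = (ψ : G → ℂ) 1 := by
      have h0 : (ϑ' : H → ℂ) 1 = (ψ' : H → ℂ) 1 := by rw [heq]
      exact h0
    have h2 : (charDegree (χ : G → ℂ) : ℂ) = (charDegree (ψ : G → ℂ) : ℂ) := by
      rw [IsCharacter.charDegree_cast hχc, IsCharacter.charDegree_cast hψc, h1]
    have h3 : charDegree (χ : G → ℂ) = charDegree (ψ : G → ℂ) := by exact_mod_cast h2
    omega
  have hDleH : D ≤ H := by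
    have h1 : H ≤ D ⊔ H := le_sup_right
    rcases eq_or_lt_of_le h1 with h | h
    · rw [h]; exact le_sup_left
    · exact absurd (hH.2 _ h) hDH
  -- `D ≤ K`
  have hDK : D ≤ K := by
    intro d hd
    rw [hK]
    have hne2 : classInner (fun h : H => (ψ : G → ℂ) h) (fun h : H => (χ : G → ℂ) h) ≠ 0 := by
      have hne3 := hne
      rw [frobenius_reciprocity H _ _ hψcf, ← classInner_conj_symm] at hne3
      intro h0
      apply hne3
      rw [h0]; simp
    have := eq_deg_of_constituent (Helper74.isCharacter_restrict H hψc) ⟨_, hϑ⟩ hne2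
      (d := ⟨d, hDleH hd⟩) ((mem_kerChar hψc d).mp hd)
    exact this
  refine lt_of_le_of_ne hDK ?_
  intro heq
  apply hH.1
  rw [← hKH, ← heq]
  exact (sup_eq_right.mpr hDleH).symm

end lemmaA

end Cfsg.Agent.Helper81
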