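import Mathlib
import Cfsg.Prelude.Def_Blocks
import Cfsg.Prelude.Def_Solvable
import Cfsg.Agent.Helper81.BG1
import Cfsg.Agent.Lib.Cores

/-!
# Broline–Garrison, part 2: the case of a non-nilpotent kernel

`exists_larger_of_not_nilpotent`: if `K = ker χ` is not nilpotent, there is `ψ ∈ Irr(G)` with
`ψ(1) > χ(1)` and `ker ψ < K` (Frattini argument + `exists_larger_of_coatom`).
-/

set_option autoImplicit false
set_option linter.unusedSectionVars false
set_option linter.style.haveILetI false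

namespace Cfsg.Agent.Helper81

open Cfsg Cfsg.Agent.Helper15 Cfsg.Agent.Helper80

universe u

variable {G : Type u} [Group G] [Fintype G]

theorem exists_larger_of_not_nilpotent (χ : IrrCharacter G) (K : Subgroup G) [K.Normal]
    (hK : ∀ g, g ∈ K ↔ (χ : G → ℂ) g = (χ : G → ℂ) 1) (hnil : ¬ Group.IsNilpotent K) :
    ∃ ψ : IrrCharacter G, charDegree (χ : G → ℂ) < charDegree (ψ : G → ℂ) ∧
      ∃ L : Subgroup G, (∀ g, g ∈ L ↔ (ψ : G → ℂ) g = (ψ : G → ℂ) 1) ∧ L < K := by
  classical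
  have h30 := (Group.isNilpotent_of_finite_tfae (G := K)).out 3 0
  have hex : ¬ ∀ (p : ℕ) (_ : Fact p.Prime) (P : Sylow p K), (P : Subgroup K).Normal :=
    fun h => hnil (h30.mp h)
  push Not at hex
  obtain ⟨p, hp, P, hP⟩ := hex
  haveI := hp
  set P' : Subgroup G := (P : Subgroup K).map K.subtype with hP'
  have hfrat : Subgroup.normalizer (P' : Set G) ⊔ K = ⊤ := Sylow.normalizer_sup_eq_top P
  have hNtop : Subgroup.normalizer (P' : Set G) ≠ ⊤ := by
    intro htop
    apply hP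
    have hn : P'.Normal := Subgroup.normalizer_eq_top_iff.mp htop
    have h1 : (P : Subgroup K) = P'.comap K.subtype := by
      rw [hP', Subgroup.comap_map_eq_self_of_injective K.subtype_injective]
    rw [h1]; exact hn.comap _
  obtain ⟨H, hH, hNH⟩ := (eq_top_or_exists_le_coatom _).resolve_left hNtop
  have hKH : K ⊔ H = ⊤ := by
    rw [eq_top_iff, ← hfrat, sup_comm]
    exact sup_le_sup_left hNH K
  apply exists_larger_of_coatom χ K H hK hH hKH
  intro L hL hKHL hLK
  apply le_antisymm hLK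
  set Lk : Subgroup K := L.subgroupOf K with hLk
  haveI : Lk.Normal := hL.subgroupOf K
  have hPL : (P : Subgroup K) ≤ Lk := by
    intro x hx
    have h1 : (x : G) ∈ P' := ⟨x, hx, rfl⟩
    have h2 : (x : G) ∈ H := hNH (Subgroup.le_normalizer h1)
    exact hKHL ⟨x.2, h2⟩
  have hfr := Sylow.normalizer_sup_eq_top (P.subtype hPL)
  have hmap : ((P.subtype hPL : Sylow p Lk) : Subgroup Lk).map Lk.subtype = (P : Subgroup K) := by
    rw [Sylow.coe_subtype, Subgroup.subgroupOf_map_subtype, inf_eq_left.mpr hPL]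
  rw [hmap] at hfr
  have hNL : Subgroup.normalizer ((P : Subgroup K) : Set K) ≤ Lk := by
    intro k hk
    have h1 : (k : G) ∈ Subgroup.normalizer (P' : Set G) :=
      Subgroup.le_normalizer_map K.subtype (H := (P : Subgroup K)) ⟨k, hk, rfl⟩
    exact hKHL ⟨k.2, hNH h1⟩
  have htop : Lk = ⊤ := by
    rw [eq_top_iff, ← hfr]
    exact sup_le hNL le_rfl
  intro k hk
  have h1 : (⟨k, hk⟩ : K) ∈ Lk := by rw [htop]; trivial
  exact h1

/-- Version with the Fitting subgroup. -/
theorem exists_larger_of_not_le_fitting (χ : IrrCharacter G) (K : Subgroup G) [hKn : K.Normal]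
    (hK : ∀ g, g ∈ K ↔ (χ : G → ℂ) g = (χ : G → ℂ) 1) (h : ¬ K ≤ fittingSubgroup G) :
    ∃ ψ : IrrCharacter G, charDegree (χ : G → ℂ) < charDegree (ψ : G → ℂ) ∧
      ∃ L : Subgroup G, (∀ g, g ∈ L ↔ (ψ : G → ℂ) g = (ψ : G → ℂ) 1) ∧ L < K :=
  exists_larger_of_not_nilpotent χ K hK (fun hnil => h (le_sSup ⟨hKn, hnil⟩))

end Cfsg.Agent.Helper81
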