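import Mathlib
import Cfsg.Prelude.Def_Blocks
import Cfsg.Agent.Helper81.BG1
import Cfsg.Agent.Helper15.Gallagher

/-!
# Broline–Garrison, part 3: supplements with small core

`exists_larger_of_core_le`: `F ⊴ G` proper, `F ≤ ker χ`, `H` a supplement of `F` whose core lies in
`F`.  Then some `ψ ∈ Irr(G)` has `ψ(1) > χ(1)` and `F ≰ ker ψ`.
-/

set_option autoImplicit false
set_option linter.unusedSectionVars false
set_option linter.style.haveILetI false

namespace Cfsg.Agent.Helper81

open Cfsg Cfsg.Agent.Helper15 Cfsg.Agent.Helper80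
open scoped ComplexConjugate

universe u

variable {G : Type u} [Group G] [Fintype G]

/-- The permutation character `(1_H)^G` takes the value `|G : H|` only on the core of `H`. -/
theorem mem_normalCore_of_indFun_one (H : Subgroup G) (g : G)
    (hg : indFun H (fun _ : H => (1 : ℂ)) g = (H.index : ℂ)) : g ∈ H.normalCore := by
  classical
  have hval : indFun H (fun _ : H => (1 : ℂ)) g = (Nat.card H : ℂ)⁻¹ *
      ((Finset.univ.filter (fun x : G => x⁻¹ * g * x ∈ H)).card : ℂ) := by
    rw [indFun_apply]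
    congr 1
    rw [Finset.card_filter, Nat.cast_sum]
    apply Finset.sum_congr rfl
    intro x _
    by_cases hx : x⁻¹ * g * x ∈ H
    · rw [extendByZero_of_mem H _ hx, if_pos hx]; simp
    · rw [extendByZero_of_not_mem H _ hx, if_neg hx]; simp
  rw [hval] at hg
  have hH0 : (Nat.card H : ℂ) ≠ 0 := by
    have : Nat.card H ≠ 0 := Nat.card_pos.ne'
    exact_mod_cast this
  have h1 : ((Finset.univ.filter (fun x : G => x⁻¹ * g * x ∈ H)).card : ℂ)
      = ((Nat.card H * H.index : ℕ) : ℂ) := by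
    rw [Nat.cast_mul, ← hg]
    field_simp
  have h2 : (Finset.univ.filter (fun x : G => x⁻¹ * g * x ∈ H)).card = Fintype.card G := by
    have h3 : (Finset.univ.filter (fun x : G => x⁻¹ * g * x ∈ H)).card
        = Nat.card H * H.index := by exact_mod_cast h1
    rw [h3, H.card_mul_index, Nat.card_eq_fintype_card]
  have h4 : Finset.univ.filter (fun x : G => x⁻¹ * g * x ∈ H) = Finset.univ :=
    (Finset.card_eq_iff_eq_univ _).mp h2
  intro b
  have h5 : b⁻¹ ∈ Finset.univ.filter (fun x : G => x⁻¹ * g * x ∈ H) := by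
    rw [h4]; exact Finset.mem_univ _
  have h6 := (Finset.mem_filter.mp h5).2
  simpa using h6

/-- **Supplements with small core.** -/
theorem exists_larger_of_core_le (χ : IrrCharacter G) (F H : Subgroup G) [F.Normal]
    (hF : ∀ f ∈ F, (χ : G → ℂ) f = (χ : G → ℂ) 1) (hFH : F ⊔ H = ⊤)
    (hcore : H.normalCore ≤ F) (hFtop : F ≠ ⊤) :
    ∃ ψ : IrrCharacter G, charDegree (χ : G → ℂ) < charDegree (ψ : G → ℂ) ∧
      ∃ f ∈ F, (ψ : G → ℂ) f ≠ (ψ : G → ℂ) 1 := by
  classical
  let _ : Fintype (IrrCharacter G) := Helper74.irrFintype G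
  by_contra hcon
  push Not at hcon
  have hχc : IsCharacter G (χ : G → ℂ) := Helper74.irr_isCharacter χ
  have hχcf : IsClassFunction G (χ : G → ℂ) := IsCharacter.isClassFunction hχc
  have hϑ : IsIrrCharacter H (fun h : H => (χ : G → ℂ) h) :=
    isIrrCharacter_restrict_of_sup_eq_top χ.2 F H hF hFH
  have hϑc : IsCharacter H (fun h : H => (χ : G → ℂ) h) := Helper74.isCharacter_of_isIrr hϑ
  have hΨ : IsCharacter G (indFun H (fun h : H => (χ : G → ℂ) h)) := isCharacter_indFun H hϑc
  have hχ1 : (χ : G → ℂ) 1 ≠ 0 := IsIrrCharacter.map_one_ne_zero χ.2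
  -- (a) every constituent restricts to `χ_H`
  have hall : ∀ ψ : IrrCharacter G,
      classInner (indFun H (fun h : H => (χ : G → ℂ) h)) (ψ : G → ℂ) ≠ 0 →
      (fun h : H => (ψ : G → ℂ) h) = fun h : H => (χ : G → ℂ) h := by
    intro ψ hne
    by_cases hle : charDegree (ψ : G → ℂ) ≤ charDegree (χ : G → ℂ)
    · exact restrict_eq_of_degree_le H hχc hϑ ψ hne hle
    · have hFψ := hcon ψ (not_le.mp hle)
      have hirr := isIrrCharacter_restrict_of_sup_eq_top ψ.2 F H hFψ hFH
      have hψcf : IsClassFunction G (ψ : G → ℂ) :=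
        IsCharacter.isClassFunction (Helper74.irr_isCharacter ψ)
      have hne2 := hne
      rw [frobenius_reciprocity H _ _ hψcf] at hne2
      set ϑ' : IrrCharacter H := ⟨fun h : H => (χ : G → ℂ) h, hϑ⟩ with hϑ'
      set ψ' : IrrCharacter H := ⟨fun h : H => (ψ : G → ℂ) h, hirr⟩ with hψ'
      have heq : ϑ' = ψ' := by
        by_contra hne3
        have h0 := Helper74.irr_inner_ne hne3
        exact hne2 h0
      have h0 : (ψ' : H → ℂ) = (ϑ' : H → ℂ) := by rw [heq]
      exact h0
  -- (b) the multiplicities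
  have hcoef : ∀ ψ : IrrCharacter G,
      classInner (indFun H (fun h : H => (χ : G → ℂ) h)) (ψ : G → ℂ) =
      if (fun h : H => (ψ : G → ℂ) h) = (fun h : H => (χ : G → ℂ) h) then 1 else 0 := by
    intro ψ
    split_ifs with h
    · have hψcf : IsClassFunction G (ψ : G → ℂ) :=
        IsCharacter.isClassFunction (Helper74.irr_isCharacter ψ)
      rw [frobenius_reciprocity H _ _ hψcf, h]
      exact Helper74.irr_inner_self ⟨_, hϑ⟩
    · by_contra hne
      exact h (hall ψ hne)
  set S : Finset (IrrCharacter G) := Finset.univ.filter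
    (fun ψ : IrrCharacter G => (fun h : H => (ψ : G → ℂ) h) = (fun h : H => (χ : G → ℂ) h)) with hS
  have hdec := Helper74.isCharacter_eq_sum_irr hΨ
  have hval : ∀ h ∈ H, indFun H (fun h : H => (χ : G → ℂ) h) h = (S.card : ℂ) * (χ : G → ℂ) h := by
    intro h hh
    have h1 := congrFun hdec h
    rw [h1, Finset.sum_apply]
    simp only [Pi.smul_apply, smul_eq_mul, hcoef]
    have h3 : ∀ ψ : IrrCharacter G,
        (if (fun h : H => (ψ : G → ℂ) h) = (fun h : H => (χ : G → ℂ) h) then (1 : ℂ) else 0)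
          * (ψ : G → ℂ) h
        = if (fun h : H => (ψ : G → ℂ) h) = (fun h : H => (χ : G → ℂ) h)
            then (χ : G → ℂ) h else 0 := by
      intro ψ
      split_ifs with h2
      · rw [one_mul]; exact congrFun h2 ⟨h, hh⟩
      · rw [zero_mul]
    simp only [h3]
    rw [Finset.sum_ite, Finset.sum_const_zero, add_zero, Finset.sum_const, nsmul_eq_mul]
  -- (d) `|S| = |G : H|`
  have hScard : (S.card : ℂ) = (H.index : ℂ) := by
    have h1 := hval 1 H.one_mem
    rw [indFun_apply_one] at h1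
    have h2 : (H.index : ℂ) * (χ : G → ℂ) 1 = (S.card : ℂ) * (χ : G → ℂ) 1 := h1
    exact (mul_right_cancel₀ hχ1 h2).symm
  -- (e) `(χ_H)^G = (1_H)^G χ`
  have hprod : indFun H (fun h : H => (χ : G → ℂ) h)
      = indFun H (fun _ : H => (1 : ℂ)) * (χ : G → ℂ) := by
    rw [← indFun_mul_restrict H _ _ hχcf]
    congr 1
    funext h
    simp
  -- (f) `χ` vanishes on `H` outside the core
  have hvanH : ∀ h ∈ H, (χ : G → ℂ) h ≠ 0 → h ∈ H.normalCore := by
    intro h hh hne
    apply mem_normalCore_of_indFun_one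
    have h1 := hval h hh
    rw [hprod, Pi.mul_apply, hScard] at h1
    exact mul_right_cancel₀ hne h1
  -- (g) `χ` vanishes outside `F`
  have hvan : ∀ g : G, g ∉ F → (χ : G → ℂ) g = 0 := by
    intro g hg
    have hg' : g ∈ H ⊔ F := by rw [sup_comm, hFH]; exact Subgroup.mem_top g
    obtain ⟨h, hh, f, hf, rfl⟩ := Subgroup.mem_sup_of_normal_right.mp hg'
    rw [IsCharacter.mul_mem_ker hχc h f (hF f hf)]
    by_contra hne
    apply hg
    exact F.mul_mem (hcore (hvanH h hh hne)) hf
  -- (h) `[χ, 1] ≠ 0`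
  have hsum : ∑ g : G, (χ : G → ℂ) g
      = ((Finset.univ.filter (fun g : G => g ∈ F)).card : ℂ) * (χ : G → ℂ) 1 := by
    rw [← Finset.sum_filter_add_sum_filter_not Finset.univ (fun g : G => g ∈ F)]
    rw [Finset.sum_eq_zero (s := Finset.univ.filter (fun g : G => ¬ g ∈ F)) (fun g hg =>
      hvan g (Finset.mem_filter.mp hg).2), add_zero]
    rw [Finset.sum_congr rfl (g := fun _ => (χ : G → ℂ) 1) (fun g hg =>
      hF g (Finset.mem_filter.mp hg).2)]
    rw [Finset.sum_const, nsmul_eq_mul]
  have hcardF : ((Finset.univ.filter (fun g : G => g ∈ F)).card : ℂ) ≠ 0 := by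
    have h1 : (1 : G) ∈ Finset.univ.filter (fun g : G => g ∈ F) :=
      Finset.mem_filter.mpr ⟨Finset.mem_univ _, F.one_mem⟩
    have h2 : (Finset.univ.filter (fun g : G => g ∈ F)).card ≠ 0 :=
      Finset.card_ne_zero.mpr ⟨1, h1⟩
    exact_mod_cast h2
  set one' : IrrCharacter G := ⟨fun _ => (1 : ℂ), isIrrCharacter_one G⟩ with hone'
  have hinner : classInner (χ : G → ℂ) (one' : G → ℂ) ≠ 0 := by
    rw [classInner_apply]
    have h1 : ∑ g : G, (χ : G → ℂ) g * conj ((one' : G → ℂ) g) = ∑ g : G, (χ : G → ℂ) g := by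
      apply Finset.sum_congr rfl
      intro g _
      simp [hone']
    rw [h1, hsum]
    have hG0 : (Nat.card G : ℂ) ≠ 0 := by
      have : Nat.card G ≠ 0 := Nat.card_pos.ne'
      exact_mod_cast this
    exact mul_ne_zero (inv_ne_zero hG0) (mul_ne_zero hcardF hχ1)
  have hχone : χ = one' := by
    by_contra hne
    exact hinner (Helper74.irr_inner_ne hne)
  -- an element outside `F`
  obtain ⟨g, hg⟩ : ∃ g : G, g ∉ F := by
    by_contra hno
    push Not at hno
    exact hFtop (eq_top_iff.mpr fun g _ => hno g)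
  have h0 := hvan g hg
  rw [hχone] at h0
  simp [hone'] at h0

end Cfsg.Agent.Helper81
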