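import Mathlib
import Cfsg.Prelude.Def_Solvable
import Cfsg.Agent.S0070
import Cfsg.Agent.S0575
import Cfsg.Agent.Helper2.Basic
import Cfsg.Agent.Helper21.Fitting
import Cfsg.Agent.Lib.Cores

/-!
# Broline–Garrison, part 4: supplements of the Fitting subgroup modulo the Frattini subgroup

* `exists_supplement_mod_frattini`: a normal subgroup `F ≥ Φ(G)` with `F/Φ(G)` abelian has a
  supplement `H` with `F ∩ H ≤ Φ(G)`;
* `frattini_le_fittingSubgroup`, `commutator_fitting_le_frattini`;
* `normalCore_le_fittingSubgroup`: in a solvable group, a supplement `H` of `F(G)` with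
  `F(G) ∩ H ≤ Φ(G)` has its core inside `F(G)`;
* `exists_supplement_fitting`: the combination.
-/

set_option autoImplicit false
set_option linter.unusedSectionVars false
set_option linter.style.haveILetI false

namespace Cfsg.Agent.Helper81

open Cfsg
open scoped commutatorElement

variable {G : Type*} [Group G] [Finite G]

theorem exists_supplement_mod_frattini (F : Subgroup G) [hFn : F.Normal]
    (hΦF : frattini G ≤ F) (hab : ⁅F, F⁆ ≤ frattini G) :
    ∃ H : Subgroup G, F ⊔ H = ⊤ ∧ F ⊓ H ≤ frattini G := by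
  classical
  obtain ⟨H, hHmin⟩ := exists_minimal_of_wellFoundedLT
    (fun H : Subgroup G => frattini G ≤ H ∧ F ⊔ H = ⊤) ⟨⊤, le_top, sup_top_eq _⟩
  obtain ⟨hΦH, hFH⟩ := hHmin.prop
  refine ⟨H, hFH, ?_⟩
  set D := F ⊓ H with hD
  have hΦD : frattini G ≤ D := le_inf hΦF hΦH
  -- `D` is normal in `G`
  have hDn : D.Normal := by
    constructor
    intro d hd g
    have hg : g ∈ F ⊔ H := hFH ▸ Subgroup.mem_top g
    obtain ⟨f, hf, h, hh, rfl⟩ := Subgroup.mem_sup_of_normal_left.mp hg
    have h1 : h * d * h⁻¹ ∈ D :=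
      ⟨hFn.conj_mem d hd.1 h, H.mul_mem (H.mul_mem hh hd.2) (H.inv_mem hh)⟩
    have h2 : ⁅f, h * d * h⁻¹⁆ ∈ D :=
      hΦD (hab (Subgroup.commutator_mem_commutator hf h1.1))
    have h3 : f * h * d * (f * h)⁻¹ = ⁅f, h * d * h⁻¹⁆ * (h * d * h⁻¹) := by
      rw [commutatorElement_def]; group
    rw [h3]
    exact D.mul_mem h2 h1
  by_contra hDΦ
  have hex : ∃ M : Subgroup G, IsCoatom M ∧ ¬ D ≤ M := by
    by_contra hno
    push Not at hno
    apply hDΦ
    unfold frattini Order.radical
    simp only [le_iInf_iff]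
    exact hno
  obtain ⟨M, hM, hDM⟩ := hex
  have hDMtop : D ⊔ M = ⊤ := by
    apply hM.2
    refine lt_of_le_of_ne le_sup_right ?_
    intro h
    apply hDM
    rw [h]; exact le_sup_left
  have hΦM : frattini G ≤ M := frattini_le_coatom hM
  have hpred : frattini G ≤ H ⊓ M ∧ F ⊔ (H ⊓ M) = ⊤ := by
    refine ⟨le_inf hΦH hΦM, ?_⟩
    rw [eq_top_iff, ← hFH]
    apply sup_le le_sup_left
    intro h hh
    have h1 : h ∈ D ⊔ M := hDMtop ▸ Subgroup.mem_top h
    obtain ⟨d, hd, m, hm, rfl⟩ := Subgroup.mem_sup_of_normal_left.mp h1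
    have hmH : m ∈ H := by
      have := H.mul_mem (H.inv_mem hd.2) hh
      simpa using this
    exact Subgroup.mul_mem_sup hd.1 ⟨hmH, hm⟩
  have hle : H ≤ H ⊓ M := hHmin.le_of_le hpred inf_le_left
  exact hDM (inf_le_right.trans (hle.trans inf_le_right))

theorem frattini_le_fittingSubgroup : frattini G ≤ fittingSubgroup G :=
  le_sSup ⟨inferInstance, frattini_nilpotent⟩

theorem commutator_fitting_le_frattini :
    ⁅fittingSubgroup G, fittingSubgroup G⁆ ≤ frattini G := by
  haveI : (fittingSubgroup G).Normal := Helper21.fittingSubgroup_normal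
  haveI : Group.IsNilpotent (fittingSubgroup G) := Lib.isNilpotent_fittingSubgroup
  have h1 : commutator (fittingSubgroup G) ≤ frattini (fittingSubgroup G) :=
    Helper2.commutator_le_frattini
  have h2 := S0575.result (fittingSubgroup G)
  rw [← Subgroup.map_subtype_commutator]
  exact (Subgroup.map_mono h1).trans h2

theorem normalCore_le_fittingSubgroup (hsolv : Group.IsSolvable G) (H : Subgroup G)
    (hH : fittingSubgroup G ⊓ H ≤ frattini G) : H.normalCore ≤ fittingSubgroup G := by
  haveI : (fittingSubgroup G).Normal := Helper21.fittingSubgroup_normal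
  set F := fittingSubgroup G with hF
  set Φ := frattini G with hΦ
  set C := H.normalCore with hC
  have hCF : ⁅C, F⁆ ≤ Φ := by
    refine le_trans ?_ hH
    refine le_inf ?_ ?_
    · exact Subgroup.commutator_le_right C F
    · exact (Subgroup.commutator_le_left C F).trans (Subgroup.normalCore_le H)
  set mk := QuotientGroup.mk' Φ with hmk
  have hsurj : Function.Surjective mk := QuotientGroup.mk'_surjective Φ
  have hCn : (C.map mk).Normal := Subgroup.Normal.map inferInstance mk hsurj
  haveI := hsolv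
  have hsolvQ : Group.IsSolvable (G ⧸ Φ) := inferInstance
  have hCs : Group.IsSolvable (C.map mk) := inferInstance
  have hfit : fittingSubgroup (G ⧸ Φ) = F.map mk := S0070.result
  have hcent : C.map mk ≤ Subgroup.centralizer ((fittingSubgroup (G ⧸ Φ) : Subgroup (G ⧸ Φ)) : Set (G ⧸ Φ)) := by
    rw [hfit]
    rintro _ ⟨c, hc, rfl⟩
    rw [Subgroup.mem_centralizer_iff]
    rintro _ ⟨f, hf, rfl⟩
    rw [← map_mul, ← map_mul]
    rw [hmk, QuotientGroup.mk'_apply, QuotientGroup.mk'_apply, QuotientGroup.eq]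
    have h1 : ⁅c⁻¹, f⁻¹⁆ ∈ Φ := hCF (Subgroup.commutator_mem_commutator (C.inv_mem hc) (F.inv_mem hf))
    have h2 : (f * c)⁻¹ * (c * f) = ⁅c⁻¹, f⁻¹⁆ := by
      rw [commutatorElement_def]; group
    rw [h2]; exact h1
  have hle := Helper21.le_fittingSubgroup_of_isSolvable_of_le_centralizer (Nat.card (C.map mk))
    (C.map mk) le_rfl hCn hCs hcent
  rw [hfit] at hle
  intro c hc
  obtain ⟨f, hf, hfc⟩ := hle (Subgroup.mem_map_of_mem mk hc)
  rw [hmk, QuotientGroup.mk'_apply, QuotientGroup.mk'_apply, QuotientGroup.eq] at hfc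
  have h3 : f⁻¹ * c ∈ F := frattini_le_fittingSubgroup hfc
  have := F.mul_mem hf h3
  simpa using this

/-- In a finite solvable group, the Fitting subgroup has a supplement whose core lies in it. -/
theorem exists_supplement_fitting (hsolv : Group.IsSolvable G) :
    ∃ H : Subgroup G, fittingSubgroup G ⊔ H = ⊤ ∧ H.normalCore ≤ fittingSubgroup G := by
  haveI : (fittingSubgroup G).Normal := Helper21.fittingSubgroup_normal
  obtain ⟨H, h1, h2⟩ := exists_supplement_mod_frattini (fittingSubgroup G)
    frattini_le_fittingSubgroup commutator_fitting_le_frattini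
  exact ⟨H, h1, normalCore_le_fittingSubgroup hsolv H h2⟩

end Cfsg.Agent.Helper81
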