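import Mathlib
import Cfsg.Prelude.Def_Blocks
import Cfsg.Prelude.Def_Solvable
import Cfsg.Agent.Helper81.BG2
import Cfsg.Agent.Helper81.BG3
import Cfsg.Agent.Helper81.BG4

/-!
# The Broline–Garrison theorem (Isaacs 12.19)

`broline_garrison`: `χ ∈ Irr(G)`, `K = ker χ`.  If `K ≰ F(G)`, or `K = F(G) < G` with `G/K`
solvable, then some `ψ ∈ Irr(G)` has `ψ(1) > χ(1)` and `ker ψ < K`.

`charDegree_lt_of_fitting_le_ker`: in a solvable non-nilpotent group every irreducible character
with `F(G)` in its kernel has a degree smaller than another irreducible degree.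
-/

set_option autoImplicit false
set_option linter.unusedSectionVars false
set_option linter.style.haveILetI false

namespace Cfsg.Agent.Helper81

open Cfsg Cfsg.Agent.Helper15 Cfsg.Agent.Helper80

universe u

variable {G : Type u} [Group G] [Fintype G]

/-- Descend along kernels with the non-nilpotent case until the kernel is inside `F(G)`. -/
theorem exists_larger_iterate (χ : IrrCharacter G) (K : Subgroup G)
    (hKF : K = fittingSubgroup G) :
    ∀ (n : ℕ) (ψ : IrrCharacter G),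
      Nat.card (kerChar (ψ : G → ℂ) (Helper74.irr_isCharacter ψ)) ≤ n →
      charDegree (χ : G → ℂ) < charDegree (ψ : G → ℂ) →
      (∃ f ∈ K, (ψ : G → ℂ) f ≠ (ψ : G → ℂ) 1) →
      ∃ ψ' : IrrCharacter G, charDegree (χ : G → ℂ) < charDegree (ψ' : G → ℂ) ∧
        ∃ L : Subgroup G, (∀ g, g ∈ L ↔ (ψ' : G → ℂ) g = (ψ' : G → ℂ) 1) ∧ L < K := by
  intro n
  induction n with
  | zero =>
    intro ψ hcard
    have : 0 < Nat.card (kerChar (ψ : G → ℂ) (Helper74.irr_isCharacter ψ)) := Nat.card_pos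
    omega
  | succ n ih =>
    intro ψ hcard hlt hex
    have hψc := Helper74.irr_isCharacter ψ
    set D := kerChar (ψ : G → ℂ) hψc with hD
    obtain ⟨f, hfK, hfψ⟩ := hex
    have hfD : f ∉ D := fun h => hfψ ((mem_kerChar hψc f).mp h)
    by_cases hDF : D ≤ fittingSubgroup G
    · refine ⟨ψ, hlt, D, fun g => mem_kerChar hψc g, ?_⟩
      rw [hKF]
      refine lt_of_le_of_ne hDF ?_
      intro heq
      apply hfD
      rw [heq, ← hKF]; exact hfK
    · obtain ⟨ψ₂, hlt₂, L, hL, hLD⟩ := exists_larger_of_not_le_fitting ψ D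
        (fun g => mem_kerChar hψc g) hDF
      have hψ₂c := Helper74.irr_isCharacter ψ₂
      have hLeq : kerChar (ψ₂ : G → ℂ) hψ₂c = L := by
        ext g
        rw [mem_kerChar, hL]
      apply ih ψ₂
      · rw [hLeq]
        have h1 := Helper21.card_lt_card_of_lt hLD
        omega
      · omega
      · refine ⟨f, hfK, ?_⟩
        intro h
        exact hfD (hLD.le ((hL f).mpr h))

/-- **Broline–Garrison**, the case `ker χ = F(G) < G` with `G / F(G)` solvable. -/
theorem exists_larger_of_eq_fitting (χ : IrrCharacter G) (K : Subgroup G) [hKn : K.Normal]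
    (hK : ∀ g, g ∈ K ↔ (χ : G → ℂ) g = (χ : G → ℂ) 1)
    (hKF : K = fittingSubgroup G) (hsolv : Group.IsSolvable (G ⧸ K)) (hKtop : K ≠ ⊤) :
    ∃ ψ : IrrCharacter G, charDegree (χ : G → ℂ) < charDegree (ψ : G → ℂ) ∧
      ∃ L : Subgroup G, (∀ g, g ∈ L ↔ (ψ : G → ℂ) g = (ψ : G → ℂ) 1) ∧ L < K := by
  haveI : Group.IsNilpotent K := by rw [hKF]; exact Lib.isNilpotent_fittingSubgroup
  haveI := hsolv
  have hGsolv : Group.IsSolvable G :=
    Group.isSolvable_of_ker_le_range K.subtype (QuotientGroup.mk' K)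
      (by rw [QuotientGroup.ker_mk', Subgroup.range_subtype])
  obtain ⟨H, hFH, hcore⟩ := exists_supplement_fitting hGsolv
  rw [← hKF] at hFH hcore
  obtain ⟨ψ, hlt, f, hf, hfψ⟩ := exists_larger_of_core_le χ K H
    (fun f hf => (hK f).mp hf) hFH hcore hKtop
  exact exists_larger_iterate χ K hKF _ ψ le_rfl hlt ⟨f, hf, hfψ⟩

/-- **The Broline–Garrison theorem.** -/
theorem broline_garrison (χ : IrrCharacter G) (K : Subgroup G) [K.Normal]
    (hK : ∀ g, g ∈ K ↔ (χ : G → ℂ) g = (χ : G → ℂ) 1)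
    (h : ¬ K ≤ fittingSubgroup G ∨
      (K = fittingSubgroup G ∧ Group.IsSolvable (G ⧸ K) ∧ K ≠ ⊤)) :
    ∃ ψ : IrrCharacter G, charDegree (χ : G → ℂ) < charDegree (ψ : G → ℂ) ∧
      ∃ L : Subgroup G, (∀ g, g ∈ L ↔ (ψ : G → ℂ) g = (ψ : G → ℂ) 1) ∧ L < K := by
  rcases h with h | ⟨h1, h2, h3⟩
  · exact exists_larger_of_not_le_fitting χ K hK h
  · exact exists_larger_of_eq_fitting χ K hK h1 h2 h3

end Cfsg.Agent.Helper81
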