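import Mathlib
import Cfsg.Prelude.Def_Blocks
import Cfsg.Prelude.Def_Solvable
import Cfsg.Agent.Helper81.BG5

/-!
# Garrison's theorem: the nilpotent length of a solvable group is at most `|cd(G)|`

`HasNilChain G k`: there is a chain `1 = N₀ ≤ ⋯ ≤ N_k = G` of normal subgroups with nilpotent
factors (in the shape of statement S4462).
-/

set_option autoImplicit false
set_option linter.unusedSectionVars false
set_option linter.style.haveILetI false

namespace Cfsg.Agent.Helper81

open Cfsg Cfsg.Agent.Helper15 Cfsg.Agent.Helper80

universe u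

/-- A normal series of length `k` with nilpotent factors. -/
def HasNilChain (G : Type u) [Group G] (k : ℕ) : Prop :=
  ∃ N : Fin (k + 1) → Subgroup G, N 0 = ⊥ ∧ N (Fin.last k) = ⊤ ∧ Monotone N ∧
    (∀ i, (N i).Normal) ∧
    ∀ i : Fin k, ∀ h : (N i.castSucc).subgroupOf (N i.succ) |>.Normal,
      Group.IsNilpotent (↥(N i.succ) ⧸ (N i.castSucc).subgroupOf (N i.succ))

/-- A nilpotent group has such chains of every positive length. -/
theorem hasNilChain_of_isNilpotent (G : Type u) [Group G] [hG : Group.IsNilpotent G] (k : ℕ) :
    HasNilChain G (k + 1) := by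
  refine ⟨Fin.cons ⊥ (fun _ => ⊤), ?_, ?_, ?_, ?_, ?_⟩
  · rfl
  · rw [← Fin.succ_last, Fin.cons_succ]
  · intro i j hij
    induction i using Fin.cases with
    | zero => exact bot_le
    | succ i =>
      induction j using Fin.cases with
      | zero => exact absurd hij (by simp)
      | succ j => rw [Fin.cons_succ, Fin.cons_succ]
  · intro i
    induction i using Fin.cases with
    | zero => exact (inferInstance : (⊥ : Subgroup G).Normal)
    | succ i => rw [Fin.cons_succ]; infer_instance
  · intro i h
    infer_instance

/-- Pulling back a nilpotent factor along a surjection. -/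
theorem isNilpotent_quotient_comap {G Q : Type u} [Group G] [Group Q] (f : G →* Q)
    (A B : Subgroup Q) [hA : (A.subgroupOf B).Normal]
    (hnil : Group.IsNilpotent (↥B ⧸ A.subgroupOf B))
    [hA' : ((A.comap f).subgroupOf (B.comap f)).Normal] :
    Group.IsNilpotent (↥(B.comap f) ⧸ (A.comap f).subgroupOf (B.comap f)) := by
  set φ : ↥(B.comap f) →* ↥B := f.subgroupComap B with hφ
  have hcomap : (A.subgroupOf B).comap φ = (A.comap f).subgroupOf (B.comap f) := by
    ext x
    rfl
  have hle : (A.comap f).subgroupOf (B.comap f) ≤ (A.subgroupOf B).comap φ := hcomap.ge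
  set Φ := QuotientGroup.map ((A.comap f).subgroupOf (B.comap f)) (A.subgroupOf B) φ hle with hΦ
  have hker : Φ.ker = ⊥ := by
    rw [hΦ, QuotientGroup.ker_map, hcomap, QuotientGroup.map_mk'_self]
  exact Subgroup.isNilpotent_of_ker_le_center Φ (by rw [hker]; exact bot_le)

/-- Lifting a chain from a quotient by a nilpotent normal subgroup. -/
theorem hasNilChain_of_quotient {G : Type u} [Group G] (F : Subgroup G) [hFn : F.Normal]
    (hF : Group.IsNilpotent F) (k : ℕ) (h : HasNilChain (G ⧸ F) k) : HasNilChain G (k + 1) := by
  obtain ⟨N, h0, hlast, hmono, hnormal, hquot⟩ := h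
  set mk := QuotientGroup.mk' F with hmk
  refine ⟨Fin.cons ⊥ (fun i => (N i).comap mk), ?_, ?_, ?_, ?_, ?_⟩
  · rfl
  · rw [← Fin.succ_last, Fin.cons_succ, hlast, Subgroup.comap_top]
  · intro i j hij
    induction i using Fin.cases with
    | zero => exact bot_le
    | succ i =>
      induction j using Fin.cases with
      | zero => exact absurd hij (by simp)
      | succ j =>
        rw [Fin.cons_succ, Fin.cons_succ]
        exact Subgroup.comap_mono (hmono (Fin.succ_le_succ_iff.mp hij))
  · intro i
    induction i using Fin.cases with
    | zero => exact (inferInstance : (⊥ : Subgroup G).Normal)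
    | succ i =>
      rw [Fin.cons_succ]
      haveI := hnormal i
      infer_instance
  · intro i
    induction i using Fin.cases with
    | zero =>
      intro h
      have h1 : (Fin.cons ⊥ (fun i => (N i).comap mk) : Fin (k + 2) → Subgroup G)
          (Fin.succ (0 : Fin (k + 1))) = F := by
        rw [Fin.cons_succ, h0, MonoidHom.comap_bot, hmk, QuotientGroup.ker_mk']
      have h2 : Group.IsNilpotent ↥((Fin.cons ⊥ (fun i => (N i).comap mk) :
          Fin (k + 2) → Subgroup G) (Fin.succ (0 : Fin (k + 1)))) := by
        rw [h1]; exact hF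
      infer_instance
    | succ j =>
      intro h
      have hq := hquot j
      have e1 : (Fin.cons ⊥ (fun i => (N i).comap mk) : Fin (k + 2) → Subgroup G)
          (Fin.succ j).castSucc = (N j.castSucc).comap mk := by
        rw [← Fin.succ_castSucc, Fin.cons_succ]
      have e2 : (Fin.cons ⊥ (fun i => (N i).comap mk) : Fin (k + 2) → Subgroup G)
          (Fin.succ j).succ = (N j.succ).comap mk := by
        rw [Fin.cons_succ]
      revert h
      rw [e1, e2]
      intro h
      haveI : ((N j.castSucc).subgroupOf (N j.succ)).Normal := by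
        haveI := hnormal j.castSucc
        infer_instance
      exact isNilpotent_quotient_comap mk (N j.castSucc) (N j.succ) (hq inferInstance)

end Cfsg.Agent.Helper81
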