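import Mathlib
import Cfsg.Prelude.Def_Blocks
import Cfsg.Prelude.Def_Solvable
import Cfsg.Agent.Helper81.BG6

/-!
# Garrison's theorem, the induction

* `cdSet G`: the set of irreducible character degrees;
* `exists_degree_not_in_quotient`: for `G` solvable, not nilpotent, some degree of `G` is not a
  degree of `G / F(G)` (Broline–Garrison);
* `garrison`: a solvable group has a normal series with nilpotent factors of length `|cd(G)|`.
-/

set_option autoImplicit false
set_option linter.unusedSectionVars false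
set_option linter.style.haveILetI false

namespace Cfsg.Agent.Helper81

open Cfsg Cfsg.Agent.Helper15 Cfsg.Agent.Helper80

universe u

/-- The set of irreducible character degrees. -/
def cdSet (G : Type u) [Group G] : Set ℕ :=
  {d | ∃ χ : IrrCharacter G, charDegree (χ : G → ℂ) = d}

theorem cdSet_finite (G : Type u) [Group G] [Finite G] : (cdSet G).Finite := by
  haveI := Helper74.irr_finite (G := G)
  have h : cdSet G = Set.range (fun χ : IrrCharacter G => charDegree (χ : G → ℂ)) := by
    ext d
    simp [cdSet]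
  rw [h]
  exact Set.finite_range _

theorem cdSet_nonempty (G : Type u) [Group G] : (cdSet G).Nonempty :=
  ⟨_, ⟨⟨fun _ => (1 : ℂ), isIrrCharacter_one G⟩, rfl⟩⟩

theorem cdSet_quotient_subset {G : Type u} [Group G] (F : Subgroup G) [F.Normal] :
    cdSet (G ⧸ F) ⊆ cdSet G := by
  rintro d ⟨χ, rfl⟩
  refine ⟨⟨fun g => (χ : G ⧸ F → ℂ) (QuotientGroup.mk' F g),
    IsIrrCharacter.comp_surjective χ.2 _ (QuotientGroup.mk'_surjective F)⟩, ?_⟩
  simp [charDegree]

theorem exists_degree_not_in_quotient {G : Type u} [Group G] [Finite G]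
    (hsolv : Group.IsSolvable G) (hF : fittingSubgroup G ≠ ⊤)
    [hFn : (fittingSubgroup G).Normal] :
    ∃ d ∈ cdSet G, d ∉ cdSet (G ⧸ fittingSubgroup G) := by
  classical
  have := Fintype.ofFinite G
  haveI := Helper74.irr_finite (G := G)
  haveI : Nonempty (IrrCharacter G) := ⟨⟨fun _ => (1 : ℂ), isIrrCharacter_one G⟩⟩
  obtain ⟨χ₀, hmax⟩ := Finite.exists_max (fun χ : IrrCharacter G => charDegree (χ : G → ℂ))
  refine ⟨charDegree (χ₀ : G → ℂ), ⟨χ₀, rfl⟩, ?_⟩
  rintro ⟨χb, hχb⟩
  set F := fittingSubgroup G with hFdef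
  set χ : IrrCharacter G := ⟨fun g => (χb : G ⧸ F → ℂ) (QuotientGroup.mk' F g),
    IsIrrCharacter.comp_surjective χb.2 _ (QuotientGroup.mk'_surjective F)⟩ with hχ
  have hdeg : charDegree (χ : G → ℂ) = charDegree (χ₀ : G → ℂ) := by
    rw [← hχb]
    simp [charDegree, hχ]
  have hχc := Helper74.irr_isCharacter χ
  set K := kerChar (χ : G → ℂ) hχc with hK
  have hFK : F ≤ K := by
    intro f hf
    rw [hK, mem_kerChar]
    have h1 : (QuotientGroup.mk' F f : G ⧸ F) = 1 := (QuotientGroup.eq_one_iff f).mpr hf
    simp only [hχ, h1, map_one]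
  haveI := hsolv
  have key : ¬ K ≤ fittingSubgroup G ∨
      (K = fittingSubgroup G ∧ Group.IsSolvable (G ⧸ K) ∧ K ≠ ⊤) := by
    by_cases hKF : K ≤ fittingSubgroup G
    · right
      have heq : K = fittingSubgroup G := le_antisymm hKF hFK
      exact ⟨heq, inferInstance, by rw [heq]; exact hF⟩
    · left; exact hKF
  obtain ⟨ψ, hlt, -⟩ := broline_garrison χ K (fun g => mem_kerChar hχc g) key
  have := hmax ψ
  omega

theorem fittingSubgroup_ne_bot {G : Type u} [Group G] [Finite G] (hsolv : Group.IsSolvable G)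
    (hF : fittingSubgroup G ≠ ⊤) : fittingSubgroup G ≠ ⊥ := by
  intro hbot
  apply hF
  rw [eq_top_iff]
  haveI := hsolv
  apply Helper21.le_fittingSubgroup_of_isSolvable_of_le_centralizer (Nat.card (⊤ : Subgroup G)) ⊤
    le_rfl inferInstance inferInstance
  rw [hbot]
  intro g _
  rw [Subgroup.mem_centralizer_iff]
  intro h hh
  rw [Subgroup.mem_bot.mp hh]
  simp

theorem garrison_aux : ∀ (m : ℕ) (G : Type u) [Group G] [Finite G], Nat.card G ≤ m →
    Group.IsSolvable G → ∀ k : ℕ, (cdSet G).ncard ≤ k → HasNilChain G k := by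
  intro m
  induction m with
  | zero =>
    intro G _ _ hcard
    have : 0 < Nat.card G := Nat.card_pos
    omega
  | succ m ih =>
    intro G _ _ hcard hsolv k hk
    have hpos : 0 < (cdSet G).ncard := (Set.ncard_pos (cdSet_finite G)).mpr (cdSet_nonempty G)
    obtain ⟨k', rfl⟩ : ∃ k', k = k' + 1 := ⟨k - 1, by omega⟩
    by_cases hF : fittingSubgroup G = ⊤
    · haveI : Group.IsNilpotent G := by
        have h1 : Group.IsNilpotent (fittingSubgroup G) := Lib.isNilpotent_fittingSubgroup
        rw [hF] at h1
        exact Group.nilpotent_of_mulEquiv Subgroup.topEquiv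
      exact hasNilChain_of_isNilpotent G k'
    · haveI : (fittingSubgroup G).Normal := Helper21.fittingSubgroup_normal
      apply hasNilChain_of_quotient (fittingSubgroup G) Lib.isNilpotent_fittingSubgroup k'
      haveI := hsolv
      apply ih (G ⧸ fittingSubgroup G)
      · have hFbot := fittingSubgroup_ne_bot hsolv hF
        have h1 := Subgroup.card_eq_card_quotient_mul_card_subgroup (fittingSubgroup G)
        have h2 : 1 < Nat.card (fittingSubgroup G) :=
          (Subgroup.one_lt_card_iff_ne_bot _).mpr hFbot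
        have h3 : 0 < Nat.card (G ⧸ fittingSubgroup G) := Nat.card_pos
        nlinarith
      · infer_instance
      · obtain ⟨d₀, hd₀, hd₀'⟩ := exists_degree_not_in_quotient hsolv hF
        have hsub : cdSet (G ⧸ fittingSubgroup G) ⊆ cdSet G \ {d₀} := by
          intro d hd
          refine ⟨cdSet_quotient_subset _ hd, ?_⟩
          intro h
          rw [Set.mem_singleton_iff] at h
          exact hd₀' (h ▸ hd)
        calc (cdSet (G ⧸ fittingSubgroup G)).ncard ≤ (cdSet G \ {d₀}).ncard :=
              Set.ncard_le_ncard hsub ((cdSet_finite G).sdiff)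
          _ = (cdSet G).ncard - 1 := Set.ncard_sdiff_singleton_of_mem hd₀
          _ ≤ k' := by omega

/-- **Garrison's theorem.** -/
theorem garrison {G : Type u} [Group G] [Finite G] (hsolv : Group.IsSolvable G) :
    HasNilChain G (cdSet G).ncard :=
  garrison_aux (Nat.card G) G le_rfl hsolv _ le_rfl

end Cfsg.Agent.Helper81
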