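import Mathlib
import Cfsg.Agent.Helper53.CHMDefs

/-!
# Cossey-Hawkes-Mann (S4139), piece (EF)

If `G` has at least `|G|_{p'}` elements of `p'`-order centralizing a Sylow `p`-subgroup, then the
Sylow `p`-subgroup is normal: the pairs `(v, u)`, `v ∈ Wp`, `u ∈ P_v` map injectively (hence
bijectively) to `G` by `(v, u) ↦ v u`.
-/

set_option autoImplicit false
set_option linter.style.haveILetI false

namespace Cfsg.Agent.Helper81.CHMEF

open Cfsg.Agent.Helper53.CHM

theorem sylow_normal_of_le_card_Wp {G : Type*} [Group G] [Finite G] (p : ℕ) [Fact p.Prime]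
    (h : Nat.card G / p ^ (Nat.card G).factorization p ≤ Nat.card (Wp G p)) (P : Sylow p G) :
    (P : Subgroup G).Normal := by
  classical
  have hp : p.Prime := Fact.out
  set n := Nat.card G with hn
  set N := p ^ n.factorization p with hN
  set m := n / N with hm
  have hn0 : n ≠ 0 := Nat.card_pos.ne'
  have hNm : N * m = n := Nat.ordProj_mul_ordCompl_eq_self n p
  have hcop : Nat.Coprime N m := (Nat.coprime_ordCompl hp hn0).pow_left _
  have hN0 : 0 < N := pos_of_ne_zero (pow_ne_zero _ hp.ne_zero)
  -- the exponent `e ≡ 0 mod N`, `e ≡ 1 mod m`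
  obtain ⟨e, he0, he1⟩ := Nat.chineseRemainder hcop 0 1
  have hNe : N ∣ e := (Nat.modEq_zero_iff_dvd).mp he0
  have hcardSyl : ∀ Q : Sylow p G, Nat.card Q = N := fun Q => Q.card_eq_multiplicity
  haveI : Fintype (Wp G p) := Fintype.ofFinite _
  -- choose a Sylow subgroup for each `v`
  choose Pv hPv using fun v : Wp G p => v.2.2
  -- key computation
  have key : ∀ (v : Wp G p) (u : G), u ∈ (Pv v : Subgroup G) → ((v : G) * u) ^ e = (v : G) := by
    intro v u hu
    have hcomm : Commute (v : G) u := by
      have := hPv v hu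
      rw [Subgroup.mem_centralizer_iff] at this
      exact this (v : G) rfl
    have hu1 : u ^ N = 1 := by
      have := pow_card_eq_one' (G := (Pv v : Subgroup G)) (x := ⟨u, hu⟩)
      rw [hcardSyl] at this
      simpa using congrArg Subtype.val this
    have hue : u ^ e = 1 := by
      obtain ⟨k, rfl⟩ := hNe
      rw [pow_mul, hu1, one_pow]
    have hv1 : (v : G) ^ m = 1 := v.2.1
    have hve : (v : G) ^ e = (v : G) := by
      have hmod : e ≡ 1 [MOD orderOf (v : G)] := he1.of_dvd (orderOf_dvd_of_pow_eq_one hv1)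
      have := (pow_eq_pow_iff_modEq (x := (v : G))).mpr hmod
      rw [this, pow_one]
    rw [hcomm.mul_pow, hve, hue, mul_one]
  -- the map
  let Φ : (Σ v : Wp G p, (Pv v : Subgroup G)) → G := fun x => (x.1 : G) * (x.2 : G)
  have hΦinj : Function.Injective Φ := by
    rintro ⟨v, u⟩ ⟨v', u'⟩ hvu
    have hvu' : (v : G) * (u : G) = (v' : G) * (u' : G) := hvu
    have h1 : (v : G) = (v' : G) := by
      rw [← key v u u.2, ← key v' u' u'.2, hvu']
    have h2 : v = v' := Subtype.ext h1
    subst h2
    have h3 : (u : G) = (u' : G) := mul_left_cancel hvu'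
    have h4 : u = u' := Subtype.ext h3
    subst h4
    rfl
  have hcardSigma : Nat.card (Σ v : Wp G p, (Pv v : Subgroup G)) = Nat.card (Wp G p) * N := by
    rw [Nat.card_sigma]
    simp only [hcardSyl]
    rw [Finset.sum_const, Finset.card_univ, smul_eq_mul, Nat.card_eq_fintype_card]
  have hle : Nat.card (Wp G p) * N ≤ N * m := by
    rw [← hcardSigma, hNm]
    exact Nat.card_le_card_of_injective Φ hΦinj
  have hWle : Nat.card (Wp G p) ≤ m := by
    rw [mul_comm] at hle
    exact Nat.le_of_mul_le_mul_left hle hN0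
  have hWeq : Nat.card (Wp G p) = m := le_antisymm hWle h
  have hΦbij : Function.Bijective Φ := by
    apply hΦinj.bijective_of_nat_card_le
    rw [hcardSigma, hWeq, mul_comm, hNm]
  -- `1 ∈ Wp`
  have h1W : (1 : G) ∈ Wp G p := by
    refine ⟨one_pow _, ?_⟩
    obtain ⟨Q⟩ : Nonempty (Sylow p G) := inferInstance
    refine ⟨Q, fun x _ => ?_⟩
    rw [Subgroup.mem_centralizer_iff]
    intro y hy
    rw [Set.mem_singleton_iff] at hy
    rw [hy, one_mul, mul_one]
  -- every Sylow subgroup is `Pv 1`
  have hall : ∀ Q : Sylow p G, Q = Pv ⟨1, h1W⟩ := by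
    intro Q
    have hQle : (Q : Subgroup G) ≤ (Pv ⟨1, h1W⟩ : Subgroup G) := by
      intro g hg
      obtain ⟨⟨v, u⟩, hvu⟩ := hΦbij.2 g
      have hvu' : (v : G) * (u : G) = g := hvu
      have hg1 : g ^ N = 1 := by
        have := pow_card_eq_one' (G := (Q : Subgroup G)) (x := ⟨g, hg⟩)
        rw [hcardSyl] at this
        simpa using congrArg Subtype.val this
      have hge : g ^ e = 1 := by
        obtain ⟨k, rfl⟩ := hNe
        rw [pow_mul, hg1, one_pow]
      have hv : (v : G) = 1 := by
        rw [← key v u u.2, hvu', hge]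
      have hv' : v = ⟨1, h1W⟩ := Subtype.ext hv
      subst hv'
      rw [← hvu']
      simp only [one_mul]
      exact u.2
    have := Q.is_maximal' (Pv ⟨1, h1W⟩).isPGroup' hQle
    exact Sylow.ext this.symm
  haveI : Subsingleton (Sylow p G) := ⟨fun Q Q' => (hall Q).trans (hall Q').symm⟩
  exact Sylow.normal_of_subsingleton P

end Cfsg.Agent.Helper81.CHMEF
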