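import Cfsg.Agent.Helper19.CT.Simple
import Cfsg.Agent.Helper40.StMono

/-!
helper19's CT farm (S1164, Curtis–Tits presentation, #15616), leaf (PARAM): `exists_param_of` — parametrization of
the root subgroups of a family `Fam` by `piCT`.
-/

set_option autoImplicit false
set_option linter.unusedSectionVars false
set_option linter.unusedVariables false

namespace Cfsg.Agent.Helper81.CT

open Cfsg Cfsg.Lie Cfsg.Agent.Helper18 Cfsg.Agent.Helper40.St Cfsg.Agent.Helper40.ChevAdd Cfsg.Agent.Helper40.UProd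
  Cfsg.Agent.Helper40.SL2Hom Cfsg.Agent.Helper40.NMono Cfsg.Agent.Helper19.CT

universe u v

section CT
variable {D : ChevalleyDatum} (hD : D ∈ [chevD4, chevF4, chevE6, chevE7, chevE8]) (K : Type u) [Field K]

omit hD in
theorem param_gen_zero (r : ℕ) (h : R2 D r) : gen D K r 0 = 1 := by
  have h0 := gen_add K r h 0 0
  rw [add_zero] at h0
  exact left_eq_mul.mp h0

omit hD in
theorem param_gen_neg (r : ℕ) (h : R2 D r) (t : K) : (gen D K r t)⁻¹ = gen D K r (-t) := by
  apply inv_eq_of_mul_eq_one_right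
  rw [← gen_add K r h, add_neg_cancel, param_gen_zero K r h]

omit hD in
theorem param_mem_Zsub (r : ℕ) (h : R2 D r) (g : D.CurtisTitsGroup K) (hg : g ∈ Zsub D K r) :
    ∃ t : K, g = gen D K r t := by
  unfold Zsub at hg
  induction hg using Subgroup.closure_induction with
  | mem x hx =>
    obtain ⟨t, rfl⟩ := hx
    exact ⟨t, rfl⟩
  | one => exact ⟨0, (param_gen_zero K r h).symm⟩
  | mul x y _ _ hx hy =>
    obtain ⟨t, rfl⟩ := hx
    obtain ⟨u, rfl⟩ := hy
    exact ⟨t + u, (gen_add K r h t u).symm⟩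
  | inv x _ hx =>
    obtain ⟨t, rfl⟩ := hx
    exact ⟨-t, param_gen_neg K r h t⟩

/-- the action of `n_{a_j}(1)` on a pair of opposite root elements of the Chevalley group -/
theorem param_nG_conj (j : ℕ) (hj : j < D.rank) (r : ℕ) (hr : r < D.nroots) :
    ∃ e : K, (e = 1 ∨ e = -1) ∧
      (∀ t : K, Cfsg.Agent.Helper40.SL2Chev.nG D (addOK_of_mem (mem7_of_mem5 hD)) (D.simple j) 1 *
          xGL D (addOK_of_mem (mem7_of_mem5 hD)) K r t *
          (Cfsg.Agent.Helper40.SL2Chev.nG D (addOK_of_mem (mem7_of_mem5 hD)) (D.simple j) 1)⁻¹ =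
        xGL D (addOK_of_mem (mem7_of_mem5 hD)) K (D.reflectRoot j r) (e * t)) ∧
      (∀ t : K, Cfsg.Agent.Helper40.SL2Chev.nG D (addOK_of_mem (mem7_of_mem5 hD)) (D.simple j) 1 *
          xGL D (addOK_of_mem (mem7_of_mem5 hD)) K (D.neg r) t *
          (Cfsg.Agent.Helper40.SL2Chev.nG D (addOK_of_mem (mem7_of_mem5 hD)) (D.simple j) 1)⁻¹ =
        xGL D (addOK_of_mem (mem7_of_mem5 hD)) K (D.neg (D.reflectRoot j r)) (e * t)) := by
  obtain ⟨φ, S⟩ := exists_std D (mem7_of_mem5 hD)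
  obtain ⟨π', η, hn, hπ, he⟩ := Cfsg.Agent.Helper40.NData.exists_tables D (mem7_of_mem5 hD) j hj
  have hn' := hn
  unfold nOK at hn'
  rw [Bool.and_eq_true] at hn'
  have hsp := monoOK_spec D j π' η hn'.1
  unfold etaOK at he
  simp only [Bool.and_eq_true, decide_eq_true_eq, List.all_eq_true, List.mem_range] at he
  obtain ⟨-, e3⟩ := he
  have hnr := S.neg_lt r hr
  have hη : η r = 1 ∨ η r = -1 := (hsp r hr).2.1
  have hηn : η (D.neg r) = η r := by
    have := (e3 r hr).2
    rcases hη with h1 | h1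
    · rw [h1] at this ⊢; omega
    · rw [h1] at this ⊢; omega
  refine ⟨((η r : ℤ) : K), ?_, ?_, ?_⟩
  · rcases hη with h1 | h1 <;> rw [h1] <;> simp
  · intro t
    rw [Cfsg.Agent.Helper40.SL2Chev.nconj D _ j π' η hn r hr t, piOK_spec hπ r hr]
  · intro t
    rw [Cfsg.Agent.Helper40.SL2Chev.nconj D _ j π' η hn (D.neg r) hnr t, piOK_spec hπ _ hnr, S.refl_neg j hj r hr, hηn]

/-- `piCT` maps the root subgroup `Xh r` bijectively onto `{x_r(t)}` -/
theorem param_good (hC : CombS D) (Xh : ℕ → Subgroup (D.CurtisTitsGroup K)) (hF : Fam D K Xh) :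
    ∀ n : ℕ, ∀ r < D.nroots, Cfsg.Agent.Helper19.CT.lvl D r = n →
      (∀ t : K, ∃ g ∈ Xh r, piCT hD K g = xGL D (addOK_of_mem (mem7_of_mem5 hD)) K r t) ∧
        (∀ g ∈ Xh r, piCT hD K g = 1 → g = 1) := by
  have hrank : 0 < D.rank := by
    simp only [List.mem_cons, List.not_mem_nil, or_false] at hD
    rcases hD with rfl | rfl | rfl | rfl | rfl <;> decide
  have base : ∀ r, R2 D r →
      (∀ t : K, ∃ g ∈ Xh r, piCT hD K g = xGL D (addOK_of_mem (mem7_of_mem5 hD)) K r t) ∧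
        (∀ g ∈ Xh r, piCT hD K g = 1 → g = 1) := by
    intro r hR
    rw [hF.eq_Z r hR]
    refine ⟨fun t => ⟨gen D K r t, Subgroup.subset_closure ⟨t, rfl⟩, piCT_gen hD K r hR t⟩, ?_⟩
    intro g hg h1
    obtain ⟨t, rfl⟩ := param_mem_Zsub K r hR g hg
    rw [piCT_gen hD K r hR t, ← xGL_zero D (addOK_of_mem (mem7_of_mem5 hD)) r] at h1
    have := xGL_inj (mem7_of_mem5 hD) r hR.lt _ _ h1
    rw [this, param_gen_zero K r hR]
  intro n
  induction n using Nat.strong_induction_on with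
  | _ n ih =>
    intro r hr hn
    by_cases h2 : 2 ≤ Cfsg.Agent.Helper19.CT.lvl D r
    · obtain ⟨d, hd, hlt, -⟩ := hC.desc r hr h2
      have hr' : D.reflectRoot d r < D.nroots := hC.σ_lt d hd r hr
      have hinv : D.reflectRoot d (D.reflectRoot d r) = r := hC.σ_invol d hd r hr
      obtain ⟨ih1, ih2⟩ := ih (Cfsg.Agent.Helper19.CT.lvl D (D.reflectRoot d r)) (hn ▸ hlt) (D.reflectRoot d r) hr' rfl
      have hconj := hF.conj d hd (D.reflectRoot d r) hr'
      rw [hinv] at hconj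
      obtain ⟨e, he, c1, -⟩ := param_nG_conj hD K d hd (D.reflectRoot d r) hr'
      rw [hinv] at c1
      have hee : e * e = 1 := Cfsg.Agent.Helper40.SL2Chev.sign4 e he
      constructor
      · intro t
        obtain ⟨g', hg', hp⟩ := ih1 (e * t)
        refine ⟨nhat D K d * g' * (nhat D K d)⁻¹, ?_, ?_⟩
        · rw [hconj]
          have : (nhat D K d)⁻¹ * (nhat D K d * g' * (nhat D K d)⁻¹) * nhat D K d = g' := by group
          rw [this]
          exact hg'
        · rw [map_mul, map_mul, map_inv, piCT_nhat hD K d hd, hp, c1, ← mul_assoc, hee, one_mul]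
      · intro g hg h1
        have hg' := (hconj g).1 hg
        have : (nhat D K d)⁻¹ * g * nhat D K d = 1 := by
          apply ih2 _ hg'
          rw [map_mul, map_mul, h1, mul_one, map_inv, inv_mul_cancel]
        calc g = nhat D K d * ((nhat D K d)⁻¹ * g * nhat D K d) * (nhat D K d)⁻¹ := by group
          _ = 1 := by rw [this]; group
    · obtain ⟨k, hk⟩ := hC.base r hr (by omega) 0 hrank
      exact base r ⟨0, k, hk⟩

theorem exists_param_of (hC : CombS D) (Xh : ℕ → Subgroup (D.CurtisTitsGroup K)) (hF : Fam D K Xh) :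
    ∃ xh : ℕ → K → D.CurtisTitsGroup K, Param K hD xh := by
  classical
  obtain ⟨φ, S⟩ := exists_std D (mem7_of_mem5 hD)
  have good := fun r hr => param_good hD K hC Xh hF (Cfsg.Agent.Helper19.CT.lvl D r) r hr rfl
  -- uniqueness
  have uniq : ∀ r < D.nroots, ∀ g ∈ Xh r, ∀ g' ∈ Xh r, piCT hD K g = piCT hD K g' → g = g' := by
    intro r hr g hg g' hg' h
    have h1 : g⁻¹ * g' = 1 := by
      apply (good r hr).2 _ ((Xh r).mul_mem ((Xh r).inv_mem hg) hg')
      rw [map_mul, map_inv, h, inv_mul_cancel]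
    calc g = g * (g⁻¹ * g') := by rw [h1, mul_one]
      _ = g' := by group
  have hex : ∀ r : ℕ, ∀ t : K, ∃ g : D.CurtisTitsGroup K, r < D.nroots →
      g ∈ Xh r ∧ piCT hD K g = xGL D (addOK_of_mem (mem7_of_mem5 hD)) K r t := by
    intro r t
    by_cases hr : r < D.nroots
    · obtain ⟨g, hg, hp⟩ := (good r hr).1 t
      exact ⟨g, fun _ => ⟨hg, hp⟩⟩
    · exact ⟨1, fun h => absurd h hr⟩
  choose xh hxh using hex
  have hmem : ∀ r < D.nroots, ∀ t : K, xh r t ∈ Xh r := fun r hr t => (hxh r t hr).1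
  have hpi : ∀ r < D.nroots, ∀ t : K, piCT hD K (xh r t) = xGL D (addOK_of_mem (mem7_of_mem5 hD)) K r t :=
    fun r hr t => (hxh r t hr).2
  refine ⟨xh, ⟨hpi, ?_, ?_, ?_⟩⟩
  · -- eq_gen
    intro r hR t
    apply uniq r hR.lt _ (hmem r hR.lt t)
    · rw [hF.eq_Z r hR]
      exact Subgroup.subset_closure ⟨t, rfl⟩
    · rw [hpi r hR.lt, piCT_gen hD K r hR t]
  · -- add
    intro r hr t u
    apply uniq r hr _ (hmem r hr _) _ ((Xh r).mul_mem (hmem r hr t) (hmem r hr u))
    rw [map_mul, hpi r hr, hpi r hr, hpi r hr, xGL_add]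
  · -- conj
    intro j hj r hr
    obtain ⟨e, he, c1, c2⟩ := param_nG_conj hD K j hj r hr
    have hσ : D.reflectRoot j r < D.nroots := hC.σ_lt j hj r hr
    have hnr : D.neg r < D.nroots := S.neg_lt r hr
    have hnσ : D.neg (D.reflectRoot j r) < D.nroots := S.neg_lt _ hσ
    have hcj : ∀ (s : ℕ) (hs : s < D.nroots) (x : D.CurtisTitsGroup K), x ∈ Xh s →
        nhat D K j * x * (nhat D K j)⁻¹ ∈ Xh (D.reflectRoot j s) := by
      intro s hs x hx
      rw [hF.conj j hj s hs]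
      have : (nhat D K j)⁻¹ * (nhat D K j * x * (nhat D K j)⁻¹) * nhat D K j = x := by group
      rw [this]
      exact hx
    refine ⟨e, he, fun t => ?_, fun t => ?_⟩
    · apply uniq _ hσ _ (hcj r hr _ (hmem r hr t)) _ (hmem _ hσ _)
      rw [map_mul, map_mul, map_inv, piCT_nhat hD K j hj, hpi r hr, hpi _ hσ, c1]
    · have hmem' := hcj (D.neg r) hnr _ (hmem _ hnr t)
      rw [S.refl_neg j hj r hr] at hmem'
      apply uniq _ hnσ _ hmem' _ (hmem _ hnσ _)
      rw [map_mul, map_mul, map_inv, piCT_nhat hD K j hj, hpi _ hnr, hpi _ hnσ, c2]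

end CT

end Cfsg.Agent.Helper81.CT
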