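import Mathlib
import Cfsg.Agent.Helper81.Schur

/-!
# Schur orthogonality for matrix coefficients, and the two-trace identity
-/

set_option autoImplicit false
set_option linter.unusedSectionVars false

namespace Cfsg.Agent.Helper81

open Representation

section

variable {G : Type*} [Group G] [Fintype G] {k : Type*} [Field k] [IsAlgClosed k] [CharZero k]
  {V : Type*} [AddCommGroup V] [Module k V] [FiniteDimensional k V]
  {ι : Type*} [Fintype ι] [DecidableEq ι]

/-- **Schur orthogonality of matrix coefficients** for an irreducible representation. -/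
theorem sum_coeff_mul_coeff_inv (ρ : Representation k G V) [ρ.IsIrreducible]
    (b : Module.Basis ι k V) (i j k' l : ι) :
    ∑ g : G, (b.coord i) (ρ g (b j)) * (b.coord k') (ρ g⁻¹ (b l)) =
      if j = k' ∧ i = l then (Nat.card G : k) / (Module.finrank k V : k) else 0 := by
  have h := sum_conj_eq_scalar ρ ((b.coord k').smulRight (b j))
  have h2 := congrArg (fun T : Module.End k V => (b.coord i) (T (b l))) h
  simp only [LinearMap.sum_apply, Module.End.mul_apply, LinearMap.smulRight_apply, map_smul,
    map_sum, smul_eq_mul, LinearMap.trace_smulRight, LinearMap.smul_apply, Module.End.one_apply,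
    Module.Basis.coord_apply, Module.Basis.repr_self] at h2
  simp only [Module.Basis.coord_apply]
  rw [show (∑ g : G, (b.repr (ρ g (b j))) i * (b.repr (ρ g⁻¹ (b l))) k') =
    ∑ g : G, (b.repr (ρ g⁻¹ (b l))) k' * (b.repr (ρ g (b j))) i from
    Finset.sum_congr rfl fun g _ => mul_comm _ _]
  rw [h2]
  by_cases hjk : j = k'
  · by_cases hil : i = l
    · subst hjk; subst hil; simp
    · rw [if_neg (fun h => hil h.2)]
      simp [Finsupp.single_apply, Ne.symm hil]
  · rw [if_neg (fun h => hjk h.1)]
    simp [Finsupp.single_apply, hjk]

end

end Cfsg.Agent.Helper81
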