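import Mathlib
import Cfsg.Prelude.Def_Blocks
import Cfsg.Agent.Helper81.CoprimeDeg1

/-!
# Counting the characters of degree coprime to the index of a normal Hall subgroup
-/

set_option autoImplicit false
set_option linter.unusedSectionVars false

namespace Cfsg.Agent.Helper81

open Cfsg Helper15
open scoped ComplexConjugate

universe u

section

variable {X : Type u} [Group X] [Fintype X] (M : Subgroup X) [hM : M.Normal] [Fintype M]

/-- Irreducible characters of degree coprime to the index of `M`. -/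
abbrev GoodIrr : Type u := {χ : IrrCharacter X // (charDegree (χ : X → ℂ)).Coprime M.index}

/-- `X`-invariant irreducible characters of `M`. -/
abbrev InvIrrIn : Type u := {θ : IrrCharacter M //
  ∀ (x : X) (m : M), (θ : M → ℂ) ⟨x * m * x⁻¹, hM.conj_mem m m.2 x⟩ = (θ : M → ℂ) m}

/-- Linear characters of `X` trivial on `M`. -/
abbrev LinOver : Type u := {β : IrrCharacter X //
  (β : X → ℂ) 1 = 1 ∧ ∀ m : M, (β : X → ℂ) m = 1}

theorem charDegree_eq_of_apply_one_eq {A : Type*} {B : Type*} [Group A] [Group B]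
    (χ : IrrCharacter A) (ψ : IrrCharacter B) (h : (χ : A → ℂ) 1 = (ψ : B → ℂ) 1) :
    charDegree (χ : A → ℂ) = charDegree (ψ : B → ℂ) := by
  rw [Helper79.irr_one χ, Helper79.irr_one ψ] at h
  exact_mod_cast h

theorem linOver_inner_ne_zero (β : LinOver M) :
    classInner (indFun M (fun _ => (1 : ℂ))) (β.1 : X → ℂ) ≠ 0 := by
  rw [frobenius_reciprocity M _ _
    (Helper74.isClassFunction_of_isCharacter (Helper74.irr_isCharacter β.1))]
  have h : (fun m : M => (β.1 : X → ℂ) m) = fun _ => (1 : ℂ) := funext β.2.2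
  rw [h]
  have := Helper74.irr_inner_self (⟨fun _ => (1 : ℂ), isIrrCharacter_one M⟩ : IrrCharacter M)
  rw [this]
  exact one_ne_zero

variable (hcop : (Nat.card M).Coprime M.index)

/-- A chosen extension of an invariant irreducible character. -/
noncomputable def extOf (θ : InvIrrIn M) : IrrCharacter X :=
  Classical.choose (exists_extension_of_coprime M hcop θ.1 θ.2)

theorem extOf_spec (θ : InvIrrIn M) (m : M) :
    (extOf M hcop θ : X → ℂ) m = (θ.1 : M → ℂ) m :=
  Classical.choose_spec (exists_extension_of_coprime M hcop θ.1 θ.2) m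

theorem extOf_restrict (θ : InvIrrIn M) :
    (fun m : M => (extOf M hcop θ : X → ℂ) m) = (θ.1 : M → ℂ) :=
  funext (extOf_spec M hcop θ)

theorem isIrr_mul_ext (θ : InvIrrIn M) (β : LinOver M) :
    IsIrrCharacter X ((β.1 : X → ℂ) * (extOf M hcop θ : X → ℂ)) := by
  have := isIrrCharacter_twist (linCharUnits (Helper74.irr_isCharacter β.1) β.2.1)
    (extOf M hcop θ).2
  exact this

/-- The map `(θ, β) ↦ β θ̂`. -/
noncomputable def goodOfPair (p : InvIrrIn M × LinOver M) : GoodIrr M :=
  ⟨⟨(p.2.1 : X → ℂ) * (extOf M hcop p.1 : X → ℂ), isIrr_mul_ext M hcop p.1 p.2⟩, by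
    have h1 : ((p.2.1 : X → ℂ) * (extOf M hcop p.1 : X → ℂ)) 1 = (p.1.1 : M → ℂ) 1 := by
      rw [Pi.mul_apply, p.2.2.1, one_mul]
      exact extOf_spec M hcop p.1 1
    have h2 := charDegree_eq_of_apply_one_eq
      (⟨(p.2.1 : X → ℂ) * (extOf M hcop p.1 : X → ℂ), isIrr_mul_ext M hcop p.1 p.2⟩ :
        IrrCharacter X) p.1.1 h1
    rw [h2]
    exact Nat.Coprime.coprime_dvd_left (Helper80.IsIrrCharacter.charDegree_dvd_card p.1.1.2) hcop⟩

theorem goodOfPair_injective : Function.Injective (goodOfPair M hcop) := by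
  rintro ⟨θ, β⟩ ⟨θ', β'⟩ h
  have hfun : (β.1 : X → ℂ) * (extOf M hcop θ : X → ℂ) =
      (β'.1 : X → ℂ) * (extOf M hcop θ' : X → ℂ) :=
    congrArg (fun χ : GoodIrr M => (χ.1 : X → ℂ)) h
  have hθ : θ = θ' := by
    apply Subtype.ext
    apply Subtype.ext
    funext m
    have := congrFun hfun (m : X)
    rw [Pi.mul_apply, Pi.mul_apply, β.2.2 m, β'.2.2 m, one_mul, one_mul, extOf_spec,
      extOf_spec] at this
    exact this
  subst hθ
  have hbij := gallagher_bijOn M (extOf M hcop θ).2 (by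
    rw [extOf_restrict]; exact θ.1.2)
  have hβ := hbij.injOn (x₁ := (β.1 : X → ℂ)) (x₂ := (β'.1 : X → ℂ))
    ⟨β.1.2, linOver_inner_ne_zero M β⟩ ⟨β'.1.2, linOver_inner_ne_zero M β'⟩ hfun
  have : β = β' := Subtype.ext (Subtype.ext hβ)
  rw [this]

end

end Cfsg.Agent.Helper81
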