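import Mathlib
import Cfsg.Prelude.Def_Blocks
import Cfsg.Agent.Helper81.CoprimeDeg2

/-!
# Counting the characters of degree coprime to the index of a normal Hall subgroup: surjectivity
-/

set_option autoImplicit false
set_option linter.unusedSectionVars false

namespace Cfsg.Agent.Helper81

open Cfsg Helper15
open scoped ComplexConjugate

universe u

section

variable {X : Type u} [Group X] [Fintype X] (M : Subgroup X) [hM : M.Normal] [Fintype M]

/-- An irreducible constituent of the restriction of a character of degree coprime to `|X : M|`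
is invariant. -/
theorem invariant_of_good (χ : GoodIrr M) (θ : IrrCharacter M)
    (hcon : classInner (fun m : M => (χ.1 : X → ℂ) m) (θ : M → ℂ) ≠ 0) :
    ∀ (x : X) (m : M), (θ : M → ℂ) ⟨x * m * x⁻¹, hM.conj_mem m m.2 x⟩ = (θ : M → ℂ) m := by
  classical
  have hMT : M ≤ inertia M (θ : M → ℂ) :=
    le_inertia M (Helper74.isClassFunction_of_isCharacter (Helper74.irr_isCharacter θ))
  have : Fintype (inertia M (θ : M → ℂ)) := Fintype.ofFinite _
  obtain ⟨ψ, hψ, hind, -⟩ := clifford_correspondence_exists M θ.2 (inertia M (θ : M → ℂ)) rfl hMT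
    χ.1.2 hcon
  obtain ⟨d, -, hd⟩ := irr_degree_pos hψ
  have h1 := congrFun hind 1
  rw [indFun_apply_one, hd, Helper79.irr_one χ.1] at h1
  have h2 : charDegree (χ.1 : X → ℂ) = (inertia M (θ : M → ℂ)).index * d := by
    exact_mod_cast h1.symm
  have h3 : (inertia M (θ : M → ℂ)).index ∣ charDegree (χ.1 : X → ℂ) := ⟨d, h2⟩
  have h4 : (inertia M (θ : M → ℂ)).index ∣ M.index := Subgroup.index_dvd_of_le hMT
  have h5 : (inertia M (θ : M → ℂ)).index = 1 :=
    Nat.eq_one_of_dvd_coprimes χ.2 h3 h4
  have h6 : inertia M (θ : M → ℂ) = ⊤ := Subgroup.index_eq_one.mp h5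
  intro x m
  have hx : x ∈ inertia M (θ : M → ℂ) := by rw [h6]; exact Subgroup.mem_top x
  exact (mem_inertia_iff M _ x).mp hx m

/-- The degree of an irreducible character with `M` in its kernel divides `|X : M|`. -/
theorem charDegree_dvd_index_of_trivial (β : IrrCharacter X)
    (hβ : ∀ m ∈ M, (β : X → ℂ) m = (β : X → ℂ) 1) : charDegree (β : X → ℂ) ∣ M.index := by
  let βbar := (Helper80.irrQuotientEquiv M).symm ⟨β, hβ⟩
  have h1 : (βbar : X ⧸ M → ℂ) 1 = (β : X → ℂ) 1 := by
    have := Helper80.irrQuotientEquiv_symm_apply M ⟨β, hβ⟩ 1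
    simpa using this
  have h2 := charDegree_eq_of_apply_one_eq βbar β h1
  rw [← h2]
  have h3 := Helper80.IsIrrCharacter.charDegree_dvd_card βbar.2
  rwa [← Subgroup.index_eq_card] at h3

variable (hcop : (Nat.card M).Coprime M.index)

theorem goodOfPair_surjective : Function.Surjective (goodOfPair M hcop) := by
  classical
  intro χ
  have hχc := Helper74.irr_isCharacter χ.1
  have hχcf := Helper74.isClassFunction_of_isCharacter hχc
  -- a constituent of the restriction
  obtain ⟨θ, hθ⟩ := exists_irr_constituent (Helper74.isCharacter_restrict M hχc)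
    (by
      change (χ.1 : X → ℂ) ((1 : M) : X) ≠ 0
      rw [Subgroup.coe_one]
      exact Helper79.irr_one_ne_zero χ.1)
  have hinv := invariant_of_good M χ θ hθ
  let θ' : InvIrrIn M := ⟨θ, hinv⟩
  -- Gallagher
  have hbij := gallagher_bijOn M (extOf M hcop θ').2 (by
    rw [extOf_restrict]; exact θ.2)
  have hmem : (χ.1 : X → ℂ) ∈ {ψ : X → ℂ | IsIrrCharacter X ψ ∧
      classInner (indFun M (fun n : M => (extOf M hcop θ' : X → ℂ) n)) ψ ≠ 0} := by
    refine ⟨χ.1.2, ?_⟩
    rw [extOf_restrict, frobenius_reciprocity M _ _ hχcf, ← Helper74.classInner_conj_symm]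
    intro h0
    apply hθ
    have := congrArg (starRingEnd ℂ) h0
    simpa using this
  obtain ⟨β, ⟨hβirr, hβ0⟩, hβχ⟩ := hbij.surjOn hmem
  have hβχ' : β * (extOf M hcop θ' : X → ℂ) = (χ.1 : X → ℂ) := hβχ
  -- `M` is in the kernel of `β`
  have hβc := Helper74.isCharacter_of_isIrr hβirr
  have hβcf := Helper74.isClassFunction_of_isCharacter hβc
  have hβ1 : classInner (fun n : M => β n) (fun _ => (1 : ℂ)) ≠ 0 := by
    rw [frobenius_reciprocity M _ _ hβcf, ← Helper74.classInner_conj_symm] at hβ0
    intro h0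
    apply hβ0
    rw [h0, map_zero]
  have hker : ∀ m ∈ M, β m = β 1 := by
    intro m hm
    have := normal_mul_of_inner_one_ne_zero M hβirr hβ1 ⟨m, hm⟩ 1
    rwa [mul_one] at this
  -- `β 1 = 1`
  have hdeg : charDegree β = 1 := by
    have h1 := charDegree_dvd_index_of_trivial M ⟨β, hβirr⟩ hker
    have h2 : charDegree (χ.1 : X → ℂ) = charDegree β * charDegree (θ : M → ℂ) := by
      have e1 := congrFun hβχ' 1
      have hb1 : β 1 = (charDegree β : ℂ) := Helper79.irr_one (⟨β, hβirr⟩ : IrrCharacter X)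
      rw [Pi.mul_apply, hb1, Helper79.irr_one χ.1] at e1
      have e2 : (extOf M hcop θ' : X → ℂ) 1 = (θ : M → ℂ) 1 := extOf_spec M hcop θ' 1
      rw [e2, Helper79.irr_one θ] at e1
      exact_mod_cast e1.symm
    have h3 : charDegree β ∣ charDegree (χ.1 : X → ℂ) := ⟨_, h2⟩
    exact Nat.eq_one_of_dvd_coprimes χ.2 h3 h1
  have hβone : β 1 = 1 := by
    have hb1 : β 1 = (charDegree β : ℂ) := Helper79.irr_one (⟨β, hβirr⟩ : IrrCharacter X)
    rw [hb1, hdeg]
    simp
  refine ⟨(θ', ⟨⟨β, hβirr⟩, hβone, fun m => (hker m m.2).trans hβone⟩), ?_⟩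
  apply Subtype.ext
  apply Subtype.ext
  exact hβχ'

include hcop in
/-- The number of irreducible characters of degree coprime to the index of the normal Hall
subgroup `M`. -/
theorem card_goodIrr :
    Nat.card (GoodIrr M) = Nat.card (InvIrrIn M) * Nat.card (LinOver M) := by
  rw [← Nat.card_prod]
  exact (Nat.card_congr (Equiv.ofBijective (goodOfPair M hcop)
    ⟨goodOfPair_injective M hcop, goodOfPair_surjective M hcop⟩)).symm

end

end Cfsg.Agent.Helper81
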