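import Mathlib
import Cfsg.Prelude.Def_Blocks
import Cfsg.Agent.Helper81.CoprimeDeg3
import Cfsg.Agent.Helper80.Pullback

/-!
# Linear characters trivial on a normal subgroup, via a surjection
-/

set_option autoImplicit false
set_option linter.unusedSectionVars false

namespace Cfsg.Agent.Helper81

open Cfsg Helper15
open scoped ComplexConjugate

universe u v

/-- For a surjection `φ : X →* Q` with kernel `M`, the linear characters of `X` trivial on `M`
are equinumerous with the linear characters of `Q`. -/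
theorem card_linOver_eq {X : Type u} {Q : Type v} [Group X] [Fintype X] [Group Q] [Finite Q]
    (M : Subgroup X) [hM : M.Normal] [Fintype M]
    (φ : X →* Q) (hφ : Function.Surjective φ) (hker : ∀ x : X, φ x = 1 ↔ x ∈ M) :
    Nat.card (LinOver M) = Nat.card {ψ : IrrCharacter Q // (ψ : Q → ℂ) 1 = 1} := by
  let e := Helper80.irrEquivOfSurjective φ hφ
  have e1 : {ψ : IrrCharacter Q // (ψ : Q → ℂ) 1 = 1} ≃
      {χ : {χ : IrrCharacter X // ∀ g, φ g = 1 → (χ : X → ℂ) g = (χ : X → ℂ) 1} //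
        (χ.1 : X → ℂ) 1 = 1} :=
    e.subtypeEquiv (fun ψ => by
      have : ((e ψ).1 : X → ℂ) 1 = (ψ : Q → ℂ) 1 := by
        rw [Helper80.irrEquivOfSurjective_apply, map_one]
      rw [this])
  have e2 : {χ : {χ : IrrCharacter X // ∀ g, φ g = 1 → (χ : X → ℂ) g = (χ : X → ℂ) 1} //
        (χ.1 : X → ℂ) 1 = 1} ≃ LinOver M :=
    { toFun := fun χ => ⟨χ.1.1, χ.2, fun m => (χ.1.2 m ((hker m).mpr m.2)).trans χ.2⟩
      invFun := fun β => ⟨⟨β.1, fun g hg =>
        (β.2.2 ⟨g, (hker g).mp hg⟩).trans β.2.1.symm⟩, β.2.1⟩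
      left_inv := fun χ => rfl
      right_inv := fun β => rfl }
  rw [← Nat.card_congr e2, ← Nat.card_congr e1]

end Cfsg.Agent.Helper81
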