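import Mathlib
import Cfsg.Agent.Helper81.FSIrr
import Cfsg.Agent.Helper81.Gallagher
import Cfsg.Agent.Helper36.AltForm

/-!
# Symplectic irreducible characters have even fixed-point multiplicities

If `χ` is an irreducible character with Frobenius–Schur indicator `-1` and `P` is any subgroup,
then `⟨χ_P, 1_P⟩` is an even natural number: the invariant alternating form stays nondegenerate
on the space of `P`-fixed vectors.
-/

set_option autoImplicit false
set_option linter.unusedSectionVars false

namespace Cfsg.Agent.Helper81

open Cfsg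
open scoped ComplexConjugate

section

variable {G : Type*} [Group G] [Fintype G] {V : Type*} [AddCommGroup V] [Module ℂ V]
  [FiniteDimensional ℂ V]

/-- An irreducible representation with indicator `-1` carries an invariant injective alternating
form. -/
theorem exists_alt_form_of_fsInd_neg_one (ρ : Representation ℂ G V) [ρ.IsIrreducible]
    (h : fsInd ρ.character = -1) :
    ∃ B : LinearMap.BilinForm ℂ V, IsInvariantForm ρ B ∧ Function.Injective B ∧
      B.flip = -B := by
  have hne : (Nat.card G : ℂ) ≠ 0 := by
    have : 0 < Nat.card G := Nat.card_pos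
    exact_mod_cast this.ne'
  have hsum : ∑ g : G, ρ.character (g * g) = -(Nat.card G : ℂ) := by
    have h1 := h
    rw [fsInd] at h1
    have h2 : ∑ g : G, ρ.character (g * g) =
        (Nat.card G : ℂ) * ((Nat.card G : ℂ)⁻¹ * ∑ g : G, ρ.character (g * g)) := by
      rw [← mul_assoc, mul_inv_cancel₀ hne, one_mul]
    rw [h2, h1]; ring
  rcases fs_sum_trichotomy ρ with ⟨h0, _⟩ | ⟨_, hr⟩
  · exfalso
    rw [h0] at hsum
    apply hne
    linear_combination hsum
  · obtain ⟨B, hB, hB0⟩ := exists_form_of_char_inv ρ hr
    have hinj : Function.Injective B :=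
      (invariantForm_eq_zero_or_injective ρ B hB).resolve_left hB0
    rcases fs_flip ρ B hB hB0 with hs | ha
    · exfalso
      have h3 := fs_sum_of_symm ρ B hB hB0 hs
      rw [hsum] at h3
      apply hne
      linear_combination (-1 / 2 : ℂ) * h3
    · exact ⟨B, hB, hinj, ha⟩

/-- The space of `P`-fixed vectors of an irreducible representation with indicator `-1` has even
dimension. -/
theorem even_finrank_invariants_of_fsInd_neg_one (ρ : Representation ℂ G V) [ρ.IsIrreducible]
    (h : fsInd ρ.character = -1) (P : Subgroup G) [Fintype P] :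
    Even (Module.finrank ℂ (Representation.invariants (resRep ρ P))) := by
  classical
  obtain ⟨B, hB, hinj, halt⟩ := exists_alt_form_of_fsInd_neg_one ρ h
  have hskew : ∀ v w, B w v = - B v w := by
    intro v w
    have := congrArg (fun F : LinearMap.BilinForm ℂ V => F v w) halt
    simpa using this
  have haltB : ∀ v, B v v = 0 := by
    intro v
    have := hskew v v
    linear_combination (1 / 2 : ℂ) * this
  have hcard : (Nat.card P : ℂ) ≠ 0 := by
    have : 0 < Nat.card P := Nat.card_pos
    exact_mod_cast this.ne'
  have hmemW : ∀ w : V, w ∈ Representation.invariants (resRep ρ P) ↔ ∀ x : P, ρ (x : G) w = w := by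
    intro w
    rw [Representation.mem_invariants]
    rfl
  have key : ∀ w ∈ Representation.invariants (resRep ρ P), ∀ v : V,
      (Nat.card P : ℂ) * B w v = B w (∑ x : P, ρ (x : G) v) := by
    intro w hw v
    rw [map_sum]
    have : ∀ x : P, B w (ρ (x : G) v) = B w v := by
      intro x
      have h1 := hB (x : G) w v
      rw [(hmemW w).mp hw x] at h1
      exact h1
    rw [Finset.sum_congr rfl fun x _ => this x, Finset.sum_const, Finset.card_univ,
      nsmul_eq_mul, Nat.card_eq_fintype_card]
  have hsumW : ∀ v : V, (∑ x : P, ρ (x : G) v) ∈ Representation.invariants (resRep ρ P) := by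
    intro v
    rw [hmemW]
    intro y
    rw [map_sum]
    have : ∀ x : P, ρ (y : G) (ρ (x : G) v) = ρ ((y * x : P) : G) v := by
      intro x
      rw [Subgroup.coe_mul, map_mul]
      rfl
    rw [Finset.sum_congr rfl fun x _ => this x]
    exact Fintype.sum_bijective (fun x : P => y * x) (Group.mulLeft_bijective y) _ _ (fun _ => rfl)
  have hsepL : ∀ w ∈ Representation.invariants (resRep ρ P),
      (∀ u ∈ Representation.invariants (resRep ρ P), B w u = 0) → w = 0 := by
    intro w hw h0
    apply hinj
    rw [map_zero]
    ext v
    have h1 := key w hw v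
    rw [h0 _ (hsumW v)] at h1
    rw [LinearMap.zero_apply]
    exact (mul_eq_zero.mp h1).resolve_left hcard
  have hnd : (B.restrict (Representation.invariants (resRep ρ P))).Nondegenerate := by
    constructor
    · rintro ⟨w, hw⟩ h0
      apply Subtype.ext
      apply hsepL w hw
      intro u hu
      exact h0 ⟨u, hu⟩
    · rintro ⟨w, hw⟩ h0
      apply Subtype.ext
      apply hsepL w hw
      intro u hu
      have := h0 ⟨u, hu⟩
      have h2 : B u w = 0 := this
      rw [hskew u w, h2, neg_zero]
  have haltW : (B.restrict (Representation.invariants (resRep ρ P))).IsAlt := fun x => haltB x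
  exact Helper36.even_finrank_of_isAlt_nondegenerate _ _ haltW hnd rfl

/-- For an irreducible character with indicator `-1`, the multiplicity of the trivial character in
its restriction to any subgroup is an even natural number. -/
theorem even_inner_one_of_fsInd_neg_one {χ : G → ℂ} (hχ : IsIrrCharacter G χ)
    (h : fsInd χ = -1) (P : Subgroup G) [Fintype P] :
    ∃ m : ℕ, (Nat.card P : ℂ)⁻¹ * ∑ x : P, χ (x : G) = ((2 * m : ℕ) : ℂ) := by
  obtain ⟨n, ρ, hρ, rfl⟩ := hχ
  have := hρ
  have hcard : (Nat.card P : ℂ) ≠ 0 := by
    have : 0 < Nat.card P := Nat.card_pos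
    exact_mod_cast this.ne'
  have : Invertible (Nat.card P : ℂ) := invertibleOfNonzero hcard
  have h1 := Representation.card_inv_mul_sum_char_eq_finrank (resRep ρ P)
  obtain ⟨m, hm⟩ := even_finrank_invariants_of_fsInd_neg_one ρ h P
  refine ⟨m, ?_⟩
  have h2 : ∀ x : P, (resRep ρ P).character x = ρ.character (x : G) := fun x => rfl
  rw [Finset.sum_congr rfl fun x _ => h2 x] at h1
  rw [h1, hm]
  push_cast
  ring

/-- The multiplicity of the trivial character in the restriction of a character to a subgroup is a
natural number. -/
theorem exists_nat_inner_one {χ : G → ℂ} (hχ : IsIrrCharacter G χ) (P : Subgroup G) [Fintype P] :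
    ∃ m : ℕ, (Nat.card P : ℂ)⁻¹ * ∑ x : P, χ (x : G) = (m : ℂ) := by
  obtain ⟨n, ρ, hρ, rfl⟩ := hχ
  have hcard : (Nat.card P : ℂ) ≠ 0 := by
    have : 0 < Nat.card P := Nat.card_pos
    exact_mod_cast this.ne'
  have : Invertible (Nat.card P : ℂ) := invertibleOfNonzero hcard
  have h1 := Representation.card_inv_mul_sum_char_eq_finrank (resRep ρ P)
  have h2 : ∀ x : P, (resRep ρ P).character x = ρ.character (x : G) := fun x => rfl
  rw [Finset.sum_congr rfl fun x _ => h2 x] at h1
  exact ⟨_, h1⟩

end

end Cfsg.Agent.Helper81
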