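import Mathlib
import Cfsg.Agent.Helper81.FSEven
import Cfsg.Agent.Helper81.ConjIrr
import Cfsg.Agent.Helper74.DefectZero
import Cfsg.Agent.Helper74.CharCount
import Cfsg.Agent.Helper74.RestrictIrr
import Cfsg.Agent.Helper74.DegP

/-!
# Defect zero characters of a normal subgroup of 2-power index and strongly real characters

`N ⊴ G` with `G ⧸ N` a `2`-group, `φ ∈ Irr N` of `2`-defect zero whose complex conjugate is
`G`-conjugate to `φ`: some `χ ∈ Irr G` with Frobenius–Schur indicator `+1` has `⟨χ_N, φ⟩ = 1`.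
-/

set_option autoImplicit false
set_option linter.unusedSectionVars false

namespace Cfsg.Agent.Helper81

open Cfsg
open scoped ComplexConjugate

universe u

section

variable {G : Type u} [Group G] [Fintype G] (N : Subgroup G) [hN : N.Normal] [Fintype N]

/-- Counting identity from column orthogonality: if `φ ∈ Irr N` vanishes on the nonidentity
`2`-elements of `N` and `P` is a `2`-subgroup of `G`, then
`∑_χ ⟨χ_N, φ⟩ ⟨1_P, χ_P⟩ = |G| φ(1) / (|N| |P|)`. -/
theorem sum_mult_mul_fixed (P : Subgroup G) [Fintype P] (hP : IsPGroup 2 P)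
    (φ : N → ℂ) (hvan : ∀ n : N, 2 ∣ orderOf n → φ n = 0)
    [Fintype (IrrCharacter G)] :
    ∑ χ : IrrCharacter G, classInner (fun n : N => (χ : G → ℂ) n) φ *
        ((Nat.card P : ℂ)⁻¹ * ∑ x : P, conj ((χ : G → ℂ) x)) =
      (Nat.card N : ℂ)⁻¹ * (Nat.card P : ℂ)⁻¹ * ((Nat.card G : ℂ) * conj (φ 1)) := by
  classical
  have h1 : ∀ χ : IrrCharacter G, classInner (fun n : N => (χ : G → ℂ) n) φ *
        ((Nat.card P : ℂ)⁻¹ * ∑ x : P, conj ((χ : G → ℂ) x)) =
      ∑ n : N, ∑ x : P, (Nat.card N : ℂ)⁻¹ * (Nat.card P : ℂ)⁻¹ *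
        (conj (φ n) * ((χ : G → ℂ) n * conj ((χ : G → ℂ) x))) := by
    intro χ
    rw [classInner, mul_mul_mul_comm, Finset.sum_mul_sum, Finset.mul_sum]
    refine Finset.sum_congr rfl fun n _ => ?_
    rw [Finset.mul_sum]
    refine Finset.sum_congr rfl fun x _ => ?_
    ring
  rw [Finset.sum_congr rfl fun χ _ => h1 χ, Finset.sum_comm]
  have h2 : ∀ n : N, ∑ χ : IrrCharacter G, ∑ x : P, (Nat.card N : ℂ)⁻¹ * (Nat.card P : ℂ)⁻¹ *
        (conj (φ n) * ((χ : G → ℂ) n * conj ((χ : G → ℂ) x))) =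
      ∑ x : P, (Nat.card N : ℂ)⁻¹ * (Nat.card P : ℂ)⁻¹ * (conj (φ n) *
        (if IsConj (n : G) (x : G) then
          (Nat.card (Subgroup.centralizer ({(x : G)} : Set G)) : ℂ) else 0)) := by
    intro n
    rw [Finset.sum_comm]
    refine Finset.sum_congr rfl fun x _ => ?_
    rw [← Helper74.second_orthogonality (n : G) (x : G), Finset.mul_sum, Finset.mul_sum]
  rw [Finset.sum_congr rfl fun n _ => h2 n]
  rw [Finset.sum_eq_single (1 : N)]
  · rw [Finset.sum_eq_single (1 : P)]
    · have hc : Subgroup.centralizer ({((1 : P) : G)} : Set G) = ⊤ := by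
        ext g
        simp [Subgroup.mem_centralizer_iff]
      have hconj : IsConj ((1 : N) : G) ((1 : P) : G) := by
        rw [Subgroup.coe_one, Subgroup.coe_one]
      rw [if_pos hconj, hc, Subgroup.card_top, mul_comm (conj (φ 1))]
    · intro x _ hx
      have hnc : ¬ IsConj ((1 : N) : G) (x : G) := by
        intro h
        apply hx
        apply Subtype.ext
        rw [Subgroup.coe_one] at h
        rw [Subgroup.coe_one]
        exact (isConj_one_right.mp h)
      rw [if_neg hnc, mul_zero, mul_zero]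
    · intro h; exact absurd (Finset.mem_univ _) h
  · intro n _ hn
    refine Finset.sum_eq_zero fun x _ => ?_
    by_cases hc : IsConj (n : G) (x : G)
    · obtain ⟨c, hc'⟩ := isConj_iff.mp hc
      have hsc : SemiconjBy c (n : G) (x : G) := by
        rw [SemiconjBy, ← hc']; group
      have ho : orderOf n = orderOf x := by
        rw [← Subgroup.orderOf_coe n, ← Subgroup.orderOf_coe x]
        exact hsc.orderOf_eq
      obtain ⟨k, hk⟩ := (IsPGroup.iff_orderOf.mp hP) x
      have hk0 : k ≠ 0 := by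
        rintro rfl
        rw [pow_zero] at hk
        rw [hk, orderOf_eq_one_iff] at ho
        exact hn ho
      have h2 : 2 ∣ orderOf n := by
        rw [ho, hk]
        exact dvd_pow_self 2 hk0
      rw [hvan n h2, map_zero, zero_mul, mul_zero]
    · rw [if_neg hc, mul_zero, mul_zero]
  · intro h; exact absurd (Finset.mem_univ _) h

/-- If `φ̄ = φ^g`, then `⟨χ̄_N, φ⟩ = conj ⟨χ_N, φ⟩` for a class function `χ` of `G`. -/
theorem inner_conj_of_conj_conjugate {χ : G → ℂ} (hχ : IsClassFunction G χ) (φ : N → ℂ) (g : G)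
    (hg : ∀ n n' : N, (n' : G) = g * (n : G) * g⁻¹ → φ n' = conj (φ n)) :
    classInner (fun n : N => conj (χ n)) φ = conj (classInner (fun n : N => χ n) φ) := by
  rw [classInner, classInner, map_mul, map_inv₀, Complex.conj_natCast, map_sum]
  congr 1
  let e : N ≃ N :=
    { toFun := fun n => ⟨g * (n : G) * g⁻¹, hN.conj_mem (n : G) n.2 g⟩
      invFun := fun n => ⟨g⁻¹ * (n : G) * g, by
        have := hN.conj_mem (n : G) n.2 g⁻¹
        rwa [inv_inv] at this⟩
      left_inv := fun n => by apply Subtype.ext; simp [mul_assoc]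
      right_inv := fun n => by apply Subtype.ext; simp [mul_assoc] }
  rw [← Equiv.sum_comp e (fun n : N => conj (χ n * conj (φ n)))]
  refine Finset.sum_congr rfl fun n _ => ?_
  have h1 : ((e n : N) : G) = g * (n : G) * g⁻¹ := rfl
  rw [hg n (e n) h1, h1, hχ (n : G) g, map_mul, Complex.conj_conj]

theorem fsInd_conj (χ : G → ℂ) : fsInd (fun g => conj (χ g)) = conj (fsInd χ) := by
  rw [fsInd, fsInd, map_mul, map_inv₀, Complex.conj_natCast, map_sum]

/-- **Main counting theorem.** -/
theorem exists_fsInd_one_over_defect_zero (h2 : IsPGroup 2 (G ⧸ N)) (φ : IrrCharacter N)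
    (hdef : 2 ^ (Nat.card N).factorization 2 ∣ charDegree (φ : N → ℂ))
    (hconj : ∃ g : G, ∀ n n' : N, (n' : G) = g * (n : G) * g⁻¹ →
      (φ : N → ℂ) n' = conj ((φ : N → ℂ) n)) :
    ∃ χ : IrrCharacter G, fsInd (χ : G → ℂ) = 1 ∧
      classInner (fun n : N => (χ : G → ℂ) n) (φ : N → ℂ) = 1 := by
  classical
  let _ := Helper74.irrFintype G
  obtain ⟨g, hg⟩ := hconj
  let P : Sylow 2 G := default
  let _ : Fintype (P : Subgroup G) := Fintype.ofFinite _
  have hPp : IsPGroup 2 (P : Subgroup G) := P.isPGroup'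
  have hvan : ∀ n : N, 2 ∣ orderOf n → (φ : N → ℂ) n = 0 := fun n hn =>
    Helper74.irr_eq_zero_of_defect_zero φ Nat.prime_two hdef n hn
  choose a ha using fun χ : IrrCharacter G => Helper74.isCharacter_inner_irr_nat
    (Helper74.isCharacter_restrict N (Helper74.irr_isCharacter χ)) φ
  choose b hb using fun χ : IrrCharacter G => exists_nat_inner_one χ.2 (P : Subgroup G)
  have hb' : ∀ χ : IrrCharacter G,
      (Nat.card (P : Subgroup G) : ℂ)⁻¹ * ∑ x : (P : Subgroup G), conj ((χ : G → ℂ) x) = b χ := by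
    intro χ
    have := congrArg conj (hb χ)
    rwa [map_mul, map_inv₀, Complex.conj_natCast, map_sum, Complex.conj_natCast] at this
  have hid := sum_mult_mul_fixed N (P : Subgroup G) hPp (φ : N → ℂ) hvan
  rw [Finset.sum_congr rfl fun χ _ => by rw [ha χ, hb' χ]] at hid
  -- arithmetic
  have hN0 : Nat.card N ≠ 0 := Nat.card_pos.ne'
  set e := (Nat.card N).factorization 2 with he
  obtain ⟨f, hf⟩ := hdef
  have hd := Helper74.charDegree_cast (Helper74.irr_isCharacter φ)
  have hdN : charDegree (φ : N → ℂ) ∣ Nat.card N := Helper74.charDegree_dvd_card φ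
  have hfodd : Odd f := by
    rw [← Nat.not_even_iff_odd]
    rintro ⟨r, hr⟩
    have h3 : 2 ^ (e + 1) ∣ Nat.card N := by
      refine Dvd.dvd.trans ⟨r, ?_⟩ hdN
      rw [hf, hr, pow_succ]; ring
    exact Nat.pow_succ_factorization_not_dvd hN0 Nat.prime_two h3
  obtain ⟨j, hj⟩ := IsPGroup.iff_card.mp h2
  have hidx : N.index = 2 ^ j := by rw [Subgroup.index_eq_card, hj]
  have hG : Nat.card G = Nat.card N * 2 ^ j := by rw [← hidx, Subgroup.card_mul_index]
  have hPc : Nat.card (P : Subgroup G) = 2 ^ (e + j) := by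
    rw [Sylow.card_eq_multiplicity, hG, Nat.factorization_mul hN0 (by positivity),
      Nat.Prime.factorization_pow Nat.prime_two]
    simp [he]
  have hsum : ∑ χ : IrrCharacter G, a χ * b χ = f := by
    have h4 : ((∑ χ : IrrCharacter G, a χ * b χ : ℕ) : ℂ) = (f : ℂ) := by
      push_cast
      rw [hid, ← hd, hf, Complex.conj_natCast, hPc, hG]
      have h5 : (Nat.card N : ℂ) ≠ 0 := by exact_mod_cast hN0
      push_cast
      field_simp
      ring
    exact_mod_cast h4
  -- invariance under complex conjugation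
  have ha_conj : ∀ χ : IrrCharacter G, a (irrConj G χ) = a χ := by
    intro χ
    have h6 := inner_conj_of_conj_conjugate N
      (Helper74.isClassFunction_of_isCharacter (Helper74.irr_isCharacter χ)) (φ : N → ℂ) g hg
    have h7 : classInner (fun n : N => (irrConj G χ : G → ℂ) n) (φ : N → ℂ) = a χ := by
      have : (fun n : N => (irrConj G χ : G → ℂ) n) = fun n : N => conj ((χ : G → ℂ) n) := rfl
      rw [this, h6, ha χ, Complex.conj_natCast]
    rw [ha (irrConj G χ)] at h7
    exact_mod_cast h7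
  have hb_conj : ∀ χ : IrrCharacter G, b (irrConj G χ) = b χ := by
    intro χ
    have h8 := hb (irrConj G χ)
    have : ∀ x : (P : Subgroup G), (irrConj G χ : G → ℂ) x = conj ((χ : G → ℂ) x) := fun x => rfl
    rw [Finset.sum_congr rfl fun x _ => this x, hb' χ] at h8
    exact_mod_cast h8.symm
  have hfs_conj : ∀ χ : IrrCharacter G, fsInd (irrConj G χ : G → ℂ) = fsInd (χ : G → ℂ) := by
    intro χ
    have : (irrConj G χ : G → ℂ) = fun g => conj ((χ : G → ℂ) g) := rfl
    rw [this, fsInd_conj]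
    rcases fsInd_trichotomy χ.2 with h | h | h <;> rw [h] <;> simp
  -- the part of the sum over characters with indicator ≠ 1 is even
  have hpart : ∑ χ ∈ Finset.univ.filter (fun χ : IrrCharacter G => fsInd (χ : G → ℂ) ≠ 1),
      ((a χ * b χ : ℕ) : ZMod 2) = 0 := by
    refine Finset.sum_involution (fun χ _ => irrConj G χ) ?_ ?_ ?_ ?_
    · intro χ _
      rw [ha_conj, hb_conj]
      have : (2 : ZMod 2) = 0 := rfl
      linear_combination ((a χ * b χ : ℕ) : ZMod 2) * this
    · intro χ hχ hne hfix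
      rw [Finset.mem_filter] at hχ
      apply hne
      have hreal := (irrConj_eq_self_iff χ).mp hfix
      have hne0 := (fsInd_ne_zero_iff χ.2).mpr hreal
      have hm1 : fsInd (χ : G → ℂ) = -1 := by
        rcases fsInd_trichotomy χ.2 with h | h | h
        · exact absurd h hne0
        · exact absurd h hχ.2
        · exact h
      obtain ⟨m, hm⟩ := even_inner_one_of_fsInd_neg_one χ.2 hm1 (P : Subgroup G)
      rw [hb χ] at hm
      have hbm : b χ = 2 * m := by exact_mod_cast hm
      rw [hbm]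
      push_cast
      have : (2 : ZMod 2) = 0 := rfl
      rw [this]; ring
    · intro χ hχ
      rw [Finset.mem_filter] at hχ ⊢
      exact ⟨Finset.mem_univ _, by rw [hfs_conj]; exact hχ.2⟩
    · intro χ _
      exact (irrConj G).left_inv χ |> fun _ => by
        apply Subtype.ext; funext x; simp
  have htot : ∑ χ : IrrCharacter G, ((a χ * b χ : ℕ) : ZMod 2) = 1 := by
    rw [← Nat.cast_sum, hsum]
    obtain ⟨r, hr⟩ := hfodd
    rw [hr]; push_cast
    have : (2 : ZMod 2) = 0 := rfl
    rw [this]; ring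
  have hsplit := Finset.sum_filter_add_sum_filter_not (Finset.univ : Finset (IrrCharacter G))
    (fun χ : IrrCharacter G => fsInd (χ : G → ℂ) ≠ 1) (fun χ => ((a χ * b χ : ℕ) : ZMod 2))
  rw [hpart, zero_add, htot] at hsplit
  have hne : ∑ χ ∈ Finset.univ.filter (fun χ : IrrCharacter G => ¬ fsInd (χ : G → ℂ) ≠ 1),
      ((a χ * b χ : ℕ) : ZMod 2) ≠ 0 := by
    rw [hsplit]; exact one_ne_zero
  obtain ⟨χ, hχmem, hχne⟩ := Finset.exists_ne_zero_of_sum_ne_zero hne
  rw [Finset.mem_filter, not_not] at hχmem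
  refine ⟨χ, hχmem.2, ?_⟩
  have haodd : Odd (a χ) := by
    rw [← Nat.not_even_iff_odd]
    rintro ⟨r, hr⟩
    apply hχne
    rw [hr]; push_cast
    have : (2 : ZMod 2) = 0 := rfl
    linear_combination ((r : ZMod 2) * (b χ : ZMod 2)) * this
  have ha0 : classInner (fun n : N => (χ : G → ℂ) n) (φ : N → ℂ) ≠ 0 := by
    rw [ha χ]
    have : a χ ≠ 0 := fun h => by rw [h] at haodd; exact (Nat.not_odd_iff_even.mpr Even.zero) haodd
    exact_mod_cast this
  obtain ⟨e', he', _, hdvd⟩ := Helper74.clifford_degree_data N χ.2 φ.2 ha0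
  have hee : e' = a χ := by
    have := he'.symm.trans (ha χ)
    exact_mod_cast this
  have hdvd2 : a χ ∣ 2 ^ j := by
    rw [← hidx, ← hee]
    exact Dvd.dvd.trans ⟨_, rfl⟩ hdvd
  obtain ⟨i, _, hi⟩ := (Nat.dvd_prime_pow Nat.prime_two).mp hdvd2
  have hi0 : i = 0 := by
    by_contra h
    rw [hi] at haodd
    exact (Nat.not_odd_iff_even.mpr ((Nat.even_pow' h).mpr even_two)) haodd
  rw [ha χ, hi, hi0, pow_zero, Nat.cast_one]

end

end Cfsg.Agent.Helper81
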