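import Cfsg.Agent.Helper25.FSwan.Defs2
import Cfsg.Agent.Helper25.PSolvLin.IndFacts

/-!
# Fong-Swan farm (architect helper25, S4440), leaf (S2d): induction commutes with the restriction to the
`p`-regular elements
-/

set_option autoImplicit false
set_option linter.unusedSectionVars false
set_option linter.unusedVariables false

namespace Cfsg.Agent.Helper81.FS

open Cfsg Cfsg.Agent.Helper16 Cfsg.Agent.Helper16.DT Cfsg.Agent.Helper25.FS

universe u

variable {p : ℕ} [Fact p.Prime] {M : Ideal AlgInt} [M.IsMaximal] {G : Type u} [Group G]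

theorem S2d_isPRegular_conj (g x : G) : IsPRegular p (x⁻¹ * g * x) ↔ IsPRegular p g := by
  unfold IsPRegular
  have h : SemiconjBy x⁻¹ g (x⁻¹ * g * x) := by
    unfold SemiconjBy
    group
  rw [h.orderOf_eq]

theorem S2d_isPRegular_coe (T : Subgroup G) (t : T) : IsPRegular p t ↔ IsPRegular p (t : G) := by
  unfold IsPRegular
  rw [Subgroup.orderOf_coe]

theorem S2d_extendByZero (T : Subgroup G) (f : T → ℂ) (y : G) :
    extendByZero T (pRegularPart p f) y = pRegularPart p (extendByZero T f) y := by
  classical
  by_cases hy : y ∈ T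
  · rw [Cfsg.Agent.Helper25.PSolvLin.extendByZero_of_mem T _ y hy]
    unfold pRegularPart
    rw [Cfsg.Agent.Helper25.PSolvLin.extendByZero_of_mem T _ y hy]
    have h := S2d_isPRegular_coe (p := p) T ⟨y, hy⟩
    by_cases hr : IsPRegular p y
    · rw [if_pos hr, if_pos (h.mpr hr)]
    · rw [if_neg hr, if_neg (fun h' => hr (h.mp h'))]
  · rw [Cfsg.Agent.Helper25.PSolvLin.extendByZero_of_not_mem T _ y hy]
    unfold pRegularPart
    rw [Cfsg.Agent.Helper25.PSolvLin.extendByZero_of_not_mem T _ y hy]
    simp

section ST2

variable [Fintype G] (N : Subgroup G) [hN : N.Normal] [Fintype N]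

omit hN [M.IsMaximal] in
/-- (S2d) induction commutes with the restriction to the `p`-regular elements (conjugation preserves
`p`-regularity). -/
theorem indFun_pRegularPart (T : Subgroup G) (f : T → ℂ) :
    indFun T (pRegularPart p f) = pRegularPart p (indFun T f) := by
  classical
  funext g
  unfold indFun
  have h1 : ∀ x : G, extendByZero T (pRegularPart p f) (x⁻¹ * g * x) =
      if IsPRegular p g then extendByZero T f (x⁻¹ * g * x) else 0 := by
    intro x
    rw [S2d_extendByZero]
    unfold pRegularPart
    by_cases hr : IsPRegular p g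
    · rw [if_pos hr, if_pos ((S2d_isPRegular_conj g x).mpr hr)]
    · rw [if_neg hr, if_neg (fun h' => hr ((S2d_isPRegular_conj g x).mp h'))]
  simp only [h1]
  show _ = if IsPRegular p g then _ else 0
  by_cases hr : IsPRegular p g
  · simp only [if_pos hr]
  · simp only [if_neg hr, Finset.sum_const_zero, mul_zero]

end ST2

end Cfsg.Agent.Helper81.FS
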