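import Cfsg.Agent.Helper25.FSwan.Defs2
import Cfsg.Agent.Helper15.Gallagher
import Cfsg.Agent.Helper80.Pullback
import Cfsg.Agent.Helper15.CliffordCorr
import Cfsg.Agent.Helper80.CharLevel

/-!
# Fong-Swan farm (architect helper25, S4440), leaf (S3c): Gallagher over `EG N Y ⧸ N1 N Y`

The `_of` versions take the conclusion of (S3b) (`thetaExt` irreducible on `EG N Y` and on `N1 N Y`) as a hypothesis.
-/

set_option autoImplicit false
set_option linter.unusedSectionVars false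
set_option linter.unusedVariables false
set_option linter.style.haveILetI false

namespace Cfsg.Agent.Helper81.FS

open Cfsg Cfsg.Agent.Helper16 Cfsg.Agent.Helper16.DT Cfsg.Agent.Helper25.FS

universe u

/-- abstract Gallagher, surjectivity: `χ ∈ Irr Γ` restricting irreducibly to `L ⊴ Γ`; every `χ' ∈ Irr Γ` whose restriction to
`L` is a nonzero multiple of `χ_L` is `χ * (β ∘ mk)` with `β ∈ Irr (Γ ⧸ L)`. -/
theorem S3c_gallagher_surj {Γ : Type u} [Group Γ] [Finite Γ] (L : Subgroup Γ) [hL : L.Normal] {χ : Γ → ℂ}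
    (hχ : IsIrrCharacter Γ χ) (hχL : IsIrrCharacter L (fun n : L => χ n))
    (χ' : IrrCharacter Γ) (h : ∃ c : ℂ, c ≠ 0 ∧ ∀ x : L, (χ' : Γ → ℂ) x = c * χ x) :
    ∃ β : IrrCharacter (Γ ⧸ L), (χ' : Γ → ℂ) = χ * ((β : Γ ⧸ L → ℂ) ∘ QuotientGroup.mk) := by
  classical
  letI : Fintype Γ := Fintype.ofFinite Γ
  letI : Fintype L := Fintype.ofFinite L
  have hB := Helper15.gallagher_bijOn L hχ hχL
  obtain ⟨c, hc0, hc⟩ := h
  have hcf : IsClassFunction Γ (χ' : Γ → ℂ) :=
    Helper74.isClassFunction_of_isCharacter (Helper74.isCharacter_of_isIrr χ'.2)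
  have htarget : classInner (indFun L (fun n : L => χ n)) (χ' : Γ → ℂ) ≠ 0 := by
    rw [Helper15.frobenius_reciprocity L _ _ hcf]
    have hres : (fun n : L => (χ' : Γ → ℂ) n) = c • (fun n : L => χ n) := by
      funext n
      rw [hc n]
      rfl
    rw [hres, Helper15.classInner_smul_right, Helper74.irr_inner_self ⟨_, hχL⟩, mul_one]
    intro h0
    apply hc0
    have := congrArg (starRingEnd ℂ) h0
    simpa using this
  obtain ⟨β₀, ⟨hβ₀, hβ₀1⟩, hβ₀χ⟩ := hB.surjOn ⟨χ'.2, htarget⟩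
  -- `L` is in the kernel of `β₀`
  have hβcf : IsClassFunction Γ β₀ :=
    Helper74.isClassFunction_of_isCharacter (Helper74.isCharacter_of_isIrr hβ₀)
  have h01 : classInner (fun n : L => β₀ n) (fun _ => (1 : ℂ)) ≠ 0 := by
    rw [Helper15.frobenius_reciprocity L _ _ hβcf] at hβ₀1
    intro h0
    apply hβ₀1
    rw [← Helper15.classInner_conj_symm, h0, map_zero]
  have hker : ∀ g : Γ, QuotientGroup.mk' L g = 1 → β₀ g = β₀ 1 := by
    intro g hg
    have hgL : g ∈ L := by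
      rw [← QuotientGroup.ker_mk' L]
      exact hg
    have := Helper15.normal_mul_of_inner_one_ne_zero L hβ₀ h01 ⟨g, hgL⟩ 1
    simpa using this
  obtain ⟨ψ, hψ, hψβ⟩ := Helper80.IsIrrCharacter.exists_descend hβ₀ (QuotientGroup.mk' L)
    (QuotientGroup.mk'_surjective L) hker
  refine ⟨⟨ψ, hψ⟩, ?_⟩
  rw [← hβ₀χ]
  funext g
  show β₀ g * χ g = χ g * ψ (QuotientGroup.mk g)
  rw [hψβ g, mul_comm]
  rfl

/-- abstract Gallagher, the products are irreducible -/
theorem S3c_gallagher_irr {Γ : Type u} [Group Γ] [Finite Γ] (L : Subgroup Γ) [hL : L.Normal] {χ : Γ → ℂ}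
    (hχ : IsIrrCharacter Γ χ) (hχL : IsIrrCharacter L (fun n : L => χ n))
    (β : IrrCharacter (Γ ⧸ L)) :
    IsIrrCharacter Γ (χ * ((β : Γ ⧸ L → ℂ) ∘ QuotientGroup.mk)) := by
  classical
  letI : Fintype Γ := Fintype.ofFinite Γ
  letI : Fintype L := Fintype.ofFinite L
  have hB := Helper15.gallagher_bijOn L hχ hχL
  have hβ₀ : IsIrrCharacter Γ (fun g => (β : Γ ⧸ L → ℂ) (QuotientGroup.mk' L g)) :=
    Helper80.IsIrrCharacter.comp_surjective β.2 (QuotientGroup.mk' L) (QuotientGroup.mk'_surjective L)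
  have hβcf : IsClassFunction Γ (fun g => (β : Γ ⧸ L → ℂ) (QuotientGroup.mk' L g)) :=
    Helper74.isClassFunction_of_isCharacter (Helper74.isCharacter_of_isIrr hβ₀)
  have hsrc : classInner (indFun L (fun _ => (1 : ℂ)))
      (fun g => (β : Γ ⧸ L → ℂ) (QuotientGroup.mk' L g)) ≠ 0 := by
    rw [Helper15.frobenius_reciprocity L _ _ hβcf]
    have hres : (fun n : L => (β : Γ ⧸ L → ℂ) (QuotientGroup.mk' L (n : Γ))) =
        ((β : Γ ⧸ L → ℂ) 1) • (fun _ : L => (1 : ℂ)) := by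
      funext n
      have : QuotientGroup.mk' L (n : Γ) = 1 := by
        rw [← MonoidHom.mem_ker, QuotientGroup.ker_mk']
        exact n.2
      rw [this]
      simp
    rw [hres, Helper15.classInner_smul_right, Helper74.irr_inner_self ⟨_, Helper15.isIrrCharacter_one L⟩,
      mul_one]
    intro h0
    have h1 : (β : Γ ⧸ L → ℂ) 1 = 0 := by
      have := congrArg (starRingEnd ℂ) h0
      simpa using this
    exact Helper80.IsIrrCharacter.map_one_ne_zero β.2 h1
  have := (hB.mapsTo ⟨hβ₀, hsrc⟩).1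
  have heq : (fun β' : Γ → ℂ => β' * χ) (fun g => (β : Γ ⧸ L → ℂ) (QuotientGroup.mk' L g)) =
      χ * ((β : Γ ⧸ L → ℂ) ∘ QuotientGroup.mk) := by
    funext g
    show (β : Γ ⧸ L → ℂ) (QuotientGroup.mk' L g) * χ g = χ g * (β : Γ ⧸ L → ℂ) (QuotientGroup.mk g)
    rw [mul_comm]
    rfl
  rw [← heq]
  exact this

variable {p : ℕ} [Fact p.Prime] {M : Ideal AlgInt} [M.IsMaximal] {G : Type u} [Group G]

section ST3

variable [Fintype G] (N : Subgroup G) [hN : N.Normal] [Fintype N] {d : ℕ}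
  (Y : Representation ℂ N (Fin d → ℂ))

omit [Fintype G] [Fintype N] in
/-- (S3c), with the conclusion of (S3b) as a hypothesis -/
theorem exists_gallagher_of
    (hS3b : IsIrrCharacter (EG N Y) (thetaExt N Y) ∧
      IsIrrCharacter (N1 N Y) (fun x : N1 N Y => thetaExt N Y x))
    [Finite (EG N Y)] (hN1 : (N1 N Y).Normal)
    (χ' : IrrCharacter (EG N Y))
    (h : ∃ c : ℂ, c ≠ 0 ∧ ∀ x : N1 N Y, (χ' : EG N Y → ℂ) x = c * thetaExt N Y x) :
    ∃ β : IrrCharacter (EG N Y ⧸ N1 N Y),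
      (χ' : EG N Y → ℂ) = thetaExt N Y * ((β : EG N Y ⧸ N1 N Y → ℂ) ∘ QuotientGroup.mk) :=
  S3c_gallagher_surj (N1 N Y) hS3b.1 hS3b.2 χ' h

omit [Fintype G] [Fintype N] in
/-- (S3c) conversely, with the conclusion of (S3b) as a hypothesis -/
theorem isIrrCharacter_thetaExt_mul_of
    (hS3b : IsIrrCharacter (EG N Y) (thetaExt N Y) ∧
      IsIrrCharacter (N1 N Y) (fun x : N1 N Y => thetaExt N Y x))
    [Finite (EG N Y)]
    (hN1 : (N1 N Y).Normal) (β : IrrCharacter (EG N Y ⧸ N1 N Y)) :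
    IsIrrCharacter (EG N Y)
      (thetaExt N Y * ((β : EG N Y ⧸ N1 N Y → ℂ) ∘ QuotientGroup.mk)) :=
  S3c_gallagher_irr (N1 N Y) hS3b.1 hS3b.2 β

end ST3

end Cfsg.Agent.Helper81.FS
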