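import Cfsg.Agent.Helper81.GA0
import Cfsg.Agent.Lib.Cores
import Cfsg.Agent.Lib.Nilpotent
import Cfsg.Agent.S4835
import Cfsg.Agent.S4837

/-!
# S4840: from the two-class character to a linear group

* `exists_gagolaData`: S4835 + S4837 (helper80) packaged as `GagolaData`.
* `GagolaData.pCore_ne_bot_iff`, `GagolaData.pCore_eq_centralizer`.
* `GagolaData.linConcl_quotient`: `G ⧸ O_p(G)` acts faithfully on `N`, transitively on `N ∖ 1`
  with `p`-groups as point stabilizers; transported to a `ZMod p`-linear action, to which the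
  "linear theorem" `LinThm p` applies.
-/

set_option autoImplicit false
set_option linter.style.haveILetI false

namespace Cfsg.Agent.Helper81.GA

universe u

open Cfsg

/-- The statement about solvable linear groups that is needed (proved in `GA2`). -/
def LinThm (p : ℕ) : Prop :=
  ∀ (V : Type u) [AddCommGroup V] [Module (ZMod p) V] [Finite V] [Nontrivial V]
    (Γ : Type u) [Group Γ] [Finite Γ], Group.IsSolvable Γ →
    ∀ ρ : Γ →* (V ≃ₗ[ZMod p] V), Function.Injective ρ →
    (∀ v w : V, v ≠ 0 → w ≠ 0 → ∃ g : Γ, ρ g v = w) →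
    (∀ v : V, v ≠ 0 → ∀ g : Γ, ρ g v = v → ∃ k : ℕ, orderOf g = p ^ k) → LinConcl p Γ

theorem exists_gagolaData {G : Type u} [Group G] [Finite G] (hG : 2 < Nat.card G)
    (χ : Cfsg.IrrCharacter G)
    (hχ : Nat.card {C : ConjClasses G // ∃ g ∈ C.carrier, (χ : G → ℂ) g ≠ 0} = 2) :
    ∃ (p : ℕ) (N : Subgroup G), GagolaData G p N := by
  obtain ⟨N, hNn, hN1, hmin, ⟨p, hp, hcomm, hexp⟩, hsupp, hconj⟩ :=
    Cfsg.Agent.S4835.result hG χ hχ
  have : Fact p.Prime := ⟨hp⟩
  have := hNn
  have hNp : IsPGroup p N := by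
    intro x
    refine ⟨1, ?_⟩
    apply Subtype.ext
    rw [pow_one]
    simpa using hexp x x.2
  have h37 := (Cfsg.Agent.S4837.result hG χ hχ p N (fun g => (hsupp g).symm) hNp hN1).1
  refine ⟨p, N, hp, hNn, hN1, ?_, hexp, hmin, ?_, ?_⟩
  · intro a ha b hb
    have := hcomm.is_comm.comm (⟨a, ha⟩ : N) ⟨b, hb⟩
    exact congrArg Subtype.val this
  · intro x hx y hy hx1 hy1
    obtain ⟨g, hg⟩ := hconj x hx y hy hx1 hy1
    exact isConj_iff.mpr ⟨g, hg⟩
  · intro x hx hx1
    obtain ⟨P, hP⟩ := h37 x hx hx1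
    rw [hP]
    exact P.isPGroup'

variable {G : Type u} [Group G] {p : ℕ} {N : Subgroup G}

theorem GagolaData.isPGroup (h : GagolaData G p N) : IsPGroup p N := by
  intro x
  refine ⟨1, ?_⟩
  apply Subtype.ext
  rw [pow_one]
  simpa using h.exp x x.2

theorem GagolaData.exists_ne_one (h : GagolaData G p N) : ∃ x ∈ N, x ≠ 1 := by
  by_contra hcon
  push Not at hcon
  exact h.ne_bot ((Subgroup.eq_bot_iff_forall N).mpr hcon)

theorem GagolaData.le_pCore (h : GagolaData G p N) : N ≤ Cfsg.pCore p G :=
  Cfsg.Agent.Lib.le_pCore h.normal h.isPGroup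

theorem GagolaData.pCore_ne_bot_iff [Finite G] (h : GagolaData G p N) (q : ℕ) (hq : q.Prime) :
    Cfsg.pCore q G ≠ ⊥ ↔ q = p := by
  constructor
  · intro hne
    have hle : N ≤ Cfsg.pCore q G := h.unique_min _ (Cfsg.pCore_normal q G) hne
    obtain ⟨x, hx, hx1⟩ := h.exists_ne_one
    have hqx : IsPGroup q N := (Cfsg.Agent.Lib.isPGroup_pCore q).to_le hle
    obtain ⟨k, hk⟩ := hqx ⟨x, hx⟩
    have hk' : x ^ q ^ k = 1 := by simpa using congrArg Subtype.val hk
    have hxp : x ^ p = 1 := h.exp x hx
    have ho : orderOf x = p := by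
      rcases (Nat.dvd_prime h.prime).mp (orderOf_dvd_of_pow_eq_one hxp) with h1 | h1
      · exact absurd (orderOf_eq_one_iff.mp h1) hx1
      · exact h1
    have hdvd : p ∣ q ^ k := ho ▸ orderOf_dvd_of_pow_eq_one hk'
    have := (Nat.prime_dvd_prime_iff_eq h.prime hq).mp (h.prime.dvd_of_dvd_pow hdvd)
    exact this.symm
  · rintro rfl hbot
    have := h.le_pCore
    rw [hbot] at this
    exact h.ne_bot (le_bot_iff.mp this)

theorem GagolaData.pCore_eq_centralizer [Finite G] (h : GagolaData G p N) :
    Cfsg.pCore p G = Subgroup.centralizer (N : Set G) := by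
  have : Fact p.Prime := ⟨h.prime⟩
  have := h.normal
  apply le_antisymm
  · -- `N ∩ Z(O_p(G))` is a nontrivial normal subgroup, hence contains `N`
    set K : Subgroup G := Cfsg.pCore p G with hK
    have hKn : K.Normal := Cfsg.pCore_normal p G
    have hKp : IsPGroup p K := Cfsg.Agent.Lib.isPGroup_pCore p
    have : Group.IsNilpotent K := hKp.isNilpotent
    have hNK : N ≤ K := h.le_pCore
    -- the subgroup `N.subgroupOf K` is normal and nontrivial
    have : (N.subgroupOf K).Normal := inferInstance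
    have hne : N.subgroupOf K ≠ ⊥ := by
      intro hb
      rw [Subgroup.subgroupOf_eq_bot] at hb
      rw [disjoint_iff, inf_eq_left.mpr hNK] at hb
      exact h.ne_bot hb
    have hmeet := Cfsg.Agent.Lib.normal_inf_center_ne_bot (N.subgroupOf K) hne
    -- the image in `G`
    set Z : Subgroup G := (Subgroup.center K).map K.subtype with hZ
    have hZn : Z.Normal := by
      have : (Subgroup.center K).Characteristic := inferInstance
      have : (Subgroup.center K).Normal := inferInstance
      -- characteristic in a normal subgroup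
      refine ⟨fun z hz g => ?_⟩
      obtain ⟨c, hc, rfl⟩ := hz
      have hgc : g * (c : G) * g⁻¹ ∈ K := hKn.conj_mem _ c.2 g
      refine ⟨⟨g * c * g⁻¹, hgc⟩, ?_, rfl⟩
      have hc := Subgroup.mem_center_iff.mp hc
      show _ ∈ Subgroup.center K
      rw [Subgroup.mem_center_iff]
      intro k
      have hk' : g⁻¹ * (k : G) * g ∈ K := by
        have := hKn.conj_mem _ k.2 g⁻¹
        simpa using this
      have := hc ⟨g⁻¹ * k * g, hk'⟩
      have h2 := congrArg Subtype.val this
      simp only [Subgroup.coe_mul] at h2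
      apply Subtype.ext
      simp only [Subgroup.coe_mul]
      calc (k : G) * (g * c * g⁻¹) = g * ((g⁻¹ * k * g) * c) * g⁻¹ := by group
        _ = g * (c * (g⁻¹ * k * g)) * g⁻¹ := by rw [h2]
        _ = g * c * g⁻¹ * k := by group
    have hNZn : (N ⊓ Z).Normal := inferInstance
    have hNZne : N ⊓ Z ≠ ⊥ := by
      intro hb
      apply hmeet
      rw [eq_bot_iff]
      rintro ⟨x, hxK⟩ hx
      rw [Subgroup.mem_inf] at hx
      have hxN : x ∈ N := hx.1
      have hxZ : x ∈ Z := ⟨⟨x, hxK⟩, hx.2, rfl⟩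
      have : x ∈ N ⊓ Z := ⟨hxN, hxZ⟩
      rw [hb, Subgroup.mem_bot] at this
      rw [Subgroup.mem_bot]
      exact Subtype.ext this
    have hNle : N ≤ N ⊓ Z := h.unique_min _ hNZn hNZne
    intro k hk
    rw [Subgroup.mem_centralizer_iff]
    intro n hn
    obtain ⟨c, hc, hcn⟩ := (hNle hn).2
    have hc := Subgroup.mem_center_iff.mp hc
    have := congrArg Subtype.val (hc ⟨k, hk⟩)
    simp only [Subgroup.coe_mul] at this
    have hcn' : (c : G) = n := hcn
    rw [hcn'] at this
    exact this.symm
  · obtain ⟨x, hx, hx1⟩ := h.exists_ne_one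
    have hle : Subgroup.centralizer (N : Set G) ≤ Subgroup.centralizer ({x} : Set G) :=
      Subgroup.centralizer_le (by simpa using hx)
    have hp : IsPGroup p (Subgroup.centralizer (N : Set G)) := (h.cent x hx hx1).to_le hle
    exact Cfsg.Agent.Lib.le_pCore inferInstance hp


/-! ### transport from a multiplicative elementary abelian group to a `ZMod p`-module -/

section transport

variable {M : Type u} [CommGroup M]

/-- an automorphism of `M` as a `ZMod p`-linear automorphism of `Additive M` -/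
def linOf (p : ℕ) [Module (ZMod p) (Additive M)] (f : MulAut M) :
    Additive M ≃ₗ[ZMod p] Additive M :=
  { toFun := fun v => Additive.ofMul (f v.toMul)
    invFun := fun v => Additive.ofMul (f.symm v.toMul)
    left_inv := fun v => by simp
    right_inv := fun v => by simp
    map_add' := fun v w => by
      show Additive.ofMul (f (v.toMul * w.toMul)) = _
      rw [map_mul]; rfl
    map_smul' := fun c v => by
      let F : Additive M →+ Additive M := MonoidHom.toAdditive (f : M →* M)
      exact ZMod.map_smul F c v }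

theorem linOf_apply (p : ℕ) [Module (ZMod p) (Additive M)] (f : MulAut M) (v : Additive M) :
    linOf p f v = Additive.ofMul (f v.toMul) := rfl

/-- `linOf` as a monoid homomorphism -/
def linHom (p : ℕ) [Module (ZMod p) (Additive M)] :
    MulAut M →* (Additive M ≃ₗ[ZMod p] Additive M) where
  toFun := linOf p
  map_one' := by
    apply LinearEquiv.ext
    intro v
    rfl
  map_mul' := by
    intro f g
    apply LinearEquiv.ext
    intro v
    rfl

theorem linHom_apply (p : ℕ) [Module (ZMod p) (Additive M)] (f : MulAut M) (v : Additive M) :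
    linHom p f v = Additive.ofMul (f v.toMul) := rfl

theorem linHom_injective (p : ℕ) [Module (ZMod p) (Additive M)] :
    Function.Injective (linHom (M := M) p) := by
  intro f g hfg
  apply MulEquiv.ext
  intro m
  have := congrArg (fun L => (L (Additive.ofMul m)).toMul) hfg
  simpa [linHom_apply] using this

end transport

/-- (B0), version with a given module structure -/
theorem linConcl_of_mulAut_mod (p : ℕ) [hp : Fact p.Prime] (hlin : LinThm.{u} p)
    {M : Type u} [CommGroup M] [Finite M] [Nontrivial M] [Module (ZMod p) (Additive M)]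
    {Γ : Type u} [Group Γ] [Finite Γ] (hsol : Group.IsSolvable Γ)
    (φ : Γ →* MulAut M) (hφ : Function.Injective φ)
    (htrans : ∀ a b : M, a ≠ 1 → b ≠ 1 → ∃ g : Γ, φ g a = b)
    (hstab : ∀ a : M, a ≠ 1 → ∀ g : Γ, φ g a = a → ∃ k : ℕ, orderOf g = p ^ k) :
    LinConcl p Γ := by
  haveI : Finite (Additive M) := inferInstanceAs (Finite M)
  haveI : Nontrivial (Additive M) := inferInstanceAs (Nontrivial M)
  let ρ : Γ →* (Additive M ≃ₗ[ZMod p] Additive M) := (linHom (M := M) p).comp φ
  have hρ : Function.Injective ρ := (linHom_injective (M := M) p).comp hφ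
  have hρa : ∀ g v, ρ g v = Additive.ofMul (φ g v.toMul) := fun g v => rfl
  refine hlin (Additive M) Γ hsol ρ hρ ?_ ?_
  · intro v w hv hw
    have hv' : v.toMul ≠ 1 := fun h => hv (by rw [← ofMul_toMul v, h]; rfl)
    have hw' : w.toMul ≠ 1 := fun h => hw (by rw [← ofMul_toMul w, h]; rfl)
    obtain ⟨g, hg⟩ := htrans _ _ hv' hw'
    refine ⟨g, ?_⟩
    rw [hρa, hg]
    rfl
  · intro v hv g hg
    have hv' : v.toMul ≠ 1 := fun h => hv (by rw [← ofMul_toMul v, h]; rfl)
    apply hstab _ hv' g
    rw [hρa] at hg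
    have := congrArg Additive.toMul hg
    simpa using this

/-- (B0), commutative version -/
theorem linConcl_of_mulAut_comm (p : ℕ) [hp : Fact p.Prime] (hlin : LinThm.{u} p)
    {M : Type u} [CommGroup M] [Finite M] [Nontrivial M] (hexp : ∀ a : M, a ^ p = 1)
    {Γ : Type u} [Group Γ] [Finite Γ] (hsol : Group.IsSolvable Γ)
    (φ : Γ →* MulAut M) (hφ : Function.Injective φ)
    (htrans : ∀ a b : M, a ≠ 1 → b ≠ 1 → ∃ g : Γ, φ g a = b)
    (hstab : ∀ a : M, a ≠ 1 → ∀ g : Γ, φ g a = a → ∃ k : ℕ, orderOf g = p ^ k) :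
    LinConcl p Γ := by
  letI : Module (ZMod p) (Additive M) := AddCommGroup.zmodModule (n := p) (by
    intro x
    show Additive.ofMul (x.toMul ^ p) = 0
    rw [hexp]; rfl)
  exact linConcl_of_mulAut_mod p hlin hsol φ hφ htrans hstab

/-- (B0) transport of the linear theorem to a group acting on a multiplicative elementary abelian
group. -/
theorem linConcl_of_mulAut (p : ℕ) [hp : Fact p.Prime] (hlin : LinThm.{u} p)
    {M : Type u} [Group M] [Finite M] [Nontrivial M]
    (hcomm : ∀ a b : M, a * b = b * a) (hexp : ∀ a : M, a ^ p = 1)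
    {Γ : Type u} [Group Γ] [Finite Γ] (hsol : Group.IsSolvable Γ)
    (φ : Γ →* MulAut M) (hφ : Function.Injective φ)
    (htrans : ∀ a b : M, a ≠ 1 → b ≠ 1 → ∃ g : Γ, φ g a = b)
    (hstab : ∀ a : M, a ≠ 1 → ∀ g : Γ, φ g a = a → ∃ k : ℕ, orderOf g = p ^ k) :
    LinConcl p Γ := by
  letI : CommGroup M := { (inferInstance : Group M) with mul_comm := hcomm }
  exact linConcl_of_mulAut_comm p hlin hexp hsol φ hφ htrans hstab

/-! ### the action of `G ⧸ O_p(G)` on `N` -/

theorem GagolaData.linConcl_quotient [Finite G] [hs : Group.IsSolvable G]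
    (h : GagolaData G p N) (hlin : LinThm.{u} p) :
    LinConcl p (G ⧸ Cfsg.pCore p G) := by
  haveI : Fact p.Prime := ⟨h.prime⟩
  haveI := h.normal
  have hKC := h.pCore_eq_centralizer
  -- the action
  have hker : ∀ g : G, MulAut.conjNormal (H := N) g = 1 ↔ g ∈ Cfsg.pCore p G := by
    intro g
    rw [hKC, Subgroup.mem_centralizer_iff]
    constructor
    · intro hg n hn
      have := congrArg (fun f : MulAut N => ((f ⟨n, hn⟩ : N) : G)) hg
      simp only [MulAut.conjNormal_apply, MulAut.one_apply] at this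
      conv_lhs => rw [← this]
      group
    · intro hg
      apply MulEquiv.ext
      intro n
      apply Subtype.ext
      rw [MulAut.conjNormal_apply, MulAut.one_apply]
      rw [← hg n n.2]; group
  let φ : G ⧸ Cfsg.pCore p G →* MulAut N :=
    QuotientGroup.lift (Cfsg.pCore p G) (MulAut.conjNormal (H := N))
      (fun g hg => MonoidHom.mem_ker.mpr ((hker g).mpr hg))
  have hφmk : ∀ g : G, φ (g : G ⧸ Cfsg.pCore p G) = MulAut.conjNormal g := fun g => rfl
  have hφ : Function.Injective φ := by
    rw [injective_iff_map_eq_one]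
    intro x hx
    obtain ⟨g, rfl⟩ := QuotientGroup.mk_surjective x
    rw [hφmk] at hx
    exact (QuotientGroup.eq_one_iff g).mpr ((hker g).mp hx)
  haveI : Nontrivial N := by
    obtain ⟨x, hx, hx1⟩ := h.exists_ne_one
    exact ⟨⟨⟨x, hx⟩, 1, fun hc => hx1 (congrArg Subtype.val hc)⟩⟩
  have hsolq : Group.IsSolvable (G ⧸ Cfsg.pCore p G) := inferInstance
  refine linConcl_of_mulAut p hlin ?_ ?_ hsolq φ hφ ?_ ?_
  · intro a b
    exact Subtype.ext (h.comm a a.2 b b.2)
  · intro a
    exact Subtype.ext (by simpa using h.exp a a.2)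
  · intro a b ha hb
    have ha' : (a : G) ≠ 1 := fun hc => ha (Subtype.ext hc)
    have hb' : (b : G) ≠ 1 := fun hc => hb (Subtype.ext hc)
    obtain ⟨g, hg⟩ := isConj_iff.mp (h.conj a a.2 b b.2 ha' hb')
    refine ⟨(g : G ⧸ Cfsg.pCore p G), ?_⟩
    rw [hφmk]
    apply Subtype.ext
    rw [MulAut.conjNormal_apply]
    exact hg
  · intro a ha x hx
    obtain ⟨g, rfl⟩ := QuotientGroup.mk_surjective x
    have ha' : (a : G) ≠ 1 := fun hc => ha (Subtype.ext hc)
    rw [hφmk] at hx
    have hga : g * (a : G) * g⁻¹ = a := by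
      have := congrArg Subtype.val hx
      rwa [MulAut.conjNormal_apply] at this
    have hgc : g ∈ Subgroup.centralizer ({(a : G)} : Set G) := by
      rw [Subgroup.mem_centralizer_iff]
      intro y hy
      rw [Set.mem_singleton_iff] at hy
      subst hy
      conv_lhs => rw [← hga]
      group
    obtain ⟨k, hk⟩ := (h.cent a a.2 ha') ⟨g, hgc⟩
    have hk' : g ^ p ^ k = 1 := by simpa using congrArg Subtype.val hk
    have hq : ((g : G ⧸ Cfsg.pCore p G)) ^ p ^ k = 1 := by
      rw [← QuotientGroup.mk_pow, hk']; rfl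
    obtain ⟨j, _, hj⟩ := (Nat.dvd_prime_pow h.prime).mp (orderOf_dvd_of_pow_eq_one hq)
    exact ⟨j, hj⟩

end Cfsg.Agent.Helper81.GA
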