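import Cfsg.Agent.Helper81.GA1
import Cfsg.Agent.S3360
import Cfsg.Agent.Helper38.GAB1
import Cfsg.Agent.Helper14.GAB2
import Cfsg.Agent.Helper60.GagolaB3

/-!
# S4840: the linear theorem

A finite solvable group acting faithfully and linearly on a `ZMod p`-vector space `V`, transitively
on the nonzero vectors with `p`-groups as point stabilizers, has a normal `p`-complement and
commutative Sylow `p`-subgroups.  Huppert's theorem (S3360, helper58) reduces this to the semilinear
case (GA-B1, helper38), the case `|V| = p ^ 2` (GA-B2, helper14) and the case `|V| = 81`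
(GA-B3, helper60).
-/

set_option autoImplicit false

namespace Cfsg.Agent.Helper81.GA

universe u

open Cfsg

/-- if `p ^ n = q ^ m` with `p, q` prime and `m ≠ 0` then `p = q`. -/
theorem prime_eq_of_pow_eq {p q n m : ℕ} (hp : p.Prime) (hq : q.Prime) (hm : m ≠ 0)
    (h : p ^ n = q ^ m) : p = q := by
  have hqd : q ∣ p ^ n := h ▸ dvd_pow_self q hm
  exact ((Nat.prime_dvd_prime_iff_eq hq hp).mp (hq.dvd_of_dvd_pow hqd)).symm

theorem linThm (p : ℕ) [hp : Fact p.Prime] : LinThm.{u} p := by
  intro V _ _ _ _ Γ _ _ hsol ρ hρ htrans hstab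
  have hcardV : Nat.card V = p ^ Module.finrank (ZMod p) V := by
    rw [Module.natCard_eq_pow_finrank (K := ZMod p) (V := V), Nat.card_zmod]
  set n := Module.finrank (ZMod p) V with hn
  -- the square cases
  have sq : ∀ q : ℕ, q.Prime → q ≠ 2 → Nat.card V = q ^ 2 → LinConcl p Γ := by
    intro q hq hq2 hc
    have hpq : p = q := prime_eq_of_pow_eq hp.out hq two_ne_zero (hcardV ▸ hc)
    subst hpq
    exact Cfsg.Agent.Helper14.GAB2.linConcl_of_card_sq p hq2 hsol ρ hρ htrans hstab hc
  rcases Cfsg.Agent.S3360.result p hsol ρ hρ htrans with ⟨F, _, _, e, hsl⟩ | hmem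
  · exact Cfsg.Agent.Helper38.GAB1.linConcl_of_semilinear p ρ hρ F e hsl
  · simp only [Set.mem_insert_iff, Set.mem_singleton_iff] at hmem
    rcases hmem with h | h | h | h | h | h
    · exact sq 3 (by norm_num) (by norm_num) (by rw [h]; norm_num)
    · exact sq 5 (by norm_num) (by norm_num) (by rw [h]; norm_num)
    · exact sq 7 (by norm_num) (by norm_num) (by rw [h]; norm_num)
    · exact sq 11 (by norm_num) (by norm_num) (by rw [h]; norm_num)
    · exact sq 23 (by norm_num) (by norm_num) (by rw [h]; norm_num)
    · have hp3 : p = 3 := by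
        have : p ^ n = 3 ^ 4 := by rw [← hcardV, h]; norm_num
        exact prime_eq_of_pow_eq hp.out (by norm_num) (by norm_num) this
      subst hp3
      exact Cfsg.Agent.Helper60.GagolaB3.linConcl_of_card_81 hsol ρ hρ htrans hstab h

end Cfsg.Agent.Helper81.GA
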