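import Mathlib
import Cfsg.Prelude.Def_Blocks
import Cfsg.Agent.Helper81.GlaubRel1
import Cfsg.Agent.Helper15.Clifford

/-!
# Clifford: the ramification divides the degree (homomorphism form)
-/

set_option autoImplicit false
set_option linter.unusedSectionVars false

namespace Cfsg.Agent.Helper81

open Cfsg
open scoped ComplexConjugate

universe u v

/-- For `j' : D →* C` injective with normal range, the multiplicity of `φ ∈ Irr D` in the
restriction of `β ∈ Irr C` divides `β(1)` when it is non-zero. -/
theorem mult_dvd_charDegree {C : Type u} {D : Type v} [Group C] [Fintype C] [Group D] [Fintype D]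
    (j' : D →* C) (hinj : Function.Injective j') (hnorm : (j'.range).Normal)
    (β : IrrCharacter C) (φ : IrrCharacter D) (h : mult j' β φ ≠ 0) :
    mult j' β φ ∣ charDegree (β : C → ℂ) := by
  classical
  have : Fintype j'.range := Fintype.ofFinite _
  let e : D ≃* j'.range := MonoidHom.ofInjective hinj
  let φ' : j'.range → ℂ := fun n => (φ : D → ℂ) (e.symm n)
  have hφ' : IsIrrCharacter j'.range φ' :=
    Helper80.IsIrrCharacter.comp_surjective φ.2 e.symm.toMonoidHom e.symm.surjective
  have hinner : classInner (fun n : j'.range => (β : C → ℂ) n) φ' = (mult j' β φ : ℂ) := by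
    rw [← mult_spec]
    simp only [Helper74.classInner_def]
    rw [Nat.card_congr e.toEquiv]
    congr 1
    symm
    refine Fintype.sum_equiv e.toEquiv _ _ fun d => ?_
    simp only [Function.comp_apply, MulEquiv.toEquiv_eq_coe, MulEquiv.coe_toEquiv, φ',
      MulEquiv.symm_apply_apply]
    rfl
  have hne : classInner (fun n : j'.range => (β : C → ℂ) n) φ' ≠ 0 := by
    rw [hinner]
    exact_mod_cast h
  have hcl := Helper15.clifford_restrict j'.range β.2 hφ' hne
  have h1 := congrFun hcl 1
  simp only [Pi.smul_apply, Finset.sum_apply, smul_eq_mul, hinner] at h1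
  have h2 : ∀ ψ ∈ Helper15.conjOrbit j'.range φ', ψ 1 = (charDegree (φ : D → ℂ) : ℂ) := by
    intro ψ hψ
    obtain ⟨g, rfl⟩ := (Helper15.mem_conjOrbit j'.range).mp hψ
    rw [Helper15.conjFun_apply_one]
    change (φ : D → ℂ) (e.symm 1) = _
    rw [map_one, Helper79.irr_one φ]
  rw [Finset.sum_congr rfl h2, Finset.sum_const, nsmul_eq_mul] at h1
  have h3 : ((β : C → ℂ) ((1 : j'.range) : C)) = (charDegree (β : C → ℂ) : ℂ) := by
    rw [Subgroup.coe_one, Helper79.irr_one β]
  rw [h3] at h1
  have h4 : charDegree (β : C → ℂ) = mult j' β φ *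
      ((Helper15.conjOrbit j'.range φ').card * charDegree (φ : D → ℂ)) := by
    exact_mod_cast h1
  exact ⟨_, h4⟩

end Cfsg.Agent.Helper81
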