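import Mathlib
import Cfsg.Prelude.Def_Blocks
import Cfsg.Agent.Helper81.GlaubStep

/-!
# The step equivalence `InvIrr S G ≃ InvIrr (S ⧸ R) C_G(R)` with its characterisation
-/

set_option autoImplicit false
set_option linter.unusedSectionVars false

namespace Cfsg.Agent.Helper81

open Cfsg
open scoped ComplexConjugate

universe u v w

section step

variable {S : Type w} [Group S] {G : Type u} [Group G] [Fintype G] [MulDistribMulAction S G]
  (R : Subgroup S) [hRn : R.Normal] [Fintype (FixedPoints.subgroup R G)]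
  {p : ℕ} [hp : Fact p.Prime] (hR : IsPGroup p R) (hpG : ¬ p ∣ Nat.card G)

/-- The Glauberman correspondence for `R`, on the `R`-invariant characters. -/
noncomputable def glaubR : InvIrr R G ≃ IrrCharacter (FixedPoints.subgroup R G) :=
  glaubEquiv (FixedPoints.subgroup R G).subtype hR Subtype.val_injective (fix_range (G := G) R) hpG

theorem glaubR_eq_iff (χ : InvIrr R G) (β : IrrCharacter (FixedPoints.subgroup R G)) :
    glaubR R hR hpG χ = β ↔ ¬ p ∣ mult (FixedPoints.subgroup R G).subtype χ.1 β :=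
  glaubEquiv_eq_iff _ hR _ _ hpG χ β

/-- Equivariance of the correspondence. -/
theorem glaubR_smul (s : S) (χ : InvIrr R G) :
    glaubR R hR hpG (invIrrSMul R s χ) =
      (letI := irrSMulAction (S ⧸ R) (FixedPoints.subgroup R G); (s : S ⧸ R) • glaubR R hR hpG χ :
        IrrCharacter (FixedPoints.subgroup R G)) :=
  glaubEquiv_natural (FixedPoints.subgroup R G).subtype hR Subtype.val_injective
    (fix_range (G := G) R) hpG (invIrrSMul R s)
    (fun β => (letI := irrSMulAction (S ⧸ R) (FixedPoints.subgroup R G); (s : S ⧸ R) • β :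
      IrrCharacter (FixedPoints.subgroup R G)))
    (fun χ β => mult_smul_smul R s χ.1 β) χ

/-- Restricting the group of operators. -/
def invIrrRestrict (χ : InvIrr S G) : InvIrr R G := ⟨χ.1, fun r g => χ.2 (r : S) g⟩

theorem invIrrSMul_restrict (s : S) (χ : InvIrr S G) :
    invIrrSMul R s (invIrrRestrict R χ) = invIrrRestrict R χ := by
  apply Subtype.ext
  rw [invIrrSMul_val]
  exact (irrSMul_eq_self_iff χ.1).mpr χ.2 s

/-- The step equivalence. -/
noncomputable def invIrrStepEquiv :
    InvIrr S G ≃ InvIrr (S ⧸ R) (FixedPoints.subgroup R G) where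
  toFun χ := ⟨glaubR R hR hpG (invIrrRestrict R χ), by
    refine (irrSMul_eq_self_iff _).mp fun q => ?_
    obtain ⟨s, rfl⟩ := QuotientGroup.mk_surjective q
    rw [← glaubR_smul, invIrrSMul_restrict]⟩
  invFun β := ⟨((glaubR R hR hpG).symm β.1).1, by
    refine (irrSMul_eq_self_iff _).mp fun s => ?_
    have h1 : glaubR R hR hpG (invIrrSMul R s ((glaubR R hR hpG).symm β.1)) =
        glaubR R hR hpG ((glaubR R hR hpG).symm β.1) := by
      rw [glaubR_smul, Equiv.apply_symm_apply]
      exact (irrSMul_eq_self_iff β.1).mpr β.2 (s : S ⧸ R)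
    have h2 := (glaubR R hR hpG).injective h1
    have h3 := congrArg Subtype.val h2
    rwa [invIrrSMul_val] at h3⟩
  left_inv χ := by
    apply Subtype.ext
    change ((glaubR R hR hpG).symm (glaubR R hR hpG (invIrrRestrict R χ))).1 = χ.1
    rw [Equiv.symm_apply_apply]
    rfl
  right_inv β := by
    apply Subtype.ext
    have key : ∀ (ψ : InvIrr R G)
        (h : ∀ (s : S) (g : G), (ψ.1 : G → ℂ) (s • g) = (ψ.1 : G → ℂ) g),
        glaubR R hR hpG (invIrrRestrict R ⟨ψ.1, h⟩) = glaubR R hR hpG ψ := fun ψ h => rfl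
    exact (key _ _).trans (Equiv.apply_symm_apply _ _)

theorem invIrrStepEquiv_spec (χ : InvIrr S G) :
    ¬ p ∣ mult (FixedPoints.subgroup R G).subtype χ.1 (invIrrStepEquiv R hR hpG χ).1 :=
  (glaubR_eq_iff R hR hpG (invIrrRestrict R χ) _).mp rfl

theorem invIrrStepEquiv_symm_spec (β : InvIrr (S ⧸ R) (FixedPoints.subgroup R G)) :
    ¬ p ∣ mult (FixedPoints.subgroup R G).subtype ((invIrrStepEquiv R hR hpG).symm β).1 β.1 := by
  have := invIrrStepEquiv_spec R hR hpG ((invIrrStepEquiv R hR hpG).symm β)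
  rwa [Equiv.apply_symm_apply] at this

end step

end Cfsg.Agent.Helper81
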