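import Mathlib
import Cfsg.Prelude.Def_Blocks
import Cfsg.Agent.Helper81.GlaubRel2
import Cfsg.Agent.Helper81.GlaubStep2
import Cfsg.Agent.Helper1.SZ

/-!
# Coprime solvable action: invariant characters of a normal subgroup lie under invariant characters
-/

set_option autoImplicit false
set_option linter.unusedSectionVars false

namespace Cfsg.Agent.Helper81

open Cfsg
open scoped ComplexConjugate

universe u v w

/-- Every irreducible character of `N` lies under some irreducible character of `G`
(`j : N →* G` injective). -/
theorem exists_irr_over {G : Type u} {N : Type v} [Group G] [Fintype G] [Group N] [Fintype N]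
    (j : N →* G) (hinj : Function.Injective j) (θ : IrrCharacter N) :
    ∃ χ : IrrCharacter G, mult j χ θ ≠ 0 := by
  classical
  let _ := Helper74.irrFintype G
  by_contra hcon
  push Not at hcon
  have h := sum_degree_mul_mult j hinj θ
  simp only [hcon, Nat.cast_zero, mul_zero, Finset.sum_const_zero] at h
  have h1 : (Nat.card G : ℂ) ≠ 0 := by exact_mod_cast Nat.card_pos.ne'
  exact mul_ne_zero h1 (Helper79.irr_one_ne_zero θ) h.symm

theorem exists_inv_over_aux (n : ℕ) :
    ∀ (S : Type w) [Group S] [Finite S] (G : Type u) [Group G] [Fintype G] (N : Type v) [Group N]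
      [Fintype N] [MulDistribMulAction S G] [MulDistribMulAction S N] (j : N →* G),
      Nat.card S = n → Group.IsSolvable S → (Nat.card G).Coprime (Nat.card S) →
      Function.Injective j → (j.range).Normal → (∀ (s : S) (x : N), j (s • x) = s • j x) →
      ∀ θ : InvIrr S N, ∃ χ : InvIrr S G, mult j χ.1 θ.1 ≠ 0 := by
  induction n using Nat.strong_induction_on with
  | _ n ih =>
  intro S _ _ G _ _ N _ _ _ _ j hn hsolv hcop hinj hnormal hj θ
  classical
  by_cases htriv : Subsingleton S
  · obtain ⟨χ, hχ⟩ := exists_irr_over j hinj θ.1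
    exact ⟨⟨χ, fun s g => by rw [Subsingleton.elim s 1, one_smul]⟩, hχ⟩
  · have : Nontrivial S := not_subsingleton_iff_nontrivial.mp htriv
    have := hsolv
    obtain ⟨p, hp, R, hRn, hRbot, hR⟩ := Helper1.exists_normal_pSubgroup S
    have : Fact p.Prime := ⟨hp⟩
    have hRcard : 1 < Nat.card R := R.one_lt_card_iff_ne_bot.mpr hRbot
    have hmul : Nat.card S = Nat.card (S ⧸ R) * Nat.card R :=
      Subgroup.card_eq_card_quotient_mul_card_subgroup R
    have hpS : p ∣ Nat.card S := by
      obtain ⟨k, hk⟩ := hR.exists_card_eq
      have hk0 : k ≠ 0 := by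
        rintro rfl
        rw [pow_zero] at hk
        omega
      rw [hmul, hk]
      exact Dvd.dvd.mul_left (dvd_pow_self p hk0) _
    have hpG : ¬ p ∣ Nat.card G := fun h => by
      have := Nat.dvd_gcd h hpS
      rw [hcop] at this
      exact hp.one_lt.ne' (Nat.dvd_one.mp this)
    have hNG : Nat.card N ∣ Nat.card G := by
      rw [Nat.card_congr (MonoidHom.ofInjective hinj).toEquiv]
      exact Subgroup.card_subgroup_dvd_card _
    have hpN : ¬ p ∣ Nat.card N := fun h => hpG (h.trans hNG)
    have instC := Fintype.ofFinite (FixedPoints.subgroup R G)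
    have instD := Fintype.ofFinite (FixedPoints.subgroup R N)
    have hpC : ¬ p ∣ Nat.card (FixedPoints.subgroup R G) := fun h =>
      hpG (h.trans (Subgroup.card_subgroup_dvd_card _))
    -- the induced map on fixed points
    let j' : FixedPoints.subgroup R N →* FixedPoints.subgroup R G :=
      { toFun := fun d => ⟨j d.1, fun r => by
          change (r : S) • j d.1 = j d.1
          rw [← hj]
          exact congrArg j (d.2 r)⟩
        map_one' := Subtype.ext (map_one j)
        map_mul' := fun a b => Subtype.ext (map_mul j a.1 b.1) }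
    have hj'inj : Function.Injective j' := by
      intro a b hab
      exact Subtype.ext (hinj (congrArg Subtype.val hab))
    have hj'normal : (j'.range).Normal := by
      constructor
      rintro _ ⟨d, rfl⟩ c
      obtain ⟨x, hx⟩ := hnormal.conj_mem (j d.1) ⟨d.1, rfl⟩ c.1
      have hxfix : x ∈ FixedPoints.subgroup R N := by
        intro r
        apply hinj
        change j ((r : S) • x) = j x
        rw [hj, hx, smul_mul', smul_mul', smul_inv']
        have h1 : (r : S) • c.1 = c.1 := c.2 r
        have h2 : (r : S) • j d.1 = j d.1 := by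
          rw [← hj]
          exact congrArg j (d.2 r)
        rw [h1, h2]
      exact ⟨⟨x, hxfix⟩, Subtype.ext hx⟩
    have hj'equiv : ∀ (q : S ⧸ R) (d : FixedPoints.subgroup R N), j' (q • d) = q • j' d := by
      intro q d
      obtain ⟨s, rfl⟩ := QuotientGroup.mk_surjective q
      exact Subtype.ext (hj s d.1)
    -- the correspondent of `θ`
    let φ' := invIrrStepEquiv R hR hpN θ
    have hqlt : Nat.card (S ⧸ R) < n := by
      have hqpos : 0 < Nat.card (S ⧸ R) := Nat.card_pos
      rw [← hn, hmul]
      nlinarith
    have hcop' : (Nat.card (FixedPoints.subgroup R G)).Coprime (Nat.card (S ⧸ R)) := by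
      refine Nat.Coprime.coprime_dvd_left (Subgroup.card_subgroup_dvd_card _) ?_
      exact Nat.Coprime.coprime_dvd_right ⟨_, hmul⟩ hcop
    obtain ⟨β', hβ'⟩ := ih (Nat.card (S ⧸ R)) hqlt (S ⧸ R) (FixedPoints.subgroup R G)
      (FixedPoints.subgroup R N) j' rfl inferInstance hcop' hj'inj hj'normal hj'equiv φ'
    let χ := (invIrrStepEquiv R hR hpG).symm β'
    have hβ := invIrrStepEquiv_symm_spec R hR hpG β'
    have hφ := invIrrStepEquiv_spec R hR hpN θ
    have hrel := mult_rel_zmod (T := R) (p := p) (FixedPoints.subgroup R G).subtype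
      (FixedPoints.subgroup R N).subtype j j' (fun d => rfl) (fun r x => hj (r : S) x) hR
      Subtype.val_injective (fix_range (G := G) R) Subtype.val_injective (fix_range (G := N) R)
      hpG hpN χ.1 (fun r g => χ.2 (r : S) g) θ.1 (fun r x => θ.2 (r : S) x) β'.1 φ'.1 hβ hφ
    refine ⟨χ, ?_⟩
    intro h0
    rw [h0, Nat.cast_zero, zero_mul] at hrel
    have h1 : p ∣ mult j' β'.1 φ'.1 := by
      rcases mul_eq_zero.mp hrel.symm with h2 | h2
      · exact absurd ((ZMod.natCast_eq_zero_iff _ _).mp h2) hβ
      · exact (ZMod.natCast_eq_zero_iff _ _).mp h2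
    have h3 := mult_dvd_charDegree j' hj'inj hj'normal β'.1 φ'.1 hβ'
    have h4 := Helper80.IsIrrCharacter.charDegree_dvd_card β'.1.2
    exact hpC ((h1.trans h3).trans h4)

/-- If the finite solvable group `S` acts coprimely on `G` and compatibly on `N`, with
`j : N →* G` an equivariant embedding with normal range, then every `S`-invariant irreducible
character of `N` lies under an `S`-invariant irreducible character of `G`. -/
theorem exists_inv_over (S : Type w) [Group S] [Finite S] (G : Type u) [Group G] [Fintype G]
    (N : Type v) [Group N] [Fintype N] [MulDistribMulAction S G] [MulDistribMulAction S N]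
    (j : N →* G) (hsolv : Group.IsSolvable S) (hcop : (Nat.card G).Coprime (Nat.card S))
    (hinj : Function.Injective j) (hnormal : (j.range).Normal)
    (hj : ∀ (s : S) (x : N), j (s • x) = s • j x) (θ : InvIrr S N) :
    ∃ χ : InvIrr S G, mult j χ.1 θ.1 ≠ 0 :=
  exists_inv_over_aux _ S G N j rfl hsolv hcop hinj hnormal hj θ

end Cfsg.Agent.Helper81
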