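import Cfsg.Agent.Helper95.Hig.Basic

/-!
# S3050 (G. Higman; architect helper95), piece (C0I): the common kernel of the `A γ` is `B`-invariant
-/

set_option autoImplicit false

namespace Cfsg.Agent.Helper81.Hig

open Cfsg.Agent.Helper95.Hig

universe u w

variable {K : Type u} [Field K] {C : Type w} [AddCommGroup C]

/-- (C0I) -/
theorem c0i (D : HData K C) (c : C) (hc : ∀ γ, D.A γ c = 0) (δ γ : K) : D.A γ (D.B δ c) = 0 := by
  by_cases hδ : δ = 0
  · rw [hδ, D.B_zero, map_zero]
  · have h := D.rel22 δ γ hδ c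
    rw [hc δ, hc δ⁻¹, hc (γ / δ ^ 2)] at h
    simp only [add_zero, map_zero] at h
    have h2 := congrArg (D.B δ) h
    rw [D.B_inv δ hδ, map_zero] at h2
    exact h2

end Cfsg.Agent.Helper81.Hig
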