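import Cfsg.Agent.Helper95.Hig.Basic

/-!
# S3050 (G. Higman; architect helper95), piece (TWO): `2V` is smaller than `V` for a nontrivial finite 2-group
-/

set_option autoImplicit false
set_option linter.unusedSectionVars false

namespace Cfsg.Agent.Helper81.Hig

open Cfsg.Agent.Helper40.SL2Hom Cfsg.Agent.Helper95.Hig

universe u v w

variable {K : Type u} [Field K] {V : Type v} [AddCommGroup V] [Module (ZG K) V]

/-- a nontrivial additive group in which every element is killed by a power of 2 has an element of order 2 -/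
theorem TWO_exists_order_two {V : Type*} [AddCommGroup V] [Nontrivial V]
    (hp : ∀ x : V, ∃ k : ℕ, (2 ^ k : ℕ) • x = 0) : ∃ y : V, y ≠ 0 ∧ y + y = 0 := by
  classical
  obtain ⟨x, hx⟩ := exists_ne (0 : V)
  have hex := hp x
  have hk : (2 ^ Nat.find hex : ℕ) • x = 0 := Nat.find_spec hex
  have hk0 : Nat.find hex ≠ 0 := by
    intro h0
    rw [h0, pow_zero, one_smul] at hk
    exact hx hk
  obtain ⟨j, hj⟩ := Nat.exists_eq_succ_of_ne_zero hk0
  refine ⟨(2 ^ j : ℕ) • x, ?_, ?_⟩
  · intro h
    exact Nat.find_min hex (m := j) (by omega) h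
  · rw [← two_nsmul, ← mul_smul]
    rw [hj, Nat.succ_eq_add_one, pow_succ'] at hk
    exact hk

/-- (TWO) -/
theorem two [Finite V] [Nontrivial V] (hp : ∀ x : V, ∃ k : ℕ, (2 ^ k : ℕ) • x = 0) :
    Nat.card (twoV K V) < Nat.card V := by
  classical
  obtain ⟨y, hy0, hyy⟩ := TWO_exists_order_two hp
  let d : V →+ V := AddMonoidHom.id V + AddMonoidHom.id V
  have hd : ∀ v, d v = v + v := fun v => rfl
  have hninj : ¬ Function.Injective d := by
    intro h
    apply hy0
    apply h
    rw [hd, hyy, map_zero]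
  have hnsurj : ¬ Function.Surjective d := fun h => hninj (Finite.injective_iff_surjective.mpr h)
  have hne : (twoV K V : Set V) ≠ Set.univ := by
    intro htop
    apply hnsurj
    intro v
    have hv : v ∈ (twoV K V : Set V) := by rw [htop]; exact Set.mem_univ v
    obtain ⟨w, hw⟩ := (mem_twoV v).mp hv
    exact ⟨w, hw.symm⟩
  have hss : (twoV K V : Set V) ⊂ Set.univ := Set.ssubset_univ_iff.mpr hne
  have h1 := Set.ncard_lt_ncard hss (Set.toFinite _)
  rw [Set.ncard_univ] at h1
  rw [← Nat.card_coe_set_eq] at h1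
  exact h1

end Cfsg.Agent.Helper81.Hig
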