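import Cfsg.Agent.Helper95.Hig.Basic

/-!
# S3050 (G. Higman; architect helper95), piece (TWOB): a finite field of characteristic 2
-/

set_option autoImplicit false
set_option linter.style.haveILetI false
set_option linter.unusedSectionVars false

namespace Cfsg.Agent.Helper81.Hig

open Cfsg.Agent.Helper40.SL2Hom Cfsg.Agent.Helper95.Hig

universe u v w

variable {K : Type u} [Field K] {V : Type v} [AddCommGroup V] [Module (ZG K) V]

/-- (TWOB) -/
theorem twob [Finite K] [CharP K 2] : 2 ∣ Nat.card K ∧ (3 ≤ Nat.card K → ∃ γ : K, γ ≠ 0 ∧ γ ≠ 1) := by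
  have hK : CharP K 2 := inferInstance
  constructor
  · have h0 : CharP K (addOrderOf (1 : K)) := CharP.addOrderOf_one K
    have h1 : addOrderOf (1 : K) = 2 := CharP.eq K h0 hK
    rw [← h1]
    exact addOrderOf_dvd_natCard (1 : K)
  · intro h3
    by_contra hcon
    push Not at hcon
    classical
    haveI : Fintype K := Fintype.ofFinite K
    have hsub : (Finset.univ : Finset K) ⊆ {0, 1} := by
      intro γ _
      by_cases h0 : γ = 0
      · simp [h0]
      · simp [hcon γ h0]
    have := Finset.card_le_card hsub
    rw [Finset.card_univ, ← Nat.card_eq_fintype_card] at this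
    have h2 : ({0, 1} : Finset K).card ≤ 2 := Finset.card_le_two
    omega

end Cfsg.Agent.Helper81.Hig
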