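import Mathlib

set_option autoImplicit false
set_option linter.style.haveILetI false

/-!
# The tournament lemma (helper81; piece (T3) of helper61's proof of S4221, M. Hall's theorem)
-/

namespace Cfsg.Agent.Helper81.HallT3

open MulAction

variable {G : Type*} [Group G] {Ω : Type*} [MulAction G Ω]

/-- orbit-stabilizer for a subgroup, in set form -/
theorem ncard_orbit_mul (S : Subgroup G) (a : Ω) :
    ({y | ∃ k ∈ S, k • a = y} : Set Ω).ncard * Nat.card (S ⊓ stabilizer G a : Subgroup G)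
      = Nat.card S := by
  have h1 : ({y | ∃ k ∈ S, k • a = y} : Set Ω) = orbit S a := by
    ext y
    constructor
    · rintro ⟨k, hk, rfl⟩
      exact ⟨⟨k, hk⟩, rfl⟩
    · rintro ⟨⟨k, hk⟩, rfl⟩
      exact ⟨k, hk, rfl⟩
  rw [h1, ← index_stabilizer]
  have h2 : Nat.card (S ⊓ stabilizer G a : Subgroup G) = Nat.card (stabilizer S a) := by
    apply Nat.card_congr
    exact
      { toFun := fun x => ⟨⟨x.1, x.2.1⟩, by
          rw [mem_stabilizer_iff]
          exact x.2.2⟩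
        invFun := fun x => ⟨x.1.1, x.1.2, by
          have := x.2
          rw [mem_stabilizer_iff] at this
          exact this⟩
        left_inv := fun x => rfl
        right_inv := fun x => rfl }
  rw [h2, mul_comm, Subgroup.card_mul_index]

theorem tournament_contra (K : Subgroup G) (hK : Odd (Nat.card K)) {p a b a' : Ω}
    (hcover : ∀ q : Ω, q ≠ p → (∃ k ∈ K, k • p = q) →
      (∃ k ∈ K, k • p = p ∧ k • a = q) ∨ (∃ k ∈ K, k • p = p ∧ k • b = q))
    (hap : a ≠ p) (hbp : b ≠ p) (ha : ∃ k ∈ K, k • p = a) (hb : ∃ k ∈ K, k • p = b)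
    (hab : ¬ ∃ k ∈ K, k • p = p ∧ k • a = b)
    (htr : ∀ b' : Ω, (∃ k ∈ K, k • p = p ∧ k • b = b') →
      ∃ k ∈ K, k • p = p ∧ k • a = a ∧ k • b = b')
    (ha' : a' ≠ a) (haa' : ∃ k ∈ K, k • p = p ∧ k • a = a') : False := by
  classical
  haveI : Finite K := by
    apply Nat.finite_of_card_ne_zero
    intro h
    rw [h] at hK
    exact absurd hK (by decide)
  -- no element of `K` swaps two points
  have noswap : ∀ k ∈ K, ∀ r r' : Ω, k • r = r' → k • r' = r → r = r' := by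
    intro k hk r r' h1 h2
    have ho : Odd (orderOf k) := hK.of_dvd_nat (Subgroup.orderOf_dvd_natCard K hk)
    obtain ⟨m, hm⟩ := ho
    have hsq : ∀ n : ℕ, (k ^ (2 * n)) • r = r := by
      intro n
      induction n with
      | zero => simp
      | succ n ih =>
        rw [Nat.mul_succ, pow_add, mul_smul, pow_two, mul_smul, h1, h2, ih]
    have h3 : k ^ (2 * m + 1) = 1 := by rw [← hm]; exact pow_orderOf_eq_one k
    have h4 : (k ^ (2 * m + 1)) • r = r' := by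
      rw [pow_succ', mul_smul, hsq, h1]
    rw [h3, one_smul] at h4
    exact h4
  obtain ⟨g0, hg0K, hg0⟩ := ha
  have hg0inv : g0⁻¹ • a = p := by rw [inv_smul_eq_iff, hg0]
  -- F1 : (a, p) is a translate of (p, b)
  have F1 : ∃ g ∈ K, g • p = a ∧ g • b = p := by
    have hyp : g0⁻¹ • p ≠ p := by
      intro h
      rw [inv_smul_eq_iff, hg0] at h
      exact hap h.symm
    rcases hcover (g0⁻¹ • p) hyp ⟨g0⁻¹, K.inv_mem hg0K, rfl⟩ with
      ⟨h, hhK, hhp, hha⟩ | ⟨h, hhK, hhp, hhb⟩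
    · exfalso
      have := noswap (g0 * h) (K.mul_mem hg0K hhK) p a (by rw [mul_smul, hhp, hg0])
        (by rw [mul_smul, hha, smul_inv_smul])
      exact hap this.symm
    · exact ⟨g0 * h, K.mul_mem hg0K hhK, by rw [mul_smul, hhp, hg0],
        by rw [mul_smul, hhb, smul_inv_smul]⟩
  obtain ⟨g, hgK, hgp, hgb⟩ := F1
  have hginvp : g⁻¹ • p = b := by rw [inv_smul_eq_iff, hgb]
  have hginva : g⁻¹ • a = p := by rw [inv_smul_eq_iff, hgp]
  -- asymmetry
  have asym : ∀ r r' : Ω, (∃ k ∈ K, k • p = r ∧ k • a = r') → (∃ k ∈ K, k • p = r' ∧ k • a = r) →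
      False := by
    rintro r r' ⟨k, hk, h1, h2⟩ ⟨k', hk', h1', h2'⟩
    have := noswap (k'⁻¹ * k) (K.mul_mem (K.inv_mem hk') hk) p a
      (by rw [mul_smul, h1, inv_smul_eq_iff, h2'])
      (by rw [mul_smul, h2, inv_smul_eq_iff, h1'])
    exact hap this.symm
  -- dichotomy
  have dich : ∀ k1 ∈ K, ∀ k2 ∈ K, k1 • p ≠ k2 • p →
      (∃ k ∈ K, k • p = k1 • p ∧ k • a = k2 • p) ∨ (∃ k ∈ K, k • p = k2 • p ∧ k • a = k1 • p) := by
    intro k1 hk1 k2 hk2 hne
    have hy : (k1⁻¹ * k2) • p ≠ p := by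
      intro h
      rw [mul_smul, inv_smul_eq_iff] at h
      exact hne h.symm
    rcases hcover ((k1⁻¹ * k2) • p) hy ⟨k1⁻¹ * k2, K.mul_mem (K.inv_mem hk1) hk2, rfl⟩ with
      ⟨h, hhK, hhp, hha⟩ | ⟨h, hhK, hhp, hhb⟩
    · left
      refine ⟨k1 * h, K.mul_mem hk1 hhK, by rw [mul_smul, hhp], ?_⟩
      rw [mul_smul, hha, mul_smul, smul_inv_smul]
    · right
      refine ⟨k1 * h * g⁻¹, K.mul_mem (K.mul_mem hk1 hhK) (K.inv_mem hgK), ?_, ?_⟩
      · rw [mul_smul, mul_smul, hginvp, hhb, mul_smul, smul_inv_smul]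
      · rw [mul_smul, mul_smul, hginva, hhp]
  -- In(p) ⊆ O2
  have F2 : ∀ y : Ω, (∃ k ∈ K, k • p = y ∧ k • a = p) → ∃ k ∈ K, k • p = p ∧ k • b = y := by
    rintro y ⟨k, hk, h1, h2⟩
    have hyp : y ≠ p := by
      intro h
      rw [h] at h1
      have : k • a = k • p := by rw [h1, h2]
      exact hap (MulAction.injective k this)
    rcases hcover y hyp ⟨k, hk, h1⟩ with ⟨h, hhK, hhp, hha⟩ | h
    · exact (asym p y ⟨h, hhK, hhp, hha⟩ ⟨k, hk, h1, h2⟩).elim
    · exact h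
  -- O1 and O2 are disjoint
  have disj : ∀ y : Ω, (∃ k ∈ K, k • p = p ∧ k • a = y) → (∃ k ∈ K, k • p = p ∧ k • b = y) →
      False := by
    rintro y ⟨k, hk, h1, h2⟩ ⟨k', hk', h1', h2'⟩
    apply hab
    refine ⟨k'⁻¹ * k, K.mul_mem (K.inv_mem hk') hk, ?_, ?_⟩
    · rw [mul_smul, h1, inv_smul_eq_iff, h1']
    · rw [mul_smul, h2, inv_smul_eq_iff, h2']
  -- the sets
  set O1 : Set Ω := {y | ∃ k ∈ K, k • p = p ∧ k • a = y} with hO1
  set O2 : Set Ω := {y | ∃ k ∈ K, k • p = p ∧ k • b = y} with hO2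
  have fin_of : ∀ c : Ω, ({y | ∃ k ∈ K, k • c = y} : Set Ω).Finite := by
    intro c
    refine (Set.finite_range (fun k : K => (k : G) • c)).subset ?_
    rintro y ⟨k, hk, rfl⟩
    exact ⟨⟨k, hk⟩, rfl⟩
  have hO1fin : O1.Finite := (fin_of a).subset (by rintro y ⟨k, hk, _, h⟩; exact ⟨k, hk, h⟩)
  have hO2fin : O2.Finite := (fin_of b).subset (by rintro y ⟨k, hk, _, h⟩; exact ⟨k, hk, h⟩)
  -- C1 : |O1| = |O2|
  have C1 : O1.ncard = O2.ncard := by
    set Kp : Subgroup G := K ⊓ stabilizer G p with hKp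
    haveI : Finite Kp :=
      Finite.of_injective (Subgroup.inclusion (inf_le_left : Kp ≤ K))
        (Subgroup.inclusion_injective _)
    have e1 : O1 = {y | ∃ k ∈ Kp, k • a = y} := by
      ext y
      constructor
      · rintro ⟨k, hk, h1, h2⟩
        exact ⟨k, ⟨hk, h1⟩, h2⟩
      · rintro ⟨k, ⟨hk, h1⟩, h2⟩
        exact ⟨k, hk, h1, h2⟩
    have e2 : O2 = {y | ∃ k ∈ Kp, k • b = y} := by
      ext y
      constructor
      · rintro ⟨k, hk, h1, h2⟩
        exact ⟨k, ⟨hk, h1⟩, h2⟩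
      · rintro ⟨k, ⟨hk, h1⟩, h2⟩
        exact ⟨k, hk, h1, h2⟩
    have c1 := ncard_orbit_mul Kp a
    have c2 := ncard_orbit_mul Kp b
    rw [← e1] at c1
    rw [← e2] at c2
    have hconj : Nat.card (Kp ⊓ stabilizer G b : Subgroup G) =
        Nat.card (Kp ⊓ stabilizer G a : Subgroup G) := by
      apply Nat.card_congr
      refine ⟨fun x => ⟨g * x.1 * g⁻¹, ?_⟩, fun x => ⟨g⁻¹ * x.1 * g, ?_⟩, ?_, ?_⟩
      · obtain ⟨⟨hxK, hxp⟩, hxb⟩ : (x.1 ∈ K ∧ x.1 • p = p) ∧ x.1 • b = b := x.2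
        refine ⟨⟨K.mul_mem (K.mul_mem hgK hxK) (K.inv_mem hgK), ?_⟩, ?_⟩
        · show (g * x.1 * g⁻¹) • p = p
          rw [mul_smul, mul_smul, hginvp, hxb, hgb]
        · show (g * x.1 * g⁻¹) • a = a
          rw [mul_smul, mul_smul, hginva, hxp, hgp]
      · obtain ⟨⟨hxK, hxp⟩, hxa⟩ : (x.1 ∈ K ∧ x.1 • p = p) ∧ x.1 • a = a := x.2
        refine ⟨⟨K.mul_mem (K.mul_mem (K.inv_mem hgK) hxK) hgK, ?_⟩, ?_⟩
        · show (g⁻¹ * x.1 * g) • p = p
          rw [mul_smul, mul_smul, hgp, hxa, hginva]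
        · show (g⁻¹ * x.1 * g) • b = b
          rw [mul_smul, mul_smul, hgb, hxp, hginvp]
      · intro x
        apply Subtype.ext
        show g⁻¹ * (g * x.1 * g⁻¹) * g = x.1
        group
      · intro x
        apply Subtype.ext
        show g * (g⁻¹ * x.1 * g) * g⁻¹ = x.1
        group
    rw [hconj] at c2
    have hpos : 0 < Nat.card (Kp ⊓ stabilizer G a : Subgroup G) := by
      haveI : Finite (Kp ⊓ stabilizer G a : Subgroup G) :=
        Finite.of_injective (Subgroup.inclusion (inf_le_left : Kp ⊓ stabilizer G a ≤ Kp))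
          (Subgroup.inclusion_injective _)
      exact Nat.card_pos
    exact Nat.eq_of_mul_eq_mul_right hpos (c1.trans c2.symm)
  have hpO2 : p ∉ O2 := by
    rintro ⟨k, hk, h1, h2⟩
    have : k • b = k • p := by rw [h1, h2]
    exact hbp (MulAction.injective k this)
  have hinj : Function.Injective (fun y : Ω => g0⁻¹ • y) := MulAction.injective g0⁻¹
  -- a ≠ b
  have hab' : a ≠ b := by
    intro h
    exact hab ⟨1, K.one_mem, one_smul _ _, by rw [one_smul, h]⟩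
  obtain ⟨kb, hkbK, hkb⟩ := hb
  have hd := dich g0 hg0K kb hkbK (by rw [hg0, hkb]; exact hab')
  rw [hg0, hkb] at hd
  rcases hd with hRab | hRba
  · -- O2 ⊆ Out(a)
    have hsub : ∀ y ∈ O2, ∃ k ∈ K, k • p = a ∧ k • a = y := by
      intro y hy
      obtain ⟨k, hk, h1, h2, h3⟩ := htr y hy
      obtain ⟨k0, hk0, h4, h5⟩ := hRab
      exact ⟨k * k0, K.mul_mem hk hk0, by rw [mul_smul, h4, h2], by rw [mul_smul, h5, h3]⟩
    set Oa : Set Ω := {y | ∃ k ∈ K, k • p = a ∧ k • a = y} with hOa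
    have hOafin : Oa.Finite := (fin_of a).subset (by rintro y ⟨k, hk, _, h⟩; exact ⟨k, hk, h⟩)
    have himg : (fun y : Ω => g0⁻¹ • y) '' Oa ⊆ O1 := by
      rintro _ ⟨y, ⟨k, hk, h1, h2⟩, rfl⟩
      refine ⟨g0⁻¹ * k, K.mul_mem (K.inv_mem hg0K) hk, ?_, ?_⟩
      · rw [mul_smul, h1, hg0inv]
      · rw [mul_smul, h2]
    have hle : Oa.ncard ≤ O2.ncard := by
      rw [← C1, ← Set.ncard_image_of_injective Oa hinj]
      exact Set.ncard_le_ncard himg hO1fin
    have heq : O2 = Oa := Set.eq_of_subset_of_ncard_le hsub hle hOafin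
    obtain ⟨k', hk'K, hk'p, hk'a⟩ := haa'
    have hd' := dich g0 hg0K (k' * g0) (K.mul_mem hk'K hg0K)
      (by rw [mul_smul, hg0, hk'a]; exact ha'.symm)
    rw [mul_smul, hg0, hk'a] at hd'
    rcases hd' with h1 | h1
    · -- Rel a a' : a' ∈ O2 ∩ O1
      have : a' ∈ O2 := by rw [heq]; exact h1
      exact disj a' ⟨k', hk'K, hk'p, hk'a⟩ this
    · -- Rel a' a
      obtain ⟨k, hk, h2, h3⟩ := h1
      have hy : k'⁻¹ • a ∈ O2 := by
        rw [heq]
        refine ⟨k'⁻¹ * k, K.mul_mem (K.inv_mem hk'K) hk, ?_, ?_⟩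
        · rw [mul_smul, h2, inv_smul_eq_iff, hk'a]
        · rw [mul_smul, h3]
      obtain ⟨h, hhK, hhp, hhb⟩ := hy
      refine disj a ⟨1, K.one_mem, one_smul _ _, one_smul _ _⟩
        ⟨k' * h, K.mul_mem hk'K hhK, by rw [mul_smul, hhp, hk'p], ?_⟩
      rw [mul_smul, hhb, smul_inv_smul]
  · -- O2 ∪ {p} ⊆ In(a)
    have hsub : ∀ y ∈ insert p O2, ∃ k ∈ K, k • p = y ∧ k • a = a := by
      intro y hy
      rcases Set.mem_insert_iff.1 hy with rfl | hy
      · exact ⟨1, K.one_mem, one_smul _ _, one_smul _ _⟩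
      · obtain ⟨k, hk, h1, h2, h3⟩ := htr y hy
        obtain ⟨k0, hk0, h4, h5⟩ := hRba
        exact ⟨k * k0, K.mul_mem hk hk0, by rw [mul_smul, h4, h3], by rw [mul_smul, h5, h2]⟩
    have himg : (fun y : Ω => g0⁻¹ • y) '' (insert p O2) ⊆ O2 := by
      rintro _ ⟨y, hy, rfl⟩
      obtain ⟨k, hk, h1, h2⟩ := hsub y hy
      apply F2
      refine ⟨g0⁻¹ * k, K.mul_mem (K.inv_mem hg0K) hk, ?_, ?_⟩
      · rw [mul_smul, h1]
      · rw [mul_smul, h2, hg0inv]
    have h1 := Set.ncard_le_ncard himg hO2fin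
    rw [Set.ncard_image_of_injective _ hinj, Set.ncard_insert_of_notMem hpO2 hO2fin] at h1
    omega

end Cfsg.Agent.Helper81.HallT3
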