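import Mathlib
import Cfsg.Prelude.Def_Blocks
import Cfsg.Agent.Helper79.CharBasic

/-!
# Counting irreducible characters with a prescribed behaviour on a subgroup

`card_irr_le_index_of_restrict`: a set of irreducible characters `χ` of `G`, all satisfying
`χ (g * i) = χ g * μ i` for `i ∈ I` (for example: linear characters with the same restriction `μ`
to `I`), has at most `[G : I]` elements.
-/

set_option autoImplicit false

namespace Cfsg.Agent.Helper81

open Cfsg

theorem card_irr_le_index_of_restrict {G : Type*} [Group G] [Fintype G] (I : Subgroup G)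
    (μ : I → ℂ) (S : Set (IrrCharacter G))
    (hμ : ∀ χ ∈ S, ∀ g : G, ∀ i : I, (χ : G → ℂ) (g * i) = (χ : G → ℂ) g * μ i) :
    Nat.card S ≤ I.index := by
  classical
  have hfin : Finite (IrrCharacter G) := Helper79.irr_finite'
  have : Fintype S := Fintype.ofFinite S
  let ev : (G → ℂ) →ₗ[ℂ] (G ⧸ I → ℂ) := LinearMap.funLeft ℂ ℂ (fun q : G ⧸ I => q.out)
  have hli : LinearIndependent ℂ (fun χ : S => ev ((χ : IrrCharacter G) : G → ℂ)) := by
    rw [linearIndependent_iff']
    intro s c hc χ hχ
    have h0 : ∑ χ ∈ s, c χ • (((χ : S) : IrrCharacter G) : G → ℂ) = 0 := by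
      funext g
      obtain ⟨i, hi⟩ := QuotientGroup.mk_out_eq_mul I g
      have hg : g = (QuotientGroup.mk g : G ⧸ I).out * ((i⁻¹ : I) : G) := by
        rw [hi]; simp
      have h1 := congrFun hc (QuotientGroup.mk g : G ⧸ I)
      simp only [Finset.sum_apply, Pi.smul_apply, Pi.zero_apply, smul_eq_mul, ev,
        LinearMap.funLeft_apply] at h1 ⊢
      calc ∑ χ ∈ s, c χ * ((χ : IrrCharacter G) : G → ℂ) g
          = ∑ χ ∈ s, c χ * ((χ : IrrCharacter G) : G → ℂ) (QuotientGroup.mk g : G ⧸ I).out
              * μ i⁻¹ := by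
            refine Finset.sum_congr rfl fun χ _ => ?_
            conv_lhs => rw [hg]
            rw [hμ χ χ.2, mul_assoc]
        _ = 0 := by rw [← Finset.sum_mul, h1, zero_mul]
    have hli0 : LinearIndependent ℂ (fun χ : S => (((χ : S) : IrrCharacter G) : G → ℂ)) :=
      (Helper79.irr_linearIndependent (G := G)).comp (Subtype.val : S → IrrCharacter G)
        Subtype.val_injective
    exact (linearIndependent_iff'.mp hli0) s c h0 χ hχ
  have h1 := hli.fintype_card_le_finrank
  have h2 : Module.finrank ℂ (G ⧸ I → ℂ) = I.index := by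
    rw [Module.finrank_pi, Subgroup.index, Nat.card_eq_fintype_card]
  rw [Nat.card_eq_fintype_card]
  rw [h2] at h1
  exact h1

end Cfsg.Agent.Helper81
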