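import Mathlib

/-!
# Counting pieces (B) and (E) of S4489

* `index_normalCore_dvd_factorial`, `sub_one_mul_le_of_pow_dvd_factorial`: `P ⧸ core_P(H)` embeds in
  `Perm (P ⧸ H)`, so if its order is `p ^ b` then `(p - 1) * b ≤ f - 1`, `f = [P : H]`.
* `card_le_prod_index`: a finite group with a finite family of subgroups with trivial intersection
  has order at most the product of the indices.
* `le_mul_pow_sub`: `m ≤ (t + 1) * p ^ (m - 1 - t)`.
* `log_card_le`: the final count `c ≤ (t + 1) * #S`.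
-/

set_option autoImplicit false
set_option linter.style.haveILetI false

namespace Cfsg.Agent.Helper81.MonoBound

open scoped Nat

/-- (B1) `P ⧸ core_P(H)` embeds in `Perm (P ⧸ H)`. -/
theorem index_normalCore_dvd_factorial {P : Type*} [Group P] [Finite P] (H : Subgroup P) :
    H.normalCore.index ∣ (H.index)! := by
  classical
  rw [Subgroup.normalCore_eq_ker, Subgroup.index_ker]
  have h1 : Nat.card (MulAction.toPermHom P (P ⧸ H)).range ∣ Nat.card (Equiv.Perm (P ⧸ H)) :=
    Subgroup.card_subgroup_dvd_card _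
  haveI : Fintype (P ⧸ H) := Fintype.ofFinite _
  rw [Nat.card_eq_fintype_card (α := Equiv.Perm (P ⧸ H)), Fintype.card_perm,
    ← Nat.card_eq_fintype_card] at h1
  exact h1

/-- (B2) Legendre. -/
theorem sub_one_mul_le_of_pow_dvd_factorial (p b f : ℕ) (hp : p.Prime) (hf : 0 < f)
    (h : p ^ b ∣ f !) : (p - 1) * b ≤ f - 1 := by
  haveI := Fact.mk hp
  have hb : b ≤ padicValNat p f ! := (padicValNat_dvd_iff_le (Nat.factorial_ne_zero f)).mp h
  have h1 := sub_one_mul_padicValNat_factorial_lt_of_ne_zero p hf.ne'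
  have h2 : (p - 1) * b ≤ (p - 1) * padicValNat p f ! := Nat.mul_le_mul_left _ hb
  omega

/-- (B) `(p - 1) * b ≤ f - 1` when `[P : core_P(H)] = p ^ b` and `f = [P : H]`. -/
theorem sub_one_mul_le_index_sub_one {P : Type*} [Group P] [Finite P] (H : Subgroup P)
    (p b : ℕ) (hp : p.Prime) (hb : H.normalCore.index = p ^ b) :
    (p - 1) * b ≤ H.index - 1 := by
  have hpos : 0 < H.index := Nat.pos_of_ne_zero Subgroup.index_ne_zero_of_finite
  refine sub_one_mul_le_of_pow_dvd_factorial p b H.index hp hpos ?_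
  rw [← hb]
  exact index_normalCore_dvd_factorial H

/-- (E1) trivial intersection: the order is at most the product of the indices. -/
theorem card_le_prod_index {A : Type*} [Group A] [Finite A] {ι : Type*} (s : Finset ι)
    (N : ι → Subgroup A) (h : ⨅ i ∈ s, N i = ⊥) : Nat.card A ≤ ∏ i ∈ s, (N i).index := by
  classical
  have h1 := Subgroup.index_iInf_le (fun i : s => N i)
  have h2 : (⨅ i : s, N i) = ⨅ i ∈ s, N i := by
    rw [iInf_subtype]
  rw [h2, h, Subgroup.index_bot] at h1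
  calc Nat.card A ≤ ∏ i : s, (N i).index := h1
    _ = ∏ i ∈ s, (N i).index := Finset.prod_coe_sort s (fun i => (N i).index)

/-- (E3) the arithmetic. -/
theorem le_mul_pow_sub (p m t : ℕ) (hp : 2 ≤ p) : m ≤ (t + 1) * p ^ (m - 1 - t) := by
  rcases Nat.lt_or_ge (t + 1) m with h | h
  · obtain ⟨e, rfl⟩ : ∃ e, m = t + 1 + e := ⟨m - (t + 1), by omega⟩
    have he : t + 1 + e - 1 - t = e := by omega
    rw [he]
    have h1 : e + 1 ≤ p ^ e := by
      have := Nat.lt_pow_self (n := e) (a := p) hp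
      omega
    calc t + 1 + e ≤ (t + 1) * (e + 1) := by nlinarith
      _ ≤ (t + 1) * p ^ e := Nat.mul_le_mul_left _ h1
  · have : m - 1 - t = 0 := by omega
    rw [this, pow_zero, mul_one]
    exact h

open Classical in
/-- (E) the count: if the characters in `S` have trivial common kernel and each kernel class
`{ν ∈ S | ker ν = ker μ}` has at least `p ^ (m - 1 - t)` elements (`p ^ m = [A : ker μ]`), then
`log_p |A| ≤ (t + 1) * #S`. -/
theorem log_card_le {A : Type*} [Group A] [Finite A] (p c t : ℕ) (hp : p.Prime)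
    (hA : Nat.card A = p ^ c) (S : Finset (A →* ℂˣ)) (hS : ⨅ ν ∈ S, (ν : A →* ℂˣ).ker = ⊥)
    (hgal : ∀ μ ∈ S, ∀ m : ℕ, Nat.card (A ⧸ μ.ker) = p ^ m →
      p ^ (m - 1 - t) ≤ (S.filter (fun ν => ν.ker = μ.ker)).card) :
    c ≤ (t + 1) * S.card := by
  -- the distinct kernels
  let 𝒩 : Finset (Subgroup A) := S.image (fun ν => ν.ker)
  have hN : ⨅ N ∈ 𝒩, (N : Subgroup A) = ⊥ := by
    rw [← hS]
    simp only [𝒩, Finset.mem_image, iInf_exists]
    apply le_antisymm
    · refine le_iInf₂ (fun ν hν => ?_)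
      exact iInf₂_le_of_le ν.ker ν (iInf_le_of_le ⟨hν, rfl⟩ le_rfl)
    · refine le_iInf₂ (fun N ν => le_iInf (fun h => ?_))
      rw [← h.2]
      exact iInf₂_le ν h.1
  have h1 := card_le_prod_index 𝒩 (fun N => N) hN
  -- every index is a power of `p`
  have hidx : ∀ N : Subgroup A, ∃ m, N.index = p ^ m := by
    intro N
    have hd : N.index ∣ p ^ c := hA ▸ Subgroup.index_dvd_card N
    obtain ⟨m, _, hm⟩ := (Nat.dvd_prime_pow hp).mp hd
    exact ⟨m, hm⟩
  choose m hm using hidx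
  have h2 : ∏ N ∈ 𝒩, N.index = p ^ (∑ N ∈ 𝒩, m N) := by
    rw [← Finset.prod_pow_eq_pow_sum]
    exact Finset.prod_congr rfl (fun N _ => hm N)
  rw [hA, h2] at h1
  have h3 : c ≤ ∑ N ∈ 𝒩, m N := (Nat.pow_le_pow_iff_right hp.one_lt).mp h1
  have h4 : ∀ N ∈ 𝒩, m N ≤ (t + 1) * (S.filter (fun ν => ν.ker = N)).card := by
    intro N hN'
    obtain ⟨μ, hμS, hμN⟩ := Finset.mem_image.mp hN'
    have hcard : Nat.card (A ⧸ μ.ker) = p ^ m N := by
      have : Nat.card (A ⧸ μ.ker) = μ.ker.index := rfl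
      rw [this]
      have hμN' : μ.ker = N := hμN
      rw [hμN']
      exact hm N
    have h5 := hgal μ hμS (m N) hcard
    have hμN' : μ.ker = N := hμN
    rw [hμN'] at h5
    calc m N ≤ (t + 1) * p ^ (m N - 1 - t) := le_mul_pow_sub p (m N) t hp.two_le
      _ ≤ (t + 1) * (S.filter (fun ν => ν.ker = N)).card := Nat.mul_le_mul_left _ h5
  have h6 : S.card = ∑ N ∈ 𝒩, (S.filter (fun ν => ν.ker = N)).card :=
    Finset.card_eq_sum_card_image (fun ν : A →* ℂˣ => ν.ker) S
  calc c ≤ ∑ N ∈ 𝒩, m N := h3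
    _ ≤ ∑ N ∈ 𝒩, (t + 1) * (S.filter (fun ν => ν.ker = N)).card := Finset.sum_le_sum h4
    _ = (t + 1) * S.card := by rw [h6, Finset.mul_sum]

end Cfsg.Agent.Helper81.MonoBound
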