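import Mathlib
import Cfsg.Prelude.Def_Characters

/-!
# A monomial character on the normal core of the inducing subgroup

For `H ≤ P`, `lam : H →* ℂˣ` and `K₀ = H.normalCore`, the restriction of `indFun H lam` to `K₀`
is `|H|⁻¹ • ∑ x : P, mu x`, where `mu x k = lam (x⁻¹ k x)` are homomorphisms `K₀ →* ℂˣ`.
(Piece (A) of S4489.)
-/

set_option autoImplicit false

namespace Cfsg.Agent.Helper81.MonoCore

open Cfsg

universe u

variable {P : Type u} [Group P] (H : Subgroup P) (lam : H →* ℂˣ)

/-- Conjugates of elements of the normal core stay in `H`. -/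
theorem conj_mem (x : P) (k : H.normalCore) : x⁻¹ * (k : P) * x ∈ H := by
  have h1 := (Subgroup.normalCore_normal H).conj_mem k.1 k.2 x⁻¹
  have h2 := Subgroup.normalCore_le H h1
  simpa using h2

/-- The conjugates of `lam`, restricted to the normal core. -/
def mu (x : P) : H.normalCore →* ℂˣ where
  toFun k := lam ⟨x⁻¹ * (k : P) * x, conj_mem H x k⟩
  map_one' := by
    have : (⟨x⁻¹ * ((1 : H.normalCore) : P) * x, conj_mem H x 1⟩ : H) = 1 := by
      ext; simp
    rw [this, map_one]
  map_mul' a b := by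
    rw [← map_mul]
    congr 1
    ext
    simp [mul_assoc]

theorem mu_apply (x : P) (k : H.normalCore) :
    mu H lam x k = lam ⟨x⁻¹ * (k : P) * x, conj_mem H x k⟩ := rfl

/-- (A1) `mu` is constant on left cosets of `H`. -/
theorem mu_mul_right (x : P) (h : H) : mu H lam (x * (h : P)) = mu H lam x := by
  ext k
  rw [mu_apply, mu_apply]
  have : (⟨(x * (h : P))⁻¹ * (k : P) * (x * (h : P)), conj_mem H (x * (h : P)) k⟩ : H)
      = h⁻¹ * ⟨x⁻¹ * (k : P) * x, conj_mem H x k⟩ * h := by
    ext; simp [mul_assoc]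
  rw [this, map_mul, map_mul, map_inv, mul_comm, ← mul_assoc, mul_inv_cancel, one_mul]

/-- `mu` factors through `P ⧸ H`. -/
theorem mu_eq_of_leftRel {x y : P} (h : x⁻¹ * y ∈ H) : mu H lam x = mu H lam y := by
  have := mu_mul_right H lam x ⟨x⁻¹ * y, h⟩
  simpa using this.symm

/-- The set of distinct `mu x` has at most `H.index` elements. -/
theorem ncard_range_mu_le [Finite P] : (Set.range (mu H lam)).ncard ≤ H.index := by
  classical
  let F : P ⧸ H → (H.normalCore →* ℂˣ) :=
    Quotient.lift (mu H lam) (fun a b hab => by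
      have : a⁻¹ * b ∈ H := QuotientGroup.leftRel_apply.mp hab
      exact mu_eq_of_leftRel H lam this)
  have hF : Set.range (mu H lam) = Set.range F := by
    ext ν
    constructor
    · rintro ⟨x, rfl⟩
      exact ⟨(x : P ⧸ H), rfl⟩
    · rintro ⟨q, rfl⟩
      induction q using Quotient.inductionOn with
      | _ x => exact ⟨x, rfl⟩
  rw [hF, Subgroup.index, ← Set.image_univ]
  calc (F '' Set.univ).ncard ≤ (Set.univ : Set (P ⧸ H)).ncard := Set.ncard_image_le
    _ = Nat.card (P ⧸ H) := Set.ncard_univ _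

variable [Fintype P]

/-- (A2) the induced function on the normal core. -/
theorem indFun_coe_core (k : H.normalCore) :
    indFun H (fun h => ((lam h : ℂˣ) : ℂ)) (k : P)
      = (Nat.card H : ℂ)⁻¹ * ∑ x : P, ((mu H lam x k : ℂˣ) : ℂ) := by
  unfold indFun
  congr 1
  refine Finset.sum_congr rfl (fun x _ => ?_)
  have := Function.Injective.extend_apply (Subtype.val_injective : Function.Injective
    (Subtype.val : H → P)) (fun h => ((lam h : ℂˣ) : ℂ)) 0 ⟨x⁻¹ * (k : P) * x, conj_mem H x k⟩
  unfold extendByZero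
  rw [mu_apply]
  exact this

/-- (A3) the degree of a monomial character. -/
theorem indFun_one : indFun H (fun h => ((lam h : ℂˣ) : ℂ)) 1 = (H.index : ℂ) := by
  have h := indFun_coe_core H lam 1
  simp only [map_one, Units.val_one, Finset.sum_const, Finset.card_univ, nsmul_eq_mul,
    mul_one, Subgroup.coe_one] at h
  rw [h]
  have hidx : (Nat.card H) * H.index = Fintype.card P := by
    rw [← Nat.card_eq_fintype_card]; exact Subgroup.card_mul_index H
  have hne : (Nat.card H : ℂ) ≠ 0 := by
    have : 0 < Nat.card H := Nat.card_pos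
    exact_mod_cast this.ne'
  rw [← hidx]
  push_cast
  field_simp

/-- (A4) for a faithful monomial character, the `mu x` have trivial common kernel. -/
theorem eq_one_of_forall_mu_eq_one
    (hfaith : ∀ g : P, indFun H (fun h => ((lam h : ℂˣ) : ℂ)) g
      = indFun H (fun h => ((lam h : ℂˣ) : ℂ)) 1 → g = 1)
    (k : H.normalCore) (hk : ∀ x : P, mu H lam x k = 1) : k = 1 := by
  have h1 : indFun H (fun h => ((lam h : ℂˣ) : ℂ)) (k : P)
      = indFun H (fun h => ((lam h : ℂˣ) : ℂ)) 1 := by
    rw [indFun_coe_core H lam k]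
    have h := indFun_coe_core H lam 1
    rw [Subgroup.coe_one] at h
    rw [h]
    congr 1
    refine Finset.sum_congr rfl (fun x _ => ?_)
    rw [hk x, map_one]
  have := hfaith _ h1
  exact Subtype.ext this

theorem iInf_ker_mu_eq_bot
    (hfaith : ∀ g : P, indFun H (fun h => ((lam h : ℂˣ) : ℂ)) g
      = indFun H (fun h => ((lam h : ℂˣ) : ℂ)) 1 → g = 1) :
    ⨅ x : P, (mu H lam x).ker = ⊥ := by
  rw [eq_bot_iff]
  intro k hk
  rw [Subgroup.mem_iInf] at hk
  rw [Subgroup.mem_bot]
  exact eq_one_of_forall_mu_eq_one H lam hfaith k (fun x => MonoidHom.mem_ker.mp (hk x))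

/-- (A5) orthogonality: the "multiplicity" of a homomorphism `ν : K₀ →* ℂˣ` in the restriction
of the monomial character to `K₀` counts the `x` with `mu x = ν`. -/
theorem sum_indFun_mul_inv (ν : H.normalCore →* ℂˣ) [DecidableEq (H.normalCore →* ℂˣ)]
    [Fintype H.normalCore] :
    ∑ k : H.normalCore, indFun H (fun h => ((lam h : ℂˣ) : ℂ)) (k : P) * ((ν k)⁻¹ : ℂˣ)
      = (Nat.card H : ℂ)⁻¹ * (Nat.card H.normalCore : ℂ)
        * ((Finset.univ.filter (fun x : P => mu H lam x = ν)).card : ℂ) := by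
  classical
  have key : ∀ x : P, ∑ k : H.normalCore, ((mu H lam x k : ℂˣ) : ℂ) * ((ν k)⁻¹ : ℂˣ)
      = if mu H lam x = ν then (Nat.card H.normalCore : ℂ) else 0 := by
    intro x
    have h := sum_hom_units (R := ℂ) (G := H.normalCore)
      ((Units.coeHom ℂ).comp (mu H lam x * ν⁻¹))
    have h2 : ∑ k : H.normalCore, ((mu H lam x k : ℂˣ) : ℂ) * ((ν k)⁻¹ : ℂˣ)
        = ∑ k : H.normalCore, ((Units.coeHom ℂ).comp (mu H lam x * ν⁻¹)) k := by
      refine Finset.sum_congr rfl (fun k _ => ?_)
      simp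
    rw [h2, h]
    have hiff : ((Units.coeHom ℂ).comp (mu H lam x * ν⁻¹) = 1) ↔ mu H lam x = ν := by
      constructor
      · intro hh
        ext k
        have h3 := DFunLike.congr_fun hh k
        have h4 : (mu H lam x k * (ν k)⁻¹ : ℂˣ) = 1 := by
          apply Units.ext
          simpa using h3
        rw [mul_inv_eq_one.mp h4]
      · intro hh
        ext k
        rw [hh]
        simp
    simp only [hiff, Nat.card_eq_fintype_card]
    split_ifs <;> simp
  calc ∑ k : H.normalCore, indFun H (fun h => ((lam h : ℂˣ) : ℂ)) (k : P) * ((ν k)⁻¹ : ℂˣ)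
      = ∑ k : H.normalCore, (Nat.card H : ℂ)⁻¹ *
          ∑ x : P, ((mu H lam x k : ℂˣ) : ℂ) * ((ν k)⁻¹ : ℂˣ) := by
        refine Finset.sum_congr rfl (fun k _ => ?_)
        rw [indFun_coe_core, mul_assoc, Finset.sum_mul]
    _ = (Nat.card H : ℂ)⁻¹ * ∑ x : P, ∑ k : H.normalCore,
          ((mu H lam x k : ℂˣ) : ℂ) * ((ν k)⁻¹ : ℂˣ) := by
        rw [← Finset.mul_sum, Finset.sum_comm]
    _ = (Nat.card H : ℂ)⁻¹ * ∑ x : P,
          (if mu H lam x = ν then (Nat.card H.normalCore : ℂ) else 0) := by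
        congr 1
        exact Finset.sum_congr rfl (fun x _ => key x)
    _ = _ := by
        rw [← Finset.sum_filter, Finset.sum_const, nsmul_eq_mul, mul_assoc]
        congr 1
        rw [mul_comm]

end Cfsg.Agent.Helper81.MonoCore
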