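import Mathlib

/-!
# `x * y` is not a square (group-theoretic half of S4859)
-/

set_option autoImplicit false

namespace Cfsg.Agent.Helper81

theorem not_square_of_max_two_element {G : Type*} [Group G] [Finite G] (p : ℕ) [Fact p.Prime]
    (hp : p ≠ 2) (x : G) (hx : ∃ k : ℕ, orderOf x = p ^ k)
    (heven : Even (Nat.card (Subgroup.centralizer ({x} : Set G)))) (y : G)
    (hy : y ∈ Subgroup.centralizer ({x} : Set G)) (hy2 : ∃ k : ℕ, orderOf y = 2 ^ k)
    (hmax : ∀ z ∈ Subgroup.centralizer ({x} : Set G), (∃ k : ℕ, orderOf z = 2 ^ k) →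
      orderOf z ≤ orderOf y) : ¬ ∃ u : G, u * u = x * y := by
  rintro ⟨u, hu⟩
  obtain ⟨a, ha⟩ := hx
  obtain ⟨b, hb⟩ := hy2
  have hpp : p.Prime := Fact.out
  have hcomm : Commute x y := by
    have := Subgroup.mem_centralizer_iff.mp hy x (Set.mem_singleton x)
    exact this
  have hcop : Nat.Coprime (orderOf x) (orderOf y) := by
    rw [ha, hb]
    apply Nat.Coprime.pow
    rw [Nat.coprime_primes hpp Nat.prime_two]
    exact hp
  have hord : orderOf (x * y) = p ^ a * 2 ^ b := by
    rw [hcomm.orderOf_mul_eq_mul_orderOf_of_coprime hcop, ha, hb]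
  -- `u` commutes with `x`
  have hux : Commute u x := by
    have h1 : Commute u (x * y) := by
      rw [← hu]
      exact (Commute.refl u).mul_right (Commute.refl u)
    have h2 : Commute u (x ^ (2 ^ b)) := by
      have : (x * y) ^ (2 ^ b) = x ^ (2 ^ b) := by
        rw [hcomm.mul_pow, ← hb, pow_orderOf_eq_one, mul_one]
      rw [← this]
      exact h1.pow_right _
    have hc2 : Nat.Coprime (orderOf x) (2 ^ b) := by rw [← hb]; exact hcop
    obtain ⟨j, hj⟩ := exists_pow_eq_self_of_coprime hc2.symm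
    rw [← hj]
    exact h2.pow_right _
  have hu_mem : ∀ m : ℕ, u ^ m ∈ Subgroup.centralizer ({x} : Set G) := by
    intro m
    rw [Subgroup.mem_centralizer_iff]
    intro z hz
    rw [Set.mem_singleton_iff] at hz
    subst hz
    exact ((hux.pow_left m).eq).symm
  have hn : orderOf (u ^ 2) = p ^ a * 2 ^ b := by rw [pow_two, hu, hord]
  have hn0 : 0 < orderOf u := orderOf_pos u
  rw [orderOf_pow] at hn
  by_cases hodd : Nat.gcd (orderOf u) 2 = 1
  · -- odd order: then `b = 0`, `y = 1`, contradiction with an involution in `C_G(x)`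
    rw [hodd, Nat.div_one] at hn
    have hb0 : b = 0 := by
      by_contra hb0
      have : 2 ∣ orderOf u := by
        rw [hn]
        exact Dvd.dvd.mul_left (dvd_pow_self 2 hb0) _
      have : 2 ∣ Nat.gcd (orderOf u) 2 := Nat.dvd_gcd this (dvd_refl 2)
      rw [hodd] at this
      omega
    have h2dvd : 2 ∣ Nat.card (Subgroup.centralizer ({x} : Set G)) := even_iff_two_dvd.mp heven
    haveI : Fact (Nat.Prime 2) := ⟨Nat.prime_two⟩
    obtain ⟨t, ht⟩ := exists_prime_orderOf_dvd_card' 2 h2dvd
    have ht' : orderOf (t : G) = 2 := by rw [Subgroup.orderOf_coe]; exact ht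
    have := hmax t t.2 ⟨1, by rw [ht', pow_one]⟩
    rw [ht', hb, hb0, pow_zero] at this
    omega
  · -- even order
    have h2 : Nat.gcd (orderOf u) 2 = 2 := by
      have := Nat.gcd_dvd_right (orderOf u) 2
      rcases (Nat.dvd_prime Nat.prime_two).mp this with h | h
      · exact absurd h hodd
      · exact h
    rw [h2] at hn
    have h2dvd : 2 ∣ orderOf u := by
      have := Nat.gcd_dvd_left (orderOf u) 2
      rwa [h2] at this
    have hou : orderOf u = p ^ a * 2 ^ (b + 1) := by
      obtain ⟨c, hc⟩ := h2dvd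
      rw [hc, Nat.mul_div_cancel_left _ (by norm_num : 0 < 2)] at hn
      rw [hc, hn, pow_succ]; ring
    have hv : orderOf (u ^ (p ^ a)) = 2 ^ (b + 1) := by
      rw [orderOf_pow, hou]
      have : Nat.gcd (p ^ a * 2 ^ (b + 1)) (p ^ a) = p ^ a := Nat.gcd_eq_right (dvd_mul_right _ _)
      rw [this, Nat.mul_div_cancel_left _ (pow_pos hpp.pos a)]
    have := hmax (u ^ (p ^ a)) (hu_mem _) ⟨b + 1, hv⟩
    rw [hv, hb] at this
    have : 2 ^ (b + 1) > 2 ^ b := Nat.pow_lt_pow_right (by norm_num) (by omega)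
    omega

end Cfsg.Agent.Helper81
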