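import Mathlib

/-!
# Orbit-counting transfer lemmas
-/

set_option autoImplicit false

namespace Cfsg.Agent.Helper81

/-- If every group element has equally many fixed points on two finite `G`-sets, the two actions
have equally many orbits (Burnside's lemma twice). -/
theorem card_orbits_eq_of_card_fixedBy_eq {G Ω₁ Ω₂ : Type*} [Group G] [Finite G]
    [MulAction G Ω₁] [MulAction G Ω₂] [Finite Ω₁] [Finite Ω₂]
    (h : ∀ g : G, Nat.card (MulAction.fixedBy Ω₁ g) = Nat.card (MulAction.fixedBy Ω₂ g)) :
    Nat.card (Quotient (MulAction.orbitRel G Ω₁)) = Nat.card (Quotient (MulAction.orbitRel G Ω₂)) := by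
  classical
  have := Fintype.ofFinite G
  have := Fintype.ofFinite Ω₁
  have := Fintype.ofFinite Ω₂
  have h1 := MulAction.sum_card_fixedBy_eq_card_orbits_mul_card_group G Ω₁
  have h2 := MulAction.sum_card_fixedBy_eq_card_orbits_mul_card_group G Ω₂
  have h3 : ∑ g : G, Fintype.card (MulAction.fixedBy Ω₁ g) =
      ∑ g : G, Fintype.card (MulAction.fixedBy Ω₂ g) := by
    refine Finset.sum_congr rfl fun g _ => ?_
    have := h g
    rwa [Nat.card_eq_fintype_card, Nat.card_eq_fintype_card] at this
  rw [h1, h2] at h3
  have hpos : 0 < Fintype.card G := Fintype.card_pos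
  rw [Nat.card_eq_fintype_card, Nat.card_eq_fintype_card]
  exact Nat.eq_of_mul_eq_mul_right hpos h3

/-- A surjection that reflects and preserves a relation into an equivalence relation induces a
bijection on quotients. -/
theorem card_quot_eq_of_surjective {α β : Type*} {ra : α → α → Prop} (sb : Setoid β)
    (f : α → β) (hf : Function.Surjective f) (h : ∀ a b, ra a b ↔ sb.r (f a) (f b)) :
    Nat.card (Quot ra) = Nat.card (Quotient sb) := by
  refine Nat.card_congr (Equiv.ofBijective (Quot.map f (fun a b hab => (h a b).mp hab)) ⟨?_, ?_⟩)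
  · intro x y hxy
    induction x using Quot.inductionOn with
    | _ a =>
      induction y using Quot.inductionOn with
      | _ b =>
        have : sb.r (f a) (f b) := Quotient.exact hxy
        exact Quot.sound ((h a b).mpr this)
  · intro y
    induction y using Quot.inductionOn with
    | _ b =>
      obtain ⟨a, rfl⟩ := hf b
      exact ⟨Quot.mk _ a, rfl⟩

end Cfsg.Agent.Helper81
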