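import Mathlib
import Cfsg.Agent.Helper99.P4Defs
import Cfsg.Agent.Helper76.P4U1

/-!
Piece (N2) for helper99's S6000 (WANTED #8930): the trace identity
`tr g * tr g⁻¹ = ∑_{σ v = v} lam v` (helper81).  `trace_identity_of` takes the Pauli twirl (U3) as a hypothesis.
-/

set_option autoImplicit false
open scoped MatrixGroups

namespace Cfsg.Agent.Helper81.P4

open Matrix Polynomial Cfsg.Agent.Helper99.P4 Cfsg.Geo

variable {F : Type*} [Field F]

theorem add_eq_zero_iff_V4 (u v : V4) : u + v = 0 ↔ v = u := by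
  constructor
  · intro h
    have h1 : u + (u + v) = u + 0 := by rw [h]
    rw [← add_assoc, add_self_V4, zero_add, add_zero] at h1
    exact h1
  · intro h
    rw [h, add_self_V4]

/-- (N2) with the twirl (U3) as a hypothesis -/
theorem trace_identity_of
    (htw : ∀ M : Matrix (Fin 4) (Fin 4) F, ∑ v : V4, (sg (eps v v) : F) • (pw v * M * pw v) =
      (4 * Matrix.trace M) • (1 : Matrix (Fin 4) (Fin 4) F))
    (h2 : (2 : F) ≠ 0) (g : GL (Fin 4) F) (σ : V4 → V4) (lam : V4 → F)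
    (hrel : ∀ v, (g : Matrix (Fin 4) (Fin 4) F) * pw v =
      lam v • (pw (σ v) * (g : Matrix (Fin 4) (Fin 4) F))) :
    Matrix.trace (g : Matrix (Fin 4) (Fin 4) F) *
        Matrix.trace ((g⁻¹ : GL (Fin 4) F) : Matrix (Fin 4) (Fin 4) F) =
      ∑ v ∈ Finset.univ.filter (fun v : V4 => σ v = v), lam v := by
  have h4 : (4 : F) ≠ 0 := by
    have : (4 : F) = 2 * 2 := by norm_num
    rw [this]; exact mul_ne_zero h2 h2
  have hgg : (g : Matrix (Fin 4) (Fin 4) F) * ((g⁻¹ : GL (Fin 4) F) : Matrix (Fin 4) (Fin 4) F) = 1 := by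
    rw [← Units.val_mul, mul_inv_cancel, Units.val_one]
  have hB := congrArg (fun X : Matrix (Fin 4) (Fin 4) F =>
    Matrix.trace (X * ((g⁻¹ : GL (Fin 4) F) : Matrix (Fin 4) (Fin 4) F))) (htw (g : Matrix (Fin 4) (Fin 4) F))
  simp only [Finset.sum_mul, Matrix.trace_sum, Matrix.smul_mul, Matrix.one_mul,
    Matrix.trace_smul, smul_eq_mul] at hB
  have hterm : ∀ v : V4, (sg (eps v v) : F) * Matrix.trace ((pw v : Matrix (Fin 4) (Fin 4) F) *
      (g : Matrix (Fin 4) (Fin 4) F) * pw v * ((g⁻¹ : GL (Fin 4) F) : Matrix (Fin 4) (Fin 4) F)) =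
      if σ v = v then 4 * lam v else 0 := by
    intro v
    have e : (pw v : Matrix (Fin 4) (Fin 4) F) * (g : Matrix (Fin 4) (Fin 4) F) * pw v *
        ((g⁻¹ : GL (Fin 4) F) : Matrix (Fin 4) (Fin 4) F) =
        (lam v * sg (eps v (σ v))) • pw (v + σ v) := by
      rw [Matrix.mul_assoc (pw v), hrel v, Matrix.mul_smul, Matrix.smul_mul, Matrix.mul_assoc (pw v),
        Matrix.mul_assoc (pw (σ v)), hgg, Matrix.mul_one, pw_mul, smul_smul]
    rw [e, Matrix.trace_smul, Cfsg.Agent.Helper76.P4.pw_trace, smul_eq_mul]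
    by_cases hv : σ v = v
    · rw [if_pos hv, if_pos ((add_eq_zero_iff_V4 v (σ v)).2 hv), hv]
      have := sg_mul_self (F := F) (eps v v)
      linear_combination (4 * lam v) * this
    · rw [if_neg hv, if_neg (fun h => hv ((add_eq_zero_iff_V4 v (σ v)).1 h)), mul_zero, mul_zero]
  rw [Finset.sum_congr rfl (fun v _ => hterm v), ← Finset.sum_filter, ← Finset.mul_sum] at hB
  have e : (4 : F) * (Matrix.trace (g : Matrix (Fin 4) (Fin 4) F) *
      Matrix.trace ((g⁻¹ : GL (Fin 4) F) : Matrix (Fin 4) (Fin 4) F)) =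
      4 * ∑ v ∈ Finset.univ.filter (fun v : V4 => σ v = v), lam v := by
    rw [hB, mul_assoc]
  exact mul_left_cancel₀ h4 e

end Cfsg.Agent.Helper81.P4
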