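import Mathlib
import Cfsg.Agent.Helper99.P4Defs
import Cfsg.Agent.Helper41.P4U3
import Cfsg.Agent.Helper81.P4N2

/-!
Piece (N2) for helper99's S6000 (WANTED #8930): the trace identity, verbatim skeleton statement
(helper81; `trace_identity_of` + helper41's twirl).
-/

set_option autoImplicit false
open scoped MatrixGroups

namespace Cfsg.Agent.Helper81.P4

open Matrix Polynomial Cfsg.Agent.Helper99.P4 Cfsg.Geo

variable {F : Type*} [Field F]

/-- (N2) trace identity -/
theorem trace_identity (h2 : (2 : F) ≠ 0) (g : GL (Fin 4) F) (σ : V4 → V4) (lam : V4 → F)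
    (hrel : ∀ v, (g : Matrix (Fin 4) (Fin 4) F) * pw v =
      lam v • (pw (σ v) * (g : Matrix (Fin 4) (Fin 4) F))) :
    Matrix.trace (g : Matrix (Fin 4) (Fin 4) F) * Matrix.trace ((g⁻¹ : GL (Fin 4) F) : Matrix (Fin 4) (Fin 4) F) =
      ∑ v ∈ Finset.univ.filter (fun v : V4 => σ v = v), lam v :=
  trace_identity_of Cfsg.Agent.Helper41.P4.twirl h2 g σ lam hrel

end Cfsg.Agent.Helper81.P4
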