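import Mathlib
import Cfsg.Agent.Helper99.P4Defs
import Cfsg.Agent.Helper76.P4U2

/-!
Piece (N4) for helper99's S6000 (WANTED #8930): if `g ^ n` is scalar then `σ ^ n = id` (helper81).
-/

set_option autoImplicit false
open scoped MatrixGroups

namespace Cfsg.Agent.Helper81.P4

open Matrix Polynomial Cfsg.Agent.Helper99.P4 Cfsg.Geo

variable {F : Type*} [Field F]

/-- iterating the relation `g * pw v = lam v • (pw (σ v) * g)` -/
theorem pow_rel (g : GL (Fin 4) F) (σ : V4 → V4) (lam : V4 → F)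
    (hrel : ∀ v, (g : Matrix (Fin 4) (Fin 4) F) * pw v =
      lam v • (pw (σ v) * (g : Matrix (Fin 4) (Fin 4) F))) (n : ℕ) :
    ∀ v : V4, ∃ c : F, ((g ^ n : GL (Fin 4) F) : Matrix (Fin 4) (Fin 4) F) * pw v =
      c • (pw (σ^[n] v) * ((g ^ n : GL (Fin 4) F) : Matrix (Fin 4) (Fin 4) F)) := by
  induction n with
  | zero =>
    intro v
    refine ⟨1, ?_⟩
    rw [pow_zero, Units.val_one, Matrix.one_mul, Matrix.mul_one, one_smul]
    rfl
  | succ n ih =>
    intro v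
    obtain ⟨c, hc⟩ := ih (σ v)
    refine ⟨lam v * c, ?_⟩
    rw [pow_succ, Units.val_mul, Matrix.mul_assoc, hrel v, Matrix.mul_smul, ← Matrix.mul_assoc, hc,
      Matrix.smul_mul, smul_smul, Matrix.mul_assoc, Function.iterate_succ_apply]

/-- (N4) -/
theorem sigma_pow (h2 : (2 : F) ≠ 0) (g : GL (Fin 4) F) (σ : V4 → V4) (lam : V4 → F)
    (hrel : ∀ v, (g : Matrix (Fin 4) (Fin 4) F) * pw v =
      lam v • (pw (σ v) * (g : Matrix (Fin 4) (Fin 4) F)))
    (n : ℕ) (z : F) (hz : ((g ^ n : GL (Fin 4) F) : Matrix (Fin 4) (Fin 4) F) = z • 1) (v : V4) :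
    σ^[n] v = v := by
  have hz0 : z ≠ 0 := by
    intro h0
    have h1 : ((g ^ n : GL (Fin 4) F) : Matrix (Fin 4) (Fin 4) F) *
        (((g ^ n)⁻¹ : GL (Fin 4) F) : Matrix (Fin 4) (Fin 4) F) = 1 := by
      rw [← Units.val_mul, mul_inv_cancel, Units.val_one]
    rw [hz, h0, zero_smul, Matrix.zero_mul] at h1
    have h00 := congrFun (congrFun h1 0) 0
    simp at h00
  obtain ⟨c, hc⟩ := pow_rel g σ lam hrel n v
  rw [hz, Matrix.smul_mul, Matrix.one_mul, Matrix.mul_smul, Matrix.mul_one, smul_smul] at hc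
  exact ((Cfsg.Agent.Helper76.P4.pw_unique h2 z (c * z) v (σ^[n] v) hz0 hc).1).symm

end Cfsg.Agent.Helper81.P4
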