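import Mathlib
import Cfsg.Agent.S4708
import Cfsg.Agent.Helper81.CliffordInd

/-!
# Principal `p`-blocks: the class function `|G|_p • 1_{p-regular}` and `p′`-degree characters

* `rtp p G`, with `[rtp p G, ξ]` an integer, nonzero iff `ξ ∈ B₀(G)`, and then with the same
  `p`-part as `ξ(1)`.
* `sum_regInd_eq_of_regular_mem`: a subgroup containing all `p`-regular elements computes the
  same `p`-regular sums.
* `exists_pprime_principal_over_of_index`: for `H ≤ G` of index prime to `p`, a `p′`-degree
  character in `B₀(H)` lies under a `p′`-degree character in `B₀(G)`.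
-/

set_option autoImplicit false
set_option linter.unusedSectionVars false

namespace Cfsg.Agent.Helper81

open Cfsg
open scoped ComplexConjugate

universe u

section

variable {G : Type u} [Group G] [Fintype G]

/-- `|G|_p` times the indicator function of the `p`-regular elements. -/
noncomputable def rtp (p : ℕ) (G : Type u) [Group G] : G → ℂ :=
  Cfsg.Agent.S4426.cut p ((p ^ (Nat.card G).factorization p : ℕ) : ℂ)
    ((Helper79.principalIrr G : IrrCharacter G) : G → ℂ)

omit [Fintype G] in
theorem rtp_apply (p : ℕ) (x : G) :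
    rtp p G x = if p ∣ orderOf x then (0 : ℂ) else ((p ^ (Nat.card G).factorization p : ℕ) : ℂ) := by
  unfold rtp Cfsg.Agent.S4426.cut
  split_ifs
  · rfl
  · show _ * (1 : ℂ) = _
    rw [mul_one]

omit [Fintype G] in
theorem rtp_eq_smul_regInd (p : ℕ) :
    rtp p G = ((p ^ (Nat.card G).factorization p : ℕ) : ℂ) • Helper79.regInd p G := by
  funext x
  rw [rtp_apply, Pi.smul_apply, Helper79.regInd_apply, smul_eq_mul]
  split_ifs <;> simp

omit [Fintype G] in
theorem isClassFunction_rtp (p : ℕ) : IsClassFunction G (rtp p G) := by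
  intro g h
  rw [rtp_eq_smul_regInd, Pi.smul_apply, Pi.smul_apply,
    Cfsg.Agent.S4708.isClassFunction_regInd p g h]

/-- `[rtp p G, ξ]` is an integer. -/
theorem exists_int_inner_rtp (p : ℕ) [Fact p.Prime] (ξ : IrrCharacter G) :
    ∃ n : ℤ, classInner (rtp p G) (ξ : G → ℂ) = (n : ℂ) :=
  Cfsg.Agent.S4426.exists_int_inner p (Helper79.principalIrr G) ξ

/-- For `ξ` in the principal `p`-block, `[rtp p G, ξ]` is a nonzero integer with the same
`p`-part as `ξ(1)`. -/
theorem inner_rtp_of_mem_principalBlock {p : ℕ} [Fact p.Prime] {M : Ideal AlgInt}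
    (hM : IsPModular p M) (ξ : IrrCharacter G) (hξ : ξ ∈ principalBlock M G) :
    ∃ n : ℤ, classInner (rtp p G) (ξ : G → ℂ) = (n : ℂ) ∧ n ≠ 0 ∧
      padicValInt p n = (charDegree (ξ : G → ℂ)).factorization p := by
  have hB : IsPBlock M (principalBlock M G) := ⟨Helper79.principalIrr G, rfl⟩
  have h0 := (Cfsg.Agent.S4426.height_zero_iff p hM _ hB (Helper79.principalIrr G)
    (Helper79.principalIrr_mem hM)).1 (Helper79.blockHeight_principalIrr hM)
  exact (Cfsg.Agent.S4426.pred_iff p hM _ hB (Helper79.principalIrr G) ξ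
    (Helper79.principalIrr_mem hM) hξ).2 h0

/-- `[rtp p G, ξ] ≠ 0` iff `ξ` lies in the principal `p`-block. -/
theorem mem_principalBlock_iff_inner_rtp {p : ℕ} [hp : Fact p.Prime] {M : Ideal AlgInt}
    (hM : IsPModular p M) (ξ : IrrCharacter G) :
    ξ ∈ principalBlock M G ↔ classInner (rtp p G) (ξ : G → ℂ) ≠ 0 := by
  rw [Helper79.mem_principalBlock_iff_inner_regInd hM, rtp_eq_smul_regInd,
    Helper74.classInner_smul_left]
  have h2 : (((p ^ (Nat.card G).factorization p : ℕ) : ℂ)) ≠ 0 := by
    have : (p ^ (Nat.card G).factorization p : ℕ) ≠ 0 := pow_ne_zero _ hp.out.ne_zero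
    exact_mod_cast this
  constructor
  · intro h
    exact mul_ne_zero h2 h
  · intro h h0
    apply h
    rw [h0, mul_zero]

/-- The restriction of `rtp p G` to a subgroup of index prime to `p`. -/
theorem rtp_restrict {p : ℕ} (H : Subgroup G) (hidx : ¬ p ∣ H.index) :
    (fun h : H => rtp p G (h : G)) = rtp p H := by
  funext n
  rw [rtp_apply, rtp_apply, Subgroup.orderOf_coe]
  have h1 : (Nat.card G).factorization p = (Nat.card H).factorization p := by
    rw [← H.card_mul_index, Nat.factorization_mul Nat.card_pos.ne'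
      Subgroup.index_ne_zero_of_finite]
    have : (H.index).factorization p = 0 := Nat.factorization_eq_zero_of_not_dvd hidx
    simp [this]
  rw [h1]

/-- A subgroup containing all `p`-regular elements computes the same `p`-regular sums. -/
theorem sum_regInd_eq_of_regular_mem (p : ℕ) (K : Subgroup G) [Fintype K]
    (hK : ∀ y : G, ¬ p ∣ orderOf y → y ∈ K) (F : G → ℂ) :
    ∑ g : G, Helper79.regInd p G g * F g = ∑ k : K, Helper79.regInd p K k * F (k : G) := by
  classical
  have hs : ∑ g : G, Helper79.regInd p G g * F g =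
      ∑ g ∈ Finset.univ.filter (fun g : G => g ∈ K), Helper79.regInd p G g * F g := by
    rw [Finset.sum_filter]
    refine Finset.sum_congr rfl fun g _ => ?_
    split_ifs with hg
    · rfl
    · rw [Helper79.regInd_apply, if_pos, zero_mul]
      by_contra h2
      exact hg (hK g h2)
  have h3 : ∀ k : K, Helper79.regInd p K k = Helper79.regInd p G (k : G) := by
    intro k
    rw [Helper79.regInd_apply, Helper79.regInd_apply, Subgroup.orderOf_coe]
  have h4 : ∑ g ∈ Finset.univ.filter (fun g : G => g ∈ K), Helper79.regInd p G g * F g =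
      ∑ k : K, Helper79.regInd p G (k : G) * F (k : G) :=
    Finset.sum_subtype (p := fun g : G => g ∈ K) (Finset.univ.filter (fun g : G => g ∈ K))
      (fun g => by simp) (fun g => Helper79.regInd p G g * F g)
  rw [hs, h4]
  exact Finset.sum_congr rfl (fun k _ => by rw [h3 k])

/-- If `K` contains all `p`-regular elements of `G`, then `[regInd_G, χ] ≠ 0` iff
`[regInd_K, χ_K] ≠ 0`. -/
theorem inner_regInd_ne_zero_iff_of_regular_mem (p : ℕ) (K : Subgroup G) [Fintype K]
    (hK : ∀ y : G, ¬ p ∣ orderOf y → y ∈ K) (χ : G → ℂ) :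
    classInner (Helper79.regInd p G) χ ≠ 0 ↔
      classInner (Helper79.regInd p K) (fun k : K => χ k) ≠ 0 := by
  unfold classInner
  rw [sum_regInd_eq_of_regular_mem p K hK (fun g => conj (χ g))]
  have hG : (Nat.card G : ℂ)⁻¹ ≠ 0 := by
    apply inv_ne_zero
    exact_mod_cast Nat.card_pos.ne'
  have hKc : (Nat.card K : ℂ)⁻¹ ≠ 0 := by
    apply inv_ne_zero
    exact_mod_cast Nat.card_pos.ne'
  constructor
  · intro h h0
    apply h
    rw [(mul_eq_zero.mp h0).resolve_left hKc, mul_zero]
  · intro h h0
    apply h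
    rw [(mul_eq_zero.mp h0).resolve_left hG, mul_zero]

end

section overSec

variable {G : Type u} [Group G] [Fintype G]

/-- For `H ≤ G` of index prime to `p`: a `p′`-degree character in the principal `p`-block of `H`
is a constituent of the restriction of a `p′`-degree character in the principal `p`-block of
`G`. -/
theorem exists_pprime_principal_over_of_index {p : ℕ} [hp : Fact p.Prime] {M : Ideal AlgInt}
    (hM : IsPModular p M) (H : Subgroup G) [Fintype H] (hidx : ¬ p ∣ H.index)
    (η : IrrCharacter H) (hηB : η ∈ principalBlock M H)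
    (hηdeg : ¬ p ∣ charDegree (η : H → ℂ)) :
    ∃ χ : IrrCharacter G, χ ∈ principalBlock M G ∧ ¬ p ∣ charDegree (χ : G → ℂ) ∧
      classInner (fun h : H => (χ : G → ℂ) h) (η : H → ℂ) ≠ 0 := by
  classical
  let _ := Helper74.irrFintype G
  set ψ : G → ℂ := indFun H (η : H → ℂ) with hψdef
  have hψ : IsCharacter G ψ := Helper15.isCharacter_indFun H (Helper74.irr_isCharacter η)
  choose m hm using fun β : IrrCharacter G => Helper74.isCharacter_inner_irr_nat hψ β
  choose n hn using fun β : IrrCharacter G => exists_int_inner_rtp p β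
  obtain ⟨nη, hnη, hnη0, hnηv⟩ := inner_rtp_of_mem_principalBlock hM η hηB
  have hsum : nη = ∑ β : IrrCharacter G, (m β : ℤ) * n β := by
    have h1 : classInner (rtp p G) ψ = classInner (rtp p H) (η : H → ℂ) := by
      rw [hψdef, Helper15.frobenius_reciprocity' H (η : H → ℂ) (rtp p G) (isClassFunction_rtp p),
        rtp_restrict H hidx]
    have h2 : classInner (rtp p G) ψ = ∑ β : IrrCharacter G, (m β : ℂ) * (n β : ℂ) := by
      conv_lhs => arg 2; rw [Helper74.isCharacter_eq_sum_irr hψ]
      rw [Helper74.classInner_sum_right]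
      refine Finset.sum_congr rfl fun β _ => ?_
      rw [Helper74.classInner_smul_right, hm, hn, Complex.conj_natCast]
    rw [h1, hnη] at h2
    exact_mod_cast h2
  -- `nη` is a `p`-adic unit
  have hunit : ¬ (p : ℤ) ∣ nη := by
    intro hdvd
    have h1 : ((p : ℕ) : ℤ) ^ 1 ∣ nη := by simpa using hdvd
    rw [padicValInt_dvd_iff] at h1
    rcases h1 with h1 | h1
    · exact hnη0 h1
    · rw [hnηv, Nat.factorization_eq_zero_of_not_dvd hηdeg] at h1
      omega
  -- some term is a `p`-adic unit
  obtain ⟨χ, -, hχ⟩ : ∃ χ ∈ (Finset.univ : Finset (IrrCharacter G)),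
      ¬ (p : ℤ) ∣ (m χ : ℤ) * n χ := by
    by_contra hcon
    push Not at hcon
    apply hunit
    rw [hsum]
    exact Finset.dvd_sum hcon
  have hmχ : m χ ≠ 0 := by
    rintro h0
    apply hχ
    rw [h0]; simp
  have hnχ : n χ ≠ 0 := by
    rintro h0
    apply hχ
    rw [h0]; simp
  have hχB : χ ∈ principalBlock M G := by
    rw [mem_principalBlock_iff_inner_rtp hM, hn]
    exact_mod_cast hnχ
  refine ⟨χ, hχB, ?_, ?_⟩
  · obtain ⟨n', hn', hn'0, hn'v⟩ := inner_rtp_of_mem_principalBlock hM χ hχB
    have hnn : n' = n χ := by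
      have := hn'.symm.trans (hn χ)
      exact_mod_cast this
    intro hdvd
    have hpos : charDegree (χ : G → ℂ) ≠ 0 :=
      (Helper78.charDegree_pos_of_isIrrCharacter χ.2).ne'
    have h1 : 1 ≤ (charDegree (χ : G → ℂ)).factorization p :=
      (hp.out.dvd_iff_one_le_factorization hpos).mp hdvd
    have h2 : ((p : ℕ) : ℤ) ^ 1 ∣ n' := by
      rw [padicValInt_dvd_iff]
      right
      rw [hn'v]; exact h1
    apply hχ
    apply Dvd.dvd.mul_left
    rw [← hnn]
    simpa using h2
  · have h1 : classInner ψ (χ : G → ℂ) ≠ 0 := by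
      rw [hm]; exact_mod_cast hmχ
    rw [hψdef, Helper15.frobenius_reciprocity H (η : H → ℂ) (χ : G → ℂ)
      (Helper74.irr_isClassFunction χ)] at h1
    intro h0
    apply h1
    rw [← Helper74.classInner_conj_symm, h0, map_zero]

end overSec

end Cfsg.Agent.Helper81
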