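import Mathlib
import Cfsg.Agent.Helper81.PBlock1
import Cfsg.Agent.Helper15.CliffordCorr

/-!
# Principal `p`-blocks and `p′`-degree characters over normal subgroups

* `mem_of_regular_of_mem_sup_sylow`: `p`-regular elements of `N P` lie in `N`.
* `exists_pprime_principal_over`: statement S4583.
-/

set_option autoImplicit false
set_option linter.unusedSectionVars false

namespace Cfsg.Agent.Helper81

open Cfsg
open scoped ComplexConjugate

universe u

section

variable {G : Type u} [Group G] [Fintype G]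

omit [Fintype G] in
/-- The `p`-regular elements of `N P` lie in `N`, for `N` normal and `P` a `p`-group. -/
theorem mem_of_regular_of_mem_sup_sylow (N : Subgroup G) [hN : N.Normal] (p : ℕ) [hp : Fact p.Prime]
    (P : Subgroup G) (hP : IsPGroup p P) {y : G} (hy : y ∈ N ⊔ P) (hreg : ¬ p ∣ orderOf y) :
    y ∈ N := by
  obtain ⟨n, hn, x, hx, rfl⟩ := Subgroup.mem_sup_of_normal_left.mp hy
  have h1 : QuotientGroup.mk' N (n * x) = QuotientGroup.mk' N x := by
    have h0 : QuotientGroup.mk' N n = 1 := (QuotientGroup.eq_one_iff n).mpr hn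
    rw [map_mul, h0, one_mul]
  obtain ⟨k, hk⟩ := (IsPGroup.iff_orderOf.mp hP) ⟨x, hx⟩
  have hk' : orderOf x = p ^ k := by
    rw [← hk]; exact Subgroup.orderOf_coe (⟨x, hx⟩ : P)
  have h2 : orderOf (QuotientGroup.mk' N (n * x)) ∣ orderOf (n * x) := orderOf_map_dvd _ _
  have h3 : orderOf (QuotientGroup.mk' N (n * x)) ∣ p ^ k := by
    rw [h1, ← hk']; exact orderOf_map_dvd _ _
  have hcop : Nat.Coprime (orderOf (n * x)) (p ^ k) :=
    Nat.Coprime.pow_right k ((Nat.Prime.coprime_iff_not_dvd hp.out).mpr hreg).symm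
  have h4 : orderOf (QuotientGroup.mk' N (n * x)) = 1 :=
    Nat.eq_one_of_dvd_coprimes hcop h2 h3
  rw [orderOf_eq_one_iff] at h4
  exact (QuotientGroup.eq_one_iff _).mp h4

variable (N : Subgroup G) [hN : N.Normal] [Fintype N]

theorem exists_pprime_principal_over (p : ℕ) [hp : Fact p.Prime] {M : Ideal AlgInt}
    (hM : IsPModular p M) (P : Sylow p G) (θ : IrrCharacter N)
    (hθ : θ ∈ principalBlock M N) (hdeg : ¬ p ∣ charDegree (θ : N → ℂ))
    (H : Subgroup G) (hNH : N ≤ H) (hPH : (P : Subgroup G) ≤ H) (hHle : H ≤ N ⊔ (P : Subgroup G))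
    (η : IrrCharacter H)
    (hη' : ∀ n : N, (η : H → ℂ) ⟨(n : G), hNH n.2⟩ = (θ : N → ℂ) n) :
    ∃ χ : IrrCharacter G, χ ∈ principalBlock M G ∧ ¬ p ∣ charDegree (χ : G → ℂ) ∧
      classInner (fun n : N => (χ : G → ℂ) n) (θ : N → ℂ) ≠ 0 := by
  classical
  have : Fintype H := Fintype.ofFinite H
  have : Fintype (N.subgroupOf H) := Fintype.ofFinite _
  let _ := Helper74.irrFintype H
  -- `p`-regular elements of `H` lie in `N`
  have hKreg : ∀ y : H, ¬ p ∣ orderOf y → y ∈ N.subgroupOf H := by
    intro y hy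
    rw [Subgroup.mem_subgroupOf]
    exact mem_of_regular_of_mem_sup_sylow N p (P : Subgroup G) P.isPGroup' (hHle y.2)
      (by rwa [Subgroup.orderOf_coe])
  -- `η` lies in the principal block of `H`
  have hηB : η ∈ principalBlock M H := by
    rw [Helper79.mem_principalBlock_iff_inner_regInd hM,
      inner_regInd_ne_zero_iff_of_regular_mem p (N.subgroupOf H) hKreg]
    have h1 : (fun k : N.subgroupOf H => (η : H → ℂ) k) = Helper15.toSub N H hNH (θ : N → ℂ) := by
      funext x
      rw [Helper15.toSub_apply]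
      exact hη' ⟨((x : H) : G), x.2⟩
    have h2 : Helper79.regInd p (N.subgroupOf H) =
        Helper15.toSub N H hNH (Helper79.regInd p N) := by
      funext x
      rw [Helper15.toSub_apply, Helper79.regInd_apply, Helper79.regInd_apply]
      have : orderOf x = orderOf (⟨((x : H) : G), x.2⟩ : N) := by
        rw [← Subgroup.orderOf_coe x, ← Subgroup.orderOf_coe (x : H),
          ← Subgroup.orderOf_coe (⟨((x : H) : G), x.2⟩ : N)]
      rw [this]
    rw [h1, h2, Helper15.classInner_toSub]
    exact (Helper79.mem_principalBlock_iff_inner_regInd hM θ).mp hθ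
  have hηdeg : ¬ p ∣ charDegree (η : H → ℂ) := by
    have h1 : (η : H → ℂ) 1 = (θ : N → ℂ) 1 := hη' 1
    have h2 : charDegree (η : H → ℂ) = charDegree (θ : N → ℂ) := by
      unfold charDegree
      rw [h1]
    rw [h2]; exact hdeg
  have hidx : ¬ p ∣ H.index := by
    intro h
    exact P.not_dvd_index (h.trans (Subgroup.index_dvd_of_le hPH))
  obtain ⟨χ, hχB, hχdeg, hχη⟩ := exists_pprime_principal_over_of_index hM H hidx η hηB hηdeg
  refine ⟨χ, hχB, hχdeg, ?_⟩
  obtain ⟨m, f, e, hm, hf, he, hsum⟩ := exists_nat_inner_restrict N H hNH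
    (Helper74.irr_isCharacter χ) (Helper74.irr_isCharacter θ)
  rw [he]
  have hmη : m η ≠ 0 := by
    intro h0
    apply hχη
    rw [hm η, h0]; simp
  have hfη : f η = 1 := by
    have h1 := hf η
    have h2 : Helper15.resTo N H hNH (η : H → ℂ) = (θ : N → ℂ) := by
      funext n
      rw [Helper15.resTo_apply]
      exact hη' n
    rw [h2, Helper74.irr_inner_self θ] at h1
    exact_mod_cast h1.symm
  have hpos : 0 < e := by
    rw [hsum]
    apply Finset.sum_pos'
    · intro ξ _; exact Nat.zero_le _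
    · exact ⟨η, Finset.mem_univ _, by rw [hfη, mul_one]; exact Nat.pos_of_ne_zero hmη⟩
  exact_mod_cast hpos.ne'

end

end Cfsg.Agent.Helper81
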