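import Mathlib
import Cfsg.Agent.Helper81.PBlock2
import Cfsg.Agent.S4431

/-!
# Height zero characters of a block over a character of a normal subgroup

* `charDegree_eq_of_constituent`: `χ(1) = e t θ(1)`.
* `sylow_le_of_not_dvd_index`.
* `sum_sq_mult_block_eq_zero`: if `p ∣ |G : N|` and the block `B` has a `p′`-degree character over
  `θ ∈ Irr N`, then `∑_{ξ ∈ B} [ξ_N, θ]² ≡ 0 mod p`.
-/

set_option autoImplicit false
set_option linter.unusedSectionVars false

namespace Cfsg.Agent.Helper81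

open Cfsg
open scoped ComplexConjugate

universe u

section

variable {G : Type u} [Group G] [Fintype G] (N : Subgroup G) [hN : N.Normal] [Fintype N]

/-- Clifford: `χ(1) = e t θ(1)`. -/
theorem charDegree_eq_of_constituent {χ : G → ℂ} (hχ : IsIrrCharacter G χ) {θ : N → ℂ}
    (hθ : IsIrrCharacter N θ) {e : ℕ} (he : classInner (fun n : N => χ n) θ = e) (he0 : e ≠ 0) :
    charDegree χ = e * ((Helper15.conjOrbit N θ).card * charDegree θ) := by
  classical
  have hθχ : classInner (fun n : N => χ n) θ ≠ 0 := by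
    rw [he]; exact_mod_cast he0
  have h := Helper15.clifford_restrict N hχ hθ hθχ
  have h1 := congrFun h 1
  simp only [Pi.smul_apply, Finset.sum_apply, smul_eq_mul] at h1
  have h2 : ∀ φ ∈ Helper15.conjOrbit N θ, φ 1 = θ 1 := by
    intro φ hφ
    obtain ⟨g, rfl⟩ := (Helper15.mem_conjOrbit N).1 hφ
    rw [Helper15.conjFun_apply]
    congr 1
    apply Subtype.ext
    simp
  rw [Finset.sum_congr rfl h2, Finset.sum_const, nsmul_eq_mul, he,
    Helper78.irrChar_one_eq_charDegree hθ] at h1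
  have h3 : χ ((1 : N) : G) = (charDegree χ : ℂ) := by
    rw [Subgroup.coe_one]; exact Helper78.irrChar_one_eq_charDegree hχ
  rw [h3] at h1
  exact_mod_cast h1

omit [Fintype G] [Fintype N] in
/-- A normal subgroup of index prime to `p` contains every Sylow `p`-subgroup. -/
theorem sylow_le_of_not_dvd_index [Finite G] (p : ℕ) [hp : Fact p.Prime] (P : Sylow p G)
    (h : ¬ p ∣ N.index) : (P : Subgroup G) ≤ N := by
  intro x hx
  obtain ⟨k, hk⟩ := (IsPGroup.iff_orderOf.mp P.isPGroup') ⟨x, hx⟩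
  have hk' : orderOf x = p ^ k := by
    rw [← hk]; exact Subgroup.orderOf_coe (⟨x, hx⟩ : (P : Subgroup G))
  have h2 : orderOf (QuotientGroup.mk' N x) ∣ p ^ k := by
    rw [← hk']; exact orderOf_map_dvd _ _
  have h3 : orderOf (QuotientGroup.mk' N x) ∣ N.index := by
    rw [Subgroup.index_eq_card]; exact orderOf_dvd_natCard _
  have hcop : Nat.Coprime (p ^ k) N.index :=
    Nat.Coprime.pow_left k ((Nat.Prime.coprime_iff_not_dvd hp.out).mpr h)
  have h4 : orderOf (QuotientGroup.mk' N x) = 1 := Nat.eq_one_of_dvd_coprimes hcop h2 h3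
  rw [orderOf_eq_one_iff] at h4
  exact (QuotientGroup.eq_one_iff _).mp h4

/-- If `p ∣ |G : N|` and the block `B` has a `p′`-degree character over `θ ∈ Irr N`, then
`∑_{ξ ∈ B} [ξ_N, θ]² ≡ 0 mod p`. -/
theorem sum_sq_mult_block_eq_zero (p : ℕ) [hp : Fact p.Prime] {M : Ideal AlgInt}
    (hM : IsPModular p M) (B : Set (IrrCharacter G)) (hB : IsPBlock M B) (hpN : p ∣ N.index)
    (θ : IrrCharacter N) (χ₀ : IrrCharacter G) (hχ₀B : χ₀ ∈ B)
    (hχ₀deg : ¬ p ∣ charDegree (χ₀ : G → ℂ))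
    (hχ₀θ : classInner (fun n : N => (χ₀ : G → ℂ) n) (θ : N → ℂ) ≠ 0)
    (m : IrrCharacter G → ℕ)
    (hm : ∀ ξ : IrrCharacter G, classInner (fun n : N => (ξ : G → ℂ) n) (θ : N → ℂ) = m ξ)
    [Fintype (IrrCharacter G)] [DecidablePred (· ∈ B)] :
    ∑ ξ : IrrCharacter G, (if ξ ∈ B then ((m ξ : ZMod p)) ^ 2 else 0) = 0 := by
  classical
  have hMp := Helper78.isPrime_of_isPModular hM
  set a := (Nat.card G).factorization p with ha
  set c : ℂ := ((p ^ a : ℕ) : ℂ) with hc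
  set F : G → ℂ := Cfsg.Agent.S4426.cut p c (χ₀ : G → ℂ) with hF
  choose n hn using fun ξ : IrrCharacter G => Cfsg.Agent.S4426.exists_int_inner p χ₀ ξ
  have hB' : B = blockOf M (χ₀ : G → ℂ) := Helper78.isPBlock_eq_blockOf_of_mem hMp hB hχ₀B
  -- (1) outside `B`
  have hn0 : ∀ ξ : IrrCharacter G, ξ ∉ B → n ξ = 0 := by
    intro ξ hξ
    have h1 := Cfsg.Agent.S4431.classInner_cut_eq_zero hM c χ₀ ξ (by rwa [← hB'])
    rw [hn] at h1
    exact_mod_cast h1
  -- (2) the congruence inside `B`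
  have hcong : ∀ ξ ∈ B, (p : ℤ) ∣
      n ξ * (charDegree (χ₀ : G → ℂ) : ℤ) - n χ₀ * (charDegree (ξ : G → ℂ) : ℤ) := by
    intro ξ hξ
    have hsame : ∀ g : G, MemLocalIdeal M
        (centralChar (ξ : G → ℂ) g - centralChar (χ₀ : G → ℂ) g) := by
      intro g
      have h1 : SameBlock M (χ₀ : G → ℂ) (ξ : G → ℂ) := by rw [hB'] at hξ; exact hξ
      exact Helper78.sameBlock_symm h1 g
    have h := Cfsg.Agent.S4426.memLocalIdeal_U_sub hM χ₀.2 ξ.2 hsame
    rw [hn, hn, Cfsg.Agent.S4426.irr_one_eq ξ, Cfsg.Agent.S4426.irr_one_eq χ₀] at h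
    have h2 := Helper78.memLocalIdeal_mul_left hMp (Helper78.memLocalRing_natCast hMp
      (charDegree (ξ : G → ℂ) * charDegree (χ₀ : G → ℂ))) h
    have hdξ : ((charDegree (ξ : G → ℂ) : ℕ) : ℂ) ≠ 0 := by
      exact_mod_cast (Helper78.charDegree_pos_of_isIrrCharacter ξ.2).ne'
    have hd₀ : ((charDegree (χ₀ : G → ℂ) : ℕ) : ℂ) ≠ 0 := by
      exact_mod_cast (Helper78.charDegree_pos_of_isIrrCharacter χ₀.2).ne'
    have h3 : ((charDegree (ξ : G → ℂ) * charDegree (χ₀ : G → ℂ) : ℕ) : ℂ) *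
        ((n ξ : ℂ) / ((charDegree (ξ : G → ℂ) : ℕ) : ℂ) -
          (n χ₀ : ℂ) / ((charDegree (χ₀ : G → ℂ) : ℕ) : ℂ)) =
        ((n ξ * (charDegree (χ₀ : G → ℂ) : ℤ) - n χ₀ * (charDegree (ξ : G → ℂ) : ℤ) : ℤ) : ℂ) := by
      push_cast
      field_simp
    rw [h3, Helper78.memLocalIdeal_intCast_iff hM] at h2
    exact h2
  -- (3) `n χ₀` is a `p`-adic unit
  have hd₀fac : (charDegree (χ₀ : G → ℂ)).factorization p = 0 :=
    Nat.factorization_eq_zero_of_not_dvd hχ₀deg
  have hn₀ : ¬ (p : ℤ) ∣ n χ₀ := by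
    have hht : blockHeight p B (χ₀ : G → ℂ) = 0 := by
      rw [Helper16.blockHeight_eq_zero_iff p hχ₀B]
      have h1 := Helper16.minExp_le_of_mem p hχ₀B
      omega
    have h0 := (Cfsg.Agent.S4426.height_zero_iff p hM B hB χ₀ hχ₀B).1 hht
    obtain ⟨n', hn', hn'0, hn'v⟩ := (Cfsg.Agent.S4426.pred_iff p hM B hB χ₀ χ₀ hχ₀B hχ₀B).2 h0
    have hnn : n' = n χ₀ := by
      have := hn'.symm.trans (hn χ₀)
      exact_mod_cast this
    rw [hnn] at hn'0 hn'v
    intro hdvd
    have h1 : ((p : ℕ) : ℤ) ^ 1 ∣ n χ₀ := by simpa using hdvd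
    rw [padicValInt_dvd_iff] at h1
    rcases h1 with h1 | h1
    · exact hn'0 h1
    · rw [hn'v, hd₀fac] at h1; omega
  -- (4) the sum formula
  have hsum : (p : ℤ) ∣ ∑ ξ : IrrCharacter G, (m ξ : ℤ) * n ξ := by
    set ψ : G → ℂ := indFun N (θ : N → ℂ) with hψdef
    have hψ : IsCharacter G ψ := Helper15.isCharacter_indFun N (Helper74.irr_isCharacter θ)
    have hFcf : IsClassFunction G F :=
      Cfsg.Agent.S4431.isClassFunction_cut p c (Helper74.irr_isCharacter χ₀)
    have h1 : classInner F ψ = ∑ ξ : IrrCharacter G, (m ξ : ℂ) * (n ξ : ℂ) := by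
      conv_lhs => arg 2; rw [Helper74.isCharacter_eq_sum_irr hψ]
      rw [Helper74.classInner_sum_right]
      refine Finset.sum_congr rfl fun ξ _ => ?_
      rw [Helper74.classInner_smul_right, hn, hψdef,
        Helper15.frobenius_reciprocity N (θ : N → ℂ) (ξ : G → ℂ) (Helper74.irr_isClassFunction ξ),
        Helper74.classInner_conj_symm, hm]
    have h2 : classInner F ψ = classInner (fun x : N => F x) (θ : N → ℂ) := by
      rw [hψdef, Helper15.frobenius_reciprocity' N (θ : N → ℂ) F hFcf]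
    -- the restriction of `F` to `N`
    set aN := (Nat.card N).factorization p with haN
    set b := (N.index).factorization p with hb
    have hab : a = aN + b := by
      rw [ha, ← N.card_mul_index, Nat.factorization_mul Nat.card_pos.ne'
        Subgroup.index_ne_zero_of_finite]
      rfl
    have hb1 : 1 ≤ b :=
      (hp.out.dvd_iff_one_le_factorization Subgroup.index_ne_zero_of_finite).mp hpN
    set FN : N → ℂ := fun x : N => if p ∣ orderOf x then 0 else
      ((p ^ (Nat.card N).factorization p : ℕ) : ℂ) * (fun n : N => (χ₀ : G → ℂ) n) x with hFN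
    have hFNgen : IsGeneralizedCharacter N FN :=
      Helper76.isGenChar_pPart_mul_pRegular p
        (Helper74.isCharacter_restrict N (Helper74.irr_isCharacter χ₀))
    obtain ⟨z, hz⟩ := Helper25.isGenChar_inner_int hFNgen
      (Helper25.isGenChar_of_isCharacter (Helper74.irr_isCharacter θ))
    have h3 : (fun x : N => F x) = ((p ^ b : ℕ) : ℂ) • FN := by
      funext x
      rw [hF, hFN, Pi.smul_apply, smul_eq_mul]
      unfold Cfsg.Agent.S4426.cut
      rw [Subgroup.orderOf_coe]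
      split_ifs
      · rw [mul_zero]
      · rw [hc, hab, pow_add]
        push_cast
        ring
    rw [h3, Helper74.classInner_smul_left, hz] at h2
    rw [h1] at h2
    have h4 : ∑ ξ : IrrCharacter G, (m ξ : ℤ) * n ξ = (p : ℤ) ^ b * z := by
      have : ((∑ ξ : IrrCharacter G, (m ξ : ℤ) * n ξ : ℤ) : ℂ) = (((p : ℤ) ^ b * z : ℤ) : ℂ) := by
        push_cast
        push_cast at h2
        exact h2
      exact_mod_cast this
    rw [h4]
    exact Dvd.dvd.mul_right (dvd_pow_self _ (by omega)) _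
  -- (5) the computation in `ZMod p`
  obtain ⟨m₀0, hdeg₀⟩ : m χ₀ ≠ 0 ∧ charDegree (χ₀ : G → ℂ) =
      m χ₀ * ((Helper15.conjOrbit N (θ : N → ℂ)).card * charDegree (θ : N → ℂ)) := by
    have h1 : m χ₀ ≠ 0 := by
      intro h0
      apply hχ₀θ
      rw [hm, h0]; simp
    exact ⟨h1, charDegree_eq_of_constituent N χ₀.2 θ.2 (hm χ₀) h1⟩
  set t := (Helper15.conjOrbit N (θ : N → ℂ)).card with ht
  set dθ := charDegree (θ : N → ℂ) with hdθ
  set d₀ := charDegree (χ₀ : G → ℂ) with hd₀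
  have hd₀K : (d₀ : ZMod p) ≠ 0 := by
    rw [Ne, ZMod.natCast_eq_zero_iff]
    exact hχ₀deg
  have htK : (t : ZMod p) ≠ 0 := by
    intro h0
    apply hd₀K
    rw [hdeg₀]; push_cast; rw [h0]; ring
  have hdθK : (dθ : ZMod p) ≠ 0 := by
    intro h0
    apply hd₀K
    rw [hdeg₀]; push_cast; rw [h0]; ring
  have hn₀K : ((n χ₀ : ℤ) : ZMod p) ≠ 0 := by
    rw [Ne, ZMod.intCast_zmod_eq_zero_iff_dvd]
    exact hn₀
  have hterm : ∀ ξ : IrrCharacter G, (d₀ : ZMod p) * ((m ξ : ZMod p) * ((n ξ : ℤ) : ZMod p)) =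
      ((n χ₀ : ℤ) : ZMod p) * (t : ZMod p) * (dθ : ZMod p) *
        (if ξ ∈ B then ((m ξ : ZMod p)) ^ 2 else 0) := by
    intro ξ
    by_cases hξ : ξ ∈ B
    · rw [if_pos hξ]
      by_cases hmξ : m ξ = 0
      · rw [hmξ]; simp
      · have hdegξ := charDegree_eq_of_constituent N ξ.2 θ.2 (hm ξ) hmξ
        have h1 := hcong ξ hξ
        have h2 : ((n ξ : ℤ) : ZMod p) * (d₀ : ZMod p) =
            ((n χ₀ : ℤ) : ZMod p) * ((charDegree (ξ : G → ℂ) : ℕ) : ZMod p) := by
          have h3 := (ZMod.intCast_zmod_eq_zero_iff_dvd _ p).mpr h1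
          push_cast at h3
          exact sub_eq_zero.mp h3
        rw [hdegξ] at h2
        push_cast at h2
        calc (d₀ : ZMod p) * ((m ξ : ZMod p) * ((n ξ : ℤ) : ZMod p))
            = (m ξ : ZMod p) * (((n ξ : ℤ) : ZMod p) * (d₀ : ZMod p)) := by ring
          _ = (m ξ : ZMod p) * (((n χ₀ : ℤ) : ZMod p) *
                ((m ξ : ZMod p) * ((t : ZMod p) * (dθ : ZMod p)))) := by rw [h2]
          _ = _ := by ring
    · rw [if_neg hξ, hn0 ξ hξ]
      simp
  have hsumK : ∑ ξ : IrrCharacter G, (m ξ : ZMod p) * ((n ξ : ℤ) : ZMod p) = 0 := by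
    have h1 := (ZMod.intCast_zmod_eq_zero_iff_dvd _ p).mpr hsum
    push_cast at h1
    exact h1
  have hfinal : ((n χ₀ : ℤ) : ZMod p) * (t : ZMod p) * (dθ : ZMod p) *
      ∑ ξ : IrrCharacter G, (if ξ ∈ B then ((m ξ : ZMod p)) ^ 2 else 0) = 0 := by
    rw [Finset.mul_sum, ← Finset.sum_congr rfl (fun ξ _ => hterm ξ), ← Finset.mul_sum, hsumK,
      mul_zero]
  exact (mul_eq_zero.mp hfinal).resolve_left
    (mul_ne_zero (mul_ne_zero hn₀K htK) hdθK)

end

end Cfsg.Agent.Helper81
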