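import Mathlib
import Cfsg.Agent.Helper81.PBlock3

/-!
# Counting `p′`-degree characters of a block over a character of a normal subgroup (S4825)
-/

set_option autoImplicit false
set_option linter.unusedSectionVars false

namespace Cfsg.Agent.Helper81

open Cfsg
open scoped ComplexConjugate

universe u

section

variable {G : Type u} [Group G] [Fintype G] (N : Subgroup G) [hN : N.Normal] [Fintype N]

theorem sq_eq_one_zmod_two : ∀ x : ZMod 2, x ≠ 0 → x ^ 2 = 1 := by decide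

theorem sq_eq_one_zmod_three : ∀ x : ZMod 3, x ≠ 0 → x ^ 2 = 1 := by decide

theorem sq_eq_one_of_le_three {p : ℕ} (hp : p.Prime) (hp3 : p ≤ 3) (x : ZMod p)
    (hx : x ≠ 0) : x ^ 2 = 1 := by
  have h2 : 2 ≤ p := hp.two_le
  have hcases : p = 2 ∨ p = 3 := by omega
  rcases hcases with h | h
  · subst h
    exact sq_eq_one_zmod_two x hx
  · subst h
    exact sq_eq_one_zmod_three x hx

theorem card_pprime_block_over (p : ℕ) [hp : Fact p.Prime] (P : Sylow p G) {M : Ideal AlgInt}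
    (hM : IsPModular p M) (B : Set (IrrCharacter G)) (hB : IsPBlock M B)
    (hPN : ¬ (P : Subgroup G) ≤ N) (θ : IrrCharacter N) :
    (Nat.card {χ : IrrCharacter G // χ ∈ B ∧ ¬ p ∣ charDegree (χ : G → ℂ) ∧
        classInner (fun n : N => (χ : G → ℂ) n) (θ : N → ℂ) ≠ 0} = 0 ∨
      2 ≤ Nat.card {χ : IrrCharacter G // χ ∈ B ∧ ¬ p ∣ charDegree (χ : G → ℂ) ∧
        classInner (fun n : N => (χ : G → ℂ) n) (θ : N → ℂ) ≠ 0}) ∧
    (p ≤ 3 → p ∣ Nat.card {χ : IrrCharacter G // χ ∈ B ∧ ¬ p ∣ charDegree (χ : G → ℂ) ∧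
        classInner (fun n : N => (χ : G → ℂ) n) (θ : N → ℂ) ≠ 0}) := by
  classical
  let _ := Helper74.irrFintype G
  set pred : IrrCharacter G → Prop := fun χ => χ ∈ B ∧ ¬ p ∣ charDegree (χ : G → ℂ) ∧
    classInner (fun n : N => (χ : G → ℂ) n) (θ : N → ℂ) ≠ 0 with hpred
  set S : Finset (IrrCharacter G) := Finset.univ.filter pred with hS
  have hcard : Nat.card {χ : IrrCharacter G // pred χ} = S.card := by
    rw [Nat.card_eq_fintype_card, Fintype.card_subtype]
  show (Nat.card {χ : IrrCharacter G // pred χ} = 0 ∨ 2 ≤ Nat.card {χ : IrrCharacter G // pred χ}) ∧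
    (p ≤ 3 → p ∣ Nat.card {χ : IrrCharacter G // pred χ})
  rw [hcard]
  by_cases hempty : S = ∅
  · rw [hempty]
    simp
  obtain ⟨χ₀, hχ₀S⟩ := Finset.nonempty_iff_ne_empty.mpr hempty
  obtain ⟨hχ₀B, hχ₀deg, hχ₀θ⟩ := (Finset.mem_filter.mp hχ₀S).2
  have hpN : p ∣ N.index := by
    by_contra h
    exact hPN (sylow_le_of_not_dvd_index N p P h)
  choose m hm using fun ξ : IrrCharacter G => Helper74.isCharacter_inner_irr_nat
    (Helper74.isCharacter_restrict N (Helper74.irr_isCharacter ξ)) θ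
  have hkey := sum_sq_mult_block_eq_zero N p hM B hB hpN θ χ₀ hχ₀B hχ₀deg hχ₀θ m hm
  -- degrees
  have hm₀0 : m χ₀ ≠ 0 := by
    intro h0
    apply hχ₀θ
    rw [hm, h0]; simp
  have hdeg₀ := charDegree_eq_of_constituent N χ₀.2 θ.2 (hm χ₀) hm₀0
  set t := (Helper15.conjOrbit N (θ : N → ℂ)).card with ht
  set dθ := charDegree (θ : N → ℂ) with hdθ
  have hpt : ¬ p ∣ t := fun h => hχ₀deg (by
    rw [hdeg₀]; exact Dvd.dvd.mul_left (Dvd.dvd.mul_right h _) _)
  have hpdθ : ¬ p ∣ dθ := fun h => hχ₀deg (by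
    rw [hdeg₀]; exact Dvd.dvd.mul_left (Dvd.dvd.mul_left h _) _)
  -- membership in `S` for members of `B`
  have hmemS : ∀ ξ : IrrCharacter G, ξ ∈ B → (ξ ∈ S ↔ (m ξ : ZMod p) ≠ 0) := by
    intro ξ hξB
    rw [Ne, ZMod.natCast_eq_zero_iff]
    constructor
    · intro hξS
      obtain ⟨-, hξdeg, hξθ⟩ := (Finset.mem_filter.mp hξS).2
      have hmξ : m ξ ≠ 0 := by
        intro h0
        apply hξθ
        rw [hm, h0]; simp
      have hdegξ := charDegree_eq_of_constituent N ξ.2 θ.2 (hm ξ) hmξ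
      intro h
      apply hξdeg
      rw [hdegξ]
      exact Dvd.dvd.mul_right h _
    · intro hpm
      have hmξ : m ξ ≠ 0 := by
        intro h0
        apply hpm
        rw [h0]; exact dvd_zero _
      have hdegξ := charDegree_eq_of_constituent N ξ.2 θ.2 (hm ξ) hmξ
      refine Finset.mem_filter.mpr ⟨Finset.mem_univ _, hξB, ?_, ?_⟩
      · rw [hdegξ]
        intro h
        rcases (Nat.Prime.dvd_mul hp.out).mp h with h | h
        · exact hpm h
        · rcases (Nat.Prime.dvd_mul hp.out).mp h with h | h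
          · exact hpt h
          · exact hpdθ h
      · rw [hm]
        exact_mod_cast hmξ
  -- the sum over `S`
  have hsumS : ∑ ξ ∈ S, ((m ξ : ZMod p)) ^ 2 = 0 := by
    rw [← hkey, hS, Finset.sum_filter]
    refine Finset.sum_congr rfl fun ξ _ => ?_
    by_cases hξB : ξ ∈ B
    · rw [if_pos hξB]
      by_cases hξS : pred ξ
      · rw [if_pos hξS]
      · rw [if_neg hξS]
        have h1 : ξ ∉ S := fun h => hξS (Finset.mem_filter.mp h).2
        have h2 : (m ξ : ZMod p) = 0 := by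
          by_contra h3
          exact h1 ((hmemS ξ hξB).mpr h3)
        rw [h2]; simp
    · rw [if_neg hξB]
      have hξS : ¬ pred ξ := fun h => hξB h.1
      rw [if_neg hξS]
  have hm₀K : (m χ₀ : ZMod p) ≠ 0 := (hmemS χ₀ hχ₀B).mp hχ₀S
  constructor
  · right
    by_contra hlt
    push Not at hlt
    have hpos : 0 < S.card := Finset.card_pos.mpr ⟨χ₀, hχ₀S⟩
    have h1 : S.card = 1 := by omega
    obtain ⟨x, hx⟩ := Finset.card_eq_one.mp h1
    have hx₀ : x = χ₀ := by
      rw [hx] at hχ₀S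
      exact (Finset.mem_singleton.mp hχ₀S).symm
    rw [hx, Finset.sum_singleton, hx₀] at hsumS
    exact hm₀K (pow_eq_zero_iff (by norm_num) |>.mp hsumS)
  · intro hp3
    have h1 : ∑ ξ ∈ S, ((m ξ : ZMod p)) ^ 2 = ∑ _ξ ∈ S, (1 : ZMod p) := by
      refine Finset.sum_congr rfl fun ξ hξ => ?_
      have hξB : ξ ∈ B := (Finset.mem_filter.mp hξ).2.1
      exact sq_eq_one_of_le_three hp.out hp3 _ ((hmemS ξ hξB).mp hξ)
    rw [h1, Finset.sum_const, nsmul_eq_mul, mul_one] at hsumS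
    exact (ZMod.natCast_eq_zero_iff _ _).mp hsumS

end

end Cfsg.Agent.Helper81
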