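import Mathlib
import Cfsg.Prelude.Def_Classical
import Cfsg.Agent.Helper99.PGDefs
import Cfsg.Agent.Helper99.BCDefs
import Cfsg.Agent.Helper93.BCLA1
import Cfsg.Agent.Helper93.BCLA2
import Cfsg.Agent.Helper44.SpToOrth
import Cfsg.Agent.Helper36.AltForm

/-!
# (AU1) of helper99's S2474 farm: uniform transfer `Sp → O`

On `M = movS g N` the alternating form is non-degenerate, `g²` has no non-zero fixed vector, so
`Cfsg.Agent.Helper44.QType.exists_invariant_quadratic_odd` gives a `g`-invariant non-degenerate
quadratic form on `M`; `dim M` is even and `g|M` has the order of `g`.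
-/

set_option autoImplicit false

universe u

namespace Cfsg.Agent.Helper81.PG

open Module Cfsg.Agent.Helper99.BC Cfsg.Agent.Helper99.PG

variable {F : Type u} [Field F]

section transfer

variable {V : Type u} [AddCommGroup V] [Module F V]

/-- powers of an isometry are isometries -/
theorem AU1_pow_iso (B : LinearMap.BilinForm F V) (g : Module.End F V)
    (hg : ∀ x y, B (g x) (g y) = B x y) (i : ℕ) (x y : V) :
    B ((g ^ i) x) ((g ^ i) y) = B x y := by
  induction i generalizing x y with
  | zero => rw [pow_zero, Module.End.one_apply, Module.End.one_apply]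
  | succ i ih => rw [pow_succ', Module.End.mul_apply, Module.End.mul_apply, hg, ih]

/-- the fixed space is orthogonal to the moving space (bilinear version of (LA4)) -/
theorem AU1_orth (B : LinearMap.BilinForm F V) (g : Module.End F V)
    (hg : ∀ x y, B (g x) (g y) = B x y) (N : ℕ) (hNF : (N : F) ≠ 0)
    {z y : V} (hz : z ∈ fixS g) (hy : y ∈ movS g N) : B z y = 0 := by
  have h1 : ∀ i ∈ Finset.range N, B z ((g ^ i) y) = B z y := by
    intro i _
    conv_lhs => rw [← Cfsg.Agent.Helper93.BC.pow_apply_of_mem_fixS hz i]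
    exact AU1_pow_iso B g hg i z y
  have h2 : B z (∑ i ∈ Finset.range N, (g ^ i) y) = ∑ i ∈ Finset.range N, B z ((g ^ i) y) :=
    map_sum (B z) _ _
  rw [mem_movS] at hy
  rw [hy, map_zero, Finset.sum_congr rfl h1, Finset.sum_const, Finset.card_range,
    nsmul_eq_mul] at h2
  rcases mul_eq_zero.1 h2.symm with h | h
  · exact absurd h hNF
  · exact h

theorem AU1_restrict_pow (g : Module.End F V) (M : Submodule F V) (hM : ∀ x ∈ M, g x ∈ M)
    (k : ℕ) (x : M) : (((g.restrict hM) ^ k) x : V) = (g ^ k) (x : V) := by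
  induction k generalizing x with
  | zero => rw [pow_zero, pow_zero, Module.End.one_apply, Module.End.one_apply]
  | succ k ih =>
    rw [pow_succ, pow_succ, Module.End.mul_apply, Module.End.mul_apply, ih]
    rfl

variable [FiniteDimensional F V]

/-- (AU1) uniform transfer `Sp → O` -/
theorem omodel_of_sp (h2 : (2 : F) ≠ 0) (B : LinearMap.BilinForm F V) (hB : B.IsAlt)
    (hnd : B.Nondegenerate) (g : Module.End F V) (hg : ∀ x y, B (g x) (g y) = B x y)
    (n N : ℕ) (hV : finrank F V = 2 * n) (hN : Odd N) (hNF : (N : F) ≠ 0) (hgN : orderOf g = N) :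
    ∃ m : ℕ, m ≤ n ∧ OModel F m N := by
  obtain ⟨k, hk⟩ := hN
  have hgpow : g ^ N = 1 := by rw [← hgN]; exact pow_orderOf_eq_one g
  have hcompl := Cfsg.Agent.Helper93.BC.isCompl_fixS_movS g N hNF hgpow
  -- the inverse
  let h : Module.End F V := g ^ (N - 1)
  have hgh : g * h = 1 := by
    show g * g ^ (N - 1) = 1
    rw [← pow_succ', show N - 1 + 1 = N by omega, hgpow]
  have hhg : h * g = 1 := by
    show g ^ (N - 1) * g = 1
    rw [← pow_succ, show N - 1 + 1 = N by omega, hgpow]
  let M : Submodule F V := movS g N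
  have hMg : ∀ x ∈ M, g x ∈ M := fun x hx =>
    Cfsg.Agent.Helper93.BC.map_mem_movS (Commute.refl g) hx
  have hMh : ∀ x ∈ M, h x ∈ M := fun x hx =>
    Cfsg.Agent.Helper93.BC.map_mem_movS ((Commute.refl g).pow_left (N - 1)) hx
  let gM : Module.End F M := g.restrict hMg
  let hM : Module.End F M := h.restrict hMh
  let BM : LinearMap.BilinForm F M := B.restrict M
  have hBM : ∀ x y : M, BM x y = B (x : V) (y : V) := fun x y => rfl
  have hBMalt : BM.IsAlt := fun x => hB (x : V)
  have hskew : ∀ x y, B x y = -B y x := fun x y => (hB.neg_eq y x).symm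
  -- non-degeneracy on M
  have hBMnd : ∀ x : M, (∀ y : M, BM x y = 0) → x = 0 := by
    intro x hx
    have hx0 : (x : V) = 0 := by
      apply hnd.1
      intro v
      have hv : v ∈ fixS g ⊔ movS g N := by rw [hcompl.sup_eq_top]; exact Submodule.mem_top
      obtain ⟨z, hz, y, hy, rfl⟩ := Submodule.mem_sup.1 hv
      rw [map_add, hskew (x : V) z, AU1_orth B g hg N hNF hz x.2, neg_zero, zero_add]
      exact hx ⟨y, hy⟩
    exact Subtype.ext hx0
  have hBMnd' : BM.Nondegenerate := by
    refine ⟨hBMnd, ?_⟩
    intro y hy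
    apply hBMnd
    intro x
    rw [hBM, hskew, ← hBM, hy x, neg_zero]
  have hghM : ∀ x : M, gM (hM x) = x := by
    intro x
    apply Subtype.ext
    show g (h (x : V)) = (x : V)
    rw [← Module.End.mul_apply, hgh, Module.End.one_apply]
  have hhgM : ∀ x : M, hM (gM x) = x := by
    intro x
    apply Subtype.ext
    show h (g (x : V)) = (x : V)
    rw [← Module.End.mul_apply, hhg, Module.End.one_apply]
  have hgMiso : ∀ x y : M, BM (gM x) (gM y) = BM x y := fun x y => hg (x : V) (y : V)
  -- `g²` has no non-zero fixed vector on `M`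
  have hfix : ∀ x : M, gM (gM x) = x → x = 0 := by
    intro x hx
    have hx' : (g ^ 2) (x : V) = (x : V) := by
      rw [pow_two, Module.End.mul_apply]
      exact congrArg Subtype.val hx
    have hpow : ∀ i : ℕ, ((g ^ 2) ^ i) (x : V) = (x : V) := by
      intro i
      induction i with
      | zero => rw [pow_zero, Module.End.one_apply]
      | succ i ih => rw [pow_succ, Module.End.mul_apply, hx', ih]
    have hgx : g (x : V) = (x : V) := by
      have h3 := hpow (k + 1)
      rw [← pow_mul, show 2 * (k + 1) = N + 1 by omega, pow_succ, hgpow, one_mul] at h3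
      exact h3
    have hxfix : (x : V) ∈ fixS g := mem_fixS.2 hgx
    have hx0 : (x : V) ∈ fixS g ⊓ movS g N := ⟨hxfix, x.2⟩
    rw [hcompl.inf_eq_bot, Submodule.mem_bot] at hx0
    exact Subtype.ext hx0
  obtain ⟨Q, hQnd, hQg⟩ := Cfsg.Agent.Helper44.QType.exists_invariant_quadratic_odd h2 BM hBMalt
    hBMnd gM hM hghM hhgM hgMiso hfix
  -- the dimension
  have heven : Even (finrank F M) :=
    Cfsg.Agent.Helper36.even_finrank_of_isAlt_nondegenerate (finrank F M) BM hBMalt hBMnd' rfl
  obtain ⟨m, hm⟩ := heven
  have hle : finrank F M ≤ finrank F V := Submodule.finrank_le M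
  -- the order
  have hord : orderOf gM = orderOf g := by
    rw [orderOf_eq_orderOf_iff]
    intro i
    constructor
    · intro hi
      apply LinearMap.ext
      intro v
      have hv : v ∈ fixS g ⊔ movS g N := by rw [hcompl.sup_eq_top]; exact Submodule.mem_top
      obtain ⟨z, hz, y, hy, rfl⟩ := Submodule.mem_sup.1 hv
      rw [map_add, Cfsg.Agent.Helper93.BC.pow_apply_of_mem_fixS hz i, Module.End.one_apply]
      have h4 := AU1_restrict_pow g M hMg i ⟨y, hy⟩
      rw [show (g.restrict hMg) ^ i = 1 from hi, Module.End.one_apply] at h4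
      rw [← h4]
    · intro hi
      apply LinearMap.ext
      intro x
      apply Subtype.ext
      rw [AU1_restrict_pow g M hMg i x, hi, Module.End.one_apply, Module.End.one_apply]
  refine ⟨m, by omega, M, inferInstance, inferInstance, inferInstance, Q, gM, hQnd, by omega,
    hQg, ?_⟩
  rw [hord, hgN]

end transfer

end Cfsg.Agent.Helper81.PG
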