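import Mathlib
import Cfsg.Prelude.Def_Blocks
import Cfsg.Agent.Helper81.MonoCore

/-!
# S4489 piece (A) for helper75: a monomial character on the normal core of the inducing subgroup
is a sum of `[G : H]` linear characters
-/

set_option autoImplicit false
set_option linter.style.haveILetI false

namespace Cfsg.Agent.Helper81.PGF

open Cfsg Cfsg.Agent.Helper81.MonoCore

universe u

/-- `(q, h) ↦ q.out * h`. -/
noncomputable def cosetEquiv {G : Type u} [Group G] (H : Subgroup G) : (G ⧸ H) × H ≃ G where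
  toFun qh := qh.1.out * (qh.2 : G)
  invFun x := ((x : G ⧸ H), ⟨(x : G ⧸ H).out⁻¹ * x, by
    rw [← QuotientGroup.eq]; exact QuotientGroup.out_eq' _⟩)
  left_inv := by
    rintro ⟨q, h⟩
    have hq : ((q.out * (h : G) : G) : G ⧸ H) = q := by
      rw [QuotientGroup.mk_mul_of_mem _ h.2]; exact QuotientGroup.out_eq' q
    refine Prod.ext hq (Subtype.ext ?_)
    simp only
    rw [hq]
    group
  right_inv := by
    intro x
    simp

theorem cosetEquiv_apply {G : Type u} [Group G] (H : Subgroup G) (q : G ⧸ H) (h : H) :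
    cosetEquiv H (q, h) = q.out * (h : G) := rfl

/-- (A) the restriction of a monomial character `Ind_H^G lam` to the normal core of `H` is the sum of
`[G : H]` linear characters of the core (`k ↦ lam (g_i⁻¹ k g_i)`, `g_i` coset representatives). -/
theorem indFun_core_eq_sum {G : Type u} [Group G] [Fintype G] (H : Subgroup G) (lam : ↥H →* ℂˣ) :
    ∃ ν : Fin H.index → (↥H.normalCore →* ℂˣ), ∀ k : ↥H.normalCore,
      indFun H (fun h => ((lam h : ℂˣ) : ℂ)) (k : G) = ∑ i, ((ν i k : ℂˣ) : ℂ) := by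
  classical
  haveI : Fintype (G ⧸ H) := Fintype.ofFinite _
  haveI : Fintype H := Fintype.ofFinite _
  have hcard : Fintype.card (G ⧸ H) = H.index := by
    rw [← Nat.card_eq_fintype_card]; rfl
  let e : Fin H.index ≃ G ⧸ H := (Fintype.equivFinOfCardEq hcard).symm
  refine ⟨fun i => mu H lam (e i).out, fun k => ?_⟩
  rw [indFun_coe_core H lam k]
  have h1 : ∑ x : G, ((mu H lam x k : ℂˣ) : ℂ)
      = ∑ qh : (G ⧸ H) × H, ((mu H lam (cosetEquiv H qh) k : ℂˣ) : ℂ) :=
    (Equiv.sum_comp (cosetEquiv H) (fun x => ((mu H lam x k : ℂˣ) : ℂ))).symm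
  have h2 : ∑ qh : (G ⧸ H) × H, ((mu H lam (cosetEquiv H qh) k : ℂˣ) : ℂ)
      = ∑ q : G ⧸ H, ∑ _h : H, ((mu H lam q.out k : ℂˣ) : ℂ) := by
    rw [Fintype.sum_prod_type]
    refine Finset.sum_congr rfl (fun q _ => Finset.sum_congr rfl (fun h _ => ?_))
    rw [cosetEquiv_apply, mu_mul_right]
  have h3 : ∑ i : Fin H.index, ((mu H lam (e i).out k : ℂˣ) : ℂ)
      = ∑ q : G ⧸ H, ((mu H lam q.out k : ℂˣ) : ℂ) :=
    Equiv.sum_comp e (fun q => ((mu H lam q.out k : ℂˣ) : ℂ))
  rw [h1, h2, h3]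
  simp only [Finset.sum_const, Finset.card_univ, nsmul_eq_mul]
  rw [← Finset.mul_sum, ← mul_assoc, Nat.card_eq_fintype_card]
  have hne : (Fintype.card H : ℂ) ≠ 0 := by
    have : 0 < Fintype.card H := Fintype.card_pos
    exact_mod_cast this.ne'
  rw [inv_mul_cancel₀ hne, one_mul]

end Cfsg.Agent.Helper81.PGF
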