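import Mathlib
import Cfsg.Agent.Helper81.MonoBound

/-!
# S4489 piece (B) for helper75: `G / core_G(H)` embeds in `Sym(G/H)`; Legendre
-/

set_option autoImplicit false

namespace Cfsg.Agent.Helper81.PGF

universe u

/-- (B) `G / core_G(H)` embeds in `Sym(G/H)`; Legendre. -/
theorem core_index_bound {G : Type u} [Group G] [Finite G] (p : ℕ) (hp : p.Prime) (H : Subgroup G)
    (b : ℕ) (hb : H.normalCore.index = p ^ b) : (p - 1) * b ≤ H.index - 1 :=
  MonoBound.sub_one_mul_le_index_sub_one H p b hp hb

end Cfsg.Agent.Helper81.PGF
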