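import Mathlib
import Cfsg.Prelude.Def_Classical
import Cfsg.Agent.Helper44.OrthSumOmega
import Cfsg.Agent.Helper44.StdForms

/-!
# (O4) of helper99's S2474 farm: an involution in `Ω⁺_{2j}(F)`, `j ≥ 2`, odd characteristic

The product of the four reflections in `e₀ ± f₀`, `e₁ ± f₁`.
-/

set_option autoImplicit false

universe u

namespace Cfsg.Agent.Helper81.PG

open Module Matrix Cfsg.Agent.Helper44

section general

variable {F : Type*} [Field F] {ι : Type} [Fintype ι] [DecidableEq ι]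
variable (Q : QuadraticForm F (ι → F))

theorem O4_refl_fix (u x : ι → F) (hu : Q u ≠ 0) (h : QuadraticMap.polar ⇑Q u x = 0) :
    ((refl Q u hu).1 : Matrix ι ι F) *ᵥ x = x := by
  rw [refl_mulVec, h, mul_zero, zero_smul, sub_zero]

theorem O4_refl_comm (u v : ι → F) (hu : Q u ≠ 0) (hv : Q v ≠ 0)
    (h : QuadraticMap.polar ⇑Q u v = 0) :
    refl Q u hu * refl Q v hv = refl Q v hv * refl Q u hu := by
  have h' : QuadraticMap.polar ⇑Q v u = 0 := by rw [QuadraticMap.polar_comm]; exact h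
  apply isometryGroup_ext
  intro x
  rw [isometryGroup_mul_mulVec, isometryGroup_mul_mulVec, refl_mulVec Q v hv x,
    refl_mulVec Q u hu x, Matrix.mulVec_sub, Matrix.mulVec_sub, Matrix.mulVec_smul,
    Matrix.mulVec_smul, O4_refl_fix Q u v hu h, O4_refl_fix Q v u hv h', refl_mulVec,
    refl_mulVec]
  abel

end general

section vec

variable {F : Type u} [Field F]

/-- the vector `e_i + c f_i` -/
def O4vec (j : ℕ) (i : Fin j) (c : F) : Fin j ⊕ Fin j → F :=
  Sum.elim (Pi.single i 1) (Pi.single i c)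

theorem O4vec_Q (j : ℕ) (i : Fin j) (c : F) : plusForm j F (O4vec j i c) = c := by
  rw [plusForm_coe]
  unfold Cfsg.quadFormPlus O4vec
  simp only [Sum.elim_inl, Sum.elim_inr]
  rw [Finset.sum_eq_single i]
  · simp
  · intro b _ hb
    simp [Pi.single_eq_of_ne hb]
  · intro h
    exact absurd (Finset.mem_univ i) h

theorem O4vec_polar (j : ℕ) (i i' : Fin j) (c c' : F) :
    QuadraticMap.polar ⇑(plusForm j F) (O4vec j i c) (O4vec j i' c')
      = if i = i' then c + c' else 0 := by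
  rw [plusForm_coe, polar_quadFormPlus]
  unfold O4vec
  simp only [Sum.elim_inl, Sum.elim_inr]
  by_cases h : i = i'
  · subst h
    rw [if_pos rfl, Finset.sum_eq_single i]
    · simp [add_comm]
    · intro b _ hb
      simp [Pi.single_eq_of_ne hb]
    · intro h
      exact absurd (Finset.mem_univ i) h
  · rw [if_neg h]
    apply Finset.sum_eq_zero
    intro b _
    by_cases hb : b = i
    · subst hb
      have : b ≠ i' := h
      simp [Pi.single_eq_of_ne this]
    · simp [Pi.single_eq_of_ne hb]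

end vec

variable {F : Type u} [Field F] [Fintype F]

/-- (O4) e.g. the product of the four reflections in `e₀ ± f₀`, `e₁ ± f₁`
(`Cfsg.Agent.Helper44.prod_reflT_mem_Omega_iff`) -/
theorem exists_involution_Omega_plus (h2 : (2 : F) ≠ 0) (j : ℕ) (hj : 2 ≤ j) :
    ∃ t : ↥(Cfsg.isometryGroup F (Cfsg.quadFormPlus j F)),
      t ∈ Cfsg.Omega F (Cfsg.quadFormPlus j F) ∧ orderOf t = 2 := by
  let i0 : Fin j := ⟨0, by omega⟩
  let i1 : Fin j := ⟨1, by omega⟩
  have h01 : i0 ≠ i1 := by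
    intro h
    have := congrArg Fin.val h
    simp [i0, i1] at this
  let Q := plusForm j F
  let u1 := O4vec j i0 (1 : F)
  let u2 := O4vec j i0 (-1 : F)
  let u3 := O4vec j i1 (1 : F)
  let u4 := O4vec j i1 (-1 : F)
  have hm1 : (-1 : F) ≠ 0 := neg_ne_zero.2 one_ne_zero
  have hu1 : Q u1 ≠ 0 := by rw [O4vec_Q]; exact one_ne_zero
  have hu2 : Q u2 ≠ 0 := by rw [O4vec_Q]; exact hm1
  have hu3 : Q u3 ≠ 0 := by rw [O4vec_Q]; exact one_ne_zero
  have hu4 : Q u4 ≠ 0 := by rw [O4vec_Q]; exact hm1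
  have p12 : QuadraticMap.polar ⇑Q u1 u2 = 0 := by rw [O4vec_polar, if_pos rfl]; ring
  have p13 : QuadraticMap.polar ⇑Q u1 u3 = 0 := by rw [O4vec_polar, if_neg h01]
  have p14 : QuadraticMap.polar ⇑Q u1 u4 = 0 := by rw [O4vec_polar, if_neg h01]
  have p23 : QuadraticMap.polar ⇑Q u2 u3 = 0 := by rw [O4vec_polar, if_neg h01]
  have p24 : QuadraticMap.polar ⇑Q u2 u4 = 0 := by rw [O4vec_polar, if_neg h01]
  have p34 : QuadraticMap.polar ⇑Q u3 u4 = 0 := by rw [O4vec_polar, if_pos rfl]; ring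
  let r1 := refl Q u1 hu1
  let r2 := refl Q u2 hu2
  let r3 := refl Q u3 hu3
  let r4 := refl Q u4 hu4
  have c12 : Commute r1 r2 := O4_refl_comm Q u1 u2 hu1 hu2 p12
  have c13 : Commute r1 r3 := O4_refl_comm Q u1 u3 hu1 hu3 p13
  have c14 : Commute r1 r4 := O4_refl_comm Q u1 u4 hu1 hu4 p14
  have c23 : Commute r2 r3 := O4_refl_comm Q u2 u3 hu2 hu3 p23
  have c24 : Commute r2 r4 := O4_refl_comm Q u2 u4 hu2 hu4 p24
  have c34 : Commute r3 r4 := O4_refl_comm Q u3 u4 hu3 hu4 p34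
  have s1 : r1 * r1 = 1 := refl_mul_self Q u1 hu1
  have s2 : r2 * r2 = 1 := refl_mul_self Q u2 hu2
  have s3 : r3 * r3 = 1 := refl_mul_self Q u3 hu3
  have s4 : r4 * r4 = 1 := refl_mul_self Q u4 hu4
  let vs : List (Fin j ⊕ Fin j → F) := [u1, u2, u3, u4]
  have hvs : ∀ v ∈ vs, Q v ≠ 0 := by
    intro v hv
    simp only [vs, List.mem_cons, List.not_mem_nil, or_false] at hv
    rcases hv with rfl | rfl | rfl | rfl
    · exact hu1
    · exact hu2
    · exact hu3
    · exact hu4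
  have hprod : (vs.map (reflT Q)).prod = r1 * (r2 * (r3 * r4)) := by
    simp only [vs, List.map_cons, List.map_nil, List.prod_cons, List.prod_nil, mul_one]
    rw [reflT_of_ne Q u1 hu1, reflT_of_ne Q u2 hu2, reflT_of_ne Q u3 hu3, reflT_of_ne Q u4 hu4]
  have hmem : r1 * (r2 * (r3 * r4)) ∈ Cfsg.Omega F ⇑Q := by
    rw [← hprod, prod_reflT_mem_Omega_iff Q h2 vs hvs]
    refine ⟨⟨2, rfl⟩, ?_⟩
    simp only [vs, List.map_cons, List.map_nil, List.prod_cons, List.prod_nil, mul_one]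
    rw [O4vec_Q, O4vec_Q, O4vec_Q, O4vec_Q]
    exact ⟨1, by ring⟩
  refine ⟨r1 * (r2 * (r3 * r4)), hmem, ?_⟩
  have hsq : (r1 * (r2 * (r3 * r4))) ^ 2 = 1 := by
    have c1 : Commute r1 (r2 * (r3 * r4)) := c12.mul_right (c13.mul_right c14)
    have c2 : Commute r2 (r3 * r4) := c23.mul_right c24
    rw [c1.mul_pow, c2.mul_pow, c34.mul_pow, pow_two, pow_two, pow_two, pow_two, s1, s2, s3, s4]
    simp
  have hne : r1 * (r2 * (r3 * r4)) ≠ 1 := by
    intro h
    have hx : (((r1 * (r2 * (r3 * r4))).1 : Matrix _ _ F)) *ᵥ u1 = u1 := by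
      rw [h, isometryGroup_one_mulVec]
    rw [isometryGroup_mul_mulVec, isometryGroup_mul_mulVec, isometryGroup_mul_mulVec,
      O4_refl_fix Q u4 u1 hu4 (by rw [QuadraticMap.polar_comm]; exact p14),
      O4_refl_fix Q u3 u1 hu3 (by rw [QuadraticMap.polar_comm]; exact p13),
      O4_refl_fix Q u2 u1 hu2 (by rw [QuadraticMap.polar_comm]; exact p12),
      refl_mulVec_self] at hx
    have h3 := congrFun hx (Sum.inl i0)
    simp only [u1, O4vec, Pi.neg_apply, Sum.elim_inl, Pi.single_eq_same] at h3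
    apply h2
    have : (2 : F) = 1 - (-1) := by ring
    rw [this, h3]; ring
  exact orderOf_eq_prime hsq hne

end Cfsg.Agent.Helper81.PG
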