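import Mathlib
import Cfsg.Agent.Helper82.PRat.Defs
import Cfsg.Agent.Helper74.LinTwist
import Cfsg.Agent.Helper77.RootsUnity

set_option autoImplicit false
set_option linter.style.haveILetI false
set_option linter.unusedSectionVars false

/-!
# Twisting a good extension by a linear character of `p`-power order (helper81)

Piece (T1) of helper82's proof of S4892.
-/

namespace Cfsg.Agent.Helper81.PRatT

open Cfsg Cfsg.Agent.Helper82.PRat

/-- Twisting by a linear character of `p`-power order preserves the principal `p`-block. -/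
theorem twist_mem_principalBlock {X : Type*} [Group X] [Fintype X] {p : ℕ} {M : Ideal AlgInt}
    (hM : IsPModular p M) (ξ : IrrCharacter X) (hξ : ξ ∈ principalBlock M X) (μ : X →* ℂˣ)
    (c : ℕ) (hc : ∀ x : X, μ x ^ (p ^ c) = 1) : Helper74.twist μ ξ ∈ principalBlock M X := by
  haveI := Helper77.isPrime_of_isPModular hM
  intro g
  have hA : MemLocalIdeal M
      (centralChar (fun _ : X => (1 : ℂ)) g - centralChar (ξ : X → ℂ) g) := hξ g
  have hpow : ((μ g : ℂˣ) : ℂ) ^ (p ^ c) = 1 := by
    rw [← Units.val_pow_eq_pow_val, hc, Units.val_one]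
  have hring : MemLocalRing M ((μ g : ℂˣ) : ℂ) :=
    Helper77.memLocalRing_of_pow_eq_one (pow_pos hM.1.pos c) hpow
  have hsub : MemLocalIdeal M (((μ g : ℂˣ) : ℂ) - 1) :=
    Helper77.memLocalIdeal_sub_one_of_pow_eq_one hM hpow
  have e : centralChar (fun _ : X => (1 : ℂ)) g - centralChar (Helper74.twist μ ξ : X → ℂ) g =
      ((μ g : ℂˣ) : ℂ) *
        (centralChar (fun _ : X => (1 : ℂ)) g - centralChar (ξ : X → ℂ) g) +
      -(((Subgroup.centralizer ({g} : Set X)).index : ℂ) * (((μ g : ℂˣ) : ℂ) - 1)) := by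
    unfold centralChar
    rw [Helper74.twist_apply, Helper74.twist_apply, map_one, Units.val_one, one_mul]
    ring
  rw [e]
  exact Helper77.memLocalIdeal_add M (Helper77.memLocalIdeal_mul_left M hring hA)
    (Helper77.memLocalIdeal_neg
      (Helper77.memLocalIdeal_mul_left M (Helper77.memLocalRing_natCast M _) hsub))

section Cover

variable {G : Type*} [Group G] [Finite G] (p : ℕ) [Fact p.Prime] (M : Ideal AlgInt)
  (N : Subgroup G) [N.Normal]

/-- (T1) twisting a good extension by a linear character of `p`-power order trivial on `N`. -/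
theorem good_mul_linear (hM : IsPModular p M) (χ : IrrCharacter G) (hgood : Good M N χ)
    (lam : G →* ℂˣ) (hN : ∀ n ∈ N, lam n = 1) (c : ℕ) (hc : ∀ g : G, lam g ^ (p ^ c) = 1) :
    ∃ χ' : IrrCharacter G, (∀ g : G, (χ' : G → ℂ) g = (χ : G → ℂ) g * ((lam g : ℂˣ) : ℂ)) ∧
      Good M N χ' := by
  classical
  letI : Fintype G := Fintype.ofFinite G
  refine ⟨Helper74.twist lam χ, fun g => by rw [Helper74.twist_apply, mul_comm], ?_⟩
  intro J hJ
  obtain ⟨ξ, hξB, hξ⟩ := hgood J hJ
  letI : Fintype J := Fintype.ofFinite J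
  refine ⟨Helper74.twist (lam.comp J.subtype) ξ, ?_, ?_⟩
  · exact twist_mem_principalBlock hM ξ hξB (lam.comp J.subtype) c (fun x => hc (x : G))
  · intro y
    rw [Helper74.twist_apply, Helper74.twist_apply, hξ]
    rfl

end Cover

end Cfsg.Agent.Helper81.PRatT
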