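import Mathlib
import Cfsg.Agent.Helper82.PRat.Defs
import Cfsg.Agent.Helper81.RG4
import Cfsg.Agent.Helper81.Gallagher

set_option autoImplicit false
set_option linter.style.haveILetI false
set_option linter.unusedSectionVars false

/-!
# Two good extensions differ by a linear character of `p`-power order (helper81)

Piece (T2) of helper82's proof of S4892, with the Alperin–Dade uniqueness (piece (ADS)) as a
hypothesis.
-/

namespace Cfsg.Agent.Helper81.PRatT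

open Cfsg Cfsg.Agent.Helper82.PRat Cfsg.Agent.Helper15

/-- **Gallagher**: two irreducible extensions of `θ ∈ Irr(N)` differ by a linear character of `G`
trivial on `N`. -/
theorem exists_linear_of_extensions {G : Type*} [Group G] [Finite G] (N : Subgroup G) [N.Normal]
    (θ : IrrCharacter ↥N) (χ χ' : IrrCharacter G)
    (h : ∀ x : ↥N, (χ : G → ℂ) x = (θ : ↥N → ℂ) x)
    (h' : ∀ x : ↥N, (χ' : G → ℂ) x = (θ : ↥N → ℂ) x) :
    ∃ lam : G →* ℂˣ, (∀ n ∈ N, lam n = 1) ∧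
      ∀ g : G, (χ' : G → ℂ) g = (χ : G → ℂ) g * ((lam g : ℂˣ) : ℂ) := by
  classical
  letI : Fintype G := Fintype.ofFinite G
  letI : Fintype N := Fintype.ofFinite N
  have e2 : (fun n : N => (χ : G → ℂ) n) = (θ : N → ℂ) := funext h
  have e1 : (fun m : N => (χ' : G → ℂ) m) = (θ : N → ℂ) := funext h'
  have hχN : IsIrrCharacter N (fun n : N => (χ : G → ℂ) n) := by
    rw [e2]; exact θ.2
  have hbij := gallagher_bijOn N χ.2 hχN
  have hmem : (χ' : G → ℂ) ∈ {ψ : G → ℂ | IsIrrCharacter G ψ ∧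
      classInner (indFun N (fun n : N => (χ : G → ℂ) n)) ψ ≠ 0} := by
    refine ⟨χ'.2, ?_⟩
    rw [Helper81.inner_indFun_ne_zero_iff N _ (Helper74.irr_isClassFunction χ'), e1, e2,
      Helper74.irr_inner_self]
    exact one_ne_zero
  obtain ⟨b, ⟨hb, hb1⟩, hbχ⟩ := hbij.surjOn hmem
  have hbc : IsCharacter G b := Helper74.isCharacter_of_isIrr hb
  have hb1' := (Helper81.inner_indFun_ne_zero_iff N _
    (Helper74.isClassFunction_of_isCharacter hbc)).mp hb1
  have hker : ∀ n ∈ N, b n = b 1 := by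
    intro n hn
    have := normal_mul_of_inner_one_ne_zero N hb hb1' ⟨n, hn⟩ 1
    simpa using this
  have hval : ∀ g : G, b g * (χ : G → ℂ) g = (χ' : G → ℂ) g := fun g => congrFun hbχ g
  have hdeg : b 1 = 1 := by
    have h1 := hval 1
    have h2 : (χ : G → ℂ) 1 = (θ : N → ℂ) 1 := h 1
    have h3 : (χ' : G → ℂ) 1 = (θ : N → ℂ) 1 := h' 1
    have hne : (χ : G → ℂ) 1 ≠ 0 := Helper80.IsIrrCharacter.map_one_ne_zero χ.2
    rw [h3, ← h2] at h1
    exact mul_right_cancel₀ hne (h1.trans (one_mul _).symm)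
  obtain ⟨φ, hφ⟩ := Helper80.IsCharacter.exists_monoidHom hbc hdeg
  refine ⟨φ, ?_, ?_⟩
  · intro n hn
    apply Units.ext
    rw [← hφ, hker n hn, hdeg]
    rfl
  · intro g
    rw [← hφ, ← hval g, mul_comm]

/-- If `ξ ∈ Irr(S)` extends `θ ∈ Irr(N)`, `N ≤ S`, and `ξ lam = ξ` for a linear character `lam`
trivial on `N`, then `lam` is trivial on `S`. -/
theorem lam_eq_one_on {G : Type*} [Group G] [Finite G] (N : Subgroup G) (S : Subgroup G)
    (hNS : N ≤ S) (ξ : IrrCharacter ↥S) (θ : IrrCharacter ↥N)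
    (hξ : ∀ n : ↥N, (ξ : ↥S → ℂ) ⟨(n : G), hNS n.2⟩ = (θ : ↥N → ℂ) n)
    (lam : G →* ℂˣ) (hlamN : ∀ n ∈ N, lam n = 1)
    (hmul : ∀ s : ↥S, (ξ : ↥S → ℂ) s * ((lam (s : G) : ℂˣ) : ℂ) = (ξ : ↥S → ℂ) s) :
    ∀ s ∈ S, lam s = 1 := by
  classical
  letI : Fintype ↥S := Fintype.ofFinite ↥S
  intro s hs
  have hirr : IsIrrCharacter (N.subgroupOf S)
      (fun m : N.subgroupOf S => (ξ : ↥S → ℂ) m) := by
    have e : (fun m : N.subgroupOf S => (ξ : ↥S → ℂ) m) =
        fun m => (θ : ↥N → ℂ) ((Subgroup.subgroupOfEquivOfLe hNS).toMonoidHom m) := by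
      funext m
      have := hξ ((Subgroup.subgroupOfEquivOfLe hNS) m)
      exact Eq.trans rfl this
    rw [e]
    exact Helper80.IsIrrCharacter.comp_surjective θ.2 _ (Subgroup.subgroupOfEquivOfLe hNS).surjective
  have := Helper81.linear_eq_one_of_mul_eq ξ.2 (N.subgroupOf S) hirr (lam.comp S.subtype)
    (fun m hm => hlamN _ (Subgroup.mem_subgroupOf.1 hm))
    (fun x => by rw [mul_comm]; exact hmul x) ⟨s, hs⟩
  exact this

section Cover

variable {G : Type*} [Group G] [Finite G] (p : ℕ) [Fact p.Prime] (M : Ideal AlgInt)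
  (N : Subgroup G) [N.Normal]

/-- (T2) with the uniqueness part of (ADS) as a hypothesis. -/
theorem exists_linear_of_good_of_unique (θ : IrrCharacter ↥N) (χ χ' : IrrCharacter G)
    (h : ∀ x : ↥N, (χ : G → ℂ) x = (θ : ↥N → ℂ) x)
    (h' : ∀ x : ↥N, (χ' : G → ℂ) x = (θ : ↥N → ℂ) x)
    (hg : Good M N χ) (hg' : Good M N χ')
    (hADS : ∀ (S : Subgroup G) (hNS : N ≤ S), ¬ p ∣ N.relIndex S →
      ∀ η η' : IrrCharacter ↥S, η ∈ principalBlock M ↥S → η' ∈ principalBlock M ↥S →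
      (∀ n : ↥N, (η : ↥S → ℂ) ⟨(n : G), hNS n.2⟩ = (θ : ↥N → ℂ) n) →
      (∀ n : ↥N, (η' : ↥S → ℂ) ⟨(n : G), hNS n.2⟩ = (θ : ↥N → ℂ) n) → η = η') :
    ∃ lam : G →* ℂˣ, (∀ n ∈ N, lam n = 1) ∧
      (∀ g : G, lam g ^ (p ^ (Nat.card G).factorization p) = 1) ∧
      ∀ g : G, (χ' : G → ℂ) g = (χ : G → ℂ) g * ((lam g : ℂˣ) : ℂ) := by
  classical
  have hp : p.Prime := Fact.out
  obtain ⟨lam, hlamN, hlam⟩ := exists_linear_of_extensions N θ χ χ' h h'
  refine ⟨lam, hlamN, ?_, hlam⟩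
  -- Step 2 : `lam` is trivial on every Sylow `q`-subgroup, `q ≠ p`
  have hsyl : ∀ q : ℕ, q.Prime → q ≠ p → ∀ R : Sylow q G, ∀ r ∈ R, lam r = 1 := by
    intro q hq hqp R r hr
    haveI : Fact q.Prime := ⟨hq⟩
    set S : Subgroup G := N ⊔ (R : Subgroup G) with hS
    have hNS : N ≤ S := le_sup_left
    have hidx : ¬ p ∣ N.relIndex S := by
      rw [hS, Subgroup.relIndex_sup_left]
      intro hdvd
      have h1 : p ∣ Nat.card (R : Subgroup G) := hdvd.trans (Subgroup.relIndex_dvd_card _ _)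
      obtain ⟨k, hk⟩ := IsPGroup.iff_card.1 R.isPGroup'
      rw [hk] at h1
      exact hqp ((Nat.prime_dvd_prime_iff_eq hp hq).1 (hp.dvd_of_dvd_pow h1)).symm
    obtain ⟨ξ, hξB, hξ⟩ := hg S hNS
    obtain ⟨ξ', hξ'B, hξ'⟩ := hg' S hNS
    have hξN : ∀ n : ↥N, (ξ : ↥S → ℂ) ⟨(n : G), hNS n.2⟩ = (θ : ↥N → ℂ) n := by
      intro n
      rw [hξ]
      exact h n
    have hξ'N : ∀ n : ↥N, (ξ' : ↥S → ℂ) ⟨(n : G), hNS n.2⟩ = (θ : ↥N → ℂ) n := by
      intro n
      rw [hξ']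
      exact h' n
    have heq : ξ = ξ' := hADS S hNS hidx ξ ξ' hξB hξ'B hξN hξ'N
    have hmul : ∀ s : ↥S, (ξ : ↥S → ℂ) s * ((lam (s : G) : ℂˣ) : ℂ) = (ξ : ↥S → ℂ) s := by
      intro s
      conv_rhs => rw [heq, hξ', hlam]
      rw [hξ]
    exact lam_eq_one_on N S hNS ξ θ hξN lam hlamN hmul r (le_sup_right (a := N) hr)
  -- Step 3 : the order of `lam g` is prime to every `q ≠ p`
  have hq : ∀ q : ℕ, q.Prime → q ≠ p → ∀ g : G, ¬ q ∣ orderOf (lam g) := by
    intro q hqp hqne g hdiv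
    haveI : Fact q.Prime := ⟨hqp⟩
    have ho : orderOf g ≠ 0 := (orderOf_pos g).ne'
    obtain ⟨b, o', ho', hoeq⟩ := Nat.exists_eq_pow_mul_and_not_dvd ho q hqp.ne_one
    have hy : (g ^ o') ^ (q ^ b) = 1 := by
      rw [← pow_mul, mul_comm, ← hoeq, pow_orderOf_eq_one]
    have hyP : IsPGroup q (Subgroup.zpowers (g ^ o')) := by
      apply IsPGroup.of_card_dvd_pow (n := b)
      rw [Nat.card_zpowers]
      exact orderOf_dvd_of_pow_eq_one hy
    obtain ⟨R, hR⟩ := hyP.exists_le_sylow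
    have h1 : lam (g ^ o') = 1 := hsyl q hqp hqne R (g ^ o') (hR (Subgroup.mem_zpowers _))
    rw [map_pow] at h1
    have h2 : orderOf (lam g) ∣ o' := orderOf_dvd_of_pow_eq_one h1
    exact ho' (hdiv.trans h2)
  intro g
  have hm_dvd : orderOf (lam g) ∣ orderOf g :=
    orderOf_dvd_of_pow_eq_one (by rw [← map_pow, pow_orderOf_eq_one, map_one])
  have hcard : orderOf (lam g) ∣ Nat.card G := hm_dvd.trans (orderOf_dvd_natCard g)
  have hn0 : Nat.card G ≠ 0 := Nat.card_pos.ne'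
  have hm0 : orderOf (lam g) ≠ 0 := fun h0 => hn0 (Nat.eq_zero_of_zero_dvd (h0 ▸ hcard))
  have hm : orderOf (lam g) = p ^ (orderOf (lam g)).primeFactorsList.length :=
    Nat.eq_prime_pow_of_unique_prime_dvd hm0
      (fun {d} hd hdm => by
        by_contra hne
        exact hq d hd hne g hdm)
  have hle : (orderOf (lam g)).primeFactorsList.length ≤ (Nat.card G).factorization p := by
    rw [← hp.pow_dvd_iff_le_factorization hn0, ← hm]
    exact hcard
  rw [← orderOf_dvd_iff_pow_eq_one, hm]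
  exact pow_dvd_pow p hle

end Cover

end Cfsg.Agent.Helper81.PRatT
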