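import Mathlib
import Cfsg.Agent.Helper82.PRat.Defs
import Cfsg.Agent.Helper29.PRatADS
import Cfsg.Agent.Helper81.PRatT2a

set_option autoImplicit false

/-!
# Two good extensions differ by a linear character of `p`-power order (helper81)

Piece (T2) of helper82's proof of S4892: final form, with (ADS) = `Helper29.PRat.ad_unique`.
-/

namespace Cfsg.Agent.Helper81.PRatT

open Cfsg Cfsg.Agent.Helper82.PRat

section Cover

variable {G : Type*} [Group G] [Finite G] (p : ℕ) [Fact p.Prime] (M : Ideal AlgInt)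
  (N : Subgroup G) [N.Normal]

/-- (T2) two good extensions differ by a linear character of `p`-power order trivial on `N`. -/
theorem exists_linear_of_good (hM : IsPModular p M) (Q : Sylow p ↥N)
    (hcov : N ⊔ Subgroup.centralizer (((Q : Subgroup ↥N).map N.subtype : Subgroup G) : Set G) = ⊤)
    (θ : IrrCharacter ↥N) (hθ : θ ∈ principalBlock M ↥N) (χ χ' : IrrCharacter G)
    (h : ∀ x : ↥N, (χ : G → ℂ) x = (θ : ↥N → ℂ) x) (h' : ∀ x : ↥N, (χ' : G → ℂ) x = (θ : ↥N → ℂ) x)
    (hg : Good M N χ) (hg' : Good M N χ') :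
    ∃ lam : G →* ℂˣ, (∀ n ∈ N, lam n = 1) ∧
      (∀ g : G, lam g ^ (p ^ (Nat.card G).factorization p) = 1) ∧
      ∀ g : G, (χ' : G → ℂ) g = (χ : G → ℂ) g * ((lam g : ℂˣ) : ℂ) := by
  apply exists_linear_of_good_of_unique p M N θ χ χ' h h' hg hg'
  intro S hNS hidx η η' hη hη' hηN hη'N
  exact (Cfsg.Agent.Helper29.PRat.ad_unique p M N hM Q hcov S hNS hidx θ hθ).unique
    ⟨hη, hηN⟩ ⟨hη', hη'N⟩

end Cover

end Cfsg.Agent.Helper81.PRatT
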