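import Mathlib
import Cfsg.Agent.Helper5.SuBN.Main
import Cfsg.Agent.Helper6.BN
import Cfsg.Agent.Helper9.PronAU.Defs

/-!
# BLOCK AU of S2225/S2226 (sub-architect helper9, #15335), leaf (DG): `mem_Usub_of_conj_mem_Bsub`
-/

set_option autoImplicit false
set_option linter.unusedSectionVars false
set_option linter.unusedVariables false

namespace Cfsg.Agent.Helper81.PronAU

open Matrix Cfsg.Agent.Helper5.SuBN Cfsg.Agent.Helper5.SuBN.Pair Cfsg.Agent.Helper5.SuBN.Main
  Cfsg.Agent.Helper9.PronAU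

section matrix

variable {F : Type*} [Field F] {n : ℕ} {σ : F →+* F}

/-- (DG) a monomial conjugate of a unitriangular matrix which is upper triangular is unitriangular: the diagonal entries
are `mat m (π a) a * 1 * mat m⁻¹ a (π a) = 1` (`mono_conj_apply'`, `mono_inv_apply_mul`), every position is some `π a`. -/
theorem mem_Usub_of_conj_mem_Bsub (m : UG n σ) (hm : m ∈ Mono n σ) (x : UG n σ) (hx : x ∈ Usub n σ)
    (h : m * x * m⁻¹ ∈ Bsub n σ) : m * x * m⁻¹ ∈ Usub n σ := by
  obtain ⟨π, hπ⟩ := (mem_Mono_iff m).1 hm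
  rw [mem_Usub_iff]
  refine ⟨(mem_Bsub_iff _).1 h, fun a => ?_⟩
  have ha : a = π (π⁻¹ a) := (Equiv.apply_symm_apply π a).symm
  rw [ha, mono_conj_apply' m π hπ x (π⁻¹ a) (π⁻¹ a), ((mem_Usub_iff x).1 hx).2, mul_one, mul_comm]
  exact mono_inv_apply_mul m π hπ (π⁻¹ a)

end matrix

end Cfsg.Agent.Helper81.PronAU
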