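import Mathlib
import Cfsg.Agent.Helper5.SuBN.Main
import Cfsg.Agent.Helper6.BN
import Cfsg.Agent.Helper9.PronAU.Defs

/-!
# BLOCK AU of S2225/S2226 (sub-architect helper9, #15335), leaf (PS): `sMat_mono`
-/

set_option autoImplicit false
set_option linter.unusedSectionVars false
set_option linter.unusedVariables false

namespace Cfsg.Agent.Helper81.PronAU

open Matrix Cfsg.Agent.Helper5.SuBN Cfsg.Agent.Helper5.SuBN.Pair Cfsg.Agent.Helper5.SuBN.Main
  Cfsg.Agent.Helper9.PronAU

section matrix

variable {F : Type*} [Field F] {n : ℕ} {σ : F →+* F}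

/-- (PS) the representative of `s_k` is monomial with permutation `sPerm k` (`sMat_apply`) -/
theorem sMat_mono (c : F) (k : Fin (n / 2)) (s : UG n σ) (hs : mat s = sMat c k) :
    ∀ a b : Fin n, a ≠ sPerm k b → mat s a b = 0 := by
  intro a b hab
  rw [hs, sMat_apply, if_neg hab]

end matrix

end Cfsg.Agent.Helper81.PronAU
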