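import Mathlib
import Cfsg.Agent.Helper81.RO2
import Cfsg.Agent.Helper81.CliffordInd

/-!
# Real characters of odd degree: the linear character `lamOf` of a normal `2`-subgroup

For `ι : S →* G`, a subgroup `U ≤ ι.range` and a linear character `ν` of `S` trivial on `ker ι`:
* `lamOf ι U hU ν hker : U →* ℂˣ` with `lamOf ⟨ι s, _⟩ = ν s`;
* `range_le_inertia`: it is invariant under `ι.range`;
* `over_of_inner_ne_zero`: constituents of `Ψ ∘ j` give constituents over `lam`;
* `inner_eq_of_clifford`: the multiplicities of the linear characters over `lam` in `χ ∘ ι` and in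
  `ψ ∘ ι` agree, `ψ` the Clifford correspondent of `χ`.
-/

set_option autoImplicit false
set_option linter.unusedSectionVars false

namespace Cfsg.Agent.Helper81.RO

open Cfsg
open scoped ComplexConjugate

universe u

variable {S G : Type u} [Group S] [Group G]

/-- The preimage of `U` in `S`. -/
def SU (ι : S →* G) (U : Subgroup G) : Subgroup S := U.comap ι

/-- The restriction of `ι` to the preimage of `U`. -/
def iotaU (ι : S →* G) (U : Subgroup G) : SU ι U →* U :=
  (ι.comp (SU ι U).subtype).codRestrict U (fun x => x.2)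

theorem iotaU_coe (ι : S →* G) (U : Subgroup G) (x : SU ι U) :
    ((iotaU ι U x : U) : G) = ι (x : S) := rfl

theorem iotaU_surjective (ι : S →* G) (U : Subgroup G) (hU : U ≤ ι.range) :
    Function.Surjective (iotaU ι U) := by
  intro u
  obtain ⟨s, hs⟩ := hU u.2
  have hsU : s ∈ SU ι U := by
    show ι s ∈ U
    rw [hs]; exact u.2
  exact ⟨⟨s, hsU⟩, Subtype.ext hs⟩

/-- The linear character of `U` induced by `ν`. -/
noncomputable def lamOf (ι : S →* G) (U : Subgroup G) (hU : U ≤ ι.range) (ν : S →* ℂˣ)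
    (hker : ∀ s, ι s = 1 → ν s = 1) : U →* ℂˣ :=
  Helper80.descend (iotaU ι U) (iotaU_surjective ι U hU) (ν.comp (SU ι U).subtype)
    (fun x hx => hker _ (by
      have := congrArg Subtype.val hx
      simpa [iotaU_coe] using this))

theorem lamOf_iotaU (ι : S →* G) (U : Subgroup G) (hU : U ≤ ι.range) (ν : S →* ℂˣ)
    (hker : ∀ s, ι s = 1 → ν s = 1) (x : SU ι U) :
    lamOf ι U hU ν hker (iotaU ι U x) = ν (x : S) :=
  Helper80.descend_apply _ _ _ _ x

theorem lamOf_apply (ι : S →* G) (U : Subgroup G) (hU : U ≤ ι.range) (ν : S →* ℂˣ)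
    (hker : ∀ s, ι s = 1 → ν s = 1) (s : S) (hs : ι s ∈ U) :
    lamOf ι U hU ν hker ⟨ι s, hs⟩ = ν s :=
  lamOf_iotaU ι U hU ν hker ⟨s, hs⟩

/-- `lamOf` is invariant under the image of `ι`. -/
theorem range_le_inertia (ι : S →* G) (U : Subgroup G) [hUn : U.Normal] (hU : U ≤ ι.range)
    (ν : S →* ℂˣ) (hker : ∀ s, ι s = 1 → ν s = 1) :
    ι.range ≤ Helper15.inertia U (Helper74.linFun (lamOf ι U hU ν hker)) := by
  rintro g ⟨s, rfl⟩
  rw [Helper15.mem_inertia_iff]
  intro n
  obtain ⟨s', hs'⟩ := hU n.2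
  have hn : n = ⟨ι s', by rw [hs']; exact n.2⟩ := Subtype.ext hs'.symm
  have h1 : (⟨ι s * (n : G) * (ι s)⁻¹, hUn.conj_mem (n : G) n.2 (ι s)⟩ : U) =
      ⟨ι (s * s' * s⁻¹), by
        rw [map_mul, map_mul, map_inv, hs']; exact hUn.conj_mem (n : G) n.2 (ι s)⟩ := by
    apply Subtype.ext
    show ι s * (n : G) * (ι s)⁻¹ = ι (s * s' * s⁻¹)
    rw [map_mul, map_mul, map_inv, hs']
  show (((lamOf ι U hU ν hker) _ : ℂˣ) : ℂ) = (((lamOf ι U hU ν hker) n : ℂˣ) : ℂ)
  rw [h1, lamOf_apply]
  conv_rhs => rw [hn, lamOf_apply]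
  rw [map_mul, map_mul, map_inv, mul_inv_cancel_comm]

/-- Constituents of `Ψ ∘ j` over `ν` give constituents of `Φ` over `lam`. -/
theorem over_of_inner_ne_zero {A B : Type u} [Group A] [Fintype A] [Group B] [Fintype B]
    [Fintype S] {Ψ : A → ℂ} (hΨ : IsCharacter A Ψ) (j : S →* A) (ν : S →* ℂˣ)
    (h : classInner (fun s => Ψ (j s)) (Helper74.linFun ν) ≠ 0)
    (SB : Subgroup S) [Fintype SB] (jB : SB →* B) (hjB : Function.Surjective jB) (Φ : B → ℂ)
    (hΦ : ∀ x : SB, Φ (jB x) = Ψ (j x)) (lam : B →* ℂˣ) (hlam : ∀ x : SB, lam (jB x) = ν x) :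
    classInner Φ (Helper74.linFun lam) ≠ 0 := by
  have hΨj : IsCharacter S (fun s => Ψ (j s)) := Helper74.isCharacter_comp j hΨ
  have h1 := inner_comp_ne_zero SB.subtype hΨj ν h
  have e1 : (fun b : SB => (fun s => Ψ (j s)) (SB.subtype b)) = fun b => Φ (jB b) := by
    funext b
    exact (hΦ b).symm
  have e2 : (fun b : SB => Helper74.linFun ν (SB.subtype b)) =
      fun b => Helper74.linFun lam (jB b) := by
    funext b
    show ((ν (b : S) : ℂˣ) : ℂ) = ((lam (jB b) : ℂˣ) : ℂ)
    rw [hlam b]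
  rw [e1, e2, classInner_comp_surj jB hjB Φ (Helper74.linFun lam)] at h1
  exact h1

/-- The multiplicities of linear characters over `lam` in `χ ∘ ι` and `ψ ∘ ι` agree, for `ψ` the
Clifford correspondent of `χ` over `lam`. -/
theorem inner_eq_of_clifford [Fintype S] [Fintype G] (U : Subgroup G) [hUn : U.Normal]
    [Fintype U] (lam : U →* ℂˣ) (T : Subgroup G) [Fintype T] (hUT : U ≤ T)
    {χ : G → ℂ} (hχ : IsIrrCharacter G χ) {ψ : T → ℂ} (hψ : IsIrrCharacter T ψ)
    (hind : indFun T ψ = χ)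
    (hfull : classInner (Helper15.resTo U T hUT ψ) (Helper74.linFun lam) =
      classInner (fun u : U => χ u) (Helper74.linFun lam))
    (ι : S →* G) (hιT : ι.range ≤ T) (hU : U ≤ ι.range) (ν'' : S →* ℂˣ)
    (hν'' : ∀ s (hs : ι s ∈ U), lam ⟨ι s, hs⟩ = ν'' s) :
    classInner (fun s => χ (ι s)) (Helper74.linFun ν'') =
      classInner (fun s => ψ (ι.codRestrict T (fun s => hιT ⟨s, rfl⟩) s))
        (Helper74.linFun ν'') := by
  classical
  let _ := Helper74.irrFintype T
  set ιT : S →* T := ι.codRestrict T (fun s => hιT ⟨s, rfl⟩) with hιTdef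
  have hχc : IsCharacter G χ := Helper74.isCharacter_of_isIrr hχ
  have hχcf : IsClassFunction G χ := Helper74.isClassFunction_of_isCharacter hχc
  have hχT : IsCharacter T (fun t : T => χ t) := Helper74.isCharacter_restrict T hχc
  have hθ : IsIrrCharacter U (Helper74.linFun lam) := Helper80.isIrrCharacter_of_monoidHom lam
  -- `[χ_T, ψ] = 1`
  have hone : classInner (fun t : T => χ t) ψ = 1 := by
    rw [← Helper15.frobenius_reciprocity' T ψ χ hχcf, hind]
    exact Helper74.irr_inner_self ⟨χ, hχ⟩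
  have h0 : (fun s => χ (ι s)) = fun s => (fun t : T => χ t) (ιT s) := rfl
  rw [h0, inner_comp_eq_sum ιT hχT (Helper74.linFun ν''),
    Finset.sum_eq_single (⟨ψ, hψ⟩ : IrrCharacter T)]
  · rw [hone, one_mul]
  · intro ξ _ hξ
    by_cases h1 : classInner (fun t : T => χ t) (ξ : T → ℂ) = 0
    · rw [h1, zero_mul]
    by_cases h2 : classInner (fun b => (ξ : T → ℂ) (ιT b)) (Helper74.linFun ν'') = 0
    · rw [h2, mul_zero]
    exfalso
    apply hξ
    have h3 : classInner (Helper15.resTo U T hUT (ξ : T → ℂ)) (Helper74.linFun lam) ≠ 0 := by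
      refine over_of_inner_ne_zero (Helper74.irr_isCharacter ξ) ιT ν'' h2 (SU ι U) (iotaU ι U)
        (iotaU_surjective ι U hU) _ (fun x => rfl) lam (fun x => ?_)
      exact hν'' (x : S) x.2
    have h4 : classInner (fun t : T => χ t) ψ ≠ 0 := by rw [hone]; exact one_ne_zero
    exact Subtype.ext
      (Helper81.clifford_unique_constituent U hθ T hUT hχc hψ h4 hfull ξ.2 h1 h3)
  · intro h
    exact absurd (Finset.mem_univ _) h

end Cfsg.Agent.Helper81.RO
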