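import Mathlib
import Cfsg.Agent.Helper81.RO3
import Cfsg.Agent.Helper65.RO_Q1
import Cfsg.Agent.Helper52.RO_N1

/-!
# Real characters of odd degree: the quotient step of the main induction
-/

set_option autoImplicit false
set_option linter.unusedSectionVars false

namespace Cfsg.Agent.Helper81.RO

open Cfsg
open scoped ComplexConjugate

universe u

variable {AdmG : ∀ (G : Type u) [Group G], (G → ℂ) → Prop}
  {AdmL : ∀ (S : Type u) [Group S], (S →* ℂˣ) → Prop}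

theorem OddMult.ne_zero {S G : Type u} [Group S] [Group G] [Fintype S] {ι : S →* G} {χ : G → ℂ}
    {ν : S →* ℂˣ} (h : OddMult ι χ ν) :
    classInner (fun s => χ (ι s)) (Helper74.linFun ν) ≠ 0 := by
  obtain ⟨m, hm, h⟩ := h
  rw [h]
  have : m ≠ 0 := by
    rintro rfl
    exact absurd hm (by decide)
  exact_mod_cast this

/-- Deflation of an admissible character with `V` in its kernel. -/
theorem exists_descend_adm (C : AdmClass AdmG AdmL) {G : Type u} [Group G] [Fintype G]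
    (V : Subgroup G) [V.Normal] {χ : G → ℂ} (hχ : AdmG G χ) (hχV : ∀ v ∈ V, χ v = χ 1) :
    ∃ χ' : G ⧸ V → ℂ, AdmG (G ⧸ V) χ' ∧ ∀ g : G, χ g = χ' (g : G ⧸ V) := by
  obtain ⟨χ', _, h⟩ := Helper80.IsIrrCharacter.exists_descend (C.irr hχ) (QuotientGroup.mk' V)
    (QuotientGroup.mk'_surjective V) (fun g hg => hχV g ((QuotientGroup.eq_one_iff g).mp hg))
  refine ⟨χ', C.quot V χ' ?_, h⟩
  have e : (fun g : G => χ' (g : G ⧸ V)) = χ := funext (fun g => (h g).symm)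
  rw [e]
  exact hχ

/-- The quotient step: if `V ⊴ G` is in the kernel of `χ`, the goal for `G ⧸ V` gives the goal
for `χ` (and those `χ'` with `V` in their kernel). -/
theorem quotient_step (C : AdmClass AdmG AdmL) {G : Type u} [Group G] [Fintype G]
    (V : Subgroup G) [V.Normal] [Fintype (G ⧸ V)] (IH : Goal AdmG AdmL (G ⧸ V))
    {S : Type u} [Group S] [Fintype S] (hS : IsPGroup 2 S) (ι : S →* G)
    (hidx : ¬ 2 ∣ ι.range.index) (ν : S →* ℂˣ) (hν : AdmL S ν) (χ : G → ℂ) (hχ : AdmG G χ)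
    (hχV : ∀ v ∈ V, χ v = χ 1) (hm : OddMult ι χ ν) :
    (∀ ν' : S →* ℂˣ, AdmL S ν' → OddMult ι χ ν' → ConjSign ι ν ν') ∧
    (∀ χ' : G → ℂ, AdmG G χ' → (∀ v ∈ V, χ' v = χ' 1) → OddMult ι χ' ν → χ = χ') := by
  obtain ⟨χb, hχb, hdesc⟩ := exists_descend_adm C V hχ hχV
  set ι' : S →* G ⧸ V := (QuotientGroup.mk' V).comp ι with hι'
  have hidx' : ¬ 2 ∣ ι'.range.index := by
    intro h2
    apply hidx
    have e : ι'.range = ι.range.map (QuotientGroup.mk' V) := MonoidHom.range_comp _ _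
    rw [e] at h2
    exact dvd_trans h2 (Subgroup.index_map_dvd _ (QuotientGroup.mk'_surjective V))
  have htr : ∀ (χ₁ : G → ℂ) (χ₁b : G ⧸ V → ℂ), (∀ g : G, χ₁ g = χ₁b (g : G ⧸ V)) →
      ∀ ν₁ : S →* ℂˣ, OddMult ι χ₁ ν₁ → OddMult ι' χ₁b ν₁ := by
    intro χ₁ χ₁b h1 ν₁ hm1
    have e : (fun s => χ₁b (ι' s)) = fun s => χ₁ (ι s) := funext (fun s => (h1 (ι s)).symm)
    unfold OddMult
    rw [e]
    exact hm1
  obtain ⟨ha, hb⟩ := IH S hS ι' hidx' ν hν χb hχb (htr χ χb hdesc ν hm)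
  refine ⟨fun ν' hν' hm' => ?_, fun χ' hχ' hχ'V hm' => ?_⟩
  · exact Helper65.ROQ1.conjSign_of_quotient hS ι hidx V ν ν'
      (ha ν' hν' (htr χ χb hdesc ν' hm'))
  · obtain ⟨χb', hχb', hdesc'⟩ := exists_descend_adm C V hχ' hχ'V
    have := hb χb' hχb' (htr χ' χb' hdesc' ν hm')
    funext g
    rw [hdesc g, hdesc' g, this]

end Cfsg.Agent.Helper81.RO
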