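import Mathlib
import Cfsg.Agent.Helper81.RO4

/-!
# Real characters of odd degree: lemmas for the case `O_{2'}(G) = 1` of the main induction
-/

set_option autoImplicit false
set_option linter.unusedSectionVars false

namespace Cfsg.Agent.Helper81.RO

open Cfsg
open scoped ComplexConjugate

universe u

/-- If `ι` is surjective, `χ ∘ ι` is irreducible, so equals any linear constituent. -/
theorem eq_linFun_of_surjective {S G : Type u} [Group S] [Group G] [Fintype S]
    (ι : S →* G) (hι : Function.Surjective ι) {χ : G → ℂ} (hχ : IsIrrCharacter G χ)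
    (ν : S →* ℂˣ) (h : classInner (fun s => χ (ι s)) (Helper74.linFun ν) ≠ 0) :
    (fun s => χ (ι s)) = Helper74.linFun ν := by
  have h1 : IsIrrCharacter S (fun s => χ (ι s)) := Helper80.IsIrrCharacter.comp_surjective hχ ι hι
  have h2 : IsIrrCharacter S (Helper74.linFun ν) := Helper80.isIrrCharacter_of_monoidHom ν
  by_contra hne
  apply h
  have h3 : (⟨_, h1⟩ : IrrCharacter S) ≠ ⟨_, h2⟩ := fun h4 => hne (congrArg Subtype.val h4)
  exact Helper74.irr_inner_ne h3

section

variable {G : Type u} [Group G]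

/-- If `lam` is `G`-invariant, its kernel is normal in `G`. -/
theorem ker_map_normal (U : Subgroup G) [hUn : U.Normal] (lam : U →* ℂˣ)
    (hT : Helper15.inertia U (Helper74.linFun lam) = ⊤) :
    ((lam.ker).map U.subtype).Normal := by
  refine ⟨fun x hx g => ?_⟩
  obtain ⟨k, hk, rfl⟩ := hx
  have hg : g ∈ Helper15.inertia U (Helper74.linFun lam) := by rw [hT]; trivial
  rw [Helper15.mem_inertia_iff] at hg
  have h1 := hg k
  refine ⟨⟨g * (k : G) * g⁻¹, hUn.conj_mem (k : G) k.2 g⟩, ?_, rfl⟩
  have hk : lam k = 1 := MonoidHom.mem_ker.mp (SetLike.mem_coe.mp hk)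
  apply SetLike.mem_coe.mpr
  rw [MonoidHom.mem_ker]
  have h2 : ((lam ⟨g * (k : G) * g⁻¹, hUn.conj_mem (k : G) k.2 g⟩ : ℂˣ) : ℂ) =
      ((lam k : ℂˣ) : ℂ) := h1
  rw [hk] at h2
  exact Units.ext h2

/-- If `lam` is `G`-invariant and `χ` lies over it, then `ker lam` is in the kernel of `χ`. -/
theorem trivial_on_ker [Fintype G] (U : Subgroup G) [hUn : U.Normal] [Fintype U]
    (lam : U →* ℂˣ) (hT : Helper15.inertia U (Helper74.linFun lam) = ⊤) {χ : G → ℂ}
    (hχ : IsIrrCharacter G χ)
    (hover : classInner (fun u : U => χ u) (Helper74.linFun lam) ≠ 0) :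
    ∀ v ∈ (lam.ker).map U.subtype, χ v = χ 1 := by
  have hθ : IsIrrCharacter U (Helper74.linFun lam) := Helper80.isIrrCharacter_of_monoidHom lam
  have hinv : ∀ g : G, Helper15.conjFun U g (Helper74.linFun lam) = Helper74.linFun lam := by
    intro g
    have hg : g ∈ Helper15.inertia U (Helper74.linFun lam) := by rw [hT]; trivial
    exact (Helper15.mem_inertia U _ g).mp hg
  have h := Helper15.restrict_eq_smul_of_invariant U hχ hθ hover hinv
  intro v hv
  obtain ⟨k, hk, rfl⟩ := hv
  have hk : lam k = 1 := MonoidHom.mem_ker.mp (SetLike.mem_coe.mp hk)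
  have h1 := congrFun h k
  have h2 := congrFun h 1
  simp only [Pi.smul_apply, smul_eq_mul] at h1 h2
  have e1 : Helper74.linFun lam k = 1 := by
    show ((lam k : ℂˣ) : ℂ) = 1
    rw [hk]; rfl
  have e2 : Helper74.linFun lam 1 = 1 := by
    show ((lam 1 : ℂˣ) : ℂ) = 1
    rw [map_one]; rfl
  rw [e1] at h1
  rw [e2] at h2
  show χ (k : G) = χ 1
  rw [h1]
  exact h2.symm

/-- If `lam` is `G`-invariant and faithful on a self-centralizing `U`, then `U = G`. -/
theorem eq_top_of_faithful (U : Subgroup G) [hUn : U.Normal] (lam : U →* ℂˣ)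
    (hT : Helper15.inertia U (Helper74.linFun lam) = ⊤) (hker : lam.ker = ⊥)
    (hcent : Subgroup.centralizer (U : Set G) ≤ U) : U = ⊤ := by
  have hinj : Function.Injective lam := (MonoidHom.ker_eq_bot_iff lam).mp hker
  rw [eq_top_iff]
  intro g _
  apply hcent
  rw [Subgroup.mem_centralizer_iff]
  intro u hu
  have hg : g ∈ Helper15.inertia U (Helper74.linFun lam) := by rw [hT]; trivial
  rw [Helper15.mem_inertia_iff] at hg
  have h1 := hg ⟨u, hu⟩
  have h2 : lam ⟨g * u * g⁻¹, hUn.conj_mem u hu g⟩ = lam ⟨u, hu⟩ := Units.ext h1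
  have h3 := congrArg Subtype.val (hinj h2)
  simp only at h3
  -- `g * u * g⁻¹ = u`
  calc u * g = (g * u * g⁻¹) * g := by rw [h3]
    _ = g * u := by group

end

end Cfsg.Agent.Helper81.RO
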