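import Mathlib
import Cfsg.Agent.Helper81.RO5
import Cfsg.Agent.Helper81.RealN2

/-!
# Real characters of odd degree: lemmas for the Clifford step of the main induction
-/

set_option autoImplicit false
set_option linter.unusedSectionVars false

namespace Cfsg.Agent.Helper81.RO

open Cfsg
open scoped ComplexConjugate

universe u

variable {S G : Type u} [Group S] [Group G]

/-- `ConjSign` for the corestriction to a subgroup gives `ConjSign` in the group. -/
theorem conjSign_of_codRestrict (ι : S →* G) (T : Subgroup G) (hT : ∀ s, ι s ∈ T)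
    {ν ν' : S →* ℂˣ} (h : ConjSign (ι.codRestrict T hT) ν ν') : ConjSign ι ν ν' := by
  obtain ⟨t, h1, h2⟩ := h
  refine ⟨(t : G), fun s => ?_, fun s s' hs => ?_⟩
  · obtain ⟨s', hs'⟩ := h1 s
    refine ⟨s', ?_⟩
    have := congrArg Subtype.val hs'
    simpa using this
  · apply h2 s s'
    apply Subtype.ext
    simpa using hs

/-- The image of the corestriction has odd index. -/
theorem index_codRestrict (ι : S →* G) (T : Subgroup G) (hT : ∀ s, ι s ∈ T)
    (hidx : ¬ 2 ∣ ι.range.index) : ¬ 2 ∣ (ι.codRestrict T hT).range.index := by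
  intro h
  apply hidx
  have e : ((ι.codRestrict T hT).range).map T.subtype = ι.range := by
    rw [← MonoidHom.range_comp]
    rfl
  rw [← e, Subgroup.index_map_subtype]
  exact dvd_mul_of_dvd_left h _

/-- Any `lam` with the defining property of `lamOf` is `lamOf`. -/
theorem eq_lamOf (ι : S →* G) (U : Subgroup G) (hU : U ≤ ι.range) (ν : S →* ℂˣ)
    (hker : ∀ s, ι s = 1 → ν s = 1) (lam : U →* ℂˣ)
    (hlam : ∀ x : SU ι U, lam (iotaU ι U x) = ν x) : lam = lamOf ι U hU ν hker := by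
  ext u
  obtain ⟨x, rfl⟩ := iotaU_surjective ι U hU u
  rw [hlam, lamOf_iotaU]

/-- Two invariant linear constituents of `χ_U` are conjugate under the normalizer of the Sylow
subgroup: transport of `ν'` to a linear character over `lam`. -/
theorem exists_conj_over [Finite S] [Fintype G] (ι : S →* G) (hP : IsPGroup 2 ι.range)
    (hidx : ¬ 2 ∣ ι.range.index) (U : Subgroup G) [hUn : U.Normal] [Fintype U]
    {χ : G → ℂ} (hχ : IsIrrCharacter G χ) (lam lam' : U →* ℂˣ)
    (hinv : ι.range ≤ Helper15.inertia U (Helper74.linFun lam))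
    (hinv' : ι.range ≤ Helper15.inertia U (Helper74.linFun lam'))
    (hover : classInner (fun u : U => χ u) (Helper74.linFun lam) ≠ 0)
    (hover' : classInner (fun u : U => χ u) (Helper74.linFun lam') ≠ 0)
    (ν' : S →* ℂˣ) (hker' : ∀ s, ι s = 1 → ν' s = 1)
    (hlam' : ∀ x : SU ι U, lam' (iotaU ι U x) = ν' x) :
    ∃ ν₃ : S →* ℂˣ, ConjSign ι ν' ν₃ ∧ (∀ x : SU ι U, lam (iotaU ι U x) = ν₃ x) ∧
      (∀ s', ∃ s, ν₃ s' = ν' s) := by
  have : Fact (Nat.Prime 2) := ⟨Nat.prime_two⟩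
  let P : Sylow 2 G := hP.toSylow hidx
  have hθ : IsIrrCharacter U (Helper74.linFun lam) := Helper80.isIrrCharacter_of_monoidHom lam
  have hθ' : IsIrrCharacter U (Helper74.linFun lam') := Helper80.isIrrCharacter_of_monoidHom lam'
  obtain ⟨g, hg⟩ := Helper15.exists_conj_of_constituents U hχ hθ hθ' hover hover'
  have hPT : (P : Subgroup G) ≤ Helper15.inertia U (Helper74.linFun lam) := hinv
  have hPg : (P : Subgroup G) ≤
      Helper15.inertia U (Helper15.conjFun U g (Helper74.linFun lam)) := by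
    rw [← hg]; exact hinv'
  obtain ⟨n, hn, hn2⟩ := Helper81.exists_normalizer_conj U P (Helper74.linFun lam) hPT g hPg
  have hθ'n : Helper74.linFun lam' = Helper15.conjFun U n (Helper74.linFun lam) := hg.trans hn2
  have hnorm : ∀ s, ∃ s', ι s' = n * ι s * n⁻¹ := by
    intro s
    have h1 : ι s ∈ (P : Subgroup G) := ⟨s, rfl⟩
    have h2 := (Subgroup.mem_normalizer_iff.mp hn (ι s)).mp h1
    obtain ⟨s', hs'⟩ := h2
    exact ⟨s', hs'⟩
  have hnorm' : ∀ s', ∃ s, ι s' = n * ι s * n⁻¹ := by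
    intro s'
    have hn' := Subgroup.inv_mem _ hn
    have h1 : ι s' ∈ (P : Subgroup G) := ⟨s', rfl⟩
    have h2 := (Subgroup.mem_normalizer_iff.mp hn' (ι s')).mp h1
    obtain ⟨s, hs⟩ := h2
    exact ⟨s, by rw [hs]; group⟩
  obtain ⟨ν₃, hν₃, _⟩ := Helper52.RON.exists_conjSign ι n hnorm ν' hker'
  refine ⟨ν₃, ⟨n, hnorm, hν₃⟩, ?_, ?_⟩
  · intro x
    obtain ⟨s, hs⟩ := hnorm' (x : S)
    have hsU : s ∈ SU ι U := by
      show ι s ∈ U
      have e : ι s = n⁻¹ * ι (x : S) * n⁻¹⁻¹ := by rw [hs]; group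
      rw [e]
      exact hUn.conj_mem (ι (x : S)) x.2 n⁻¹
    rw [hν₃ s (x : S) hs, ← hlam' ⟨s, hsU⟩]
    have h1 := congrFun hθ'n (iotaU ι U ⟨s, hsU⟩)
    rw [Helper15.conjFun_apply] at h1
    have h2 : (⟨n * ((iotaU ι U ⟨s, hsU⟩ : U) : G) * n⁻¹,
        hUn.conj_mem _ (iotaU ι U ⟨s, hsU⟩).2 n⟩ : U) = iotaU ι U x := by
      apply Subtype.ext
      show n * ι s * n⁻¹ = ι (x : S)
      exact hs.symm
    rw [h2] at h1
    exact (Units.ext h1).symm
  · intro s'
    obtain ⟨s, hs⟩ := hnorm' s'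
    exact ⟨s, hν₃ s s' hs⟩

end Cfsg.Agent.Helper81.RO
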