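import Mathlib
import Cfsg.Agent.Helper81.RO6
import Cfsg.Agent.Lib.Cores
import Cfsg.Agent.Helper11.PSolvable
import Cfsg.Agent.Helper70.PSolvable

/-!
# Real characters of odd degree: the main induction

`main`: for an admissible class `(AdmG, AdmL)` and a finite solvable group `G`, `Goal AdmG AdmL G`.
-/

set_option autoImplicit false
set_option linter.unusedSectionVars false
set_option linter.style.haveILetI false

namespace Cfsg.Agent.Helper81.RO

open Cfsg
open scoped ComplexConjugate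

universe u

variable {AdmG : ∀ (G : Type u) [Group G], (G → ℂ) → Prop}
  {AdmL : ∀ (S : Type u) [Group S], (S →* ℂˣ) → Prop}

set_option maxHeartbeats 800000 in
/-- The case `O_{2'}(G) = 1` of the main induction. -/
theorem caseB (C : AdmClass AdmG AdmL) {G : Type u} [Group G] [Fintype G]
    (hsol : Group.IsSolvable G) (hM : Cfsg.pPrimeCore 2 G = ⊥)
    (IHsub : ∀ (T : Subgroup G) [Fintype T], T ≠ ⊤ → Goal AdmG AdmL T)
    (IHquot : ∀ (V : Subgroup G) [V.Normal] [Fintype (G ⧸ V)], V ≠ ⊥ → Goal AdmG AdmL (G ⧸ V)) :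
    Goal AdmG AdmL G := by
  intro S _ _ hS ι hidx ν hν χ hχ hm
  have : Fact (Nat.Prime 2) := ⟨Nat.prime_two⟩
  set U : Subgroup G := Cfsg.pCore 2 G with hUdef
  haveI hUc : U.Characteristic := Cfsg.Agent.Lib.pCore_characteristic 2
  haveI hUn : U.Normal := inferInstance
  haveI : Fintype U := Fintype.ofFinite U
  haveI : Fintype (SU ι U) := Fintype.ofFinite _
  have hP : IsPGroup 2 ι.range := hS.of_surjective ι.rangeRestrict ι.rangeRestrict_surjective
  have hUr : U ≤ ι.range := Cfsg.Agent.Lib.pCore_le_sylow (hP.toSylow hidx)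
  have hcent : Subgroup.centralizer (U : Set G) ≤ U :=
    Cfsg.Agent.Helper11.centralizer_pCore_le_of_isPSolvable
      (Cfsg.Agent.Helper70.isPSolvable_of_isSolvable 2) hM
  -- generic facts
  have hkerOf : ∀ (χ₁ : G → ℂ) (ν₁ : S →* ℂˣ), OddMult ι χ₁ ν₁ → ∀ s, ι s = 1 → ν₁ s = 1 :=
    fun χ₁ ν₁ h => ker_of_inner_ne_zero ι χ₁ ν₁ h.ne_zero
  have hoverOf : ∀ (χ₁ : G → ℂ), IsCharacter G χ₁ → ∀ (ν₁ : S →* ℂˣ), OddMult ι χ₁ ν₁ →
      ∀ lam₁ : U →* ℂˣ, (∀ x : SU ι U, lam₁ (iotaU ι U x) = ν₁ x) →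
      classInner (fun u : U => χ₁ u) (Helper74.linFun lam₁) ≠ 0 := by
    intro χ₁ hχ₁ ν₁ h lam₁ hlam₁
    exact over_of_inner_ne_zero hχ₁ ι ν₁ h.ne_zero (SU ι U) (iotaU ι U)
      (iotaU_surjective ι U hUr) (fun u : U => χ₁ u) (fun x => rfl) lam₁ hlam₁
  have hinvOf : ∀ (ν₁ : S →* ℂˣ), (∀ s, ι s = 1 → ν₁ s = 1) → ∀ lam₁ : U →* ℂˣ,
      (∀ x : SU ι U, lam₁ (iotaU ι U x) = ν₁ x) →
      ι.range ≤ Helper15.inertia U (Helper74.linFun lam₁) := by
    intro ν₁ hker₁ lam₁ hlam₁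
    rw [eq_lamOf ι U hUr ν₁ hker₁ lam₁ hlam₁]
    exact range_le_inertia ι U hUr ν₁ hker₁
  have hlinOf : ∀ (ν₁ : S →* ℂˣ), AdmL S ν₁ → ∀ lam₁ : U →* ℂˣ,
      (∀ x : SU ι U, lam₁ (iotaU ι U x) = ν₁ x) → AdmL U lam₁ := by
    intro ν₁ hν₁ lam₁ hlam₁
    refine C.lin ν₁ lam₁ hν₁ (fun u => ?_)
    obtain ⟨x, rfl⟩ := iotaU_surjective ι U hUr u
    exact ⟨x, hlam₁ x⟩
  have hχi : IsIrrCharacter G χ := C.irr hχ
  have hχc : IsCharacter G χ := Helper74.isCharacter_of_isIrr hχi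
  have hχcf : IsClassFunction G χ := Helper74.isClassFunction_of_isCharacter hχc
  have hker := hkerOf χ ν hm
  obtain ⟨lam, hlam⟩ : ∃ lam : U →* ℂˣ, ∀ x : SU ι U, lam (iotaU ι U x) = ν x :=
    ⟨lamOf ι U hUr ν hker, lamOf_iotaU ι U hUr ν hker⟩
  have hlamAdm : AdmL U lam := hlinOf ν hν lam hlam
  have hθ : IsIrrCharacter U (Helper74.linFun lam) := Helper80.isIrrCharacter_of_monoidHom lam
  have hover := hoverOf χ hχc ν hm lam hlam
  have hinv := hinvOf ν hker lam hlam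
  by_cases hT : Helper15.inertia U (Helper74.linFun lam) = ⊤
  · -- `lam` is invariant in `G`
    by_cases hk : lam.ker = ⊥
    · -- `G = U`, `ι` surjective
      have hUtop : U = ⊤ := eq_top_of_faithful U lam hT hk hcent
      have hsurj : Function.Surjective ι := by
        rw [← MonoidHom.range_eq_top, eq_top_iff, ← hUtop]
        exact hUr
      have e1 := eq_linFun_of_surjective ι hsurj hχi ν hm.ne_zero
      refine ⟨fun ν' hν' hm' => ?_, fun χ' hχ' hm' => ?_⟩
      · have e2 := eq_linFun_of_surjective ι hsurj hχi ν' hm'.ne_zero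
        have e3 : ν = ν' := Helper74.linFun_injective (e1.symm.trans e2)
        rw [← e3]
        exact ConjSign.refl ι ν hker
      · have e2 := eq_linFun_of_surjective ι hsurj (C.irr hχ') ν hm'.ne_zero
        funext g
        obtain ⟨s, rfl⟩ := hsurj g
        exact (congrFun e1 s).trans (congrFun e2 s).symm
    · -- pass to `G ⧸ ker lam`
      haveI hVn : ((lam.ker).map U.subtype).Normal := ker_map_normal U lam hT
      haveI : Fintype (G ⧸ (lam.ker).map U.subtype) := Fintype.ofFinite _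
      have hVne : (lam.ker).map U.subtype ≠ ⊥ := by
        intro h
        apply hk
        rw [eq_bot_iff]
        intro k hk'
        have h1 : (k : G) ∈ (lam.ker).map U.subtype := ⟨k, hk', rfl⟩
        rw [h] at h1
        rw [Subgroup.mem_bot] at h1 ⊢
        exact Subtype.ext h1
      obtain ⟨ha, hb⟩ := quotient_step C ((lam.ker).map U.subtype)
        (IHquot _ hVne) hS ι hidx ν hν χ hχ (trivial_on_ker U lam hT hχi hover) hm
      refine ⟨ha, fun χ' hχ' hm' => ?_⟩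
      have hχ'i := C.irr hχ'
      have hover' := hoverOf χ' (Helper74.isCharacter_of_isIrr hχ'i) ν hm' lam hlam
      exact hb χ' hχ' (trivial_on_ker U lam hT hχ'i hover') hm'
  · -- Clifford correspondence
    set T : Subgroup G := Helper15.inertia U (Helper74.linFun lam) with hTdef
    haveI : Fintype T := Fintype.ofFinite T
    have hUT : U ≤ T := hUr.trans hinv
    have hιT : ∀ s, ι s ∈ T := fun s => hinv ⟨s, rfl⟩
    have hidxT := index_codRestrict ι T hιT hidx
    have IHT := IHsub T hT S hS (ι.codRestrict T hιT) hidxT ν hν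
    -- Clifford correspondents of admissible characters over `lam`
    have hcl : ∀ χ₁ : G → ℂ, AdmG G χ₁ →
        classInner (fun u : U => χ₁ u) (Helper74.linFun lam) ≠ 0 →
        ∃ ψ₁ : T → ℂ, AdmG T ψ₁ ∧ indFun T ψ₁ = χ₁ ∧ ∀ ν₂ : S →* ℂˣ,
          (∀ x : SU ι U, lam (iotaU ι U x) = ν₂ x) →
          classInner (fun s => χ₁ (ι s)) (Helper74.linFun ν₂) =
            classInner (fun s => ψ₁ (ι.codRestrict T hιT s)) (Helper74.linFun ν₂) := by
      intro χ₁ hχ₁ hover₁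
      obtain ⟨ψ₁, hψ₁, hind₁, hfull₁⟩ := Helper15.clifford_correspondence_exists U hθ T rfl hUT
        (C.irr hχ₁) hover₁
      refine ⟨ψ₁, ?_, hind₁, fun ν₂ hν₂ => ?_⟩
      · refine C.cliff U lam hlamAdm T rfl hUT ψ₁ hψ₁ ?_ ?_
        · show classInner (fun n : U => ψ₁ ⟨(n : G), hUT n.2⟩) (Helper74.linFun lam) ≠ 0
          rw [hfull₁]; exact hover₁
        · rw [hind₁]; exact hχ₁
      · exact inner_eq_of_clifford U lam T hUT (C.irr hχ₁) hψ₁ hind₁ hfull₁ ι
          (fun g hg => by obtain ⟨s, rfl⟩ := hg; exact hιT s) hUr ν₂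
          (fun s hs => hν₂ ⟨s, hs⟩)
    obtain ⟨ψ, hψ, hind, hmult⟩ := hcl χ hχ hover
    have hmψ : OddMult (ι.codRestrict T hιT) ψ ν := by
      obtain ⟨m, hmodd, hmeq⟩ := hm
      exact ⟨m, hmodd, by rw [← hmult ν hlam]; exact hmeq⟩
    obtain ⟨ha, hb⟩ := IHT ψ hψ hmψ
    refine ⟨fun ν' hν' hm' => ?_, fun χ' hχ' hm' => ?_⟩
    · have hker' := hkerOf χ ν' hm'
      obtain ⟨lam', hlam'⟩ : ∃ lam' : U →* ℂˣ, ∀ x : SU ι U, lam' (iotaU ι U x) = ν' x :=
        ⟨lamOf ι U hUr ν' hker', lamOf_iotaU ι U hUr ν' hker'⟩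
      have hover' := hoverOf χ hχc ν' hm' lam' hlam'
      have hinv' := hinvOf ν' hker' lam' hlam'
      obtain ⟨ν₃, hc₃, hlam₃, hval₃⟩ := exists_conj_over ι hP hidx U hχi lam lam' hinv hinv'
        hover hover' ν' hker' hlam'
      have hm₃ : OddMult ι χ ν₃ := Helper52.RON.oddMult_of_conjSign ι hχcf ν' ν₃ hc₃ hm'
      have hν₃ : AdmL S ν₃ := C.lin ν' ν₃ hν' hval₃
      have hmψ₃ : OddMult (ι.codRestrict T hιT) ψ ν₃ := by
        obtain ⟨m, hmodd, hmeq⟩ := hm₃
        exact ⟨m, hmodd, by rw [← hmult ν₃ hlam₃]; exact hmeq⟩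
      have h1 : ConjSign ι ν ν₃ := conjSign_of_codRestrict ι T hιT (ha ν₃ hν₃ hmψ₃)
      exact h1.trans hc₃.symm
    · have hχ'i := C.irr hχ'
      have hover' := hoverOf χ' (Helper74.isCharacter_of_isIrr hχ'i) ν hm' lam hlam
      obtain ⟨ψ', hψ', hind', hmult'⟩ := hcl χ' hχ' hover'
      have hmψ' : OddMult (ι.codRestrict T hιT) ψ' ν := by
        obtain ⟨m, hmodd, hmeq⟩ := hm'
        exact ⟨m, hmodd, by rw [← hmult' ν hlam]; exact hmeq⟩
      have := hb ψ' hψ' hmψ'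
      rw [← hind, ← hind', this]

end Cfsg.Agent.Helper81.RO

namespace Cfsg.Agent.Helper81.RO

open Cfsg

universe u

variable {AdmG : ∀ (G : Type u) [Group G], (G → ℂ) → Prop}
  {AdmL : ∀ (S : Type u) [Group S], (S →* ℂˣ) → Prop}

/-- **Main induction**: the goal holds for every finite solvable group. -/
theorem main (C : AdmClass AdmG AdmL) : ∀ n : ℕ, ∀ (G : Type u) [Group G] [Fintype G],
    Nat.card G = n → Group.IsSolvable G → Goal AdmG AdmL G := by
  intro n
  induction n using Nat.strong_induction_on with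
  | _ n ih =>
    intro G _ _ hn hsol
    haveI := hsol
    have IHsub : ∀ (T : Subgroup G) [Fintype T], T ≠ ⊤ → Goal AdmG AdmL T := by
      intro T _ hT
      refine ih (Nat.card T) ?_ T rfl inferInstance
      rw [← hn]
      have h1 : Nat.card T ≤ Nat.card G := Subgroup.card_le_card_group T
      have h2 : Nat.card T ≠ Nat.card G := fun h => hT ((Subgroup.card_eq_iff_eq_top T).mp h)
      omega
    have IHquot : ∀ (V : Subgroup G) [V.Normal] [Fintype (G ⧸ V)], V ≠ ⊥ →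
        Goal AdmG AdmL (G ⧸ V) := by
      intro V _ _ hV
      refine ih (Nat.card (G ⧸ V)) ?_ (G ⧸ V) rfl inferInstance
      rw [← hn, ← Subgroup.card_mul_index V]
      have h1 : 1 < Nat.card V := by
        rw [Subgroup.one_lt_card_iff_ne_bot]; exact hV
      have h2 : 0 < V.index := Nat.pos_of_ne_zero Subgroup.index_ne_zero_of_finite
      show V.index < _
      nlinarith
    by_cases hM : Cfsg.pPrimeCore 2 G = ⊥
    · exact caseB C hsol hM IHsub IHquot
    · intro S _ _ hS ι hidx ν hν χ hχ hm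
      haveI hc : (Cfsg.pPrimeCore 2 G).Characteristic := Cfsg.Agent.Lib.pPrimeCore_characteristic 2
      haveI : (Cfsg.pPrimeCore 2 G).Normal := inferInstance
      haveI : Fintype (G ⧸ Cfsg.pPrimeCore 2 G) := Fintype.ofFinite _
      have hcop := Cfsg.Agent.Lib.card_pPrimeCore_coprime (G := G) 2
      obtain ⟨ha, hb⟩ := quotient_step C _ (IHquot _ hM) hS ι hidx ν hν χ hχ
        (C.ker hχ _ hcop) hm
      exact ⟨ha, fun χ' hχ' hm' => hb χ' hχ' (C.ker hχ' _ hcop) hm'⟩

end Cfsg.Agent.Helper81.RO
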