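import Mathlib
import Cfsg.Agent.Helper81.RO7
import Cfsg.Agent.Helper87.RO_E1
import Cfsg.Agent.Helper80.RO_E2
import Cfsg.Agent.Helper97.RO_SQ

/-!
# Real characters of odd degree: the number of real characters of odd degree of `G` and `N_G(P)`
-/

set_option autoImplicit false
set_option linter.unusedSectionVars false
set_option linter.style.haveILetI false

namespace Cfsg.Agent.Helper81.RO

open Cfsg
open scoped ComplexConjugate

universe u

/-- Two types related by a relation which is a bijection have the same cardinality. -/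
theorem card_eq_of_rel {A B : Type*} (R : A → B → Prop) (h1 : ∀ a, ∃ b, R a b)
    (h2 : ∀ b, ∃ a, R a b) (h3 : ∀ a b b', R a b → R a b' → b = b')
    (h4 : ∀ a a' b, R a b → R a' b → a = a') : Nat.card A = Nat.card B := by
  choose f hf using h1
  refine Nat.card_congr (Equiv.ofBijective f ⟨?_, ?_⟩)
  · intro a a' h
    exact h4 a a' (f a) (hf a) (h ▸ hf a')
  · intro b
    obtain ⟨a, ha⟩ := h2 b
    exact ⟨a, h3 a _ _ (hf a) ha⟩

/-- `ConjSign` for a subgroup inclusion: the conjugating element normalizes the subgroup, so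
`ConjSign` holds for the corestriction to the normalizer. -/
theorem conjSign_codRestrict_normalizer {G : Type u} [Group G] (Q : Subgroup G) [Finite Q]
    (hQN : ∀ s : Q, Q.subtype s ∈ Subgroup.normalizer (Q : Set G)) {ν ν' : Q →* ℂˣ}
    (h : ConjSign Q.subtype ν ν') :
    ConjSign (Q.subtype.codRestrict (Subgroup.normalizer (Q : Set G)) hQN) ν ν' := by
  obtain ⟨n, h1, h2⟩ := h
  have hn : n ∈ Subgroup.normalizer (Q : Set G) := by
    apply Helper97.ROSQ.mem_normalizer_of_conj_mem Q n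
    intro y hy
    obtain ⟨s', hs'⟩ := h1 ⟨y, hy⟩
    have e : n * y * n⁻¹ = (s' : G) := hs'.symm
    rw [e]
    exact s'.2
  refine ⟨⟨n, hn⟩, fun s => ?_, fun s s' hs => ?_⟩
  · obtain ⟨s', hs'⟩ := h1 s
    exact ⟨s', Subtype.ext hs'⟩
  · apply h2 s s'
    have := congrArg Subtype.val hs
    simpa using this

variable (CR : AdmClass RealAdm.{u} SignAdm.{u})

include CR in
/-- The number of real irreducible characters of odd degree of a finite solvable group equals
that of the normalizer of a Sylow `2`-subgroup. -/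
theorem card_realOdd_eq {G : Type u} [Group G] [Finite G] [hsol : Group.IsSolvable G]
    (P : Sylow 2 G) :
    Nat.card {χ : IrrCharacter G // RealOdd (χ : G → ℂ)} =
      Nat.card {ψ : IrrCharacter (Subgroup.normalizer ((P : Subgroup G) : Set G)) //
        RealOdd (ψ : Subgroup.normalizer ((P : Subgroup G) : Set G) → ℂ)} := by
  classical
  have : Fact (Nat.Prime 2) := ⟨Nat.prime_two⟩
  haveI : Fintype G := Fintype.ofFinite G
  haveI : Fintype (P : Subgroup G) := Fintype.ofFinite _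
  haveI : Fintype (Subgroup.normalizer ((P : Subgroup G) : Set G)) := Fintype.ofFinite _
  have hS : IsPGroup 2 (P : Subgroup G) := P.isPGroup'
  have hPN : ∀ s : (P : Subgroup G), (P : Subgroup G).subtype s ∈
      Subgroup.normalizer ((P : Subgroup G) : Set G) := fun s => Subgroup.le_normalizer s.2
  set ιG : (P : Subgroup G) →* G := (P : Subgroup G).subtype with hιG
  set ιN : (P : Subgroup G) →* Subgroup.normalizer ((P : Subgroup G) : Set G) :=
    ιG.codRestrict _ hPN with hιN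
  have hinjG : Function.Injective ιG := Subtype.val_injective
  have hinjN : Function.Injective ιN := by
    intro a b hab
    have h0 : ((ιN a : Subgroup.normalizer ((P : Subgroup G) : Set G)) : G) =
        ((ιN b : Subgroup.normalizer ((P : Subgroup G) : Set G)) : G) := congrArg Subtype.val hab
    exact hinjG h0
  have hidxG : ¬ 2 ∣ ιG.range.index := by
    rw [hιG, Subgroup.range_subtype]
    exact P.not_dvd_index
  have hidxN : ¬ 2 ∣ ιN.range.index := index_codRestrict ιG _ hPN hidxG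
  have mainG := main CR (Nat.card G) G rfl hsol (P : Subgroup G) hS ιG hidxG
  have mainN := main CR (Nat.card (Subgroup.normalizer ((P : Subgroup G) : Set G)))
    (Subgroup.normalizer ((P : Subgroup G) : Set G)) rfl inferInstance (P : Subgroup G) hS ιN
    hidxN
  refine card_eq_of_rel
    (fun χ ψ => ∃ ν : (P : Subgroup G) →* ℂˣ, IsSign ν ∧ OddMult ιG (χ.1 : G → ℂ) ν ∧
      OddMult ιN (ψ.1 : Subgroup.normalizer ((P : Subgroup G) : Set G) → ℂ) ν) ?_ ?_ ?_ ?_
  · rintro ⟨χ, hχ⟩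
    obtain ⟨ν, hν, hm⟩ := Helper87.RO.exists_sign_oddMult hS ιG χ hχ
    obtain ⟨ψ, hψ, hm'⟩ := Helper80.ROE.exists_realOdd_oddMult ιN hinjN hidxN ν hν
    exact ⟨⟨ψ, hψ⟩, ν, hν, hm, hm'⟩
  · rintro ⟨ψ, hψ⟩
    obtain ⟨ν, hν, hm⟩ := Helper87.RO.exists_sign_oddMult hS ιN ψ hψ
    obtain ⟨χ, hχ, hm'⟩ := Helper80.ROE.exists_realOdd_oddMult ιG hinjG hidxG ν hν
    exact ⟨⟨χ, hχ⟩, ν, hν, hm', hm⟩
  · rintro ⟨χ, hχ⟩ ⟨ψ, hψ⟩ ⟨ψ', hψ'⟩ ⟨ν, hν, hm, hmψ⟩ ⟨ν', hν', hm', hmψ'⟩
    have h1 : ConjSign ιG ν ν' := (mainG ν hν χ ⟨χ.2, hχ⟩ hm).1 ν' hν' hm'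
    have h2 : ConjSign ιN ν ν' := conjSign_codRestrict_normalizer (P : Subgroup G) hPN h1
    have hψcf : IsClassFunction _ (ψ : Subgroup.normalizer ((P : Subgroup G) : Set G) → ℂ) :=
      Helper74.isClassFunction_of_isCharacter (Helper74.irr_isCharacter ψ)
    have h3 : OddMult ιN (ψ : Subgroup.normalizer ((P : Subgroup G) : Set G) → ℂ) ν' :=
      Helper52.RON.oddMult_of_conjSign ιN hψcf ν ν' h2 hmψ
    have h4 := (mainN ν' hν' ψ ⟨ψ.2, hψ⟩ h3).2 ψ' ⟨ψ'.2, hψ'⟩ hmψ'
    exact Subtype.ext (Subtype.ext h4)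
  · rintro ⟨χ, hχ⟩ ⟨χ', hχ'⟩ ⟨ψ, hψ⟩ ⟨ν, hν, hm, hmψ⟩ ⟨ν', hν', hm', hmψ'⟩
    have h1 : ConjSign ιN ν ν' := (mainN ν hν ψ ⟨ψ.2, hψ⟩ hmψ).1 ν' hν' hmψ'
    have h2 : ConjSign ιG ν ν' := conjSign_of_codRestrict ιG _ hPN h1
    have hχcf : IsClassFunction _ (χ : G → ℂ) :=
      Helper74.isClassFunction_of_isCharacter (Helper74.irr_isCharacter χ)
    have h3 : OddMult ιG (χ : G → ℂ) ν' :=
      Helper52.RON.oddMult_of_conjSign ιG hχcf ν ν' h2 hm
    have h4 := (mainG ν' hν' χ ⟨χ.2, hχ⟩ h3).2 χ' ⟨χ'.2, hχ'⟩ hm'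
    exact Subtype.ext (Subtype.ext h4)

end Cfsg.Agent.Helper81.RO
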