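import Mathlib
import Cfsg.Agent.Helper81.RO8
import Cfsg.Agent.Helper89.RO_K1
import Cfsg.Agent.Helper3.RO_Cliff

/-!
# Real characters of odd degree: the real class is admissible; part 1 of S4581
-/

set_option autoImplicit false
set_option linter.unusedSectionVars false
set_option linter.style.haveILetI false

namespace Cfsg.Agent.Helper81.RO

open Cfsg
open scoped ComplexConjugate

universe u

/-- The degree of a character of a quotient and of its inflation agree. -/
theorem charDegree_inflate {G : Type u} [Group G] (V : Subgroup G) [V.Normal] (χ' : G ⧸ V → ℂ) :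
    charDegree (fun g : G => χ' (g : G ⧸ V)) = charDegree χ' := by
  unfold charDegree
  rfl

/-- The real class is admissible. -/
theorem realAdmClass : AdmClass RealAdm.{u} SignAdm.{u} where
  irr := fun h => h.1
  ker := fun h M _ hM => Helper89.ROK1.realOdd_ker h.1 h.2 M hM
  quot := by
    intro G _ _ V _ χ' h
    refine ⟨Helper80.IsIrrCharacter.of_comp_surjective (QuotientGroup.mk' V)
      (QuotientGroup.mk'_surjective V) h.1, fun q => ?_, ?_⟩
    · obtain ⟨g, rfl⟩ := QuotientGroup.mk_surjective q
      exact h.2.1 g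
    · rw [← charDegree_inflate V χ']
      exact h.2.2
  cliff := fun U _ _ lam hl T _ hT hUT ψ hψ hψl hadm =>
    Helper3.ROCliff.realAdm_cliff U lam hl T hT hUT ψ hψ hψl hadm
  lin := by
    intro S S' _ _ ν ν' h hval s'
    obtain ⟨s, hs⟩ := hval s'
    rw [hs]
    exact h s

/-- Real-valued in the sense of the statement. -/
theorem realOdd_iff {G : Type u} [Group G] (χ : G → ℂ) :
    RealOdd χ ↔ (∀ g : G, (χ g).im = 0) ∧ Odd (charDegree χ) := by
  unfold RealOdd
  refine and_congr_left (fun _ => forall_congr' (fun g => ?_))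
  exact Complex.conj_eq_iff_im

/-- **Part 1 of S4581.** -/
theorem part_one {G : Type u} [Group G] [Finite G] [Group.IsSolvable G] (P : Sylow 2 G) :
    Nat.card {χ : IrrCharacter G // (∀ g : G, ((χ : G → ℂ) g).im = 0) ∧
        Odd (charDegree (χ : G → ℂ))} =
      Nat.card {ψ : IrrCharacter (Subgroup.normalizer ((P : Subgroup G) : Set G)) //
        (∀ g, ((ψ : Subgroup.normalizer ((P : Subgroup G) : Set G) → ℂ) g).im = 0) ∧
          Odd (charDegree (ψ : Subgroup.normalizer ((P : Subgroup G) : Set G) → ℂ))} := by
  have h := card_realOdd_eq realAdmClass P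
  rw [Nat.card_congr (Equiv.subtypeEquivRight (fun χ : IrrCharacter G =>
      (realOdd_iff (χ : G → ℂ)).symm)),
    Nat.card_congr (Equiv.subtypeEquivRight
      (fun ψ : IrrCharacter (Subgroup.normalizer ((P : Subgroup G) : Set G)) =>
      (realOdd_iff (ψ : Subgroup.normalizer ((P : Subgroup G) : Set G) → ℂ)).symm))]
  exact h

end Cfsg.Agent.Helper81.RO
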