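import Mathlib
import Cfsg.Agent.Helper81.RO9
import Cfsg.Agent.Helper81.ConjIrr
import Cfsg.Agent.Helper81.GlaubReal
import Cfsg.Agent.Helper80.RO_E3
import Cfsg.Agent.Helper95.RO_F1
import Cfsg.Agent.Helper3.RO_I5

/-!
# Real characters of odd degree: part 2 of S4581, given that the self-normalizing class is
admissible
-/

set_option autoImplicit false
set_option linter.unusedSectionVars false
set_option linter.style.haveILetI false

namespace Cfsg.Agent.Helper81.RO

open Cfsg
open scoped ComplexConjugate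

universe u

/-- The complex conjugate of a linear character of a finite group is its inverse. -/
theorem conj_linFun {S : Type u} [Group S] [Finite S] (μ : S →* ℂˣ) (s : S) :
    conj (Helper74.linFun μ s) = Helper74.linFun μ⁻¹ s := by
  show conj (((μ s : ℂˣ) : ℂ)) = (((μ⁻¹) s : ℂˣ) : ℂ)
  have h1 : ((μ s : ℂˣ) : ℂ) ^ (Nat.card S) = 1 := by
    rw [← Units.val_pow_eq_pow_val, ← map_pow, pow_card_eq_one', map_one, Units.val_one]
  have h2 := Complex.norm_eq_one_of_pow_eq_one h1 Nat.card_pos.ne'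
  rw [← Complex.inv_eq_conj h2, MonoidHom.inv_apply, Units.val_inv_eq_inv_val]

/-- If `χ` is real and `μ` has odd multiplicity in `χ ∘ ι`, so has `μ⁻¹`. -/
theorem oddMult_inv_of_real {S G : Type u} [Group S] [Group G] [Fintype S] (ι : S →* G)
    {χ : G → ℂ} (hreal : ∀ g, conj (χ g) = χ g) (μ : S →* ℂˣ) (h : OddMult ι χ μ) :
    OddMult ι χ μ⁻¹ := by
  obtain ⟨m, hm, h⟩ := h
  refine ⟨m, hm, ?_⟩
  have e1 : (fun s => χ (ι s)) = fun s => conj ((fun s => χ (ι s)) s) :=
    funext fun s => (hreal _).symm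
  have e2 : Helper74.linFun μ⁻¹ = fun s => conj (Helper74.linFun μ s) :=
    funext fun s => (conj_linFun μ s).symm
  calc classInner (fun s => χ (ι s)) (Helper74.linFun μ⁻¹)
      = classInner (fun s => conj ((fun s => χ (ι s)) s))
          (fun s => conj (Helper74.linFun μ s)) := by rw [← e1, ← e2]
    _ = conj (classInner (fun s => χ (ι s)) (Helper74.linFun μ)) :=
        Helper81.classInner_conj_conj _ _
    _ = m := by rw [h, Complex.conj_natCast]

/-- If the sign character `ν` has odd multiplicity in `χ ∘ ι`, it has in `χ̄ ∘ ι`. -/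
theorem oddMult_conj_of_sign {S G : Type u} [Group S] [Group G] [Fintype S] (ι : S →* G)
    {χ : G → ℂ} (ν : S →* ℂˣ) (hν : IsSign ν) (h : OddMult ι χ ν) :
    OddMult ι (fun g => conj (χ g)) ν := by
  obtain ⟨m, hm, h⟩ := h
  refine ⟨m, hm, ?_⟩
  have e2 : Helper74.linFun ν = fun s => conj (Helper74.linFun ν s) :=
    funext fun s => (hν.conj_eq s).symm
  calc classInner (fun s => conj (χ (ι s))) (Helper74.linFun ν)
      = classInner (fun s => conj ((fun s => χ (ι s)) s))
          (fun s => conj (Helper74.linFun ν s)) := by rw [← e2]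
    _ = conj (classInner (fun s => χ (ι s)) (Helper74.linFun ν)) :=
        Helper81.classInner_conj_conj _ _
    _ = m := by rw [h, Complex.conj_natCast]

/-- If one Sylow `2`-subgroup is self-normalizing, all `2`-subgroups of odd index are. -/
theorem selfNorm_of_normalizer_eq {G : Type u} [Group G] [Finite G] (P : Sylow 2 G)
    (h : Subgroup.normalizer ((P : Subgroup G) : Set G) = (P : Subgroup G)) : SelfNorm G := by
  have : Fact (Nat.Prime 2) := ⟨Nat.prime_two⟩
  intro Q hQ hidx x hx
  obtain ⟨g, hg⟩ := MulAction.exists_smul_eq G P (hQ.toSylow hidx)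
  have hmem : ∀ y : G, y ∈ Q ↔ g⁻¹ * y * g ∈ (P : Subgroup G) := by
    intro y
    have h1 : y ∈ Q ↔ y ∈ ((g • P : Sylow 2 G) : Subgroup G) := by rw [hg]; rfl
    rw [h1, Sylow.coe_subgroup_smul, Subgroup.mem_pointwise_smul_iff_inv_smul_mem]
    simp [MulAut.smul_def]
  rw [hmem]
  rw [← h, Subgroup.mem_normalizer_iff]
  intro p
  have hx' := Subgroup.mem_normalizer_iff.mp hx (g * p * g⁻¹)
  rw [hmem, hmem] at hx'
  have e1 : g⁻¹ * (g * p * g⁻¹) * g = p := by group
  have e2 : g⁻¹ * (x * (g * p * g⁻¹) * x⁻¹) * g = g⁻¹ * x * g * p * (g⁻¹ * x * g)⁻¹ := by group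
  rw [e1, e2] at hx'
  exact hx'

variable (CS : AdmClass SNAdm.{u} AnyAdm.{u})

include CS in
/-- **Part 2 of S4581**, given that the self-normalizing class is admissible. -/
theorem part_two_of {G : Type u} [Group G] [Finite G] [hsol : Group.IsSolvable G]
    (P : Sylow 2 G) :
    (∀ χ : IrrCharacter G, Odd (charDegree (χ : G → ℂ)) → ∀ g : G, ((χ : G → ℂ) g).im = 0) ↔
      (commutator (P : Subgroup G) = frattini (P : Subgroup G) ∧
        Subgroup.normalizer ((P : Subgroup G) : Set G) = (P : Subgroup G)) := by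
  classical
  have : Fact (Nat.Prime 2) := ⟨Nat.prime_two⟩
  haveI : Fintype G := Fintype.ofFinite G
  haveI : Fintype (P : Subgroup G) := Fintype.ofFinite _
  have hS : IsPGroup 2 (P : Subgroup G) := P.isPGroup'
  set ιG : (P : Subgroup G) →* G := (P : Subgroup G).subtype with hιG
  have hinjG : Function.Injective ιG := Subtype.val_injective
  have hidxG : ¬ 2 ∣ ιG.range.index := by
    rw [hιG, Subgroup.range_subtype]
    exact P.not_dvd_index
  have mainG := main CS (Nat.card G) G rfl hsol (P : Subgroup G) hS ιG hidxG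
  constructor
  · intro h
    have hN := Helper3.ROI5.normalizer_eq_of_all_odd_real P h
    have hSN : SelfNorm G := selfNorm_of_normalizer_eq P hN
    refine ⟨?_, hN⟩
    rw [Helper95.ROF1.commutator_eq_frattini_iff hS]
    intro μ x
    obtain ⟨χ, hodd, hm⟩ := Helper80.ROE.exists_odd_oddMult ιG hinjG hidxG μ
    have hreal : ∀ g, conj ((χ : G → ℂ) g) = (χ : G → ℂ) g :=
      fun g => Complex.conj_eq_iff_im.mpr (h χ hodd g)
    have hm' := oddMult_inv_of_real ιG hreal μ hm
    obtain ⟨n, h1, h2⟩ := (mainG μ trivial χ ⟨χ.2, hodd, hSN⟩ hm).1 μ⁻¹ trivial hm'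
    have hn : n ∈ Subgroup.normalizer ((P : Subgroup G) : Set G) := by
      apply Helper97.ROSQ.mem_normalizer_of_conj_mem (P : Subgroup G) n
      intro y hy
      obtain ⟨s', hs'⟩ := h1 ⟨y, hy⟩
      have e : n * y * n⁻¹ = (s' : G) := hs'.symm
      rw [e]
      exact s'.2
    rw [hN] at hn
    have h3 := h2 x (⟨n, hn⟩ * x * ⟨n, hn⟩⁻¹) (by simp [hιG])
    rw [MonoidHom.inv_apply, map_mul, map_mul, map_inv, mul_inv_cancel_comm] at h3
    exact mul_eq_one_iff_eq_inv.mpr h3.symm
  · rintro ⟨hF, hN⟩ χ hodd g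
    have hSN : SelfNorm G := selfNorm_of_normalizer_eq P hN
    have hsign := (Helper95.ROF1.commutator_eq_frattini_iff hS).mp hF
    obtain ⟨μ, hm⟩ := Helper80.ROE.exists_lin_oddMult hS ιG χ hodd
    have hμ : IsSign μ := hsign μ
    have hm' := oddMult_conj_of_sign ιG μ hμ hm
    have hdeg : charDegree (fun g => conj ((χ : G → ℂ) g)) = charDegree (χ : G → ℂ) := by
      unfold charDegree
      rw [Complex.conj_re]
    have hχbar : SNAdm G (fun g => conj ((χ : G → ℂ) g)) :=
      ⟨Helper81.isIrrCharacter_conj χ.2, by rw [hdeg]; exact hodd, hSN⟩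
    have h4 := (mainG μ trivial χ ⟨χ.2, hodd, hSN⟩ hm).2 _ hχbar hm'
    exact Complex.conj_eq_iff_im.mp (congrFun h4 g).symm

end Cfsg.Agent.Helper81.RO
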