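import Mathlib
import Cfsg.Agent.Helper81.RO10
import Cfsg.Agent.Helper95.RO_SK
import Cfsg.Agent.Helper52.RO_SC

/-!
# Real characters of odd degree: the self-normalizing class is admissible; part 2 of S4581
-/

set_option autoImplicit false
set_option linter.unusedSectionVars false

namespace Cfsg.Agent.Helper81.RO

open Cfsg
open scoped ComplexConjugate

universe u

/-- The self-normalizing class is admissible. -/
theorem snAdmClass : AdmClass SNAdm.{u} AnyAdm.{u} where
  irr := fun h => h.1
  ker := fun h M _ hM => Helper95.ROSK.selfNorm_ker h.2.2 h.1 h.2.1 M hM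
  quot := by
    intro G _ _ V _ χ' h
    refine ⟨Helper80.IsIrrCharacter.of_comp_surjective (QuotientGroup.mk' V)
      (QuotientGroup.mk'_surjective V) h.1, ?_, Helper97.ROSQ.selfNorm_quotient h.2.2 V⟩
    rw [← charDegree_inflate V χ']
    exact h.2.1
  cliff := Helper52.ROSC.snAdm_cliff
  lin := fun _ _ _ _ => trivial

/-- **Part 2 of S4581.** -/
theorem part_two {G : Type u} [Group G] [Finite G] [Group.IsSolvable G] (P : Sylow 2 G) :
    (∀ χ : IrrCharacter G, Odd (charDegree (χ : G → ℂ)) → ∀ g : G, ((χ : G → ℂ) g).im = 0) ↔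
      (commutator (P : Subgroup G) = frattini (P : Subgroup G) ∧
        Subgroup.normalizer ((P : Subgroup G) : Set G) = (P : Subgroup G)) :=
  part_two_of snAdmClass P

end Cfsg.Agent.Helper81.RO
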