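-- helper81 for helper84 (S2282), piece (EX): the three elements exist (verbatim skeleton statements).
import Mathlib
import Cfsg.Agent.Helper84.RUn.Defs
import Cfsg.Agent.Helper75.RUnUWA
import Cfsg.Agent.Helper41.RUnNH

set_option autoImplicit false
set_option linter.unusedSectionVars false

namespace Cfsg.Agent.Helper81.RUn

open Matrix Cfsg.Agent.Helper84.PSU Cfsg.Agent.Helper84.RUn

variable {K : Type*} [Field K] {j : ℕ}

local notation "Vec" => (I (j + 2) 1 → K)
local notation "Mat" => Matrix (I (j + 2) 1) (I (j + 2) 1) K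
local notation "Mk" => Matrix (Fin (j + 2)) (Fin (j + 2)) K

variable (bar : K →+* K) (hb : ∀ x, bar (bar x) = x)

set_option quotPrecheck false in
local notation "SUk" => ↥(SUm (j + 2) 1 bar)

theorem i2_ne_i1 : (i2 : Fin (j + 2)) ≠ i1 := by
  intro h
  have := congrArg Fin.val h
  exact absurd this (by show (1 : ℕ) ≠ 0; omega)

/-! ### (EX) the elements exist -/

include hb in
theorem exists_u {c : K} (hc : c + bar c + 1 = 0) : ∃ u : SUk, mt bar u = uM bar c := by
  have huu : hf bar (vE i1 : Vec) (vE i1) = 0 := hf_bv_ee bar i1 i1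
  have hyu : hf bar (-vF i2 : Vec) (vE i1) = 0 := by
    rw [hf_neg_left]
    unfold vF vE
    rw [hf_bv_fe, if_neg i2_ne_i1, neg_zero]
  have hcc : (0 : K) + bar 0 + hf bar (-vF i2 : Vec) (-vF i2) = 0 := by
    rw [hf_neg_left, hf_neg_right]
    unfold vF
    rw [hf_bv_ff, map_zero]
    simp
  have hU1 : IsU bar (uM bar c : Mat) :=
    IsU.mul bar (Cfsg.Agent.Helper75.RUn.isU_UWM bar hb hc) (isU_eichM bar hb huu hyu hcc)
  have hd1 : (uM bar c : Mat).det = 1 := by
    unfold uM A12M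
    rw [Matrix.det_mul, Cfsg.Agent.Helper75.RUn.det_UWM, det_eichM bar hb 0 huu hyu, one_mul]
  exact ⟨⟨⟨uM bar c, hd1⟩, hU1⟩, rfl⟩

include hb in
theorem exists_g {c : K} (hc : c + bar c + 1 = 0) : ∃ g : SUk, mt bar g = gM bar c := by
  have huu : hf bar (vE i1 : Vec) (vE i1) = 0 := hf_bv_ee bar i1 i1
  have hyu : hf bar ((dB K j) • vB : Vec) (vE i1) = 0 := by
    rw [hf_smul_left]
    unfold vB vE
    by_cases h : 1 ≤ j
    · rw [dif_pos h, hf_bv_ee, mul_zero]
    · rw [dif_neg h, hf_bv_we, mul_zero]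
  have hcc : (if 1 ≤ j then (0 : K) else c) + bar (if 1 ≤ j then (0 : K) else c) +
      hf bar ((dB K j) • vB : Vec) ((dB K j) • vB) = 0 := by
    rw [hf_smul_left, hf_smul_right]
    unfold vB dB
    by_cases h : 1 ≤ j
    · rw [dif_pos h, if_pos h, if_pos h, hf_bv_ee, map_zero]
      simp
    · rw [dif_neg h, if_neg h, if_neg h, hf_bv_ww, if_pos rfl, map_one, mul_one, mul_one]
      exact hc
  exact ⟨⟨⟨gM bar c, det_eichM bar hb _ huu hyu⟩, isU_eichM bar hb huu hyu hcc⟩, rfl⟩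

include hb in
theorem exists_h : ∃ h : SUk, mt bar h = (hM : Mat) :=
  ⟨⟨⟨hM, Cfsg.Agent.Helper41.RUn.det_hM⟩, Cfsg.Agent.Helper41.RUn.isU_hM bar hb⟩, rfl⟩

end Cfsg.Agent.Helper81.RUn
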