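import Mathlib
import Cfsg.Agent.Helper81.RealP1

/-!
# Real elements: group-theoretic lemmas

* `exists_two_elt_inverting`: a real element is inverted by a `2`-element;
* `real_mem_closure_two`: real elements lie in the subgroup generated by the `2`-elements;
* `exists_proper_normal_good_index`: a non-trivial finite group whose subgroup generated by
  `p`-elements is solvable has a proper normal subgroup of index prime to `p` or a power of `p`;
* `not_dvd_index_of_relIndex`, `index_eq_relIndex_of_sup_eq_top`: index bookkeeping.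
-/

set_option autoImplicit false

namespace Cfsg.Agent.Helper81

section

variable {G : Type*} [Group G]

/-- A real element is inverted by a `2`-element. -/
theorem exists_two_elt_inverting [Finite G] {x : G} (hx : IsConj x x⁻¹) :
    ∃ t ∈ pElts 2 G, t * x * t⁻¹ = x⁻¹ := by
  obtain ⟨g, hg⟩ := isConj_iff.mp hx
  have hφx : MulAut.conj g x = x⁻¹ := hg
  have hφ2 : ∀ j : ℕ, ((MulAut.conj g) ^ (2 * j)) x = x := by
    intro j
    induction j with
    | zero => simp
    | succ j ih =>
      have e : 2 * (j + 1) = 2 * j + 1 + 1 := by ring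
      rw [e, pow_succ, pow_succ, MulAut.mul_apply, MulAut.mul_apply, hφx, map_inv, hφx, inv_inv, ih]
  have hφodd : ∀ j : ℕ, ((MulAut.conj g) ^ (2 * j + 1)) x = x⁻¹ := by
    intro j
    rw [pow_succ, MulAut.mul_apply, hφx, map_inv, hφ2 j]
  have ho : orderOf g ≠ 0 := (orderOf_pos g).ne'
  obtain ⟨a, m, hm, ham⟩ := Nat.exists_eq_two_pow_mul_odd ho
  obtain ⟨j, hj⟩ := hm
  refine ⟨g ^ m, ?_, ?_⟩
  · have h1 : (g ^ m) ^ (2 ^ a) = 1 := by
      rw [← pow_mul, mul_comm, ← ham, pow_orderOf_eq_one]
    have h2 : orderOf (g ^ m) ∣ 2 ^ a := orderOf_dvd_of_pow_eq_one h1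
    obtain ⟨b, _, hb⟩ := (Nat.dvd_prime_pow Nat.prime_two).mp h2
    exact ⟨b, hb⟩
  · have h3 := hφodd j
    rw [← hj, ← map_pow] at h3
    exact h3

/-- Real elements lie in the subgroup generated by the `2`-elements. -/
theorem real_mem_closure_two [Finite G] {x : G} (hx : IsConj x x⁻¹) :
    x ∈ Subgroup.closure (pElts 2 G) := by
  obtain ⟨t, ht, htx⟩ := exists_two_elt_inverting hx
  have hKn : (Subgroup.closure (pElts 2 G)).Normal := closure_pElts_normal 2
  have htK : t ∈ Subgroup.closure (pElts 2 G) := Subgroup.subset_closure ht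
  have h2 : t * x⁻¹ * t⁻¹ = x := by
    calc t * x⁻¹ * t⁻¹ = (t * x * t⁻¹)⁻¹ := by group
      _ = x := by rw [htx, inv_inv]
  have hx2 : x * x ∈ Subgroup.closure (pElts 2 G) := by
    have h3 : x * x = (x * t * x⁻¹) * t⁻¹ := by
      calc x * x = x * (t * x⁻¹ * t⁻¹) := by rw [h2]
        _ = (x * t * x⁻¹) * t⁻¹ := by group
    rw [h3]
    exact Subgroup.mul_mem _ (hKn.conj_mem t htK x) (Subgroup.inv_mem _ htK)
  have hodd : Odd (Subgroup.closure (pElts 2 G)).index := by
    let S : Sylow 2 G := default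
    have h1 : (Subgroup.closure (pElts 2 G)).index ∣ (S : Subgroup G).index :=
      Subgroup.index_dvd_of_le (sylow_le_closure_pElts S)
    have h2 : ¬ 2 ∣ (S : Subgroup G).index := S.not_dvd_index
    rw [← Nat.not_even_iff_odd, even_iff_two_dvd]
    exact fun h => h2 (h.trans h1)
  obtain ⟨j, hj⟩ := hodd
  have h4 : x ^ (2 * j + 1) ∈ Subgroup.closure (pElts 2 G) := by
    rw [← hj]; exact Subgroup.pow_index_mem _ x
  have h5 : x = ((x * x) ^ j)⁻¹ * x ^ (2 * j + 1) := by
    rw [pow_succ, pow_mul, pow_two]; group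
  rw [h5]
  exact Subgroup.mul_mem _ (Subgroup.inv_mem _ (Subgroup.pow_mem _ hx2 j)) h4

/-- A non-trivial finite group whose subgroup generated by the `p`-elements is solvable has a
proper normal subgroup whose index is prime to `p` or a power of `p`. -/
theorem exists_proper_normal_good_index (p : ℕ) [hp : Fact p.Prime] [Finite G] [Nontrivial G]
    (hsolv : Group.IsSolvable ↥(Subgroup.closure (pElts p G))) :
    ∃ M : Subgroup G, M.Normal ∧ M ≠ ⊤ ∧ (¬ p ∣ M.index ∨ ∃ j : ℕ, M.index = p ^ j) := by
  by_cases h : Subgroup.closure (pElts p G) = ⊤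
  · have hs : Group.IsSolvable G := by
      have := hsolv
      refine Group.isSolvable_of_surjective (f := (Subgroup.closure (pElts p G)).subtype) ?_
      intro y
      exact ⟨⟨y, by rw [h]; exact Subgroup.mem_top y⟩, rfl⟩
    have hlt := Group.IsSolvable.commutator_lt_top_of_nontrivial G
    refine ⟨_root_.commutator G, inferInstance, hlt.ne, Or.inr ?_⟩
    have hpg : IsPGroup p (Abelianization G) := by
      intro a
      obtain ⟨g, rfl⟩ := QuotientGroup.mk_surjective a
      have hg : g ∈ Subgroup.closure (pElts p G) := by rw [h]; exact Subgroup.mem_top g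
      change ∃ k : ℕ, (Abelianization.of g) ^ p ^ k = 1
      induction hg using Subgroup.closure_induction with
      | mem y hy =>
        obtain ⟨k, hk⟩ := hy
        exact ⟨k, by rw [← map_pow, ← hk, pow_orderOf_eq_one, map_one]⟩
      | one => exact ⟨0, by simp⟩
      | mul y z _ _ hy hz =>
        obtain ⟨k, hk⟩ := hy
        obtain ⟨l, hl⟩ := hz
        refine ⟨k + l, ?_⟩
        rw [map_mul, mul_pow, pow_add, pow_mul, hk, one_pow, mul_comm (p ^ k), pow_mul, hl,
          one_pow, mul_one]
      | inv y _ hy =>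
        obtain ⟨k, hk⟩ := hy
        exact ⟨k, by rw [map_inv, inv_pow, hk, inv_one]⟩
    obtain ⟨j, hj⟩ := IsPGroup.iff_card.mp hpg
    exact ⟨j, hj⟩
  · exact ⟨_, closure_pElts_normal p, h, Or.inl not_dvd_index_closure_pElts⟩

theorem not_dvd_index_of_relIndex {p : ℕ} [hp : Fact p.Prime] (M C : Subgroup G)
    (hM : ¬ p ∣ M.index) (hC : ¬ p ∣ C.relIndex M) : ¬ p ∣ C.index := by
  intro h
  have h1 : C.index ∣ (C ⊓ M).index := Subgroup.index_dvd_of_le inf_le_left
  have h2 : (C ⊓ M).relIndex M * M.index = (C ⊓ M).index := Subgroup.relIndex_mul_index inf_le_right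
  rw [Subgroup.inf_relIndex_right] at h2
  have h3 : p ∣ C.relIndex M * M.index := by rw [h2]; exact h.trans h1
  rcases (Nat.Prime.dvd_mul hp.out).mp h3 with h4 | h4
  · exact hC h4
  · exact hM h4

theorem index_eq_relIndex_of_sup_eq_top [Finite G] (M C : Subgroup G) [hM : M.Normal]
    (hsup : M ⊔ C = ⊤) : C.index = C.relIndex M := by
  have h2 : (C ⊓ M).relIndex M * M.index = (C ⊓ M).index := Subgroup.relIndex_mul_index inf_le_right
  rw [Subgroup.inf_relIndex_right] at h2
  have h3 : (C ⊓ M).relIndex C * C.index = (C ⊓ M).index := Subgroup.relIndex_mul_index inf_le_left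
  rw [Subgroup.inf_relIndex_left] at h3
  have h4 : M.relIndex C = M.index := by
    rw [← Subgroup.relIndex_sup_left C M, hsup, Subgroup.relIndex_top_right]
  rw [h4] at h3
  have h5 : M.index ≠ 0 := Subgroup.index_ne_zero_of_finite
  have h6 : M.index * C.index = M.index * C.relIndex M := by
    rw [h3, ← h2, mul_comm]
  exact Nat.eq_of_mul_eq_mul_left (Nat.pos_of_ne_zero h5) h6

end

end Cfsg.Agent.Helper81
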