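import Mathlib
import Cfsg.Agent.Helper81.RealP1
import Cfsg.Agent.Helper81.RealP2
import Cfsg.Agent.Helper80.Pullback

/-!
# Real characters of degree prime to `p`: the core theorem

If `G` is generated by its `2`-elements, the subgroup generated by the `p`-elements is solvable
and every real-valued irreducible character of `G` has degree prime to `p`, then `G` has a normal
Sylow `p`-subgroup.
-/

set_option autoImplicit false
set_option linter.unusedSectionVars false

namespace Cfsg.Agent.Helper81

open Cfsg Cfsg.Agent.Helper15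
open scoped ComplexConjugate commutatorElement

universe u

/-- Every real-valued irreducible character has degree prime to `p`. -/
def RealPPrime (p : ℕ) (G : Type u) [Group G] : Prop :=
  ∀ χ : IrrCharacter G, (∀ g : G, ((χ : G → ℂ) g).im = 0) → ¬ p ∣ charDegree (χ : G → ℂ)

theorem RealPPrime.quotient {p : ℕ} {G : Type u} [Group G] (N : Subgroup G) [N.Normal]
    (h : RealPPrime p G) : RealPPrime p (G ⧸ N) := by
  intro β hβ
  have hirr : IsIrrCharacter G (fun x : G => (β : G ⧸ N → ℂ) (QuotientGroup.mk' N x)) :=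
    Helper80.IsIrrCharacter.comp_surjective β.2 (QuotientGroup.mk' N)
      (QuotientGroup.mk'_surjective N)
  have h1 := h ⟨_, hirr⟩ (fun g => hβ _)
  exact h1

/-- A non-trivial element of a finite abelian subgroup is detected by a linear character. -/
theorem exists_hom_apply_ne_one_at {G : Type*} [Group G] (N : Subgroup G) [Finite N]
    (hcomm : ∀ a ∈ N, ∀ b ∈ N, a * b = b * a) (m : N) (hm : m ≠ 1) :
    ∃ θ₀ : N →* ℂˣ, θ₀ m ≠ 1 := by
  let _ : CommGroup N :=
    { (inferInstance : Group N) with
      mul_comm := fun a b => Subtype.ext (hcomm a a.2 b b.2) }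
  have : NeZero (Monoid.exponent N) := ⟨Monoid.exponent_ne_zero_of_finite⟩
  exact CommGroup.exists_apply_ne_one_of_hasEnoughRootsOfUnity N ℂ hm

theorem centralizer_le_normalizer' {G : Type*} [Group G] (K : Subgroup G) :
    Subgroup.centralizer (K : Set G) ≤ Subgroup.normalizer (K : Set G) := by
  intro n hn
  rw [Subgroup.mem_normalizer_iff]
  have hc : ∀ y ∈ K, n * y * n⁻¹ = y := by
    intro y hy
    have := (Subgroup.mem_centralizer_iff.mp hn) y hy
    rw [← this]; group
  have hc' : ∀ y ∈ K, n⁻¹ * y * n = y := by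
    intro y hy
    have := (Subgroup.mem_centralizer_iff.mp hn) y hy
    rw [mul_assoc, this]; group
  intro y
  constructor
  · intro hy; rw [hc y hy]; exact hy
  · intro hy
    have h1 := hc' _ hy
    have e : n⁻¹ * (n * y * n⁻¹) * n = y := by group
    rw [e] at h1
    have h2 : n * y * n⁻¹ ∈ K := hy
    rw [← h1] at h2
    exact h2

section

variable {G : Type u} [Group G] [Finite G]

/-- If the abelian normal subgroup `N` is not centralized by some `s` with `s²` centralizing `N`,
then some non-trivial linear character of `N` is inverted by `s`. -/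
theorem exists_inverted_hom (N : Subgroup G) [hN : N.Normal]
    (hab : ∀ x ∈ N, ∀ y ∈ N, x * y = y * x) (s : G)
    (hs : s ∉ Subgroup.centralizer (N : Set G)) (hs2 : s * s ∈ Subgroup.centralizer (N : Set G)) :
    ∃ lam : N →* ℂˣ, lam ≠ 1 ∧
      ∀ n : N, lam ⟨s * (n : G) * s⁻¹, hN.conj_mem (n : G) n.2 s⟩ = (lam n)⁻¹ := by
  classical
  rw [Subgroup.mem_centralizer_iff] at hs
  push Not at hs
  obtain ⟨n₀, hn₀, hne⟩ := hs
  -- conjugation by `s` as an endomorphism of `N`
  let c : N →* N :=
    { toFun := fun n => ⟨s * (n : G) * s⁻¹, hN.conj_mem (n : G) n.2 s⟩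
      map_one' := by apply Subtype.ext; simp
      map_mul' := fun a b => by apply Subtype.ext; simp [mul_assoc] }
  have hc : ∀ n : N, ((c n : N) : G) = s * (n : G) * s⁻¹ := fun n => rfl
  have hcc : ∀ n : N, c (c n) = n := by
    intro n
    apply Subtype.ext
    rw [hc, hc]
    have h1 := (Subgroup.mem_centralizer_iff.mp hs2) (n : G) n.2
    calc s * (s * (n : G) * s⁻¹) * s⁻¹ = (s * s) * (n : G) * (s * s)⁻¹ := by group
      _ = (n : G) * (s * s) * (s * s)⁻¹ := by rw [h1]
      _ = (n : G) := by group
  let m : N := ⟨n₀, hn₀⟩⁻¹ * c ⟨n₀, hn₀⟩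
  have hm1 : m ≠ 1 := by
    intro h1
    apply hne
    have h2 : c ⟨n₀, hn₀⟩ = ⟨n₀, hn₀⟩ := by
      have := congrArg (fun x : N => (⟨n₀, hn₀⟩ : N) * x) h1
      simpa [m] using this
    have h3 := congrArg (fun x : N => (x : G)) h2
    simp only [hc] at h3
    calc n₀ * s = s * n₀ * s⁻¹ * s := by rw [h3]
      _ = s * n₀ := by group
  obtain ⟨μ, hμ⟩ := exists_hom_apply_ne_one_at N hab m hm1
  refine ⟨μ⁻¹ * μ.comp c, ?_, ?_⟩
  · intro h1
    apply hμ
    have h2 := congrArg (fun f : N →* ℂˣ => f ⟨n₀, hn₀⟩) h1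
    simp only [MonoidHom.mul_apply, MonoidHom.inv_apply, MonoidHom.comp_apply,
      MonoidHom.one_apply] at h2
    rw [map_mul, map_inv]
    exact h2
  · intro n
    have h1 : (⟨s * (n : G) * s⁻¹, hN.conj_mem (n : G) n.2 s⟩ : N) = c n := rfl
    rw [h1]
    simp only [MonoidHom.mul_apply, MonoidHom.inv_apply, MonoidHom.comp_apply, hcc]
    rw [mul_inv, inv_inv, mul_comm]

/-- **Core theorem**. -/
theorem sylow_normal_of_realPPrime (p : ℕ) [hp : Fact p.Prime] :
    ∀ (n : ℕ) (G : Type u) [Group G] [Finite G], Nat.card G = n →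
      Subgroup.closure (pElts 2 G) = ⊤ →
      Group.IsSolvable ↥(Subgroup.closure (pElts p G)) →
      RealPPrime p G → ∀ P : Sylow p G, (P : Subgroup G).Normal := by
  intro n
  induction n using Nat.strong_induction_on with
  | _ n ih =>
  intro G _ _ hcard hgen hsolv hreal P
  classical
  by_cases htriv : Subsingleton G
  · have : (P : Subgroup G) = ⊥ := Subsingleton.elim _ _
    rw [this]; infer_instance
  have hnt : Nontrivial G := not_subsingleton_iff_nontrivial.mp htriv
  -- a minimal normal subgroup
  obtain ⟨N, hN⟩ := exists_minimal_of_wellFoundedLT (fun N : Subgroup G => N.Normal ∧ N ≠ ⊥)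
    ⟨⊤, inferInstance, top_ne_bot⟩
  have hNn : N.Normal := hN.prop.1
  have hN1 : N ≠ ⊥ := hN.prop.2
  have hNmin : ∀ M : Subgroup G, M.Normal → M ≤ N → M = ⊥ ∨ M = N := by
    intro M hM hMN
    by_cases h : M = ⊥
    · exact Or.inl h
    · exact Or.inr (le_antisymm hMN (hN.le_of_le ⟨hM, h⟩ hMN))
  -- the quotient
  have hlt : Nat.card (G ⧸ N) < n := by
    have h1 : Nat.card G = Nat.card (G ⧸ N) * Nat.card N :=
      Subgroup.card_eq_card_quotient_mul_card_subgroup N
    have h2 : 1 < Nat.card N := by
      rw [Finite.one_lt_card_iff_nontrivial, Subgroup.nontrivial_iff_ne_bot]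
      exact hN1
    have h3 : 0 < Nat.card (G ⧸ N) := Nat.card_pos
    rw [← hcard, h1]
    nlinarith
  have hQ := ih (Nat.card (G ⧸ N)) hlt (G ⧸ N) rfl (closure_pElts_quotient_eq_top 2 N hgen)
    (isSolvable_closure_pElts_quotient p N hsolv) (hreal.quotient N)
  let Pbar : Sylow p (G ⧸ N) := P.mapSurjective (QuotientGroup.mk'_surjective N)
  have hPbar : (Pbar : Subgroup (G ⧸ N)).Normal := hQ Pbar
  set L : Subgroup G := (P : Subgroup G) ⊔ N with hL
  have hLn : L.Normal := by
    have h1 : L = (Pbar : Subgroup (G ⧸ N)).comap (QuotientGroup.mk' N) := by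
      rw [Sylow.coe_mapSurjective, Subgroup.comap_map_eq, QuotientGroup.ker_mk']
    rw [h1]
    exact hPbar.comap _
  have hPL : (P : Subgroup G) ≤ L := le_sup_left
  -- Frattini
  have hfrat : Subgroup.normalizer ((P : Subgroup G) : Set G) ⊔ L = ⊤ := by
    have h1 := Sylow.normalizer_sup_eq_top (P.subtype hPL)
    have h2 : ((P.subtype hPL : Sylow p L) : Subgroup L).map L.subtype = (P : Subgroup G) := by
      rw [Sylow.coe_subtype, Subgroup.subgroupOf_map_subtype, inf_of_le_left hPL]
    rwa [h2] at h1
  have hsupNH : N ⊔ Subgroup.normalizer ((P : Subgroup G) : Set G) = ⊤ := by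
    rw [eq_top_iff, ← hfrat, hL]
    refine sup_le le_sup_right (sup_le ?_ le_sup_left)
    exact Subgroup.le_normalizer.trans le_sup_right
  have hsuff : N ≤ Subgroup.normalizer ((P : Subgroup G) : Set G) → (P : Subgroup G).Normal := by
    intro h
    have h1 : L ≤ Subgroup.normalizer ((P : Subgroup G) : Set G) := sup_le Subgroup.le_normalizer h
    rw [← Subgroup.normalizer_eq_top_iff, eq_top_iff, ← hfrat]
    exact sup_le le_rfl h1
  -- the subgroup generated by `p`-elements
  have hMpn : (Subgroup.closure (pElts p G)).Normal := closure_pElts_normal p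
  have hPMp : (P : Subgroup G) ≤ Subgroup.closure (pElts p G) := sylow_le_closure_pElts P
  have hinfn : (N ⊓ Subgroup.closure (pElts p G)).Normal := Subgroup.normal_inf_normal _ _
  rcases hNmin _ hinfn inf_le_left with hbot | hfull
  · -- `N` centralizes `P`
    apply hsuff
    intro x hx
    rw [Subgroup.mem_normalizer_iff]
    have hcomm : ∀ y ∈ (P : Subgroup G), x * y * x⁻¹ = y := by
      intro y hy
      have := Subgroup.commute_of_normal_of_disjoint N _ hNn hMpn (disjoint_iff.mpr hbot) x y hx
        (hPMp hy)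
      rw [this.eq]; group
    intro y
    constructor
    · intro hy; rw [hcomm y hy]; exact hy
    · intro hy
      have h1 : x⁻¹ * (x * y * x⁻¹) * x = y := by group
      have h2 := Subgroup.commute_of_normal_of_disjoint N _ hNn hMpn (disjoint_iff.mpr hbot) x⁻¹
        (x * y * x⁻¹) (N.inv_mem hx) (hPMp hy)
      rw [← h1, h2.eq]
      have : x * y * x⁻¹ * x⁻¹ * x = x * y * x⁻¹ := by group
      rw [this]; exact hy
  · -- `N` is abelian
    have hNle : N ≤ Subgroup.closure (pElts p G) := by
      rw [← hfull]; exact inf_le_right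
    have hNsolv : Group.IsSolvable ↥N := by
      have := hsolv
      exact Group.isSolvable_of_isSolvable_injective (Subgroup.inclusion_injective hNle)
    have hab := comm_of_minimal_normal_solvable N hN1 hNmin hNsolv
    set H := Subgroup.normalizer ((P : Subgroup G) : Set G) with hH
    have hDn : (N ⊓ H).Normal := by
      refine normal_of_le_abelian_of_sup_eq_top N H (N ⊓ H) hab hsupNH inf_le_left ?_
      intro h hh k hk
      exact ⟨hNn.conj_mem k hk.1 h, H.mul_mem (H.mul_mem hh hk.2) (H.inv_mem hh)⟩
    rcases hNmin _ hDn inf_le_left with hD | hD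
    swap
    · apply hsuff
      rw [← hD]; exact inf_le_right
    exfalso
    -- `[N, P]` is normal in `G`
    have hCn : (⁅N, (P : Subgroup G)⁆ : Subgroup G).Normal := by
      refine normal_of_le_abelian_of_sup_eq_top N H _ hab hsupNH
        (Subgroup.commutator_le_left N (P : Subgroup G)) ?_
      intro h hh k hk
      rw [Subgroup.commutator_def] at hk ⊢
      induction hk using Subgroup.closure_induction with
      | mem y hy =>
        obtain ⟨a, ha, b, hb, rfl⟩ := hy
        apply Subgroup.subset_closure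
        refine ⟨h * a * h⁻¹, hNn.conj_mem a ha h, h * b * h⁻¹,
          (Subgroup.mem_normalizer_iff.mp hh b).mp hb, ?_⟩
        simp only [commutatorElement_def]
        group
      | one => simp
      | mul y z _ _ hy hz =>
        have : h * (y * z) * h⁻¹ = (h * y * h⁻¹) * (h * z * h⁻¹) := by group
        rw [this]; exact Subgroup.mul_mem _ hy hz
      | inv y _ hy =>
        have : h * y⁻¹ * h⁻¹ = (h * y * h⁻¹)⁻¹ := by group
        rw [this]; exact Subgroup.inv_mem _ hy
    have hC : ⁅N, (P : Subgroup G)⁆ = N := by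
      rcases hNmin _ hCn (Subgroup.commutator_le_left N (P : Subgroup G)) with h | h
      · exfalso
        have h1 : N ≤ Subgroup.centralizer ((P : Subgroup G) : Set G) :=
          Subgroup.commutator_eq_bot_iff_le_centralizer.mp h
        have h2 : N ≤ H := h1.trans (centralizer_le_normalizer' _)
        apply hN1
        rw [eq_bot_iff, ← hD]
        exact le_inf le_rfl h2
      · exact h
    -- `P`-invariant linear characters of `N` are trivial
    have hinv : ∀ lam : N →* ℂˣ,
        (∀ x ∈ (P : Subgroup G), ∀ n : N,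
          lam ⟨x * (n : G) * x⁻¹, hNn.conj_mem (n : G) n.2 x⟩ = lam n) → lam = 1 := by
      intro lam hlam
      have hle : ⁅N, (P : Subgroup G)⁆ ≤ lam.ker.map N.subtype := by
        rw [Subgroup.commutator_le]
        intro a ha b hb
        have hmem : b * a⁻¹ * b⁻¹ ∈ N := hNn.conj_mem _ (N.inv_mem ha) b
        refine ⟨(⟨a, ha⟩ : N) * ⟨b * a⁻¹ * b⁻¹, hmem⟩, ?_, ?_⟩
        · rw [SetLike.mem_coe, MonoidHom.mem_ker, map_mul]
          have h1 := hlam b hb ⟨a⁻¹, N.inv_mem ha⟩
          have h2 : lam ⟨b * a⁻¹ * b⁻¹, hmem⟩ = lam ⟨a⁻¹, N.inv_mem ha⟩ := h1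
          rw [h2, ← map_mul]
          have : (⟨a, ha⟩ : N) * ⟨a⁻¹, N.inv_mem ha⟩ = 1 := by
            apply Subtype.ext; simp
          rw [this, map_one]
        · simp only [Subgroup.coe_subtype, Subgroup.coe_mul, commutatorElement_def]
          group
      rw [hC] at hle
      ext n
      obtain ⟨y, hy, hyn⟩ := hle n.2
      have hyn' : y = n := Subtype.ext hyn
      rw [← hyn']
      have := MonoidHom.mem_ker.mp hy
      rw [this]; rfl
    -- a `2`-element not centralizing `N`
    have hncent : ¬ (∀ t ∈ pElts 2 G, t ∈ Subgroup.centralizer (N : Set G)) := by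
      intro hall
      have h1 : Subgroup.closure (pElts 2 G) ≤ Subgroup.centralizer (N : Set G) :=
        (Subgroup.closure_le _).mpr hall
      rw [hgen, top_le_iff] at h1
      have h2 : N ≤ Subgroup.centralizer ((P : Subgroup G) : Set G) := by
        intro n hn
        rw [Subgroup.mem_centralizer_iff]
        intro y _
        have hy : y ∈ Subgroup.centralizer (N : Set G) := by rw [h1]; exact Subgroup.mem_top y
        exact ((Subgroup.mem_centralizer_iff.mp hy) n hn).symm
      have h3 : N ≤ H := h2.trans (centralizer_le_normalizer' _)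
      apply hN1
      rw [eq_bot_iff, ← hD]
      exact le_inf le_rfl h3
    push Not at hncent
    obtain ⟨t, ⟨k, hk⟩, htc⟩ := hncent
    obtain ⟨s, hs, hs2⟩ := exists_sq_mem_centralizer N t k hk htc
    obtain ⟨lam, hlam1, hlams⟩ := exists_inverted_hom N hab s hs hs2
    let _ := Fintype.ofFinite G
    let _ : Fintype N := Fintype.ofFinite N
    obtain ⟨χ, hχreal, hχne, hχdeg⟩ :=
      exists_real_irr_of_complement N H hab hD hsupNH lam s hlams
    have hre : ∀ g : G, ((χ : G → ℂ) g).im = 0 := (irrConj_eq_self_iff χ).mp hχreal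
    apply hreal χ hre
    rw [hχdeg]
    by_contra hnd
    obtain ⟨y, hy⟩ := exists_conj_mem_of_not_dvd_index (P : Subgroup G) P.isPGroup' _ hnd
    -- the conjugate character `lam'` is `P`-invariant
    let c : N →* N :=
      { toFun := fun n => ⟨y⁻¹ * (n : G) * y, by
          have := hNn.conj_mem (n : G) n.2 y⁻¹
          rwa [inv_inv] at this⟩
        map_one' := by apply Subtype.ext; simp
        map_mul' := fun a b => by apply Subtype.ext; simp [mul_assoc] }
    have hc : ∀ n : N, ((c n : N) : G) = y⁻¹ * (n : G) * y := fun n => rfl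
    have hlam' : lam.comp c = 1 := by
      apply hinv
      intro x hx n
      have h1 := hy x hx
      rw [mem_inertia_iff] at h1
      have h2 := h1 (c n)
      have h3 : lam ⟨y⁻¹ * x * y * ((c n : N) : G) * (y⁻¹ * x * y)⁻¹,
          hNn.conj_mem _ (c n).2 _⟩ = lam (c n) := Units.ext h2
      simp only [MonoidHom.comp_apply]
      rw [← h3]
      congr 1
      apply Subtype.ext
      rw [hc]
      show y⁻¹ * (x * (n : G) * x⁻¹) * y = y⁻¹ * x * y * (y⁻¹ * (n : G) * y) * (y⁻¹ * x * y)⁻¹
      group
    apply hlam1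
    ext n
    have hn1 : y * (n : G) * y⁻¹ ∈ N := hNn.conj_mem (n : G) n.2 y
    have h4 := congrArg (fun f : N →* ℂˣ => f ⟨y * (n : G) * y⁻¹, hn1⟩) hlam'
    simp only [MonoidHom.comp_apply, MonoidHom.one_apply] at h4
    have h5 : c ⟨y * (n : G) * y⁻¹, hn1⟩ = n := by
      apply Subtype.ext
      rw [hc]
      show y⁻¹ * (y * (n : G) * y⁻¹) * y = (n : G)
      group
    rw [h5] at h4
    rw [h4]; rfl

end

end Cfsg.Agent.Helper81
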