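import Mathlib
import Cfsg.Agent.Helper81.RealP3

/-!
# Real characters of degree prime to `p`: passing to `O^{2'}(G)`

* `RealPPrime.of_odd_index_normal`: the hypothesis passes to normal subgroups of odd index;
* `odd_index_closure_two`: the subgroup generated by the `2`-elements has odd index;
* `closure_pElts_subgroup_eq_top`: the subgroup generated by the `q`-elements of `G` is generated
  by its own `q`-elements;
* `isSolvable_closure_pElts_subgroup`: solvability of the subgroup generated by `p`-elements
  passes to subgroups;
* `sylow_normal_closure_two`: **Theorem**: `O^{2'}(G)` has a normal Sylow `p`-subgroup.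
-/

set_option autoImplicit false
set_option linter.unusedSectionVars false

namespace Cfsg.Agent.Helper81

open Cfsg Cfsg.Agent.Helper15
open scoped ComplexConjugate

universe u

section

variable {G : Type u} [Group G] [Finite G]

theorem RealPPrime.of_odd_index_normal {p : ℕ} (K : Subgroup G) [hK : K.Normal]
    (hodd : Odd K.index) (h : RealPPrime p G) : RealPPrime p ↥K := by
  classical
  let _ := Fintype.ofFinite G
  let _ : Fintype K := Fintype.ofFinite K
  intro θ hθ hdvd
  obtain ⟨χ, hχreal, hχne⟩ :=
    exists_real_over_of_odd_index K hodd θ ((irrConj_eq_self_iff θ).mpr hθ)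
  apply h χ ((irrConj_eq_self_iff χ).mp hχreal)
  obtain ⟨e, _, hχ1, _⟩ := Helper74.clifford_degree_data K χ.2 θ.2 hχne
  have h1 := Helper74.charDegree_cast (Helper74.irr_isCharacter χ)
  have h2 := Helper74.charDegree_cast (Helper74.irr_isCharacter θ)
  rw [hχ1, ← h2] at h1
  have h3 : charDegree (χ : G → ℂ) =
      e * (conjOrbit K (θ : K → ℂ)).card * charDegree (θ : K → ℂ) := by
    exact_mod_cast h1
  rw [h3]
  exact Dvd.dvd.mul_left hdvd _

theorem odd_index_closure_two : Odd (Subgroup.closure (pElts 2 G)).index := by
  let S : Sylow 2 G := default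
  have h1 : (Subgroup.closure (pElts 2 G)).index ∣ (S : Subgroup G).index :=
    Subgroup.index_dvd_of_le (sylow_le_closure_pElts S)
  have h2 : ¬ 2 ∣ (S : Subgroup G).index := S.not_dvd_index
  rw [← Nat.not_even_iff_odd, even_iff_two_dvd]
  exact fun h => h2 (h.trans h1)

omit [Finite G] in
theorem closure_pElts_subgroup_eq_top (q : ℕ) :
    Subgroup.closure (pElts q ↥(Subgroup.closure (pElts q G))) = ⊤ := by
  have h := Subgroup.closure_closure_coe_preimage (k := pElts q G)
  have h2 : pElts q ↥(Subgroup.closure (pElts q G)) =
      ((↑) : Subgroup.closure (pElts q G) → G) ⁻¹' pElts q G := by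
    ext x
    constructor
    · rintro ⟨k, hk⟩
      exact ⟨k, by rw [← hk]; exact Subgroup.orderOf_coe x⟩
    · rintro ⟨k, hk⟩
      exact ⟨k, by rw [← hk]; exact (Subgroup.orderOf_coe x).symm⟩
  rw [h2]
  exact h

omit [Finite G] in
theorem isSolvable_closure_pElts_subgroup (p : ℕ) (K : Subgroup G)
    (h : Group.IsSolvable ↥(Subgroup.closure (pElts p G))) :
    Group.IsSolvable ↥(Subgroup.closure (pElts p ↥K)) := by
  have := h
  have hle : (Subgroup.closure (pElts p ↥K)).map K.subtype ≤ Subgroup.closure (pElts p G) := by
    rw [MonoidHom.map_closure]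
    apply Subgroup.closure_mono
    rintro _ ⟨x, ⟨k, hk⟩, rfl⟩
    exact ⟨k, by rw [← hk]; exact Subgroup.orderOf_coe x⟩
  let f : ↥(Subgroup.closure (pElts p ↥K)) →* ↥(Subgroup.closure (pElts p G)) :=
    (K.subtype.comp (Subgroup.closure (pElts p ↥K)).subtype).codRestrict _
      (fun x => hle ⟨(x : ↥K), x.2, rfl⟩)
  have hf : Function.Injective f := by
    intro a b hab
    have h1 := congrArg (fun z : ↥(Subgroup.closure (pElts p G)) => (z : G)) hab
    exact Subtype.ext (Subtype.ext h1)
  exact Group.isSolvable_of_isSolvable_injective hf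

/-- **Theorem** (Isaacs–Navarro): if the subgroup generated by the `p`-elements is solvable and
every real-valued irreducible character has degree prime to `p`, then the subgroup generated by
the `2`-elements has a normal Sylow `p`-subgroup. -/
theorem sylow_normal_closure_two (p : ℕ) [Fact p.Prime]
    (hsolv : Group.IsSolvable ↥(Subgroup.closure (pElts p G))) (hreal : RealPPrime p G)
    (Q : Sylow p ↥(Subgroup.closure (pElts 2 G))) :
    (Q : Subgroup ↥(Subgroup.closure (pElts 2 G))).Normal := by
  have hKn : (Subgroup.closure (pElts 2 G)).Normal := closure_pElts_normal 2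
  exact sylow_normal_of_realPPrime p _ ↥(Subgroup.closure (pElts 2 G)) rfl
    (closure_pElts_subgroup_eq_top 2) (isSolvable_closure_pElts_subgroup p _ hsolv)
    (hreal.of_odd_index_normal _ odd_index_closure_two) Q

end

end Cfsg.Agent.Helper81
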