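import Mathlib
import Cfsg.Agent.Helper81.RealP4
import Cfsg.Agent.S4866

/-!
# Real classes of a normal subgroup of `p`-power index

`M ⊴ G` of odd `p`-power index, every real-valued irreducible character of `G` of degree prime to
`p`.  Then every real-valued irreducible character of `M` is `G`-invariant, hence (Brauer's
permutation lemma) every real class of `M` is `G`-invariant, and `G = M C_G(x)` for every element
`x` of `M` that is real in `M`.
-/

set_option autoImplicit false
set_option linter.unusedSectionVars false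

namespace Cfsg.Agent.Helper81

open Cfsg Cfsg.Agent.Helper15
open scoped ComplexConjugate

universe u

attribute [local instance] Helper81.irrMulAction Helper81.clsMulAction

section

variable {G : Type u} [Group G] [Finite G] (M : Subgroup G) [hM : M.Normal]

theorem smul_real_irr_eq_of_index_pow {p : ℕ} [hp : Fact p.Prime] (hreal : RealPPrime p G)
    (hodd : Odd M.index) (hidx : ∃ j : ℕ, M.index = p ^ j) (θ : IrrCharacter M)
    (hθ : irrConj M θ = θ) (g : G) : g • θ = θ := by
  classical
  let _ := Fintype.ofFinite G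
  let _ : Fintype M := Fintype.ofFinite M
  obtain ⟨χ, hχreal, hχne⟩ := exists_real_over_of_odd_index M hodd θ hθ
  have hnd := hreal χ ((irrConj_eq_self_iff χ).mp hχreal)
  obtain ⟨e, _, hχ1, hdvd⟩ := Helper74.clifford_degree_data M χ.2 θ.2 hχne
  have h1 := Helper74.charDegree_cast (Helper74.irr_isCharacter χ)
  have h2 := Helper74.charDegree_cast (Helper74.irr_isCharacter θ)
  rw [hχ1, ← h2] at h1
  have h3 : charDegree (χ : G → ℂ) =
      e * (conjOrbit M (θ : M → ℂ)).card * charDegree (θ : M → ℂ) := by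
    exact_mod_cast h1
  have h4 : ¬ p ∣ (conjOrbit M (θ : M → ℂ)).card := by
    intro h
    apply hnd
    rw [h3]
    exact Dvd.dvd.mul_right (Dvd.dvd.mul_left h _) _
  obtain ⟨j, hj⟩ := hidx
  have h5 : (conjOrbit M (θ : M → ℂ)).card ∣ p ^ j := by
    rw [← hj]; exact (Dvd.intro_left _ rfl).trans hdvd
  obtain ⟨i, _, hi⟩ := (Nat.dvd_prime_pow hp.out).mp h5
  have hi0 : i = 0 := by
    by_contra h
    apply h4
    rw [hi]
    exact dvd_pow_self p h
  rw [hi0, pow_zero, card_conjOrbit, Subgroup.index_eq_one] at hi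
  have hg : g⁻¹ ∈ inertia M (θ : M → ℂ) := by rw [hi]; exact Subgroup.mem_top _
  apply Subtype.ext
  exact hg

theorem smul_real_cls_eq_of_index_pow {p : ℕ} [hp : Fact p.Prime] (hreal : RealPPrime p G)
    (hodd : Odd M.index) (hidx : ∃ j : ℕ, M.index = p ^ j) (c : ConjClasses M)
    (hc : clsInv M c = c) (g : G) : g • c = c := by
  have : Finite (IrrCharacter M) := Helper79.irr_finite'
  have hcount : ∀ g' : G, Nat.card (MulAction.fixedBy (S4866.realIrr M) g') =
      Nat.card (MulAction.fixedBy (S4866.realCls M) g') := by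
    intro g'
    rw [S4866.card_fixedBy_realIrr M hodd g', S4866.card_fixedBy_realCls M hodd g',
      S4866.card_fix_eq M g']
  have hA : ∀ g' : G, MulAction.fixedBy (S4866.realIrr M) g' = Set.univ := by
    intro g'
    ext ⟨θ, hθ⟩
    simp only [MulAction.mem_fixedBy, Set.mem_univ, iff_true]
    apply Subtype.ext
    exact smul_real_irr_eq_of_index_pow M hreal hodd hidx θ hθ g'
  have hB1 : MulAction.fixedBy (S4866.realCls M) (1 : G) = Set.univ := by
    ext y
    simp
  have h2 : Nat.card (MulAction.fixedBy (S4866.realCls M) g) =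
      Nat.card (Set.univ : Set (S4866.realCls M)) := by
    rw [← hcount g, hA g, ← hB1, ← hcount 1, hA 1]
  have h3 : MulAction.fixedBy (S4866.realCls M) g = Set.univ := by
    apply Set.eq_of_subset_of_ncard_le (Set.subset_univ _) _ (Set.toFinite _)
    rw [← Nat.card_coe_set_eq, ← Nat.card_coe_set_eq, h2]
  have h4 : (⟨c, hc⟩ : S4866.realCls M) ∈ MulAction.fixedBy (S4866.realCls M) g := by
    rw [h3]; exact Set.mem_univ _
  exact congrArg Subtype.val h4

theorem sup_centralizer_eq_top_of_index_pow {p : ℕ} [hp : Fact p.Prime] (hreal : RealPPrime p G)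
    (hodd : Odd M.index) (hidx : ∃ j : ℕ, M.index = p ^ j) (x : G) (hxM : x ∈ M)
    (hx : IsConj (⟨x, hxM⟩ : M) (⟨x, hxM⟩ : M)⁻¹) :
    M ⊔ Subgroup.centralizer ({x} : Set G) = ⊤ := by
  rw [eq_top_iff]
  intro g _
  have h1 := smul_real_cls_eq_of_index_pow M hreal hodd hidx (ConjClasses.mk ⟨x, hxM⟩)
    ((clsInv_eq_self_iff _).mpr hx) g
  rw [clsMulAction_smul_mk, ConjClasses.mk_eq_mk_iff_isConj, isConj_iff] at h1
  obtain ⟨m, hm⟩ := h1
  have hm' : (m : G) * (g * x * g⁻¹) * (m : G)⁻¹ = x := congrArg Subtype.val hm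
  have hc : (m : G) * g ∈ Subgroup.centralizer ({x} : Set G) := by
    rw [Subgroup.mem_centralizer_iff]
    intro h hh
    rw [Set.mem_singleton_iff.mp hh]
    calc x * (m * g) = ((m : G) * (g * x * g⁻¹) * (m : G)⁻¹) * (m * g) := by rw [hm']
      _ = m * g * x := by group
  have e : g = (m : G)⁻¹ * ((m : G) * g) := by group
  rw [e]
  exact Subgroup.mul_mem _ (Subgroup.mem_sup_left (M.inv_mem m.2)) (Subgroup.mem_sup_right hc)

end

end Cfsg.Agent.Helper81
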