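import Mathlib
import Cfsg.Agent.Helper81.RealP4

/-!
# Real characters of degree prime to `p`: the `p`-core over `O^{2'}(G)`

`normal_of_relIndex_pow`: if the subgroup generated by the `p`-elements of `G` is solvable, every
real-valued irreducible character has degree prime to `p`, and `U ⊴ G` contains the subgroup `K`
generated by the `2`-elements with `|U : K|` a power of `p`, then every `p`-subgroup of `U` of
index prime to `p` in `U` is normal in `G`.
-/

set_option autoImplicit false
set_option linter.unusedSectionVars false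

namespace Cfsg.Agent.Helper81

open Cfsg Cfsg.Agent.Helper15
open scoped ComplexConjugate commutatorElement

universe u

section

variable {G : Type u} [Group G] [Finite G]

/-- The subgroup generated by the `p`-elements of a quotient is the image of the subgroup generated
by the `p`-elements. -/
theorem closure_pElts_quotient_eq (p : ℕ) [hp : Fact p.Prime] (N : Subgroup G) [N.Normal] :
    Subgroup.closure (pElts p (G ⧸ N)) =
      (Subgroup.closure (pElts p G)).map (QuotientGroup.mk' N) := by
  apply le_antisymm (closure_pElts_quotient_le p N)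
  rw [MonoidHom.map_closure, Subgroup.closure_le]
  rintro _ ⟨g, ⟨k, hk⟩, rfl⟩
  apply Subgroup.subset_closure
  have hdvd : orderOf (QuotientGroup.mk' N g) ∣ p ^ k := by
    rw [← hk]; exact orderOf_map_dvd _ g
  obtain ⟨j, _, hj⟩ := (Nat.dvd_prime_pow hp.out).mp hdvd
  exact ⟨j, hj⟩

/-- A normal `p`-subgroup inside `U` lies in every `p`-subgroup of `U` of index prime to `p`. -/
theorem le_of_isPGroup_normal {p : ℕ} [hp : Fact p.Prime] (U R N : Subgroup G) (hRU : R ≤ U)
    (hRp : IsPGroup p R) (hRi : ¬ p ∣ R.relIndex U) (hNU : N ≤ U) [hN : N.Normal]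
    (hNp : IsPGroup p N) : N ≤ R := by
  have hsup : IsPGroup p ↥(R ⊔ N) := IsPGroup.to_sup_of_normal_right hRp hNp
  have hle : R ⊔ N ≤ U := sup_le hRU hNU
  obtain ⟨j, hj⟩ := IsPGroup.iff_card.mp hsup
  have h1 : R.relIndex (R ⊔ N) ∣ p ^ j := by
    rw [← hj]; exact Subgroup.relIndex_dvd_card _ _
  obtain ⟨i, _, hi⟩ := (Nat.dvd_prime_pow hp.out).mp h1
  have h2 : R.relIndex (R ⊔ N) ∣ R.relIndex U := by
    rw [← Subgroup.relIndex_mul_relIndex R (R ⊔ N) U le_sup_left hle]
    exact dvd_mul_right _ _
  have hi0 : i = 0 := by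
    by_contra h
    apply hRi
    refine dvd_trans ?_ h2
    rw [hi]
    exact dvd_pow_self p h
  rw [hi0, pow_zero, Subgroup.relIndex_eq_one] at hi
  exact le_sup_right.trans hi

/-- The inductive step through a quotient. -/
theorem sup_normal_of_quotient (p : ℕ) [Fact p.Prime] (N U R : Subgroup G) [hN : N.Normal]
    (hU : U.Normal) (hNK : N ≤ Subgroup.closure (pElts 2 G))
    (hKU : Subgroup.closure (pElts 2 G) ≤ U)
    (hUp : ∃ a : ℕ, (Subgroup.closure (pElts 2 G)).relIndex U = p ^ a)
    (hRU : R ≤ U) (hRp : IsPGroup p R) (hRi : ¬ p ∣ R.relIndex U)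
    (ih : ∀ U' : Subgroup (G ⧸ N), U'.Normal → Subgroup.closure (pElts 2 (G ⧸ N)) ≤ U' →
      (∃ a : ℕ, (Subgroup.closure (pElts 2 (G ⧸ N))).relIndex U' = p ^ a) →
      ∀ R' : Subgroup (G ⧸ N), R' ≤ U' → IsPGroup p R' → ¬ p ∣ R'.relIndex U' → R'.Normal) :
    (R ⊔ N).Normal := by
  have hNU : N ≤ U := hNK.trans hKU
  have hker : (QuotientGroup.mk' N).ker = N := QuotientGroup.ker_mk' N
  have h1 := ih (U.map (QuotientGroup.mk' N)) (hU.map _ (QuotientGroup.mk'_surjective N))
    (by rw [closure_pElts_quotient_eq 2 N]; exact Subgroup.map_mono hKU)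
    (by
      obtain ⟨a, ha⟩ := hUp
      refine ⟨a, ?_⟩
      rw [closure_pElts_quotient_eq 2 N, Subgroup.relIndex_map_map, hker, sup_of_le_left hNK,
        sup_of_le_left hNU, ha])
    (R.map (QuotientGroup.mk' N)) (Subgroup.map_mono hRU) (hRp.map _)
    (by
      rw [Subgroup.relIndex_map_map, hker, sup_of_le_left hNU]
      intro h
      exact hRi (h.trans (Subgroup.relIndex_dvd_of_le_left U le_sup_left)))
  have h2 : R ⊔ N = (R.map (QuotientGroup.mk' N)).comap (QuotientGroup.mk' N) := by
    rw [Subgroup.comap_map_eq, hker]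
  rw [h2]
  exact h1.comap _

end

/-- **Theorem**: the `p`-core over `O^{2'}(G)` has a normal Sylow `p`-subgroup. -/
theorem normal_of_relIndex_pow (p : ℕ) [hp : Fact p.Prime] :
    ∀ (n : ℕ) (G : Type u) [Group G] [Finite G], Nat.card G = n →
      Group.IsSolvable ↥(Subgroup.closure (pElts p G)) → RealPPrime p G →
      ∀ U : Subgroup G, U.Normal → Subgroup.closure (pElts 2 G) ≤ U →
      (∃ a : ℕ, (Subgroup.closure (pElts 2 G)).relIndex U = p ^ a) →
      ∀ R : Subgroup G, R ≤ U → IsPGroup p R → ¬ p ∣ R.relIndex U → R.Normal := by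
  intro n
  induction n using Nat.strong_induction_on with
  | _ n ih =>
  intro G _ _ hcard hsolv hreal U hU hKU hUp R hRU hRp hRi
  classical
  have hKn : (Subgroup.closure (pElts 2 G)).Normal := closure_pElts_normal 2
  -- the quotient step
  have hquot : ∀ N : Subgroup G, N.Normal → N ≠ ⊥ → N ≤ Subgroup.closure (pElts 2 G) →
      (R ⊔ N).Normal := by
    intro N hNn hN1 hNK
    have hlt : Nat.card (G ⧸ N) < n := by
      have h1 : Nat.card G = Nat.card (G ⧸ N) * Nat.card N :=
        Subgroup.card_eq_card_quotient_mul_card_subgroup N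
      have h2 : 1 < Nat.card N := by
        rw [Finite.one_lt_card_iff_nontrivial, Subgroup.nontrivial_iff_ne_bot]
        exact hN1
      have h3 : 0 < Nat.card (G ⧸ N) := Nat.card_pos
      rw [← hcard, h1]
      nlinarith
    exact sup_normal_of_quotient p N U R hU hNK hKU hUp hRU hRp hRi
      (ih (Nat.card (G ⧸ N)) hlt (G ⧸ N) rfl (isSolvable_closure_pElts_quotient p N hsolv)
        (hreal.quotient N))
  by_cases hK1 : Subgroup.closure (pElts 2 G) = ⊥
  · -- `U` is a `p`-group
    obtain ⟨a, ha⟩ := hUp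
    rw [hK1, Subgroup.relIndex_bot_left] at ha
    have hUpg : IsPGroup p U := IsPGroup.of_card ha
    have hUR : U ≤ R := le_of_isPGroup_normal U R U hRU hRp hRi le_rfl hUpg
    have : R = U := le_antisymm hRU hUR
    rw [this]; exact hU
  by_cases hi : ∃ N : Subgroup G, N.Normal ∧ N ≠ ⊥ ∧ N ≤ Subgroup.closure (pElts 2 G) ∧
      IsPGroup p N
  · obtain ⟨N, hNn, hN1, hNK, hNp⟩ := hi
    have hNR : N ≤ R := le_of_isPGroup_normal U R N hRU hRp hRi (hNK.trans hKU) hNp
    have := hquot N hNn hN1 hNK
    rwa [sup_of_le_left hNR] at this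
  -- now `p ∤ |K|`
  have hKp : ¬ p ∣ Nat.card ↥(Subgroup.closure (pElts 2 G)) := by
    let Q₀ : Sylow p ↥(Subgroup.closure (pElts 2 G)) := default
    have hQ₀n : (Q₀ : Subgroup ↥(Subgroup.closure (pElts 2 G))).Normal :=
      sylow_normal_closure_two p hsolv hreal Q₀
    have hchar : (Q₀ : Subgroup ↥(Subgroup.closure (pElts 2 G))).Characteristic :=
      Sylow.characteristic_of_normal Q₀ hQ₀n
    have hnorm : ((Q₀ : Subgroup ↥(Subgroup.closure (pElts 2 G))).map
        (Subgroup.closure (pElts 2 G)).subtype).Normal :=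
      ConjAct.normal_of_characteristic_of_normal
    have hbot : (Q₀ : Subgroup ↥(Subgroup.closure (pElts 2 G))).map
        (Subgroup.closure (pElts 2 G)).subtype = ⊥ := by
      by_contra hne
      exact hi ⟨_, hnorm, hne, Subgroup.map_subtype_le _, Q₀.isPGroup'.map _⟩
    have hbot' : (Q₀ : Subgroup ↥(Subgroup.closure (pElts 2 G))) = ⊥ := by
      rwa [Subgroup.map_eq_bot_iff_of_injective _ (Subgroup.subtype_injective _)] at hbot
    have := Q₀.not_dvd_index
    rwa [hbot', Subgroup.index_bot] at this
  -- a minimal normal subgroup inside `K`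
  obtain ⟨N, hN⟩ := exists_minimal_of_wellFoundedLT
    (fun N : Subgroup G => N.Normal ∧ N ≠ ⊥ ∧ N ≤ Subgroup.closure (pElts 2 G))
    ⟨_, hKn, hK1, le_rfl⟩
  have hNn : N.Normal := hN.prop.1
  have hN1 : N ≠ ⊥ := hN.prop.2.1
  have hNK : N ≤ Subgroup.closure (pElts 2 G) := hN.prop.2.2
  have hNmin : ∀ M : Subgroup G, M.Normal → M ≤ N → M = ⊥ ∨ M = N := by
    intro M hM hMN
    by_cases h : M = ⊥
    · exact Or.inl h
    · exact Or.inr (le_antisymm hMN (hN.le_of_le ⟨hM, h, hMN.trans hNK⟩ hMN))
  set L : Subgroup G := R ⊔ N with hL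
  have hLn : L.Normal := hquot N hNn hN1 hNK
  have hRL : R ≤ L := le_sup_left
  have hLU : L ≤ U := sup_le hRU (hNK.trans hKU)
  -- Frattini
  have hfrat : Subgroup.normalizer (R : Set G) ⊔ L = ⊤ := by
    have hP1 : IsPGroup p ↥(R.subgroupOf L) := hRp.comap_subtype
    have hP2 : ¬ p ∣ (R.subgroupOf L).index := by
      intro h
      apply hRi
      rw [← Subgroup.relIndex_mul_relIndex R L U hRL hLU]
      exact Dvd.dvd.mul_right h _
    have h1 := Sylow.normalizer_sup_eq_top (hP1.toSylow hP2)
    have h2 : ((hP1.toSylow hP2 : Sylow p L) : Subgroup L).map L.subtype = R := by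
      rw [IsPGroup.toSylow_coe, Subgroup.subgroupOf_map_subtype, inf_of_le_left hRL]
    rwa [h2] at h1
  have hsupNH : N ⊔ Subgroup.normalizer (R : Set G) = ⊤ := by
    rw [eq_top_iff, ← hfrat, hL]
    refine sup_le le_sup_right (sup_le ?_ le_sup_left)
    exact Subgroup.le_normalizer.trans le_sup_right
  have hsuff : N ≤ Subgroup.normalizer (R : Set G) → R.Normal := by
    intro h
    have h1 : L ≤ Subgroup.normalizer (R : Set G) := sup_le Subgroup.le_normalizer h
    rw [← Subgroup.normalizer_eq_top_iff, eq_top_iff, ← hfrat]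
    exact sup_le le_rfl h1
  -- the subgroup generated by `p`-elements
  have hMpn : (Subgroup.closure (pElts p G)).Normal := closure_pElts_normal p
  have hRMp : R ≤ Subgroup.closure (pElts p G) := isPGroup_le_closure_pElts R hRp
  have hinfn : (N ⊓ Subgroup.closure (pElts p G)).Normal := Subgroup.normal_inf_normal _ _
  rcases hNmin _ hinfn inf_le_left with hbot | hfull
  · -- `N` centralizes `R`
    apply hsuff
    intro x hx
    rw [Subgroup.mem_normalizer_iff]
    have hcomm : ∀ y ∈ R, x * y * x⁻¹ = y := by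
      intro y hy
      have := Subgroup.commute_of_normal_of_disjoint N _ hNn hMpn (disjoint_iff.mpr hbot) x y hx
        (hRMp hy)
      rw [this.eq]; group
    intro y
    constructor
    · intro hy; rw [hcomm y hy]; exact hy
    · intro hy
      have h1 : x⁻¹ * (x * y * x⁻¹) * x = y := by group
      have h2 := Subgroup.commute_of_normal_of_disjoint N _ hNn hMpn (disjoint_iff.mpr hbot) x⁻¹
        (x * y * x⁻¹) (N.inv_mem hx) (hRMp hy)
      rw [← h1, h2.eq]
      have : x * y * x⁻¹ * x⁻¹ * x = x * y * x⁻¹ := by group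
      rw [this]; exact hy
  · -- `N` is abelian
    have hNle : N ≤ Subgroup.closure (pElts p G) := by
      rw [← hfull]; exact inf_le_right
    have hNsolv : Group.IsSolvable ↥N := by
      have := hsolv
      exact Group.isSolvable_of_isSolvable_injective (Subgroup.inclusion_injective hNle)
    have hab := comm_of_minimal_normal_solvable N hN1 hNmin hNsolv
    set H := Subgroup.normalizer (R : Set G) with hH
    have hDn : (N ⊓ H).Normal := by
      refine normal_of_le_abelian_of_sup_eq_top N H (N ⊓ H) hab hsupNH inf_le_left ?_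
      intro h hh k hk
      exact ⟨hNn.conj_mem k hk.1 h, H.mul_mem (H.mul_mem hh hk.2) (H.inv_mem hh)⟩
    rcases hNmin _ hDn inf_le_left with hD | hD
    swap
    · apply hsuff
      rw [← hD]; exact inf_le_right
    exfalso
    -- `[N, R]` is normal in `G`
    have hCn : (⁅N, R⁆ : Subgroup G).Normal := by
      refine normal_of_le_abelian_of_sup_eq_top N H _ hab hsupNH
        (Subgroup.commutator_le_left N R) ?_
      intro h hh k hk
      rw [Subgroup.commutator_def] at hk ⊢
      induction hk using Subgroup.closure_induction with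
      | mem y hy =>
        obtain ⟨a, ha, b, hb, rfl⟩ := hy
        apply Subgroup.subset_closure
        refine ⟨h * a * h⁻¹, hNn.conj_mem a ha h, h * b * h⁻¹,
          (Subgroup.mem_normalizer_iff.mp hh b).mp hb, ?_⟩
        simp only [commutatorElement_def]
        group
      | one => simp
      | mul y z _ _ hy hz =>
        have : h * (y * z) * h⁻¹ = (h * y * h⁻¹) * (h * z * h⁻¹) := by group
        rw [this]; exact Subgroup.mul_mem _ hy hz
      | inv y _ hy =>
        have : h * y⁻¹ * h⁻¹ = (h * y * h⁻¹)⁻¹ := by group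
        rw [this]; exact Subgroup.inv_mem _ hy
    have hC : ⁅N, R⁆ = N := by
      rcases hNmin _ hCn (Subgroup.commutator_le_left N R) with h | h
      · exfalso
        have h1 : N ≤ Subgroup.centralizer (R : Set G) :=
          Subgroup.commutator_eq_bot_iff_le_centralizer.mp h
        have h2 : N ≤ H := h1.trans (centralizer_le_normalizer' _)
        apply hN1
        rw [eq_bot_iff, ← hD]
        exact le_inf le_rfl h2
      · exact h
    -- `R`-invariant linear characters of `N` are trivial
    have hinv : ∀ lam : N →* ℂˣ,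
        (∀ x ∈ R, ∀ n : N,
          lam ⟨x * (n : G) * x⁻¹, hNn.conj_mem (n : G) n.2 x⟩ = lam n) → lam = 1 := by
      intro lam hlam
      have hle : ⁅N, R⁆ ≤ lam.ker.map N.subtype := by
        rw [Subgroup.commutator_le]
        intro a ha b hb
        have hmem : b * a⁻¹ * b⁻¹ ∈ N := hNn.conj_mem _ (N.inv_mem ha) b
        refine ⟨(⟨a, ha⟩ : N) * ⟨b * a⁻¹ * b⁻¹, hmem⟩, ?_, ?_⟩
        · rw [SetLike.mem_coe, MonoidHom.mem_ker, map_mul]
          have h1 := hlam b hb ⟨a⁻¹, N.inv_mem ha⟩
          have h2 : lam ⟨b * a⁻¹ * b⁻¹, hmem⟩ = lam ⟨a⁻¹, N.inv_mem ha⟩ := h1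
          rw [h2, ← map_mul]
          have : (⟨a, ha⟩ : N) * ⟨a⁻¹, N.inv_mem ha⟩ = 1 := by
            apply Subtype.ext; simp
          rw [this, map_one]
        · simp only [Subgroup.coe_subtype, Subgroup.coe_mul, commutatorElement_def]
          group
      rw [hC] at hle
      ext n
      obtain ⟨y, hy, hyn⟩ := hle n.2
      have hyn' : y = n := Subtype.ext hyn
      rw [← hyn']
      have := MonoidHom.mem_ker.mp hy
      rw [this]; rfl
    -- no non-trivial linear character of `N` is conjugate to its inverse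
    have hkey : ∀ lam : N →* ℂˣ, lam ≠ 1 → ∀ s : G,
        (∀ n : N, lam ⟨s * (n : G) * s⁻¹, hNn.conj_mem (n : G) n.2 s⟩ = (lam n)⁻¹) → False := by
      intro lam hlam1 s hlams
      let _ := Fintype.ofFinite G
      let _ : Fintype N := Fintype.ofFinite N
      obtain ⟨χ, hχreal, hχne, hχdeg⟩ :=
        exists_real_irr_of_complement N H hab hD hsupNH lam s hlams
      have hre : ∀ g : G, ((χ : G → ℂ) g).im = 0 := (irrConj_eq_self_iff χ).mp hχreal
      apply hreal χ hre
      rw [hχdeg]
      by_contra hnd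
      obtain ⟨y, hy⟩ := exists_conj_mem_of_not_dvd_index R hRp _ hnd
      -- the conjugate character `lam'` is `R`-invariant
      let c : N →* N :=
        { toFun := fun n => ⟨y⁻¹ * (n : G) * y, by
            have := hNn.conj_mem (n : G) n.2 y⁻¹
            rwa [inv_inv] at this⟩
          map_one' := by apply Subtype.ext; simp
          map_mul' := fun a b => by apply Subtype.ext; simp [mul_assoc] }
      have hc : ∀ n : N, ((c n : N) : G) = y⁻¹ * (n : G) * y := fun n => rfl
      have hlam' : lam.comp c = 1 := by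
        apply hinv
        intro x hx n
        have h1 := hy x hx
        rw [mem_inertia_iff] at h1
        have h2 := h1 (c n)
        have h3 : lam ⟨y⁻¹ * x * y * ((c n : N) : G) * (y⁻¹ * x * y)⁻¹,
            hNn.conj_mem _ (c n).2 _⟩ = lam (c n) := Units.ext h2
        simp only [MonoidHom.comp_apply]
        rw [← h3]
        congr 1
        apply Subtype.ext
        rw [hc]
        show y⁻¹ * (x * (n : G) * x⁻¹) * y = y⁻¹ * x * y * (y⁻¹ * (n : G) * y) * (y⁻¹ * x * y)⁻¹
        group
      apply hlam1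
      ext n
      have hn1 : y * (n : G) * y⁻¹ ∈ N := hNn.conj_mem (n : G) n.2 y
      have h4 := congrArg (fun f : N →* ℂˣ => f ⟨y * (n : G) * y⁻¹, hn1⟩) hlam'
      simp only [MonoidHom.comp_apply, MonoidHom.one_apply] at h4
      have h5 : c ⟨y * (n : G) * y⁻¹, hn1⟩ = n := by
        apply Subtype.ext
        rw [hc]
        show y⁻¹ * (y * (n : G) * y⁻¹) * y = (n : G)
        group
      rw [h5] at h4
      rw [h4]; rfl
    -- case (a): a `2`-element not centralizing `N`
    by_cases hall : ∀ t ∈ pElts 2 G, t ∈ Subgroup.centralizer (N : Set G)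
    swap
    · push Not at hall
      obtain ⟨t, ⟨k, hk⟩, htc⟩ := hall
      obtain ⟨s, hs, hs2⟩ := exists_sq_mem_centralizer N t k hk htc
      obtain ⟨lam, hlam1, hlams⟩ := exists_inverted_hom N hab s hs hs2
      exact hkey lam hlam1 s hlams
    -- case (b): `N` has an involution
    by_cases h3 : ∃ n₀ ∈ N, n₀ ≠ 1 ∧ n₀ * n₀ = 1
    · obtain ⟨n₀, hn₀, hn₀1, hn₀2⟩ := h3
      let Ω : Subgroup G :=
        { carrier := {x | x ∈ N ∧ x * x = 1}
          mul_mem' := by
            rintro a b ⟨ha, ha2⟩ ⟨hb, hb2⟩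
            refine ⟨N.mul_mem ha hb, ?_⟩
            calc a * b * (a * b) = a * (b * a) * b := by group
              _ = a * (a * b) * b := by rw [hab b hb a ha]
              _ = (a * a) * (b * b) := by group
              _ = 1 := by rw [ha2, hb2, one_mul]
          one_mem' := ⟨N.one_mem, by simp⟩
          inv_mem' := by
            rintro a ⟨ha, ha2⟩
            refine ⟨N.inv_mem ha, ?_⟩
            rw [← mul_inv_rev, ha2, inv_one] }
      have hΩmem : ∀ x : G, x ∈ Ω ↔ x ∈ N ∧ x * x = 1 := fun x => Iff.rfl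
      have hΩn : Ω.Normal := by
        refine ⟨fun x hx g => ?_⟩
        rw [hΩmem] at hx ⊢
        refine ⟨hNn.conj_mem x hx.1 g, ?_⟩
        calc g * x * g⁻¹ * (g * x * g⁻¹) = g * (x * x) * g⁻¹ := by group
          _ = 1 := by rw [hx.2]; group
      have hΩle : Ω ≤ N := fun x hx => ((hΩmem x).mp hx).1
      have hΩ : Ω = N := by
        rcases hNmin Ω hΩn hΩle with h | h
        · exfalso
          apply hn₀1
          have h1 : n₀ ∈ Ω := (hΩmem n₀).mpr ⟨hn₀, hn₀2⟩
          rw [h, Subgroup.mem_bot] at h1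
          exact h1
        · exact h
      have hsq : ∀ x ∈ N, x * x = 1 := by
        intro x hx
        have h1 : x ∈ Ω := by rw [hΩ]; exact hx
        exact ((hΩmem x).mp h1).2
      obtain ⟨lam, hlam⟩ := exists_hom_apply_ne_one_at N hab ⟨n₀, hn₀⟩
        (by intro h; apply hn₀1; exact congrArg Subtype.val h)
      apply hkey lam (by intro h; apply hlam; rw [h]; rfl) 1
      intro n
      have h1 : (⟨1 * (n : G) * (1 : G)⁻¹, hNn.conj_mem (n : G) n.2 1⟩ : N) = n := by
        apply Subtype.ext; simp
      rw [h1]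
      have h2 : lam n * lam n = 1 := by
        rw [← map_mul]
        have : n * n = 1 := Subtype.ext (hsq n n.2)
        rw [this, map_one]
      exact eq_inv_of_mul_eq_one_left h2
    -- case (c): `R` centralizes `K`
    push Not at h3
    have hno2k : ∀ k : ℕ, ∀ x ∈ N, x ^ (2 ^ k) = 1 → x = 1 := by
      intro k
      induction k with
      | zero => intro x _ hx; simpa using hx
      | succ k ihk =>
        intro x hx hx2
        apply ihk x hx
        by_contra hne
        apply h3 _ (N.pow_mem hx (2 ^ k)) hne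
        rw [← pow_add, ← two_mul, ← pow_succ']
        exact hx2
    have hKR : Subgroup.closure (pElts 2 G) ⊓ R = ⊥ := by
      refine (Subgroup.disjoint_of_coprime_natCard ?_).eq_bot
      obtain ⟨j, hj⟩ := IsPGroup.iff_card.mp hRp
      rw [hj]
      exact Nat.Coprime.pow_right j ((Nat.Prime.coprime_iff_not_dvd hp.out).mpr hKp).symm
    have hcommtr : ∀ t ∈ pElts 2 G, ∀ r ∈ R, t * r = r * t := by
      rintro t ⟨k, hk⟩ r hr
      have htK : t ∈ Subgroup.closure (pElts 2 G) := Subgroup.subset_closure ⟨k, hk⟩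
      obtain ⟨c, hc⟩ : ∃ c : G, c = t * r * t⁻¹ * r⁻¹ := ⟨_, rfl⟩
      have hcK : c ∈ Subgroup.closure (pElts 2 G) := by
        have h1 : r * t⁻¹ * r⁻¹ ∈ Subgroup.closure (pElts 2 G) :=
          hKn.conj_mem _ (Subgroup.inv_mem _ htK) r
        have : c = t * (r * t⁻¹ * r⁻¹) := by rw [hc]; group
        rw [this]; exact Subgroup.mul_mem _ htK h1
      have hcL : c ∈ L := by
        have h1 : t * r * t⁻¹ ∈ L := hLn.conj_mem _ (hRL hr) t
        rw [hc]
        exact L.mul_mem h1 (L.inv_mem (hRL hr))
      have hcN : c ∈ N := by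
        rw [hL, ← SetLike.mem_coe, Subgroup.mul_normal] at hcL
        obtain ⟨r', hr', n', hn', hrn'⟩ := hcL
        have hrn : r' * n' = c := hrn'
        have h1 : r' ∈ Subgroup.closure (pElts 2 G) ⊓ R := by
          refine ⟨?_, hr'⟩
          have : r' = c * n'⁻¹ := by rw [← hrn]; group
          rw [this]
          exact Subgroup.mul_mem _ hcK (Subgroup.inv_mem _ (hNK hn'))
        rw [hKR, Subgroup.mem_bot] at h1
        rw [← hrn, h1, one_mul]; exact hn'
      have htc : Commute t c :=
        ((Subgroup.mem_centralizer_iff.mp (hall t ⟨k, hk⟩)) c hcN).symm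
      have h1 : r * t⁻¹ * r⁻¹ = t⁻¹ * c := by rw [hc]; group
      have h2 : (r * t⁻¹ * r⁻¹) ^ (2 ^ k) = 1 := by
        rw [conj_pow, inv_pow, ← hk, pow_orderOf_eq_one]; group
      rw [h1, (Commute.inv_left htc).mul_pow, inv_pow] at h2
      have h4 : t ^ (2 ^ k) = 1 := by rw [← hk, pow_orderOf_eq_one]
      rw [h4, inv_one, one_mul] at h2
      have hc1 : c = 1 := hno2k k c hcN h2
      calc t * r = (t * r * t⁻¹ * r⁻¹) * (r * t) := by group
        _ = r * t := by rw [← hc, hc1, one_mul]
    have hKcent : Subgroup.closure (pElts 2 G) ≤ Subgroup.centralizer (R : Set G) := by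
      rw [Subgroup.closure_le]
      intro t ht
      rw [SetLike.mem_coe, Subgroup.mem_centralizer_iff]
      intro r hr
      exact (hcommtr t ht r hr).symm
    have h5 : N ≤ H := (hNK.trans hKcent).trans (centralizer_le_normalizer' _)
    apply hN1
    rw [eq_bot_iff, ← hD]
    exact le_inf le_rfl h5

end Cfsg.Agent.Helper81
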