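import Mathlib
import Cfsg.Agent.Helper81.RealC1
import Cfsg.Agent.Helper81.RealC2
import Cfsg.Agent.Helper81.RealP5

/-!
# The normalizer of a Sylow `p`-subgroup meets every real class

Hypotheses: the subgroup generated by the `p`-elements of `G` is solvable and every real-valued
irreducible character of `G` has degree prime to `p`.

* `not_dvd_index_centralizer_of_real`: if moreover `p ∤ |O^{2'}(G)|`, every real class of `G` has
  size prime to `p`;
* `exists_conj_mem_normalizer_of_real`: `N_G(P)` meets every real class, `P ∈ Syl_p(G)`.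
-/

set_option autoImplicit false
set_option linter.unusedSectionVars false

namespace Cfsg.Agent.Helper81

open Cfsg Cfsg.Agent.Helper15

universe u

section

variable {G : Type u} [Group G]

theorem card_closure_pElts_subgroup_dvd [Finite G] (q : ℕ) (M : Subgroup G) :
    Nat.card ↥(Subgroup.closure (pElts q ↥M)) ∣ Nat.card ↥(Subgroup.closure (pElts q G)) := by
  have hle : (Subgroup.closure (pElts q ↥M)).map M.subtype ≤ Subgroup.closure (pElts q G) := by
    rw [MonoidHom.map_closure]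
    apply Subgroup.closure_mono
    rintro _ ⟨x, ⟨k, hk⟩, rfl⟩
    exact ⟨k, by rw [← hk]; exact Subgroup.orderOf_coe x⟩
  let f : ↥(Subgroup.closure (pElts q ↥M)) →* ↥(Subgroup.closure (pElts q G)) :=
    (M.subtype.comp (Subgroup.closure (pElts q ↥M)).subtype).codRestrict _
      (fun x => hle ⟨(x : ↥M), x.2, rfl⟩)
  have hf : Function.Injective f := by
    intro a b hab
    have h1 := congrArg (fun z : ↥(Subgroup.closure (pElts q G)) => (z : G)) hab
    exact Subtype.ext (Subtype.ext h1)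
  exact Subgroup.card_dvd_of_injective f hf

theorem centralizer_subtype_eq (M : Subgroup G) (x : G) (hx : x ∈ M) :
    Subgroup.centralizer ({(⟨x, hx⟩ : M)} : Set M) =
      (Subgroup.centralizer ({x} : Set G)).subgroupOf M := by
  ext m
  rw [Subgroup.mem_subgroupOf, Subgroup.mem_centralizer_iff, Subgroup.mem_centralizer_iff]
  constructor
  · intro h y hy
    rw [Set.mem_singleton_iff.mp hy]
    have := h ⟨x, hx⟩ rfl
    exact congrArg Subtype.val this
  · intro h y hy
    rw [Set.mem_singleton_iff.mp hy]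
    exact Subtype.ext (h x rfl)

end

/-- If `p ∤ |O^{2'}(G)|`, every real class has size prime to `p`. -/
theorem not_dvd_index_centralizer_of_real (p : ℕ) [hp : Fact p.Prime] :
    ∀ (n : ℕ) (G : Type u) [Group G] [Finite G], Nat.card G = n →
      Group.IsSolvable ↥(Subgroup.closure (pElts p G)) → RealPPrime p G →
      ¬ p ∣ Nat.card ↥(Subgroup.closure (pElts 2 G)) →
      ∀ x : G, IsConj x x⁻¹ → ¬ p ∣ (Subgroup.centralizer ({x} : Set G)).index := by
  intro n
  induction n using Nat.strong_induction_on with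
  | _ n ih =>
  intro G _ _ hcard hsolv hreal hKp x hx
  have hKn : (Subgroup.closure (pElts 2 G)).Normal := closure_pElts_normal 2
  by_cases hK : Subgroup.closure (pElts 2 G) = ⊤
  · intro h
    apply hKp
    have h1 : Nat.card ↥(Subgroup.closure (pElts 2 G)) = Nat.card G := by
      rw [hK]; exact Subgroup.card_top
    rw [h1]
    exact h.trans (Subgroup.index_dvd_card _)
  have hnt : Nontrivial (G ⧸ Subgroup.closure (pElts 2 G)) := QuotientGroup.nontrivial_iff.mpr hK
  obtain ⟨Mb, hMbn, hMbtop, hMbidx⟩ :=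
    exists_proper_normal_good_index p (G := G ⧸ Subgroup.closure (pElts 2 G))
      (isSolvable_closure_pElts_quotient p _ hsolv)
  set M := Mb.comap (QuotientGroup.mk' (Subgroup.closure (pElts 2 G))) with hMdef
  have hMn : M.Normal := hMbn.comap _
  have hKM : Subgroup.closure (pElts 2 G) ≤ M := by
    have := MonoidHom.ker_le_comap (QuotientGroup.mk' (Subgroup.closure (pElts 2 G))) Mb
    rwa [QuotientGroup.ker_mk'] at this
  have hMtop : M ≠ ⊤ := by
    intro h
    apply hMbtop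
    rw [← Subgroup.map_comap_eq_self_of_surjective (QuotientGroup.mk'_surjective _) Mb, ← hMdef, h,
      ← MonoidHom.range_eq_map, MonoidHom.range_eq_top.mpr (QuotientGroup.mk'_surjective _)]
  have hMidx : M.index = Mb.index :=
    Subgroup.index_comap_of_surjective _ (QuotientGroup.mk'_surjective _)
  have hoddM : Odd M.index :=
    Odd.of_dvd_nat odd_index_closure_two (Subgroup.index_dvd_of_le hKM)
  -- `x` and an inverting `2`-element lie in `M`
  obtain ⟨t, ht, htx⟩ := exists_two_elt_inverting hx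
  have hxM : x ∈ M := hKM (real_mem_closure_two hx)
  have htM : t ∈ M := hKM (Subgroup.subset_closure ht)
  have hx' : IsConj (⟨x, hxM⟩ : M) (⟨x, hxM⟩ : M)⁻¹ := by
    rw [isConj_iff]
    exact ⟨⟨t, htM⟩, Subtype.ext htx⟩
  -- induction
  have hlt : Nat.card M < n := by
    rw [← hcard]
    have h1 : Nat.card M * M.index = Nat.card G := Subgroup.card_mul_index M
    have h2 : 1 < M.index := Subgroup.one_lt_index_of_ne_top hMtop
    have h3 : 0 < Nat.card M := Nat.card_pos
    nlinarith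
  have hKp' : ¬ p ∣ Nat.card ↥(Subgroup.closure (pElts 2 ↥M)) :=
    fun h => hKp (h.trans (card_closure_pElts_subgroup_dvd 2 M))
  have hih := ih (Nat.card M) hlt ↥M rfl (isSolvable_closure_pElts_subgroup p M hsolv)
    (hreal.of_odd_index_normal M hoddM) hKp' ⟨x, hxM⟩ hx'
  rw [centralizer_subtype_eq M x hxM] at hih
  have hrel : ¬ p ∣ (Subgroup.centralizer ({x} : Set G)).relIndex M := hih
  rw [← hMidx] at hMbidx
  rcases hMbidx with h | h
  · exact not_dvd_index_of_relIndex M _ h hrel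
  · have hsup := sup_centralizer_eq_top_of_index_pow M hreal hoddM h x hxM hx'
    rw [index_eq_relIndex_of_sup_eq_top M _ hsup]
    exact hrel

/-- **Theorem** (Isaacs–Navarro): the normalizer of a Sylow `p`-subgroup meets every real class. -/
theorem exists_conj_mem_normalizer_of_real {G : Type u} [Group G] [Finite G] (p : ℕ)
    [hp : Fact p.Prime] (hsolv : Group.IsSolvable ↥(Subgroup.closure (pElts p G)))
    (hreal : RealPPrime p G) (P : Sylow p G) (x : G) (hx : IsConj x x⁻¹) :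
    ∃ y ∈ Subgroup.normalizer ((P : Subgroup G) : Set G), IsConj x y := by
  have hKn : (Subgroup.closure (pElts 2 G)).Normal := closure_pElts_normal 2
  let Q₀' : Sylow p ↥(Subgroup.closure (pElts 2 G)) := default
  have hQ₀n : (Q₀' : Subgroup ↥(Subgroup.closure (pElts 2 G))).Normal :=
    sylow_normal_closure_two p hsolv hreal Q₀'
  have hchar : (Q₀' : Subgroup ↥(Subgroup.closure (pElts 2 G))).Characteristic :=
    Sylow.characteristic_of_normal Q₀' hQ₀n
  obtain ⟨Q₀, hQ₀⟩ : ∃ Q₀ : Subgroup G, Q₀ =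
      (Q₀' : Subgroup ↥(Subgroup.closure (pElts 2 G))).map
        (Subgroup.closure (pElts 2 G)).subtype := ⟨_, rfl⟩
  have hQ₀norm : Q₀.Normal := by
    rw [hQ₀]; exact ConjAct.normal_of_characteristic_of_normal
  have hQ₀p : IsPGroup p Q₀ := by
    rw [hQ₀]; exact Q₀'.isPGroup'.map _
  have hQ₀P : Q₀ ≤ P := hQ₀p.le_sylow_of_normal P
  have hker : (QuotientGroup.mk' Q₀).ker = Q₀ := QuotientGroup.ker_mk' Q₀
  have hKpb : ¬ p ∣ Nat.card ↥(Subgroup.closure (pElts 2 (G ⧸ Q₀))) := by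
    rw [closure_pElts_quotient_eq 2 Q₀, ← Subgroup.relIndex_ker, hker]
    have e : Q₀.subgroupOf (Subgroup.closure (pElts 2 G)) = Q₀' := by
      rw [hQ₀]
      exact Subgroup.comap_map_eq_self_of_injective (Subgroup.subtype_injective _) _
    show ¬ p ∣ (Q₀.subgroupOf (Subgroup.closure (pElts 2 G))).index
    rw [e]
    exact Q₀'.not_dvd_index
  have hxb : IsConj (QuotientGroup.mk' Q₀ x) (QuotientGroup.mk' Q₀ x)⁻¹ := by
    obtain ⟨g, hg⟩ := isConj_iff.mp hx
    rw [isConj_iff]
    exact ⟨QuotientGroup.mk' Q₀ g, by rw [← map_inv, ← map_mul, ← map_mul, hg, map_inv]⟩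
  have hC := not_dvd_index_centralizer_of_real p _ (G ⧸ Q₀) rfl
    (isSolvable_closure_pElts_quotient p Q₀ hsolv) (hreal.quotient Q₀) hKpb _ hxb
  obtain ⟨yb, hyb⟩ := exists_conj_mem_of_not_dvd_index
    ((P : Subgroup G).map (QuotientGroup.mk' Q₀)) (P.isPGroup'.map _) _ hC
  obtain ⟨y, rfl⟩ := QuotientGroup.mk'_surjective Q₀ yb
  refine ⟨y * x * y⁻¹, ?_, isConj_iff.mpr ⟨y, rfl⟩⟩
  have hkey : ∀ z ∈ (P : Subgroup G), (y * x * y⁻¹) * z * (y * x * y⁻¹)⁻¹ * z⁻¹ ∈ Q₀ := by
    intro z hz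
    have h1 := hyb (QuotientGroup.mk' Q₀ z) (Subgroup.mem_map_of_mem _ hz)
    rw [Subgroup.mem_centralizer_iff] at h1
    have h3 : QuotientGroup.mk' Q₀ x *
        ((QuotientGroup.mk' Q₀ y)⁻¹ * QuotientGroup.mk' Q₀ z * QuotientGroup.mk' Q₀ y) =
        ((QuotientGroup.mk' Q₀ y)⁻¹ * QuotientGroup.mk' Q₀ z * QuotientGroup.mk' Q₀ y) *
          QuotientGroup.mk' Q₀ x := h1 _ rfl
    rw [← hker, MonoidHom.mem_ker]
    simp only [map_mul, map_inv]
    generalize QuotientGroup.mk' Q₀ x = a at h3 ⊢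
    generalize QuotientGroup.mk' Q₀ y = b at h3 ⊢
    generalize QuotientGroup.mk' Q₀ z = c at h3 ⊢
    calc b * a * b⁻¹ * c * (b * a * b⁻¹)⁻¹ * c⁻¹
        = b * (a * (b⁻¹ * c * b)) * a⁻¹ * b⁻¹ * c⁻¹ := by group
      _ = b * ((b⁻¹ * c * b) * a) * a⁻¹ * b⁻¹ * c⁻¹ := by rw [h3]
      _ = 1 := by group
  have hfwd : ∀ z ∈ (P : Subgroup G), (y * x * y⁻¹) * z * (y * x * y⁻¹)⁻¹ ∈ (P : Subgroup G) := by
    intro z hz
    have h1 := hQ₀P (hkey z hz)
    have e : (y * x * y⁻¹) * z * (y * x * y⁻¹)⁻¹ =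
        ((y * x * y⁻¹) * z * (y * x * y⁻¹)⁻¹ * z⁻¹) * z := by group
    rw [e]
    exact Subgroup.mul_mem _ h1 hz
  have hbwd : ∀ z ∈ (P : Subgroup G), (y * x * y⁻¹)⁻¹ * z * (y * x * y⁻¹) ∈ (P : Subgroup G) := by
    intro z hz
    have h1 := hkey z hz
    have h2 := hQ₀norm.conj_mem _ (Q₀.inv_mem h1) (y * x * y⁻¹)⁻¹
    have e : (y * x * y⁻¹)⁻¹ * z * (y * x * y⁻¹) =
        ((y * x * y⁻¹)⁻¹ * ((y * x * y⁻¹) * z * (y * x * y⁻¹)⁻¹ * z⁻¹)⁻¹ * (y * x * y⁻¹)⁻¹⁻¹) * z := by
      group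
    rw [e]
    exact Subgroup.mul_mem _ (hQ₀P h2) hz
  rw [Subgroup.mem_normalizer_iff]
  intro h
  constructor
  · exact hfwd h
  · intro hh
    have := hbwd _ hh
    have e : (y * x * y⁻¹)⁻¹ * ((y * x * y⁻¹) * h * (y * x * y⁻¹)⁻¹) * (y * x * y⁻¹) = h := by group
    rwa [e] at this

end Cfsg.Agent.Helper81
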