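import Mathlib
import Cfsg.Agent.Helper81.GlaubReal
import Cfsg.Agent.Helper81.RG4
import Cfsg.Agent.Helper81.RootCount

/-!
# Real classes lift through normal subgroups of odd order

* `exists_real_lift`: if `M ⊴ G` has odd order and `x M` is inverted by `y M` in `G ⧸ M`, then
  the coset `x M` contains a real element of `G`;
* `card_realCls_quotient_lt`: if moreover `M` contains a non-trivial real element of `G`, then `G`
  has strictly more real classes than `G ⧸ M`;
* `exists_real_irr_not_over_one`: in that situation some real-valued irreducible character of `G`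
  does not contain `M` in its kernel (`⟨χ_M, 1_M⟩ = 0`).
-/

set_option autoImplicit false
set_option linter.unusedSectionVars false

namespace Cfsg.Agent.Helper81

open Cfsg
open scoped ComplexConjugate

universe u

section lift

variable {G : Type u} [Group G] [Finite G] (M : Subgroup G) [hM : M.Normal]

/-- If `b a b⁻¹ = a⁻¹` then odd powers of `b` invert `a` too. -/
theorem conj_pow_odd_eq_inv {H : Type*} [Group H] (a b : H) (h : b * a * b⁻¹ = a⁻¹) (k : ℕ)
    (hk : Odd k) : b ^ k * a * (b ^ k)⁻¹ = a⁻¹ := by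
  obtain ⟨j, rfl⟩ := hk
  have h2 : Commute (b ^ 2) a := by
    have h3 : b ^ 2 * a * (b ^ 2)⁻¹ = a := by
      have : b ^ 2 * a * (b ^ 2)⁻¹ = b * (b * a * b⁻¹) * b⁻¹ := by rw [pow_two]; group
      rw [this, h]
      have : b * a⁻¹ * b⁻¹ = (b * a * b⁻¹)⁻¹ := by group
      rw [this, h, inv_inv]
    have : b ^ 2 * a = a * b ^ 2 := by
      calc b ^ 2 * a = b ^ 2 * a * (b ^ 2)⁻¹ * b ^ 2 := by group
        _ = a * b ^ 2 := by rw [h3]
    exact this
  have h4 : Commute (b ^ (2 * j)) a := by
    rw [pow_mul]; exact h2.pow_left j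
  have h5 : b ^ (2 * j + 1) * a * (b ^ (2 * j + 1))⁻¹ =
      b ^ (2 * j) * (b * a * b⁻¹) * (b ^ (2 * j))⁻¹ := by
    rw [pow_succ]; group
  rw [h5, h]
  have h6 : Commute (b ^ (2 * j)) a⁻¹ := h4.inv_right
  calc b ^ (2 * j) * a⁻¹ * (b ^ (2 * j))⁻¹ = a⁻¹ * b ^ (2 * j) * (b ^ (2 * j))⁻¹ := by
        rw [h6.eq]
    _ = a⁻¹ := by group

/-- Real elements lift through normal subgroups of odd order. -/
theorem exists_real_lift (hodd : Odd (Nat.card M)) (x y : G)
    (h : (y : G ⧸ M) * (x : G ⧸ M) * (y : G ⧸ M)⁻¹ = (x : G ⧸ M)⁻¹) :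
    ∃ z : G, (z : G ⧸ M) = (x : G ⧸ M) ∧ IsConj z z⁻¹ := by
  classical
  -- replace `y` by a `2`-element
  have ho : orderOf y ≠ 0 := (orderOf_pos y).ne'
  obtain ⟨a, b, hb, hab⟩ := Nat.exists_eq_two_pow_mul_odd ho
  set w : G := y ^ b with hw
  have hw1 : w ^ (2 ^ a) = 1 := by
    rw [hw, ← pow_mul, mul_comm, ← hab, pow_orderOf_eq_one]
  have hwx : (w : G ⧸ M) * (x : G ⧸ M) * (w : G ⧸ M)⁻¹ = (x : G ⧸ M)⁻¹ := by
    have := conj_pow_odd_eq_inv (x : G ⧸ M) (y : G ⧸ M) h b hb
    rwa [← QuotientGroup.mk_pow] at this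
  -- the coset and the map
  let X : Type u := {z : G // (z : G ⧸ M) = (x : G ⧸ M)}
  have : Fintype X := Fintype.ofFinite X
  have hmem : ∀ z : X, ((w * (z : G)⁻¹ * w⁻¹ : G) : G ⧸ M) = (x : G ⧸ M) := by
    intro z
    rw [QuotientGroup.mk_mul, QuotientGroup.mk_mul, QuotientGroup.mk_inv, QuotientGroup.mk_inv,
      z.2]
    have : (w : G ⧸ M) * (x : G ⧸ M)⁻¹ * (w : G ⧸ M)⁻¹ =
        ((w : G ⧸ M) * (x : G ⧸ M) * (w : G ⧸ M)⁻¹)⁻¹ := by group
    rw [this, hwx, inv_inv]
  let f : Function.End X := fun z => ⟨w * (z : G)⁻¹ * w⁻¹, hmem z⟩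
  have hfval : ∀ z : X, ((f z : X) : G) = w * (z : G)⁻¹ * w⁻¹ := fun z => rfl
  have hiter : ∀ k : ℕ, ∀ z : X, (((f : X → X)^[2 * k] z : X) : G) =
      w ^ (2 * k) * (z : G) * (w ^ (2 * k))⁻¹ := by
    intro k
    induction k with
    | zero =>
      intro z
      simp only [Nat.mul_zero, pow_zero, one_mul, inv_one, mul_one]
      rfl
    | succ k ih =>
      intro z
      have : 2 * (k + 1) = 2 * k + 1 + 1 := by ring
      rw [this, Function.iterate_succ_apply', Function.iterate_succ_apply', hfval, hfval, ih]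
      rw [pow_succ, pow_succ]
      group
  have hf : f ^ 2 ^ (a + 1) = 1 := by
    have hcoe : ∀ n : ℕ, ((f ^ n : Function.End X) : X → X) = (f : X → X)^[n] := by
      intro n
      induction n with
      | zero => rfl
      | succ n ih =>
        rw [pow_succ, Function.iterate_succ]
        show ((f ^ n : Function.End X) : X → X) ∘ (f : X → X) = _
        rw [ih]
    have h1 : ((f ^ 2 ^ (a + 1) : Function.End X) : X → X) = id := by
      rw [hcoe]
      funext z
      apply Subtype.ext
      have h2 : 2 ^ (a + 1) = 2 * 2 ^ a := by rw [pow_succ]; ring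
      rw [h2, hiter]
      have h3 : w ^ (2 * 2 ^ a) = 1 := by
        rw [mul_comm, pow_mul, hw1, one_pow]
      rw [h3]; simp
    exact h1
  have hmod := Equiv.Perm.card_fixedPoints_modEq (p := 2) (n := a + 1) hf
  -- the coset has odd cardinality
  have hcardX : Fintype.card X = Nat.card M := by
    rw [← Nat.card_eq_fintype_card]
    apply Nat.card_congr
    refine ⟨fun z => ⟨x⁻¹ * (z : G), ?_⟩, fun m => ⟨x * (m : G), ?_⟩, ?_, ?_⟩
    · have := z.2
      rw [QuotientGroup.eq] at this
      have h2 := M.inv_mem this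
      have h3 : ((z : G)⁻¹ * x)⁻¹ = x⁻¹ * (z : G) := by group
      rwa [h3] at h2
    · rw [QuotientGroup.mk_mul, (QuotientGroup.eq_one_iff (m : G)).mpr m.2, mul_one]
    · intro z; apply Subtype.ext; simp
    · intro m; apply Subtype.ext; simp
  have hfix : 0 < Fintype.card (Function.fixedPoints (f : X → X)) := by
    by_contra h0
    have h0' : Fintype.card (Function.fixedPoints (f : X → X)) = 0 := by omega
    rw [h0', hcardX] at hmod
    obtain ⟨r, hr⟩ := hodd
    rw [hr] at hmod
    have := hmod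
    unfold Nat.ModEq at this
    omega
  obtain ⟨⟨z, hz⟩⟩ := Fintype.card_pos_iff.mp hfix
  refine ⟨(z : G), z.2, ?_⟩
  have hz' : (f z : X) = z := hz
  have h4 := congrArg (fun u : X => (u : G)) hz'
  simp only [hfval] at h4
  rw [isConj_comm, isConj_iff]
  exact ⟨w, h4⟩

end lift

section count

variable {G : Type u} [Group G] [Fintype G] (M : Subgroup G) [hM : M.Normal] [Fintype M]

theorem clsInv_map_mk' (c : ConjClasses G) :
    clsInv (G ⧸ M) (ConjClasses.map (QuotientGroup.mk' M) c) =
      ConjClasses.map (QuotientGroup.mk' M) (clsInv G c) := by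
  obtain ⟨g, rfl⟩ := ConjClasses.exists_rep c
  rfl

/-- If the odd-order normal subgroup `M` contains a non-trivial real element of `G`, then `G` has
strictly more real classes than `G ⧸ M`. -/
theorem card_realCls_quotient_lt (hodd : Odd (Nat.card M)) (m : G) (hm : m ∈ M) (hm1 : m ≠ 1)
    (hreal : IsConj m m⁻¹) :
    Nat.card {c : ConjClasses (G ⧸ M) // clsInv (G ⧸ M) c = c} <
      Nat.card {c : ConjClasses G // clsInv G c = c} := by
  classical
  let F : {c : ConjClasses G // clsInv G c = c} →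
      {c : ConjClasses (G ⧸ M) // clsInv (G ⧸ M) c = c} :=
    fun c => ⟨ConjClasses.map (QuotientGroup.mk' M) c.1, by rw [clsInv_map_mk', c.2]⟩
  have hsurj : Function.Surjective F := by
    rintro ⟨c, hc⟩
    obtain ⟨xb, rfl⟩ := ConjClasses.exists_rep c
    obtain ⟨x, rfl⟩ := QuotientGroup.mk_surjective xb
    rw [clsInv_eq_self_iff, isConj_iff] at hc
    obtain ⟨yb, hyb⟩ := hc
    obtain ⟨y, rfl⟩ := QuotientGroup.mk_surjective yb
    obtain ⟨z, hz, hzr⟩ := exists_real_lift M hodd x y hyb
    refine ⟨⟨ConjClasses.mk z, (clsInv_eq_self_iff z).mpr hzr⟩, ?_⟩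
    apply Subtype.ext
    show ConjClasses.mk ((z : G ⧸ M)) = ConjClasses.mk ((x : G ⧸ M))
    rw [hz]
  have hninj : ¬ Function.Injective F := by
    intro hinj
    have h1 : F ⟨ConjClasses.mk m, (clsInv_eq_self_iff m).mpr hreal⟩ =
        F ⟨ConjClasses.mk 1, by rw [clsInv_mk, inv_one]⟩ := by
      apply Subtype.ext
      show ConjClasses.mk ((m : G ⧸ M)) = ConjClasses.mk (((1 : G) : G ⧸ M))
      rw [(QuotientGroup.eq_one_iff m).mpr hm]
      rfl
    have h2 := congrArg Subtype.val (hinj h1)
    simp only at h2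
    rw [ConjClasses.mk_eq_mk_iff_isConj] at h2
    exact hm1 (isConj_one_left.mp h2)
  have : Fintype {c : ConjClasses G // clsInv G c = c} := Fintype.ofFinite _
  have : Fintype {c : ConjClasses (G ⧸ M) // clsInv (G ⧸ M) c = c} := Fintype.ofFinite _
  rw [Nat.card_eq_fintype_card, Nat.card_eq_fintype_card]
  exact Fintype.card_lt_of_surjective_not_injective F hsurj hninj

/-- If the odd-order normal subgroup `M` contains a non-trivial real element of `G`, some
real-valued irreducible character of `G` does not have `M` in its kernel. -/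
theorem exists_real_irr_not_over_one (hodd : Odd (Nat.card M)) (m : G) (hm : m ∈ M)
    (hm1 : m ≠ 1) (hreal : IsConj m m⁻¹) :
    ∃ χ : IrrCharacter G, irrConj G χ = χ ∧
      classInner (fun m : M => (χ : G → ℂ) m) (fun _ : M => (1 : ℂ)) = 0 := by
  classical
  by_contra hcon
  push Not at hcon
  have hlt := card_realCls_quotient_lt M hodd m hm hm1 hreal
  rw [← card_real_irr_eq_card_real_cls, ← card_real_irr_eq_card_real_cls] at hlt
  have : Fintype (G ⧸ M) := Fintype.ofFinite _
  let e := gallagherEquiv M (trivialIrr G) isIrrCharacter_one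
  have he : ∀ (β : IrrCharacter (G ⧸ M)) (x : G),
      ((e β).1 : G → ℂ) x = (β : G ⧸ M → ℂ) (x : G ⧸ M) := by
    intro β x
    have := gallagherEquiv_apply M (trivialIrr G) isIrrCharacter_one β x
    rw [this, trivialIrr_apply, mul_one]
  let F : {χ : IrrCharacter G // irrConj G χ = χ} →
      {β : IrrCharacter (G ⧸ M) // irrConj (G ⧸ M) β = β} :=
    fun χ => ⟨e.symm ⟨χ.1, hcon χ.1 χ.2⟩, by
      apply Subtype.ext
      funext xb
      obtain ⟨x, rfl⟩ := QuotientGroup.mk_surjective xb
      rw [irrConj_apply, ← he, Equiv.apply_symm_apply]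
      have := congrArg (fun ψ : IrrCharacter G => (ψ : G → ℂ) x) χ.2
      simpa using this⟩
  have hFinj : Function.Injective F := by
    intro χ χ' h
    have h1 := congrArg Subtype.val h
    have h2 := e.symm.injective h1
    apply Subtype.ext
    exact congrArg (fun ψ : {ψ : IrrCharacter G // classInner (fun m : M => (ψ : G → ℂ) m)
      (fun m : M => (trivialIrr G : G → ℂ) m) ≠ 0} => ψ.1) h2
  have : Finite (IrrCharacter (G ⧸ M)) := Helper79.irr_finite'
  have h3 := Nat.card_le_card_of_injective F hFinj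
  omega

end count

end Cfsg.Agent.Helper81
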