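import Mathlib
import Cfsg.Agent.S4914
import Cfsg.Agent.Helper15.CliffordCorr
import Cfsg.Agent.Helper80.Pullback
import Cfsg.Agent.Helper81.RealP5

/-!
# The relative Glauberman correspondence between `K ⊴ G` and `N_K(P)`

`K ⊴ G` with a normal Sylow `p`-subgroup `Q ⊴ G`, `P ∈ Syl_p(G)`, `N = N_G(P)`,
`M = K.subgroupOf N` (a normal subgroup of `N`).  `Corr θ η` says that the multiplicity of
`η ∈ Irr M` in the restriction of `θ ∈ Irr K` is prime to `p`.  On `P`-invariant characters it is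
a bijective correspondence (`corr_package`), compatible with conjugation by `N` and with complex
conjugation.
-/

set_option autoImplicit false
set_option linter.unusedSectionVars false

namespace Cfsg.Agent.Helper81

open Cfsg Cfsg.Agent.Helper15
open scoped ComplexConjugate

universe u

section

variable {G : Type u} [Group G]

/-- A `p`-subgroup of `U` lies in a normal `p`-subgroup of index prime to `p` in `U`. -/
theorem le_normal_of_isPGroup [Finite G] {p : ℕ} [hp : Fact p.Prime] (U Q R : Subgroup G)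
    [hQ : Q.Normal] (hQU : Q ≤ U) (hQp : IsPGroup p Q) (hQi : ¬ p ∣ Q.relIndex U) (hRU : R ≤ U)
    (hRp : IsPGroup p R) : R ≤ Q := by
  have hsup : IsPGroup p ↥(R ⊔ Q) := IsPGroup.to_sup_of_normal_right hRp hQp
  have hle : R ⊔ Q ≤ U := sup_le hRU hQU
  obtain ⟨j, hj⟩ := IsPGroup.iff_card.mp hsup
  have h1 : Q.relIndex (R ⊔ Q) ∣ p ^ j := by
    rw [← hj]; exact Subgroup.relIndex_dvd_card _ _
  obtain ⟨i, _, hi⟩ := (Nat.dvd_prime_pow hp.out).mp h1
  have h2 : Q.relIndex (R ⊔ Q) ∣ Q.relIndex U := by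
    rw [← Subgroup.relIndex_mul_relIndex Q (R ⊔ Q) U le_sup_right hle]
    exact dvd_mul_right _ _
  have hi0 : i = 0 := by
    by_contra h
    apply hQi
    refine dvd_trans ?_ h2
    rw [hi]
    exact dvd_pow_self p h
  rw [hi0, pow_zero, Subgroup.relIndex_eq_one] at hi
  exact le_sup_left.trans hi

variable {p : ℕ} (K : Subgroup G) (P : Sylow p G)

/-- The normalizer of `P`. -/
abbrev nrm : Subgroup G := Subgroup.normalizer ((P : Subgroup G) : Set G)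

/-- `N_K(P)` as a subgroup of `N_G(P)`. -/
abbrev MM : Subgroup ↥(nrm P) := K.subgroupOf (nrm P)

/-- `P` as a subgroup of `N_G(P)`. -/
abbrev PM : Subgroup ↥(nrm P) := (P : Subgroup G).subgroupOf (nrm P)

theorem mem_K_of_mem_MM (c : MM K P) : ((c : nrm P) : G) ∈ K := Subgroup.mem_subgroupOf.mp c.2

/-- Restriction of a function on `K` to `N_K(P)`. -/
def resM (θ : K → ℂ) : MM K P → ℂ := fun c => θ ⟨((c : nrm P) : G), mem_K_of_mem_MM K P c⟩

/-- The isomorphism between `N_K(P)` as a subgroup of `N_G(P)` and as a subgroup of `G`. -/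
def eMC : ↥(MM K P) ≃* ↥(K ⊓ nrm P) where
  toFun c := ⟨((c : nrm P) : G), ⟨mem_K_of_mem_MM K P c, (c : nrm P).2⟩⟩
  invFun c := ⟨⟨(c : G), c.2.2⟩, Subgroup.mem_subgroupOf.mpr c.2.1⟩
  left_inv _ := rfl
  right_inv _ := rfl
  map_mul' _ _ := rfl

/-- The multiplicity of `η` in `θ` restricted to `N_K(P)` is a natural number prime to `p`. -/
def Corr (p : ℕ) (K : Subgroup G) (P : Sylow p G) [Fintype (MM K P)] (θ : K → ℂ)
    (η : MM K P → ℂ) : Prop :=
  ∃ m : ℕ, classInner (resM K P θ) η = m ∧ ¬ p ∣ m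

theorem formula_eq [Fintype (MM K P)] (χ : K → ℂ) (ξ : ↥(K ⊓ nrm P) → ℂ) :
    (Nat.card ↥(K ⊓ nrm P) : ℂ)⁻¹ * ∑ᶠ c : ↥(K ⊓ nrm P),
        χ (Subgroup.inclusion inf_le_left c) * conj (ξ c) =
      classInner (resM K P χ) (fun m => ξ (eMC K P m)) := by
  rw [Helper74.classInner_def, Nat.card_congr (eMC K P).toEquiv,
    ← finsum_comp_equiv (eMC K P).toEquiv, finsum_eq_sum_of_fintype]
  rfl

theorem invK_iff [hK : K.Normal] (χ : K → ℂ) :
    (∀ x ∈ (P : Subgroup G), ∀ k k' : ↥K, (k' : G) = x * (k : G) * x⁻¹ → χ k' = χ k) ↔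
      (P : Subgroup G) ≤ inertia K χ := by
  constructor
  · intro h x hx
    rw [mem_inertia_iff]
    intro n
    exact h x hx n _ rfl
  · intro h x hx k k' hk'
    have := (mem_inertia_iff K χ x).mp (h hx) k
    rw [← this]
    congr 1
    exact Subtype.ext hk'

theorem invC_iff [hK : K.Normal] (ξ : ↥(K ⊓ nrm P) → ℂ) :
    (∀ x ∈ (P : Subgroup G), ∀ k k' : ↥(K ⊓ nrm P), (k' : G) = x * (k : G) * x⁻¹ → ξ k' = ξ k) ↔
      PM P ≤ @inertia _ _ (MM K P) (hK.subgroupOf _) (fun m => ξ (eMC K P m)) := by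
  have hMn : (MM K P).Normal := hK.subgroupOf _
  constructor
  · intro h x hx
    rw [mem_inertia_iff]
    intro m
    apply h ((x : nrm P) : G) (Subgroup.mem_subgroupOf.mp hx)
    rfl
  · intro h x hx k k' hk'
    have hx' : (⟨x, Subgroup.le_normalizer hx⟩ : nrm P) ∈ PM P := Subgroup.mem_subgroupOf.mpr hx
    have := (mem_inertia_iff (MM K P) (fun m => ξ (eMC K P m)) _).mp (h hx') ((eMC K P).symm k)
    simp only [MulEquiv.apply_symm_apply] at this
    rw [← this]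
    congr 1
    apply Subtype.ext
    rw [hk']
    rfl

end

section package

variable {G : Type u} [Group G] [Fintype G] {p : ℕ} [hp : Fact p.Prime]
  (K : Subgroup G) [hK : K.Normal] (P : Sylow p G) [Fintype (MM K P)]

theorem mem_inf_nrm_iff (Q : Subgroup G) [hQn : Q.Normal] (hQK : Q ≤ K) (hQp : IsPGroup p Q)
    (hQi : ¬ p ∣ Q.relIndex K) (k : G) :
    k ∈ K ⊓ nrm P ↔ (k ∈ K ∧ ∀ x ∈ (P : Subgroup G), x * k * x⁻¹ * k⁻¹ ∈ Q) := by
  have hQP : Q ≤ P := hQp.le_sylow_of_normal P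
  constructor
  · rintro ⟨hkK, hkN⟩
    refine ⟨hkK, fun x hx => ?_⟩
    have h1 : x * k * x⁻¹ * k⁻¹ ∈ K := K.mul_mem (hK.conj_mem k hkK x) (K.inv_mem hkK)
    have h2 : x * k * x⁻¹ * k⁻¹ ∈ (P : Subgroup G) := by
      have h3 : k * x⁻¹ * k⁻¹ ∈ (P : Subgroup G) :=
        (Subgroup.mem_normalizer_iff.mp hkN x⁻¹).mp (Subgroup.inv_mem _ hx)
      have e : x * k * x⁻¹ * k⁻¹ = x * (k * x⁻¹ * k⁻¹) := by group
      rw [e]; exact Subgroup.mul_mem _ hx h3
    have h4 : K ⊓ (P : Subgroup G) ≤ Q :=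
      le_normal_of_isPGroup K Q _ hQK hQp hQi inf_le_left
        (P.isPGroup'.to_le inf_le_right)
    exact h4 ⟨h1, h2⟩
  · rintro ⟨hkK, hkQ⟩
    refine Subgroup.mem_inf.mpr ⟨hkK, ?_⟩
    have hfwd : ∀ z ∈ (P : Subgroup G), k * z * k⁻¹ ∈ (P : Subgroup G) := by
      intro z hz
      have h1 := hQP (hkQ z⁻¹ (Subgroup.inv_mem _ hz))
      have e : k * z * k⁻¹ = z * (z⁻¹ * k * z⁻¹⁻¹ * k⁻¹) := by group
      rw [e]; exact Subgroup.mul_mem _ hz h1
    have hbwd : ∀ z ∈ (P : Subgroup G), k⁻¹ * z * k ∈ (P : Subgroup G) := by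
      intro z hz
      have h1 := hkQ z⁻¹ (Subgroup.inv_mem _ hz)
      have h2 := hQn.conj_mem _ (Q.inv_mem h1) k⁻¹
      have e : k⁻¹ * z * k = z * (k⁻¹ * (z⁻¹ * k * z⁻¹⁻¹ * k⁻¹)⁻¹ * k⁻¹⁻¹) := by group
      rw [e]; exact Subgroup.mul_mem _ hz (hQP h2)
    rw [Subgroup.mem_normalizer_iff]
    intro h
    constructor
    · exact hfwd h
    · intro hh
      have := hbwd _ hh
      have e : k⁻¹ * (k * h * k⁻¹) * k = h := by group
      rwa [e] at this

/-- The correspondence, packaged. -/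
theorem corr_package (Q : Subgroup G) [hQn : Q.Normal] (hQK : Q ≤ K) (hQp : IsPGroup p Q)
    (hQi : ¬ p ∣ Q.relIndex K) :
    (∀ θ : IrrCharacter K, (P : Subgroup G) ≤ inertia K (θ : K → ℂ) →
      ∃ η : IrrCharacter (MM K P),
        PM P ≤ @inertia _ _ (MM K P) (hK.subgroupOf _) (η : MM K P → ℂ) ∧
        Corr p K P (θ : K → ℂ) (η : MM K P → ℂ) ∧
        ((charDegree (η : MM K P → ℂ) : ZMod p) = (charDegree (θ : K → ℂ) : ZMod p) ∨
          (charDegree (η : MM K P → ℂ) : ZMod p) = -(charDegree (θ : K → ℂ) : ZMod p))) ∧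
    (∀ η : IrrCharacter (MM K P),
      PM P ≤ @inertia _ _ (MM K P) (hK.subgroupOf _) (η : MM K P → ℂ) →
      ∃ θ : IrrCharacter K, (P : Subgroup G) ≤ inertia K (θ : K → ℂ) ∧
        Corr p K P (θ : K → ℂ) (η : MM K P → ℂ)) ∧
    (∀ (θ : IrrCharacter K) (η₁ η₂ : IrrCharacter (MM K P)),
      (P : Subgroup G) ≤ inertia K (θ : K → ℂ) →
      PM P ≤ @inertia _ _ (MM K P) (hK.subgroupOf _) (η₁ : MM K P → ℂ) →
      PM P ≤ @inertia _ _ (MM K P) (hK.subgroupOf _) (η₂ : MM K P → ℂ) →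
      Corr p K P (θ : K → ℂ) (η₁ : MM K P → ℂ) → Corr p K P (θ : K → ℂ) (η₂ : MM K P → ℂ) →
      η₁ = η₂) ∧
    (∀ (θ₁ θ₂ : IrrCharacter K) (η : IrrCharacter (MM K P)),
      (P : Subgroup G) ≤ inertia K (θ₁ : K → ℂ) → (P : Subgroup G) ≤ inertia K (θ₂ : K → ℂ) →
      PM P ≤ @inertia _ _ (MM K P) (hK.subgroupOf _) (η : MM K P → ℂ) →
      Corr p K P (θ₁ : K → ℂ) (η : MM K P → ℂ) → Corr p K P (θ₂ : K → ℂ) (η : MM K P → ℂ) →
      θ₁ = θ₂) := by
  classical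
  have hMn : (MM K P).Normal := hK.subgroupOf _
  have hPK : (P : Subgroup G) ≤ Subgroup.normalizer (K : Set G) := by
    rw [Subgroup.normalizer_eq_top_iff.mpr hK]; exact le_top
  obtain ⟨f, hbij, hf⟩ := S4914.result p (P : Subgroup G) K Q (K ⊓ nrm P) P.isPGroup' hPK hQK
    (fun k _ q hq => hQn.conj_mem q hq k) (IsPGroup.iff_card.mp hQp) hQi inf_le_left
    (mem_inf_nrm_iff K P Q hQK hQp hQi)
  -- transport
  let tC : IrrCharacter (MM K P) ≃ IrrCharacter ↥(K ⊓ nrm P) := Helper80.irrCongr (eMC K P)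
  have htC : ∀ (η : IrrCharacter (MM K P)) (m : MM K P),
      ((tC η : IrrCharacter ↥(K ⊓ nrm P)) : ↥(K ⊓ nrm P) → ℂ) (eMC K P m) = (η : MM K P → ℂ) m := by
    intro η m
    show (η : MM K P → ℂ) ((eMC K P).symm (eMC K P m)) = _
    rw [MulEquiv.symm_apply_apply]
  have htC' : ∀ (η : IrrCharacter (MM K P)),
      (fun m => ((tC η : IrrCharacter ↥(K ⊓ nrm P)) : ↥(K ⊓ nrm P) → ℂ) (eMC K P m)) =
        (η : MM K P → ℂ) := fun η => funext (htC η)
  have hinvC : ∀ η : IrrCharacter (MM K P),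
      PM P ≤ inertia (MM K P) (η : MM K P → ℂ) →
      (∀ x ∈ (P : Subgroup G), ∀ k k' : ↥(K ⊓ nrm P), (k' : G) = x * (k : G) * x⁻¹ →
        ((tC η : IrrCharacter ↥(K ⊓ nrm P)) : ↥(K ⊓ nrm P) → ℂ) k' =
          ((tC η : IrrCharacter ↥(K ⊓ nrm P)) : ↥(K ⊓ nrm P) → ℂ) k) := by
    intro η hη
    rw [invC_iff K P, htC']
    exact hη
  -- key: `Corr θ η ↔ tC η = f θ`
  have hkey : ∀ (θ : IrrCharacter K) (hθ : (P : Subgroup G) ≤ inertia K (θ : K → ℂ))
      (η : IrrCharacter (MM K P)) (hη : PM P ≤ inertia (MM K P) (η : MM K P → ℂ)),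
      Corr p K P (θ : K → ℂ) (η : MM K P → ℂ) ↔
        tC η = (f ⟨θ, (invK_iff K P _).mpr hθ⟩).1 := by
    intro θ hθ η hη
    obtain ⟨m, hm, h1, h2⟩ := (hf ⟨θ, (invK_iff K P _).mpr hθ⟩).1 ⟨tC η, hinvC η hη⟩
    rw [formula_eq K P, htC'] at hm
    constructor
    · rintro ⟨m', hm', hnd⟩
      by_contra hne
      have : m = m' := by
        have : (m : ℂ) = (m' : ℂ) := by rw [← hm, ← hm']
        exact_mod_cast this
      exact hnd (this ▸ h2 (fun h => hne (congrArg Subtype.val h)))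
    · intro heq
      refine ⟨m, hm, ?_⟩
      intro hdvd
      have h0 : (m : ZMod p) = 0 := (ZMod.natCast_eq_zero_iff m p).mpr hdvd
      rcases h1 (Subtype.ext heq) with h3 | h3
      · rw [h0] at h3; exact zero_ne_one h3
      · rw [h0] at h3
        have : (1 : ZMod p) = 0 := by
          have := congrArg (fun z : ZMod p => -z) h3
          simpa using this.symm
        exact one_ne_zero this
  refine ⟨?_, ?_, ?_, ?_⟩
  · intro θ hθ
    obtain ⟨ξ, hξ⟩ : ∃ ξ, ξ = f ⟨θ, (invK_iff K P _).mpr hθ⟩ := ⟨_, rfl⟩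
    have hη : PM P ≤ inertia (MM K P) ((tC.symm ξ.1 : IrrCharacter (MM K P)) : MM K P → ℂ) := by
      have h1 := (invC_iff K P _).mp ξ.2
      have h2 : (fun m => ((ξ.1 : IrrCharacter ↥(K ⊓ nrm P)) : ↥(K ⊓ nrm P) → ℂ) (eMC K P m)) =
          ((tC.symm ξ.1 : IrrCharacter (MM K P)) : MM K P → ℂ) := rfl
      rwa [h2] at h1
    have hξ' : tC (tC.symm ξ.1) = (f ⟨θ, (invK_iff K P _).mpr hθ⟩).1 := by
      rw [Equiv.apply_symm_apply, hξ]
    refine ⟨tC.symm ξ.1, hη, (hkey θ hθ _ hη).mpr hξ', ?_⟩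
    have hdeg := (hf ⟨θ, (invK_iff K P _).mpr hθ⟩).2
    rw [← hξ] at hdeg
    have e : charDegree ((tC.symm ξ.1 : IrrCharacter (MM K P)) : MM K P → ℂ) =
        charDegree ((ξ.1 : IrrCharacter ↥(K ⊓ nrm P)) : ↥(K ⊓ nrm P) → ℂ) := by
      unfold charDegree
      rfl
    rw [e]
    exact hdeg
  · intro η hη
    obtain ⟨χ, hχ⟩ := hbij.2 ⟨tC η, hinvC η hη⟩
    refine ⟨χ.1, (invK_iff K P _).mp χ.2, ?_⟩
    exact (hkey χ.1 ((invK_iff K P _).mp χ.2) η hη).mpr (congrArg Subtype.val hχ).symm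
  · intro θ η₁ η₂ hθ hη₁ hη₂ h1 h2
    have e1 := (hkey θ hθ η₁ hη₁).mp h1
    have e2 := (hkey θ hθ η₂ hη₂).mp h2
    exact tC.injective (e1.trans e2.symm)
  · intro θ₁ θ₂ η hθ₁ hθ₂ hη h1 h2
    have e1 := (hkey θ₁ hθ₁ η hη).mp h1
    have e2 := (hkey θ₂ hθ₂ η hη).mp h2
    have e3 := hbij.1 (Subtype.ext (e1.symm.trans e2))
    exact congrArg Subtype.val e3

end package

end Cfsg.Agent.Helper81
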