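import Mathlib
import Cfsg.Agent.Helper81.RealN1
import Cfsg.Agent.Helper81.RealN2
import Cfsg.Agent.Helper81.RealN3

/-!
# Compatibility of the correspondence `Corr` with conjugation by `N_G(P)` and with complex
conjugation; inertia groups of corresponding characters.
-/

set_option autoImplicit false
set_option linter.unusedSectionVars false

namespace Cfsg.Agent.Helper81

open Cfsg Cfsg.Agent.Helper15
open scoped ComplexConjugate

universe u

section

variable {G : Type u} [Group G] [Fintype G] {p : ℕ} [hp : Fact p.Prime]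
  (K : Subgroup G) [hK : K.Normal] (P : Sylow p G) [Fintype (MM K P)]

instance instNormalMM : (MM K P).Normal := hK.subgroupOf _

instance instNormalPM : (PM P).Normal := by
  have h : (((P : Subgroup G)).subgroupOf (nrm P)).Normal := Subgroup.normal_in_normalizer
  exact h

theorem resM_conjFun (n : nrm P) (θ : K → ℂ) :
    resM K P (Helper15.conjFun K (n : G) θ) = Helper15.conjFun (MM K P) n (resM K P θ) := by
  funext c
  rfl

theorem corr_conjFun (n : nrm P) {θ : K → ℂ} {η : MM K P → ℂ} (h : Corr p K P θ η) :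
    Corr p K P (Helper15.conjFun K (n : G) θ) (Helper15.conjFun (MM K P) n η) := by
  obtain ⟨m, hm, hnd⟩ := h
  refine ⟨m, ?_, hnd⟩
  rw [resM_conjFun, classInner_conjFun_conjFun]
  exact hm

theorem corr_conj {θ : K → ℂ} {η : MM K P → ℂ} (h : Corr p K P θ η) :
    Corr p K P (fun k => conj (θ k)) (fun c => conj (η c)) := by
  obtain ⟨m, hm, hnd⟩ := h
  refine ⟨m, ?_, hnd⟩
  have e : resM K P (fun k => conj (θ k)) = fun c => conj (resM K P θ c) := rfl
  rw [e, classInner_conj_conj, hm, Complex.conj_natCast]

theorem le_inertia_conjFun_of_mem_nrm (n : G) (hn : n ∈ nrm P) {θ : K → ℂ}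
    (h : (P : Subgroup G) ≤ inertia K θ) :
    (P : Subgroup G) ≤ inertia K (Helper15.conjFun K n θ) := by
  intro x hx
  rw [mem_inertia_conjFun_iff]
  exact h ((Subgroup.mem_normalizer_iff.mp hn x).mp hx)

theorem le_inertia_conjFun_PM (n : nrm P) {η : MM K P → ℂ}
    (h : PM P ≤ inertia (MM K P) η) :
    PM P ≤ inertia (MM K P) (Helper15.conjFun (MM K P) n η) := by
  intro x hx
  rw [mem_inertia_conjFun_iff]
  exact h ((instNormalPM P).conj_mem x hx n)

theorem le_inertia_conj {H : Type*} [Group H] (M : Subgroup H) [M.Normal] (R : Subgroup H)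
    {θ : M → ℂ} (h : R ≤ inertia M θ) : R ≤ inertia M (fun k => conj (θ k)) := by
  intro x hx
  have h1 := (mem_inertia M θ x).mp (h hx)
  rw [mem_inertia]
  funext k
  have := congrFun h1 k
  rw [conjFun_apply] at this ⊢
  rw [this]

end

end Cfsg.Agent.Helper81
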