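import Mathlib
import Cfsg.Agent.Helper81.RealN1
import Cfsg.Agent.Helper81.RealN2
import Cfsg.Agent.Helper81.RealN3
import Cfsg.Agent.Helper81.RealN4

/-!
# Real characters of `G` and of `N_G(P)`: the bijection

`K ⊴ G` of odd index with a normal Sylow `p`-subgroup `Q ⊴ G`; every real-valued irreducible
character of `G` has degree prime to `p`.  `RelNK χ ξ` relates a real `χ ∈ Irr G` to a real
`ξ ∈ Irr N_G(P)` when they lie over `P`-invariant real characters `θ ∈ Irr K`, `η ∈ Irr N_K(P)`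
that correspond.  It is the graph of a bijection onto the real characters of `N_G(P)` of degree
prime to `p`, and corresponding degrees are congruent up to sign modulo `p`.
-/

set_option autoImplicit false
set_option linter.unusedSectionVars false

namespace Cfsg.Agent.Helper81

open Cfsg Cfsg.Agent.Helper15
open scoped ComplexConjugate

universe u

section

variable {G : Type u} [Group G] [Fintype G] {p : ℕ} [hp : Fact p.Prime]
  (K : Subgroup G) [hK : K.Normal] (P : Sylow p G) [Fintype K] [Fintype ↥(nrm P)]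
  [Fintype (MM K P)]

theorem odd_index_MM (hodd : Odd K.index) : Odd (MM K P).index := by
  have h : (MM K P).index ∣ K.index := Subgroup.relIndex_dvd_index_of_normal K (nrm P)
  exact Odd.of_dvd_nat hodd h

theorem isPGroup_PM : IsPGroup p (PM P) := P.isPGroup'.comap_subtype

variable (Q : Subgroup G) [hQn : Q.Normal] (hQK : Q ≤ K) (hQp : IsPGroup p Q)
  (hQi : ¬ p ∣ Q.relIndex K)

include hQK hQp hQi

theorem mem_inertia_MM_iff (θ : IrrCharacter K) (η : IrrCharacter (MM K P))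
    (hθ : (P : Subgroup G) ≤ inertia K (θ : K → ℂ))
    (hη : PM P ≤ inertia (MM K P) (η : MM K P → ℂ))
    (hc : Corr p K P (θ : K → ℂ) (η : MM K P → ℂ)) (n : nrm P) :
    n ∈ inertia (MM K P) (η : MM K P → ℂ) ↔ (n : G) ∈ inertia K (θ : K → ℂ) := by
  obtain ⟨-, -, C3, C4⟩ := corr_package K P Q hQK hQp hQi
  rw [mem_inertia, mem_inertia]
  constructor
  · intro h
    have h1 := corr_conjFun K P n hc
    rw [h] at h1
    have h2 := C4 ⟨Helper15.conjFun K (n : G) (θ : K → ℂ), isIrrCharacter_conjFun K θ.2 _⟩ θ η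
      (le_inertia_conjFun_of_mem_nrm K P n n.2 hθ) hθ hη h1 hc
    exact congrArg Subtype.val h2
  · intro h
    have h1 := corr_conjFun K P n hc
    rw [h] at h1
    have h2 := C3 θ ⟨Helper15.conjFun (MM K P) n (η : MM K P → ℂ),
      isIrrCharacter_conjFun (MM K P) η.2 _⟩ η hθ (le_inertia_conjFun_PM K P n hη) hη h1 hc
    exact congrArg Subtype.val h2

theorem index_inertia_modEq (θ : IrrCharacter K) (η : IrrCharacter (MM K P))
    (hθ : (P : Subgroup G) ≤ inertia K (θ : K → ℂ))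
    (hη : PM P ≤ inertia (MM K P) (η : MM K P → ℂ))
    (hc : Corr p K P (θ : K → ℂ) (η : MM K P → ℂ)) :
    (inertia K (θ : K → ℂ)).index ≡ (inertia (MM K P) (η : MM K P → ℂ)).index [MOD p] := by
  have e : inertia (MM K P) (η : MM K P → ℂ) = (inertia K (θ : K → ℂ)).subgroupOf (nrm P) := by
    ext n
    rw [mem_inertia_MM_iff K P Q hQK hQp hQi θ η hθ hη hc n, Subgroup.mem_subgroupOf]
  have e2 : (inertia (MM K P) (η : MM K P → ℂ)).index =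
      (inertia K (θ : K → ℂ) ⊓ nrm P).relIndex (nrm P) := by
    rw [e, Subgroup.inf_relIndex_right]
    rfl
  rw [e2]
  exact index_modEq_relIndex_normalizer P _ hθ


omit hQK hQp hQi in
/-- The relation between real characters of `G` and of `N_G(P)`. -/
def RelNK (p : ℕ) (K : Subgroup G) [hK : K.Normal] (P : Sylow p G) [Fintype K]
    [Fintype (MM K P)] (χ : IrrCharacter G) (ξ : IrrCharacter ↥(nrm P)) : Prop :=
  ∃ (θ : IrrCharacter K) (η : IrrCharacter (MM K P)),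
    (∀ k : K, conj ((θ : K → ℂ) k) = (θ : K → ℂ) k) ∧
    (∀ m : MM K P, conj ((η : MM K P → ℂ) m) = (η : MM K P → ℂ) m) ∧
    (P : Subgroup G) ≤ inertia K (θ : K → ℂ) ∧
    PM P ≤ inertia (MM K P) (η : MM K P → ℂ) ∧
    classInner (fun k : K => (χ : G → ℂ) k) (θ : K → ℂ) ≠ 0 ∧
    Corr p K P (θ : K → ℂ) (η : MM K P → ℂ) ∧
    classInner (fun m : MM K P => (ξ : ↥(nrm P) → ℂ) m) (η : MM K P → ℂ) ≠ 0

theorem exists_rel_right (hodd : Odd K.index) (χ : IrrCharacter G)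
    (hχ : ∀ g : G, conj ((χ : G → ℂ) g) = (χ : G → ℂ) g)
    (hpχ : ¬ p ∣ charDegree (χ : G → ℂ)) :
    ∃ ξ : IrrCharacter ↥(nrm P),
      (∀ n : ↥(nrm P), conj ((ξ : ↥(nrm P) → ℂ) n) = (ξ : ↥(nrm P) → ℂ) n) ∧
      RelNK p K P χ ξ ∧
      ((charDegree (ξ : ↥(nrm P) → ℂ) : ZMod p) = (charDegree (χ : G → ℂ) : ZMod p) ∨
        (charDegree (ξ : ↥(nrm P) → ℂ) : ZMod p) = -(charDegree (χ : G → ℂ) : ZMod p)) := by
  obtain ⟨C1, -, C3, -⟩ := corr_package K P Q hQK hQp hQi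
  have hoddM := odd_index_MM K P hodd
  obtain ⟨θ₀, hθ₀r, hθ₀χ⟩ := exists_real_constituent K hodd χ hχ
  have hdeg0 := real_over_degree K hodd θ₀ hθ₀r χ hχ hθ₀χ
  have hT0 : ¬ p ∣ (inertia K (θ₀ : K → ℂ)).index := by
    intro h
    apply hpχ
    rw [hdeg0]
    exact dvd_mul_of_dvd_left h _
  obtain ⟨g, hg⟩ := exists_conj_invariant K (P : Subgroup G) P.isPGroup' (θ₀ : K → ℂ) hT0
  obtain ⟨θ, hθdef⟩ : ∃ θ : IrrCharacter K, θ =
      ⟨Helper15.conjFun K g (θ₀ : K → ℂ), isIrrCharacter_conjFun K θ₀.2 g⟩ := ⟨_, rfl⟩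
  have hθc : (θ : K → ℂ) = Helper15.conjFun K g (θ₀ : K → ℂ) := by rw [hθdef]
  have hθP : (P : Subgroup G) ≤ inertia K (θ : K → ℂ) := by
    rw [hθc]; exact hg
  have hθr : ∀ k : K, conj ((θ : K → ℂ) k) = (θ : K → ℂ) k := by
    intro k
    rw [hθc, conjFun_apply]
    exact hθ₀r _
  have hθχ : classInner (fun k : K => (χ : G → ℂ) k) (θ : K → ℂ) ≠ 0 := by
    rw [hθc, classInner_restrict_conjFun K (Helper74.irr_isClassFunction χ) g]
    exact hθ₀χ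
  obtain ⟨η, hηP, hc, hdegη⟩ := C1 θ hθP
  have hηr : ∀ m : MM K P, conj ((η : MM K P → ℂ) m) = (η : MM K P → ℂ) m := by
    have h1 := corr_conj K P hc
    have e : (fun k => conj ((θ : K → ℂ) k)) = (θ : K → ℂ) := funext hθr
    rw [e] at h1
    have h2 := C3 θ (irrConj _ η) η hθP (le_inertia_conj (MM K P) (PM P) hηP) hηP h1 hc
    intro m
    exact congrArg (fun ψ : IrrCharacter (MM K P) => (ψ : MM K P → ℂ) m) h2
  obtain ⟨ξ, ⟨hξη, hξr, -⟩, -⟩ := real_over_main (MM K P) hoddM η hηr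
  refine ⟨ξ, hξr, ⟨θ, η, hθr, hηr, hθP, hηP, hθχ, hc, hξη⟩, ?_⟩
  have hdχ := real_over_degree K hodd θ hθr χ hχ hθχ
  have hdξ := real_over_degree (MM K P) hoddM η hηr ξ hξr hξη
  have hidx := index_inertia_modEq K P Q hQK hQp hQi θ η hθP hηP hc
  have hidx' : ((inertia (MM K P) (η : MM K P → ℂ)).index : ZMod p) =
      ((inertia K (θ : K → ℂ)).index : ZMod p) :=
    (ZMod.natCast_eq_natCast_iff _ _ _).mpr hidx.symm
  rw [hdχ, hdξ]
  push_cast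
  rw [hidx']
  rcases hdegη with h | h
  · left; rw [h]
  · right; rw [h]; ring

theorem exists_rel_left (hodd : Odd K.index) (ξ : IrrCharacter ↥(nrm P))
    (hξ : ∀ n : ↥(nrm P), conj ((ξ : ↥(nrm P) → ℂ) n) = (ξ : ↥(nrm P) → ℂ) n)
    (hpξ : ¬ p ∣ charDegree (ξ : ↥(nrm P) → ℂ)) :
    ∃ χ : IrrCharacter G, (∀ g : G, conj ((χ : G → ℂ) g) = (χ : G → ℂ) g) ∧ RelNK p K P χ ξ := by
  obtain ⟨-, C2, -, C4⟩ := corr_package K P Q hQK hQp hQi
  have hoddM := odd_index_MM K P hodd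
  obtain ⟨η, hηr, hηξ⟩ := exists_real_constituent (MM K P) hoddM ξ hξ
  have hdeg := real_over_degree (MM K P) hoddM η hηr ξ hξ hηξ
  have hT : ¬ p ∣ (inertia (MM K P) (η : MM K P → ℂ)).index := by
    intro h
    apply hpξ
    rw [hdeg]
    exact dvd_mul_of_dvd_left h _
  obtain ⟨y, hy⟩ := exists_conj_mem_of_not_dvd_index (PM P) (isPGroup_PM P) _ hT
  have hηP : PM P ≤ inertia (MM K P) (η : MM K P → ℂ) := by
    intro x hx
    have h1 := hy (y * x * y⁻¹) ((instNormalPM P).conj_mem x hx y)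
    have e : y⁻¹ * (y * x * y⁻¹) * y = x := by group
    rwa [e] at h1
  obtain ⟨θ, hθP, hc⟩ := C2 η hηP
  have hθr : ∀ k : K, conj ((θ : K → ℂ) k) = (θ : K → ℂ) k := by
    have h1 := corr_conj K P hc
    have e : (fun m => conj ((η : MM K P → ℂ) m)) = (η : MM K P → ℂ) := funext hηr
    rw [e] at h1
    have h2 := C4 (irrConj _ θ) θ η (le_inertia_conj K (P : Subgroup G) hθP) hθP hηP h1 hc
    intro k
    exact congrArg (fun ψ : IrrCharacter K => (ψ : K → ℂ) k) h2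
  obtain ⟨χ, ⟨hχθ, hχr, -⟩, -⟩ := real_over_main K hodd θ hθr
  exact ⟨χ, hχr, θ, η, hθr, hηr, hθP, hηP, hχθ, hc, hηξ⟩

theorem rel_right_unique (hodd : Odd K.index) (χ : IrrCharacter G)
    (ξ₁ ξ₂ : IrrCharacter ↥(nrm P))
    (h₁r : ∀ n : ↥(nrm P), conj ((ξ₁ : ↥(nrm P) → ℂ) n) = (ξ₁ : ↥(nrm P) → ℂ) n)
    (h₂r : ∀ n : ↥(nrm P), conj ((ξ₂ : ↥(nrm P) → ℂ) n) = (ξ₂ : ↥(nrm P) → ℂ) n)
    (h1 : RelNK p K P χ ξ₁) (h2 : RelNK p K P χ ξ₂) : ξ₁ = ξ₂ := by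
  obtain ⟨-, -, C3, -⟩ := corr_package K P Q hQK hQp hQi
  have hoddM := odd_index_MM K P hodd
  obtain ⟨θ₁, η₁, hθ₁r, hη₁r, hθ₁P, hη₁P, hχθ₁, hc₁, hξη₁⟩ := h1
  obtain ⟨θ₂, η₂, hθ₂r, hη₂r, hθ₂P, hη₂P, hχθ₂, hc₂, hξη₂⟩ := h2
  obtain ⟨g, hg⟩ := exists_conj_of_constituents K χ.2 θ₁.2 θ₂.2 hχθ₁ hχθ₂
  have hgP : (P : Subgroup G) ≤ inertia K (Helper15.conjFun K g (θ₁ : K → ℂ)) := by
    rw [← hg]; exact hθ₂P
  obtain ⟨n, hn, hne⟩ := exists_normalizer_conj K P (θ₁ : K → ℂ) hθ₁P g hgP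
  have hc₁' := corr_conjFun K P ⟨n, hn⟩ hc₁
  have hθ₂n : (θ₂ : K → ℂ) = Helper15.conjFun K n (θ₁ : K → ℂ) := hg.trans hne
  rw [← hθ₂n] at hc₁'
  have e := C3 θ₂ ⟨Helper15.conjFun (MM K P) (⟨n, hn⟩ : nrm P) (η₁ : MM K P → ℂ),
    isIrrCharacter_conjFun (MM K P) η₁.2 _⟩ η₂ hθ₂P
    (le_inertia_conjFun_PM K P ⟨n, hn⟩ hη₁P) hη₂P hc₁' hc₂
  have e' : (η₂ : MM K P → ℂ) =
      Helper15.conjFun (MM K P) (⟨n, hn⟩ : nrm P) (η₁ : MM K P → ℂ) :=
    (congrArg Subtype.val e).symm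
  have hξ₁η₂ : classInner (fun m : MM K P => (ξ₁ : ↥(nrm P) → ℂ) m) (η₂ : MM K P → ℂ) ≠ 0 := by
    rw [e', classInner_restrict_conjFun (MM K P) (Helper74.irr_isClassFunction ξ₁)]
    exact hξη₁
  obtain ⟨ξ, -, huniq⟩ := real_over_main (MM K P) hoddM η₂ hη₂r
  rw [huniq ξ₁ hξ₁η₂ h₁r, huniq ξ₂ hξη₂ h₂r]

theorem rel_left_unique (hodd : Odd K.index) (χ₁ χ₂ : IrrCharacter G)
    (ξ : IrrCharacter ↥(nrm P))
    (h₁r : ∀ g : G, conj ((χ₁ : G → ℂ) g) = (χ₁ : G → ℂ) g)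
    (h₂r : ∀ g : G, conj ((χ₂ : G → ℂ) g) = (χ₂ : G → ℂ) g)
    (h1 : RelNK p K P χ₁ ξ) (h2 : RelNK p K P χ₂ ξ) : χ₁ = χ₂ := by
  obtain ⟨-, -, -, C4⟩ := corr_package K P Q hQK hQp hQi
  obtain ⟨θ₁, η₁, hθ₁r, hη₁r, hθ₁P, hη₁P, hχθ₁, hc₁, hξη₁⟩ := h1
  obtain ⟨θ₂, η₂, hθ₂r, hη₂r, hθ₂P, hη₂P, hχθ₂, hc₂, hξη₂⟩ := h2
  obtain ⟨n, hn⟩ := exists_conj_of_constituents (MM K P) ξ.2 η₁.2 η₂.2 hξη₁ hξη₂
  have hc₁' := corr_conjFun K P n hc₁
  rw [← hn] at hc₁'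
  have e := C4 ⟨Helper15.conjFun K (n : G) (θ₁ : K → ℂ), isIrrCharacter_conjFun K θ₁.2 _⟩ θ₂ η₂
    (le_inertia_conjFun_of_mem_nrm K P n n.2 hθ₁P) hθ₂P hη₂P hc₁' hc₂
  have e' : (θ₂ : K → ℂ) = Helper15.conjFun K (n : G) (θ₁ : K → ℂ) :=
    (congrArg Subtype.val e).symm
  have hχ₁θ₂ : classInner (fun k : K => (χ₁ : G → ℂ) k) (θ₂ : K → ℂ) ≠ 0 := by
    rw [e', classInner_restrict_conjFun K (Helper74.irr_isClassFunction χ₁)]
    exact hχθ₁
  obtain ⟨χ, -, huniq⟩ := real_over_main K hodd θ₂ hθ₂r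
  rw [huniq χ₁ hχ₁θ₂ h₁r, huniq χ₂ hχθ₂ h₂r]

end

/-- The bijection between the real irreducible characters of `G` and the real irreducible
characters of `N_G(P)` of degree prime to `p`. -/
theorem real_bijection_of_normal {G : Type u} [Group G] [Finite G] {p : ℕ} [hp : Fact p.Prime]
    (K : Subgroup G) [hK : K.Normal] (P : Sylow p G) (Q : Subgroup G) [hQn : Q.Normal]
    (hQK : Q ≤ K) (hQp : IsPGroup p Q) (hQi : ¬ p ∣ Q.relIndex K) (hodd : Odd K.index)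
    (hreal : RealPPrime p G) :
    ∃ f : {χ : IrrCharacter G // ∀ g : G, ((χ : G → ℂ) g).im = 0} →
        {ξ : IrrCharacter ↥(nrm P) // (∀ n, ((ξ : ↥(nrm P) → ℂ) n).im = 0) ∧
          ¬ p ∣ charDegree (ξ : ↥(nrm P) → ℂ)},
      Function.Bijective f ∧ ∀ χ,
        ((charDegree ((f χ).1 : ↥(nrm P) → ℂ) : ZMod p) = (charDegree (χ.1 : G → ℂ) : ZMod p) ∨
          (charDegree ((f χ).1 : ↥(nrm P) → ℂ) : ZMod p) =
            -(charDegree (χ.1 : G → ℂ) : ZMod p)) := by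
  classical
  let _ : Fintype G := Fintype.ofFinite G
  let _ : Fintype K := Fintype.ofFinite K
  let _ : Fintype ↥(nrm P) := Fintype.ofFinite _
  let _ : Fintype (MM K P) := Fintype.ofFinite _
  have key : ∀ χ : {χ : IrrCharacter G // ∀ g : G, ((χ : G → ℂ) g).im = 0},
      ∃ ξ : {ξ : IrrCharacter ↥(nrm P) // (∀ n, ((ξ : ↥(nrm P) → ℂ) n).im = 0) ∧
          ¬ p ∣ charDegree (ξ : ↥(nrm P) → ℂ)},
        RelNK p K P χ.1 ξ.1 ∧
        ((charDegree (ξ.1 : ↥(nrm P) → ℂ) : ZMod p) = (charDegree (χ.1 : G → ℂ) : ZMod p) ∨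
          (charDegree (ξ.1 : ↥(nrm P) → ℂ) : ZMod p) =
            -(charDegree (χ.1 : G → ℂ) : ZMod p)) := by
    intro χ
    obtain ⟨ξ, hξr, hrel, hdeg⟩ := exists_rel_right K P Q hQK hQp hQi hodd χ.1
      (fun g => Complex.conj_eq_iff_im.mpr (χ.2 g)) (hreal χ.1 χ.2)
    have hpξ : ¬ p ∣ charDegree (ξ : ↥(nrm P) → ℂ) := by
      intro h
      have h0 : (charDegree (ξ : ↥(nrm P) → ℂ) : ZMod p) = 0 :=
        (ZMod.natCast_eq_zero_iff _ _).mpr h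
      have h1 : (charDegree (χ.1 : G → ℂ) : ZMod p) = 0 := by
        rcases hdeg with h2 | h2
        · rw [← h2, h0]
        · rw [h0] at h2
          exact neg_eq_zero.mp h2.symm
      exact hreal χ.1 χ.2 ((ZMod.natCast_eq_zero_iff _ _).mp h1)
    exact ⟨⟨ξ, fun n => Complex.conj_eq_iff_im.mp (hξr n), hpξ⟩, hrel, hdeg⟩
  choose f hf using key
  refine ⟨f, ⟨?_, ?_⟩, fun χ => (hf χ).2⟩
  · intro χ₁ χ₂ h
    have h1 := (hf χ₁).1
    have h2 := (hf χ₂).1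
    rw [h] at h1
    exact Subtype.ext (rel_left_unique K P Q hQK hQp hQi hodd χ₁.1 χ₂.1 (f χ₂).1
      (fun g => Complex.conj_eq_iff_im.mpr (χ₁.2 g)) (fun g => Complex.conj_eq_iff_im.mpr (χ₂.2 g))
      h1 h2)
  · intro ξ
    obtain ⟨χ, hχr, hrel⟩ := exists_rel_left K P Q hQK hQp hQi hodd ξ.1
      (fun n => Complex.conj_eq_iff_im.mpr (ξ.2.1 n)) ξ.2.2
    obtain ⟨χ', hχ'⟩ : ∃ χ' : {χ : IrrCharacter G // ∀ g : G, ((χ : G → ℂ) g).im = 0},
        χ'.1 = χ := ⟨⟨χ, fun g => Complex.conj_eq_iff_im.mp (hχr g)⟩, rfl⟩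
    refine ⟨χ', ?_⟩
    apply Subtype.ext
    have h1 : RelNK p K P χ (f χ').1 := by
      rw [← hχ']; exact (hf χ').1
    exact rel_right_unique K P Q hQK hQp hQi hodd χ (f χ').1 ξ.1
      (fun n => Complex.conj_eq_iff_im.mpr ((f χ').2.1 n))
      (fun n => Complex.conj_eq_iff_im.mpr (ξ.2.1 n)) h1 hrel

end Cfsg.Agent.Helper81
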