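import Mathlib
import Cfsg.Agent.Helper81.ResA2.Defs

/-!
# S5289 piece (ALL2), leaf (AI): `C_G(E) ⊓ N = E`
-/

set_option autoImplicit false
set_option linter.unusedSectionVars false
universe u
namespace Cfsg.Agent.Helper81.ResA2
variable {G : Type u} [Group G] {p : ℕ} [hp : Fact p.Prime] {N : Subgroup G}

/-- (AI) -/
theorem centralizer_inf (hc : Cf p N) (hZ : Nat.card (zN N) = p) (E : Subgroup G) (hEN : E ≤ N) (hE : Nat.card E = p ^ 2)
    (hEab : ∀ a ∈ E, ∀ b ∈ E, a * b = b * a)
    (hqc : ∀ x ∈ E, x ∉ zN N → ∀ g ∈ N, g * x = x * g → g ∈ E) :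
    Subgroup.centralizer (E : Set G) ⊓ N = E := by
  have hfin := hc.fin
  have hpp : p.Prime := hp.out
  apply le_antisymm
  · intro g hg
    obtain ⟨hgA, hgN⟩ := Subgroup.mem_inf.mp hg
    obtain ⟨y, hyE, hyZ⟩ : ∃ y ∈ E, y ∉ zN N := by
      by_contra hcon
      have hle : E ≤ zN N := by
        intro q hq
        by_contra hq'
        exact hcon ⟨q, hq, hq'⟩
      have := Subgroup.card_le_of_le hle
      rw [hE, hZ] at this
      have h1 := hpp.one_lt
      nlinarith
    rw [Subgroup.mem_centralizer_iff] at hgA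
    exact hqc y hyE hyZ g hgN (hgA y hyE).symm
  · intro e he
    refine Subgroup.mem_inf.mpr ⟨?_, hEN he⟩
    rw [Subgroup.mem_centralizer_iff]
    intro e' he'
    exact hEab e' he' e he

end Cfsg.Agent.Helper81.ResA2
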