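import Mathlib
import Cfsg.Agent.Helper81.ResA2.Defs
import Cfsg.Agent.Helper89.BlkRK

/-!
# S5289 piece (ALL2), leaf (AR): rank
-/

set_option autoImplicit false
set_option linter.unusedSectionVars false
universe u
namespace Cfsg.Agent.Helper81.ResA2
variable {G : Type u} [Group G] {p : ℕ} [hp : Fact p.Prime] {N : Subgroup G}

/-- (AR) -/
theorem mem_sq_of_pow (hc : Cf p N) (E : Subgroup G) (hEN : E ≤ N) (hE : Nat.card E = p ^ 2) :
    ∀ t ∈ Subgroup.centralizer (E : Set G), t ^ p = 1 → t ∈ E := by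
  intro t ht htp
  haveI := hc.fin
  have hrk : Cfsg.PRankLE p 2 G := by
    intro A hA hAexp
    apply hc.rank A _ hAexp
    intro a ha b hb
    have := hA.is_comm.comm (⟨a, ha⟩ : A) ⟨b, hb⟩
    exact congrArg Subtype.val this
  exact Cfsg.Agent.Helper89.Blk.mem_of_rank hrk E hE (fun e he => hc.exp e (hEN he)) t ht htp

end Cfsg.Agent.Helper81.ResA2
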