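import Mathlib
import Cfsg.Agent.Helper81.ResA2.Defs

/-!
# S5289 piece (ALL2), leaf (BIL): pure commutator computation (hedge by helper81)
-/

set_option autoImplicit false
set_option linter.unusedSectionVars false
set_option linter.unusedVariables false
universe u
namespace Cfsg.Agent.Helper81.ResA2
variable {G : Type u} [Group G] {p : ℕ} [hp : Fact p.Prime] {N : Subgroup G}

theorem BIL_step3 (E : Subgroup G) (hcomm : ∀ n ∈ N, ∀ t : G, n * t * n⁻¹ * t⁻¹ ∈ E)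
    (a : G) (ha : a ∈ N) (h : G) (hh : h ∈ Subgroup.centralizer (E : Set G)) (j : ℕ) :
    a * h ^ j * a⁻¹ * (h ^ j)⁻¹ = (a * h * a⁻¹ * h⁻¹) ^ j := by
  induction j with
  | zero => simp
  | succ j ih =>
    have hj : h ^ j ∈ Subgroup.centralizer (E : Set G) := Subgroup.pow_mem _ hh j
    rw [Subgroup.mem_centralizer_iff] at hj
    have hcm : (a * h * a⁻¹ * h⁻¹) * h ^ j = h ^ j * (a * h * a⁻¹ * h⁻¹) := hj _ (hcomm a ha h)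
    have e1 : a * h ^ (j + 1) * a⁻¹ * (h ^ (j + 1))⁻¹ =
        (a * h ^ j * a⁻¹ * (h ^ j)⁻¹) * ((h ^ j * (a * h * a⁻¹ * h⁻¹)) * (h ^ j)⁻¹) := by
      rw [pow_succ]; group
    have e2 : (h ^ j * (a * h * a⁻¹ * h⁻¹)) * (h ^ j)⁻¹ = a * h * a⁻¹ * h⁻¹ := by
      rw [← hcm, mul_inv_cancel_right]
    rw [e1, e2, ih, pow_succ]

theorem BIL_step4 (E : Subgroup G) (hEN : E ≤ N) (hZc : ∀ z ∈ zN N, ∀ t : G, t * z = z * t)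
    (hZK : ∀ x ∈ N, ∀ y ∈ N, x * y * x⁻¹ * y⁻¹ ∈ zN N)
    (hcomm : ∀ n ∈ N, ∀ t : G, n * t * n⁻¹ * t⁻¹ ∈ E)
    (g : G) (hg : g ∈ N) (h : G) (i : ℕ) :
    ∃ v ∈ zN N, g ^ i * h * (g ^ i)⁻¹ * h⁻¹ = (g * h * g⁻¹ * h⁻¹) ^ i * v := by
  induction i with
  | zero => exact ⟨1, Subgroup.one_mem _, by simp⟩
  | succ i ih =>
    obtain ⟨v, hv, ih⟩ := ih
    have hεE : g ^ i * h * (g ^ i)⁻¹ * h⁻¹ ∈ E := hcomm (g ^ i) (N.pow_mem hg i) h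
    have hw : g * (g ^ i * h * (g ^ i)⁻¹ * h⁻¹) * g⁻¹ * (g ^ i * h * (g ^ i)⁻¹ * h⁻¹)⁻¹ ∈ zN N :=
      hZK g hg _ (hEN hεE)
    set ε := g ^ i * h * (g ^ i)⁻¹ * h⁻¹ with hε
    set w := g * ε * g⁻¹ * ε⁻¹ with hwdef
    refine ⟨v * w, Subgroup.mul_mem _ hv hw, ?_⟩
    have e1 : g ^ (i + 1) * h * (g ^ (i + 1))⁻¹ * h⁻¹ = w * ε * (g * h * g⁻¹ * h⁻¹) := by
      rw [hwdef, hε, pow_succ']; group
    rw [e1, ih]
    set c := g * h * g⁻¹ * h⁻¹ with hc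
    have hwc : ∀ t : G, t * w = w * t := hZc w hw
    have hvc : ∀ t : G, t * v = v * t := hZc v hv
    calc w * (c ^ i * v) * c = c ^ i * (v * c) * w := by
          rw [mul_assoc w, ← hwc]; group
      _ = c ^ i * (c * v) * w := by rw [hvc c]
      _ = c ^ (i + 1) * (v * w) := by rw [pow_succ]; group

theorem comm_pow_mixed (hN : N.Normal) (E : Subgroup G) (hEN : E ≤ N) (hZc : ∀ z ∈ zN N, ∀ t : G, t * z = z * t)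
    (hZK : ∀ x ∈ N, ∀ y ∈ N, x * y * x⁻¹ * y⁻¹ ∈ zN N)
    (hcomm : ∀ n ∈ N, ∀ t : G, n * t * n⁻¹ * t⁻¹ ∈ E) :
    ∀ g ∈ N, ∀ h ∈ Subgroup.centralizer (E : Set G), ∀ i j : ℕ, ∀ u ∈ zN N, ∀ e ∈ E, ∃ u' ∈ zN N,
      (g ^ i * u) * (h ^ j * e) * (g ^ i * u)⁻¹ * (h ^ j * e)⁻¹ = (g * h * g⁻¹ * h⁻¹) ^ (i * j) * u' := by
  intro g hg h hh i j u hu e he
  obtain ⟨v, hv, h4⟩ := BIL_step4 E hEN hZc hZK hcomm g hg h i
  have hgi : g ^ i ∈ N := N.pow_mem hg i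
  have h3 := BIL_step3 E hcomm (g ^ i) hgi h hh j
  have hw : g ^ i * e * (g ^ i)⁻¹ * e⁻¹ ∈ zN N := hZK _ hgi e (hEN he)
  set w := g ^ i * e * (g ^ i)⁻¹ * e⁻¹ with hwdef
  refine ⟨v ^ j * w, Subgroup.mul_mem _ (Subgroup.pow_mem _ hv j) hw, ?_⟩
  have huc : ∀ t : G, t * u = u * t := hZc u hu
  have hwc : ∀ t : G, t * w = w * t := hZc w hw
  have hvc : ∀ t : G, t * v = v * t := hZc v hv
  have e1 : (g ^ i * u) * (h ^ j * e) * (g ^ i * u)⁻¹ * (h ^ j * e)⁻¹ =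
      g ^ i * (h ^ j * e) * (g ^ i)⁻¹ * (h ^ j * e)⁻¹ := by
    calc (g ^ i * u) * (h ^ j * e) * (g ^ i * u)⁻¹ * (h ^ j * e)⁻¹
        = g ^ i * (u * (h ^ j * e)) * u⁻¹ * (g ^ i)⁻¹ * (h ^ j * e)⁻¹ := by group
      _ = g ^ i * ((h ^ j * e) * u) * u⁻¹ * (g ^ i)⁻¹ * (h ^ j * e)⁻¹ := by rw [huc (h ^ j * e)]
      _ = g ^ i * (h ^ j * e) * (g ^ i)⁻¹ * (h ^ j * e)⁻¹ := by group
  have e2 : g ^ i * (h ^ j * e) * (g ^ i)⁻¹ * (h ^ j * e)⁻¹ =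
      (g ^ i * h ^ j * (g ^ i)⁻¹ * (h ^ j)⁻¹) * (h ^ j * w) * (h ^ j)⁻¹ := by
    rw [hwdef]; group
  rw [e1, e2, hwc (h ^ j), h3, h4]
  have hcm : Commute ((g * h * g⁻¹ * h⁻¹) ^ i) v := hvc _
  rw [hcm.mul_pow, ← pow_mul]
  group

end Cfsg.Agent.Helper81.ResA2
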