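import Mathlib
import Cfsg.Agent.Helper81.ResA2.Defs

/-!
# S5289 piece (ALL2), leaf (BIL2): pure commutator computation (hedge by helper81)
-/

set_option autoImplicit false
set_option linter.unusedSectionVars false
set_option linter.unusedVariables false
universe u
namespace Cfsg.Agent.Helper81.ResA2
variable {G : Type u} [Group G] {p : ℕ} [hp : Fact p.Prime] {N : Subgroup G}

theorem BIL2_pow_left (hZK : ∀ x ∈ N, ∀ y ∈ N, x * y * x⁻¹ * y⁻¹ ∈ zN N) (g h : G) (hg : g ∈ N) (hh : h ∈ N)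
    (i : ℕ) : g ^ i * h * (g ^ i)⁻¹ * h⁻¹ = (g * h * g⁻¹ * h⁻¹) ^ i := by
  induction i with
  | zero => simp
  | succ i ih =>
    have hz := hZK g hg h hh
    have hcomm : g ^ i * (g * h * g⁻¹ * h⁻¹) = (g * h * g⁻¹ * h⁻¹) * g ^ i :=
      (mem_zN.mp hz).2 (g ^ i) (N.pow_mem hg i)
    have e1 : g ^ (i + 1) * h * (g ^ (i + 1))⁻¹ * h⁻¹ =
        g ^ i * (g * h * g⁻¹ * h⁻¹) * (g ^ i)⁻¹ * (g ^ i * h * (g ^ i)⁻¹ * h⁻¹) := by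
      rw [pow_succ]; group
    rw [e1, hcomm, ih, mul_inv_cancel_right, pow_succ']

theorem BIL2_swap (a b : G) : a * b * a⁻¹ * b⁻¹ = (b * a * b⁻¹ * a⁻¹)⁻¹ := by group

theorem BIL2_pow_right (hZK : ∀ x ∈ N, ∀ y ∈ N, x * y * x⁻¹ * y⁻¹ ∈ zN N) (g h : G) (hg : g ∈ N) (hh : h ∈ N)
    (j : ℕ) : g * h ^ j * g⁻¹ * (h ^ j)⁻¹ = (g * h * g⁻¹ * h⁻¹) ^ j := by
  rw [BIL2_swap, BIL2_pow_left hZK h g hh hg j, ← inv_pow, ← BIL2_swap]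

theorem comm_pow_N (hZK : ∀ x ∈ N, ∀ y ∈ N, x * y * x⁻¹ * y⁻¹ ∈ zN N) :
    ∀ g ∈ N, ∀ h ∈ N, ∀ i j : ℕ, ∀ u ∈ zN N, ∀ u' ∈ zN N,
      (g ^ i * u) * (h ^ j * u') * (g ^ i * u)⁻¹ * (h ^ j * u')⁻¹ = (g * h * g⁻¹ * h⁻¹) ^ (i * j) := by
  intro g hg h hh i j u hu u' hu'
  have hu1 := (mem_zN.mp hu).2
  have hu2 := (mem_zN.mp hu').2
  have hgi : g ^ i ∈ N := N.pow_mem hg i
  have hhj : h ^ j ∈ N := N.pow_mem hh j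
  have e1 : (g ^ i * u) * (h ^ j * u') * (g ^ i * u)⁻¹ * (h ^ j * u')⁻¹ =
      g ^ i * h ^ j * (g ^ i)⁻¹ * (h ^ j)⁻¹ := by
    have a1 : u * h ^ j = h ^ j * u := (hu1 (h ^ j) hhj).symm
    have a2 : u' * g ^ i = g ^ i * u' := (hu2 (g ^ i) hgi).symm
    have a3 : u' * u = u * u' := (hu1 u' (zN_le N hu')).symm ▸ rfl
    calc (g ^ i * u) * (h ^ j * u') * (g ^ i * u)⁻¹ * (h ^ j * u')⁻¹
        = g ^ i * (u * h ^ j) * u' * u⁻¹ * (g ^ i)⁻¹ * u'⁻¹ * (h ^ j)⁻¹ := by group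
      _ = g ^ i * (h ^ j * u) * u' * u⁻¹ * (g ^ i)⁻¹ * u'⁻¹ * (h ^ j)⁻¹ := by rw [a1]
      _ = g ^ i * h ^ j * (u * u') * u⁻¹ * (g ^ i)⁻¹ * u'⁻¹ * (h ^ j)⁻¹ := by group
      _ = g ^ i * h ^ j * (u' * u) * u⁻¹ * (g ^ i)⁻¹ * u'⁻¹ * (h ^ j)⁻¹ := by rw [a3]
      _ = g ^ i * h ^ j * (u' * (g ^ i)⁻¹) * u'⁻¹ * (h ^ j)⁻¹ := by group
      _ = g ^ i * h ^ j * ((g ^ i)⁻¹ * u') * u'⁻¹ * (h ^ j)⁻¹ := by
          have : u' * (g ^ i)⁻¹ = (g ^ i)⁻¹ * u' := by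
            rw [eq_inv_mul_iff_mul_eq, ← mul_assoc, ← a2, mul_inv_cancel_right]
          rw [this]
      _ = g ^ i * h ^ j * (g ^ i)⁻¹ * (h ^ j)⁻¹ := by group
  rw [e1, BIL2_pow_left hZK g (h ^ j) hg hhj i, BIL2_pow_right hZK g h hg hh j, ← pow_mul, mul_comm]

end Cfsg.Agent.Helper81.ResA2
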