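import Mathlib
import Cfsg.Agent.Helper81.ResA2.Defs
import Cfsg.Agent.Helper77.Res.Defs

/-!
# S5289 piece (ALL2), leaf (TR): transfer from helper77's `Cfg` to the abstract configuration `Cf` in `↥T`
-/

set_option autoImplicit false
set_option linter.unusedSectionVars false
universe u
namespace Cfsg.Agent.Helper81.ResA2
open Cfsg.Agent.Helper77.Res
variable {p : ℕ} [hp : Fact p.Prime]
variable {Ω : Type u} [Group Ω] {T P : Subgroup Ω} {A : Subgroup (MulAut ↥P)} {B : Subgroup (MulAut ↥T)}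

theorem TR_card_subgroupOf {H K : Subgroup Ω} (h : H ≤ K) : Nat.card (H.subgroupOf K) = Nat.card H :=
  Nat.card_congr (Subgroup.subgroupOfEquivOfLe h).toEquiv

theorem TR_cf (hc : Cfg p T P A B)
    (hPcard : Nat.card P = p ^ 3) (hPexp : ∀ x ∈ P, x ^ p = 1) (hPna : ∃ a ∈ P, ∃ b ∈ P, a * b ≠ b * a) :
    Cf p (P.subgroupOf T) where
  fin := hc.fin
  pgrp := hc.pgrp
  nrm := by
    constructor
    intro n hn g
    rw [Subgroup.mem_subgroupOf] at hn ⊢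
    have hg := hc.norm g.2
    rw [Subgroup.mem_normalizer_iff] at hg
    have := (hg (n : Ω)).mp hn
    simpa using this
  card := by rw [TR_card_subgroupOf hc.le, hPcard]
  exp := by
    intro x hx
    rw [Subgroup.mem_subgroupOf] at hx
    apply Subtype.ext
    rw [Subgroup.coe_pow, Subgroup.coe_one]
    exact hPexp _ hx
  na := by
    obtain ⟨a, ha, b, hb, hab⟩ := hPna
    refine ⟨⟨a, hc.le ha⟩, Subgroup.mem_subgroupOf.mpr ha, ⟨b, hc.le hb⟩, Subgroup.mem_subgroupOf.mpr hb, ?_⟩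
    intro h
    exact hab (congrArg Subtype.val h)
  ne := by
    obtain ⟨t, htT, htP⟩ := SetLike.exists_of_lt (lt_of_le_of_ne hc.le hc.ne)
    exact ⟨⟨t, htT⟩, fun h => htP (Subgroup.mem_subgroupOf.mp h)⟩
  cent := by
    intro t ht
    rw [Subgroup.mem_subgroupOf]
    apply hc.cent t t.2
    intro x hx
    have := ht ⟨x, hc.le hx⟩ (Subgroup.mem_subgroupOf.mpr hx)
    exact congrArg Subtype.val this
  rank := by
    intro E hEab hEexp
    have h := hc.rank (E.map T.subtype) (Subgroup.map_subtype_le E)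
      (by
        rintro _ ⟨a, ha, rfl⟩ _ ⟨b, hb, rfl⟩
        exact congrArg Subtype.val (hEab a ha b hb))
      (by
        rintro _ ⟨a, ha, rfl⟩
        have := congrArg Subtype.val (hEexp a ha)
        simpa using this)
    rwa [Subgroup.card_map_of_injective T.subtype_injective] at h

/-- (TR) -/
theorem transfer (hc : Cfg p T P A B) (hpc : PClosed T P A)
    (hPcard : Nat.card P = p ^ 3) (hPexp : ∀ x ∈ P, x ^ p = 1) (hPna : ∃ a ∈ P, ∃ b ∈ P, a * b ≠ b * a)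
    (Q : Subgroup Ω) (hQP : Q ≤ P) (hQcard : Nat.card Q = p ^ 2) (hQn : ∃ s ∈ T, ∃ x ∈ Q, s * x * s⁻¹ ∉ Q)
    (ψ : MulAut ↥P) (hψ : ψ ∈ A) (a : ℕ)
    (hψQ : ∀ x : P, (x : Ω) ∈ Q → ((ψ x : P) : Ω) ∈ Q ∧
      ∀ t ∈ P, (((x : Ω) ^ a)⁻¹ * ((ψ x : P) : Ω)) * t = t * (((x : Ω) ^ a)⁻¹ * ((ψ x : P) : Ω))) :
    Cf p (P.subgroupOf T) ∧ Q.subgroupOf T ≤ P.subgroupOf T ∧ Nat.card (Q.subgroupOf T) = p ^ 2 ∧
    (¬ ∀ t : T, ∀ q ∈ Q.subgroupOf T, t * q * t⁻¹ ∈ Q.subgroupOf T) ∧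
    ∃ χ : MulAut T, (∀ x ∈ P.subgroupOf T, χ x ∈ P.subgroupOf T) ∧
      ∀ x ∈ Q.subgroupOf T, χ x ∈ Q.subgroupOf T ∧
        ∀ t ∈ P.subgroupOf T, ((x ^ a)⁻¹ * χ x) * t = t * ((x ^ a)⁻¹ * χ x) := by
  refine ⟨TR_cf hc hPcard hPexp hPna, ?_, ?_, ?_, ?_⟩
  · intro x hx
    rw [Subgroup.mem_subgroupOf] at hx ⊢
    exact hQP hx
  · rw [TR_card_subgroupOf (hQP.trans hc.le), hQcard]
  · intro h
    obtain ⟨s, hs, x, hx, hsx⟩ := hQn
    apply hsx
    have := h ⟨s, hs⟩ ⟨x, hc.le (hQP hx)⟩ (Subgroup.mem_subgroupOf.mpr hx)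
    rw [Subgroup.mem_subgroupOf] at this
    simpa using this
  · obtain ⟨χ, -, hχ⟩ := hc.ext ψ hψ (fun α hα => hpc ψ hψ α hα)
    have key : ∀ (x : T) (hx : (x : Ω) ∈ P), ((χ x : T) : Ω) = ((ψ ⟨(x : Ω), hx⟩ : P) : Ω) := by
      intro x hx
      have := hχ ⟨(x : Ω), hx⟩
      exact this
    refine ⟨χ, ?_, ?_⟩
    · intro x hx
      rw [Subgroup.mem_subgroupOf] at hx ⊢
      rw [key x hx]
      exact (ψ ⟨(x : Ω), hx⟩).2
    · intro x hx
      rw [Subgroup.mem_subgroupOf] at hx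
      have hxP : (x : Ω) ∈ P := hQP hx
      obtain ⟨h1, h2⟩ := hψQ ⟨(x : Ω), hxP⟩ hx
      refine ⟨?_, ?_⟩
      · rw [Subgroup.mem_subgroupOf, key x hxP]
        exact h1
      · intro t ht
        rw [Subgroup.mem_subgroupOf] at ht
        apply Subtype.ext
        have := h2 (t : Ω) ht
        simp only [Subgroup.coe_mul, Subgroup.coe_inv, Subgroup.coe_pow, key x hxP]
        exact this

end Cfsg.Agent.Helper81.ResA2
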