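import Mathlib
import Cfsg.Agent.Helper77.Res.Defs
import Cfsg.Agent.Helper81.ResA2.Main
import Cfsg.Agent.Helper81.ResA2_TR

/-!
# S5289 swarm (architect helper77), piece (ALL2) `no_pearl_above`

Second stage: `P ≅ p_+^{1+2}`, `A` `p`-closed, `Q ≤ P` of order `p²` not normal in `T`, `ψ ∈ A` normalizing `Q` and acting on `Q/Z(P)` as the `a`-th power
with `a² ≢ 1`: impossible.  Proof: transfer to the abstract configuration in `↥T` (`ResA2_TR`) and the abstract theorem `ResA2.abs_main`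
(assembled from the 21 leaves of the ResA2 sub-farm, board #14259).
-/

set_option autoImplicit false
set_option linter.unusedVariables false

universe u

namespace Cfsg.Agent.Helper81.Res

open Subgroup Cfsg.Agent.Helper77.Res

variable {Ω : Type u} [Group Ω] {p : ℕ} [hp : Fact p.Prime]

section localcfg
variable {T P : Subgroup Ω} {A : Subgroup (MulAut ↥P)} {B : Subgroup (MulAut ↥T)}

/-- (ALL2) -/
theorem no_pearl_above (h5 : 5 ≤ p) (hc : Cfg p T P A B) (hpc : PClosed T P A)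
    (hPcard : Nat.card P = p ^ 3) (hPexp : ∀ x ∈ P, x ^ p = 1) (hPna : ∃ a ∈ P, ∃ b ∈ P, a * b ≠ b * a)
    (Q : Subgroup Ω) (hQP : Q ≤ P) (hQcard : Nat.card Q = p ^ 2) (hQn : ∃ s ∈ T, ∃ x ∈ Q, s * x * s⁻¹ ∉ Q)
    (ψ : MulAut ↥P) (hψ : ψ ∈ A) (a : ℕ) (ha : a ^ 2 % p ≠ 1) (hcop : (orderOf ψ).Coprime p)
    (hψQ : ∀ x : P, (x : Ω) ∈ Q → ((ψ x : P) : Ω) ∈ Q ∧
      ∀ t ∈ P, (((x : Ω) ^ a)⁻¹ * ((ψ x : P) : Ω)) * t = t * (((x : Ω) ^ a)⁻¹ * ((ψ x : P) : Ω))) : False := by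
  obtain ⟨h1, h2, h3, h4, χ, h5', h6⟩ :=
    Cfsg.Agent.Helper81.ResA2.transfer hc hpc hPcard hPexp hPna Q hQP hQcard hQn ψ hψ a hψQ
  exact ha (Cfsg.Agent.Helper81.ResA2.abs_main h1 _ h2 h3 h4 χ h5' a h6)

end localcfg

end Cfsg.Agent.Helper81.Res
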