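import Mathlib
import Cfsg.Agent.Helper74.SN.Defs

/-!
# S4073 farm (architect helper74), bundle (NIL): nilpotent `SN`-groups

* (N1) in a nilpotent `SN`-group every proper subgroup is abelian;
* (N1b) a nonabelian nilpotent `SN`-group is a `p`-group;
* (CNA) a nilpotent nonabelian centralizer in a simple `SN`-group is a Sylow subgroup and a maximal subgroup.
-/

set_option autoImplicit false
set_option linter.unusedSectionVars false
set_option linter.unusedVariables false
set_option linter.dupNamespace false
set_option linter.style.haveILetI false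

namespace Cfsg.Agent.Helper81.SNG

open Cfsg Cfsg.Agent.Helper74.SNG

universe u

/-- (N1) -/
theorem SN.comm_of_nilpotent {H : Type u} [Group H] [Finite H] (h : SN H) [Group.IsNilpotent H]
    (K : Subgroup H) (hK : K ≠ ⊤) : IsMulCommutative K := by
  by_contra hna
  have h1 := h K hna
  have h2 := (normalizerCondition_iff_only_full_group_self_normalizing.mp
    (Group.normalizerCondition_of_isNilpotent (G := H))) K h1
  exact hK h2

/-- a product of commutative groups is commutative, transported along an isomorphism -/
theorem NIL_comm_of_pi {ι : Type*} {f : ι → Type*} [∀ i, Group (f i)] {H : Type*} [Group H]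
    (e : (∀ i, f i) ≃* H) (hc : ∀ i, ∀ a b : f i, a * b = b * a) : ∀ a b : H, a * b = b * a := by
  intro a b
  have h1 : e.symm a * e.symm b = e.symm b * e.symm a := by
    funext i
    exact hc i _ _
  have := congrArg e h1
  simpa using this

/-- (N1b) -/
theorem SN.isPGroup_of_nilpotent {H : Type u} [Group H] [Finite H] (h : SN H) [Group.IsNilpotent H]
    (hna : ¬ IsMulCommutative H) : ∃ p : ℕ, p.Prime ∧ IsPGroup p H := by
  by_contra hcon
  push Not at hcon
  apply hna
  have hnc : NormalizerCondition H := Group.normalizerCondition_of_isNilpotent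
  have hn : ∀ {p : ℕ} [Fact p.Prime] (P : Sylow p H), (P : Subgroup H).Normal :=
    fun {p} _ P => Sylow.normal_of_normalizerCondition hnc P
  have e := Sylow.directProductOfNormal (G := H) hn
  rw [isMulCommutative_type_iff]
  apply NIL_comm_of_pi e
  intro p a b
  funext P
  show a P * b P = b P * a P
  haveI : Fact (p : ℕ).Prime := ⟨Nat.prime_of_mem_primeFactors p.2⟩
  have hP : (P : Subgroup H) ≠ ⊤ := by
    intro htop
    apply hcon p (Nat.prime_of_mem_primeFactors p.2)
    have h1 : IsPGroup p (P : Subgroup H) := P.isPGroup'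
    rw [htop] at h1
    exact h1.of_equiv Subgroup.topEquiv
  have hcomm := SN.comm_of_nilpotent h (P : Subgroup H) hP
  exact hcomm.is_comm.comm (a P) (b P)

section Cases

variable {G : Type u} [Group G] [Finite G] [IsSimpleGroup G]

/-- commutativity passes along `subgroupOf` (both directions for `K ≤ C`) -/
theorem NIL_comm_subgroupOf {G : Type*} [Group G] {K C : Subgroup G} (hKC : K ≤ C)
    (h : IsMulCommutative (K.subgroupOf C)) : IsMulCommutative K := by
  rw [Cfsg.Agent.Helper74.SNG.isMulCommutative_iff] at h ⊢
  intro a ha b hb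
  have := h ⟨a, hKC ha⟩ (Subgroup.mem_subgroupOf.mpr ha) ⟨b, hKC hb⟩ (Subgroup.mem_subgroupOf.mpr hb)
  exact congrArg Subtype.val this

theorem NIL_not_comm_subgroupOf {G : Type*} [Group G] {C K : Subgroup G} (hCK : C ≤ K)
    (h : ¬ IsMulCommutative C) : ¬ IsMulCommutative (C.subgroupOf K) := by
  intro hc
  exact h (NIL_comm_subgroupOf hCK hc)

/-- (CNA) -/
theorem centralizer_nilpotent_sylow_coatom (hna : ¬ IsMulCommutative G) (hSN : SN G)
    (hFG : ∀ K : Subgroup G, K ≠ ⊤ → ∀ (p : ℕ) [Fact p.Prime] (P : Sylow p K),
      (P : Subgroup K) ≠ ⊤ → IsMulCommutative (P : Subgroup K))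
    (x : G) (hx : x ≠ 1)
    (hnil : Group.IsNilpotent (Subgroup.centralizer ({x} : Set G)))
    (hC : ¬ IsMulCommutative (Subgroup.centralizer ({x} : Set G))) :
    ∃ (p : ℕ) (_ : Fact p.Prime) (P : Sylow p G),
      (P : Subgroup G) = Subgroup.centralizer ({x} : Set G) ∧ IsCoatom (P : Subgroup G) ∧
      ∀ K : Subgroup G, K < (P : Subgroup G) → IsMulCommutative K := by
  classical
  set C := Subgroup.centralizer ({x} : Set G) with hCdef
  have hSNC : SN C := hSN.subgroup C
  haveI := hnil
  obtain ⟨p, hp, hpC⟩ := SN.isPGroup_of_nilpotent hSNC hC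
  haveI : Fact p.Prime := ⟨hp⟩
  -- `C` is a Sylow subgroup
  obtain ⟨Q, hCQ⟩ := hpC.exists_le_sylow
  have hNC : Subgroup.normalizer (C : Set G) = C := hSN C hC
  have hQC : (Q : Subgroup G) = C := by
    by_contra hne
    have hlt : C.subgroupOf Q < ⊤ := by
      rw [lt_top_iff_ne_top]
      intro htop
      apply hne
      apply le_antisymm _ hCQ
      intro q hq
      have : (⟨q, hq⟩ : (Q : Subgroup G)) ∈ C.subgroupOf Q := by rw [htop]; exact Subgroup.mem_top _
      exact Subgroup.mem_subgroupOf.mp this
    haveI : Group.IsNilpotent (Q : Subgroup G) := Q.isPGroup'.isNilpotent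
    have hnc : NormalizerCondition (Q : Subgroup G) := Group.normalizerCondition_of_isNilpotent
    have h2 := hnc _ hlt
    obtain ⟨g, hgN, hgC⟩ := SetLike.exists_of_lt h2
    apply hgC
    rw [Subgroup.mem_subgroupOf]
    rw [← hNC, Subgroup.mem_normalizer_iff]
    rw [Subgroup.mem_normalizer_iff] at hgN
    intro y
    constructor
    · intro hy
      have hyQ : y ∈ (Q : Subgroup G) := hCQ hy
      have := (hgN ⟨y, hyQ⟩).mp (Subgroup.mem_subgroupOf.mpr hy)
      rw [Subgroup.mem_subgroupOf] at this
      simpa using this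
    · intro hy
      have hyQ : y ∈ (Q : Subgroup G) := by
        have h3 : (g : G) * y * (g : G)⁻¹ ∈ (Q : Subgroup G) := hCQ hy
        have : y = (g : G)⁻¹ * ((g : G) * y * (g : G)⁻¹) * (g : G) := by group
        rw [this]
        exact Subgroup.mul_mem _ (Subgroup.mul_mem _ (Subgroup.inv_mem _ g.2) h3) g.2
      have := (hgN ⟨y, hyQ⟩).mpr (by
        rw [Subgroup.mem_subgroupOf]
        simpa using hy)
      exact Subgroup.mem_subgroupOf.mp this
  refine ⟨p, ⟨hp⟩, Q, hQC, ?_, ?_⟩
  · -- coatom
    rw [hQC]
    constructor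
    · -- `C ≠ ⊤`
      intro htop
      have hxc : x ∈ Subgroup.center G := by
        rw [Subgroup.mem_center_iff]
        intro g
        have hg : g ∈ C := by rw [htop]; exact Subgroup.mem_top g
        rw [hCdef, Subgroup.mem_centralizer_iff] at hg
        exact (hg x rfl).symm
      have hcen : Subgroup.center G = ⊥ ∨ Subgroup.center G = ⊤ :=
        IsSimpleGroup.eq_bot_or_eq_top_of_normal _ inferInstance
      rcases hcen with hcen | hcen
      · rw [hcen, Subgroup.mem_bot] at hxc
        exact hx hxc
      · apply hna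
        rw [isMulCommutative_type_iff]
        intro a b
        have ha : a ∈ Subgroup.center G := by rw [hcen]; exact Subgroup.mem_top a
        rw [Subgroup.mem_center_iff] at ha
        exact (ha b).symm
    · intro K hCK
      by_contra hK
      have hQK : (Q : Subgroup G) ≤ K := by rw [hQC]; exact hCK.le
      have h1 := hFG K hK p (Q.subtype hQK) (by
        rw [Sylow.coe_subtype, hQC]
        intro htop
        apply hCK.not_ge
        intro k hk
        have : (⟨k, hk⟩ : K) ∈ C.subgroupOf K := by rw [htop]; exact Subgroup.mem_top _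
        exact Subgroup.mem_subgroupOf.mp this)
      rw [Sylow.coe_subtype, hQC] at h1
      exact NIL_not_comm_subgroupOf hCK.le hC h1
  · intro K hK
    rw [hQC] at hK
    apply NIL_comm_subgroupOf hK.le
    apply SN.comm_of_nilpotent hSNC
    intro htop
    apply hK.not_ge
    intro c hc
    have : (⟨c, hc⟩ : C) ∈ K.subgroupOf C := by rw [htop]; exact Subgroup.mem_top _
    exact Subgroup.mem_subgroupOf.mp this

end Cases

end Cfsg.Agent.Helper81.SNG
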