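import Mathlib

/-!
# Counting `p`-torsion linear characters of a cyclic group
-/

set_option autoImplicit false

namespace Cfsg.Agent.Helper81

universe u

/-- The dual of a finite cyclic group of order divisible by `p` has exactly `p` elements of
order dividing `p`. -/
theorem card_dual_pow_eq_one {Q : Type u} [Group Q] [Finite Q] [hc : IsCyclic Q] (p : ℕ)
    (hp : p ∣ Nat.card Q) : Nat.card {μ : Q →* ℂˣ // μ ^ p = 1} = p := by
  classical
  let _ : CommGroup Q := IsCyclic.commGroup
  have hne : NeZero ((Monoid.exponent Q : ℕ) : ℂ) := by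
    constructor
    have : Monoid.exponent Q ≠ 0 := Monoid.exponent_ne_zero_of_finite
    exact_mod_cast this
  obtain ⟨e⟩ := CommGroup.monoidHom_mulEquiv_of_hasEnoughRootsOfUnity Q ℂ
  have hcyc : IsCyclic (Q →* ℂˣ) := isCyclic_of_surjective e.symm e.symm.surjective
  have hfin : Finite (Q →* ℂˣ) := Finite.of_equiv Q e.symm.toEquiv
  have hcard : Nat.card (Q →* ℂˣ) = Nat.card Q := Nat.card_congr e.toEquiv
  have h1 := IsCyclic.card_powMonoidHom_ker (Q →* ℂˣ) p
  rw [hcard, Nat.gcd_eq_right hp] at h1
  refine Eq.trans (Nat.card_congr ?_) h1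
  refine Equiv.subtypeEquivRight (fun μ => ?_)
  rw [MonoidHom.mem_ker, powMonoidHom_apply]

end Cfsg.Agent.Helper81
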