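import Mathlib
import Cfsg.Agent.Helper82.CanonicalGalois
import Cfsg.Agent.Helper74.RestrictIrr
import Cfsg.Agent.Helper34.Basic

/-!
# The power map `g ↦ g ^ k` raising `p`-elements to the `(1+p)`-th power and fixing `p′`-elements

* `coprime_card_of_pow_hyp`: such a `k` is coprime to `|G|`.
* `mk_pow_eq_of_pow_hyp`: in `G / O^p(G)` the `k`-th power is the `(1+p)`-th power.
* `index_pResidual_eq_pow`: `|G : O^p(G)|` is a power of `p`.
* `exists_sigma_fixed_extension`: a `G`-invariant `σ`-fixed irreducible character of `O^p(G)` of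
  degree prime to `p` has a `σ`-fixed extension to `G`.
-/

set_option autoImplicit false
set_option linter.unusedSectionVars false

namespace Cfsg.Agent.Helper81

open Cfsg

universe u

section

variable {G : Type u} [Group G] [Finite G]

theorem coprime_card_of_pow_hyp (p : ℕ) [hp : Fact p.Prime] (k : ℕ)
    (hk₁ : ∀ g : G, (∃ j : ℕ, orderOf g = p ^ j) → g ^ k = g ^ (1 + p))
    (hk₂ : ∀ g : G, Nat.Coprime (orderOf g) p → g ^ k = g) : k.Coprime (Nat.card G) := by
  apply Nat.Coprime.symm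
  apply Nat.coprime_of_dvd
  intro q hq hqG hqk
  have : Fact q.Prime := ⟨hq⟩
  obtain ⟨g, hg⟩ := exists_prime_orderOf_dvd_card' q hqG
  have hgk : g ^ k = 1 := by
    rw [← orderOf_dvd_iff_pow_eq_one, hg]; exact hqk
  have hg1 : g = 1 := by
    by_cases hqp : q = p
    · subst hqp
      have h1 := hk₁ g ⟨1, by rw [hg, pow_one]⟩
      rw [hgk, pow_add, pow_one] at h1
      have h2 : g ^ q = 1 := by rw [← hg]; exact pow_orderOf_eq_one g
      rw [h2, mul_one] at h1
      exact h1.symm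
    · have h1 := hk₂ g (by rw [hg]; exact (Nat.coprime_primes hq hp.out).mpr hqp)
      rw [hgk] at h1
      exact h1.symm
  rw [hg1, orderOf_one] at hg
  exact hq.one_lt.ne hg

theorem index_pResidual_eq_pow (p : ℕ) [hp : Fact p.Prime] :
    ∃ n : ℕ, (pResidual p G).index = p ^ n := by
  have := Helper34.pResidual_normal p G
  have h1 : IsPGroup p (G ⧸ pResidual p G) := Helper34.pResidual_quotient_isPGroup p G
  obtain ⟨n, hn⟩ := IsPGroup.iff_card.mp h1
  exact ⟨n, by rw [Subgroup.index_eq_card]; exact hn⟩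

theorem mk_pow_eq_of_pow_hyp (p : ℕ) [hp : Fact p.Prime] [hN : (pResidual p G).Normal] (k : ℕ)
    (hk₁ : ∀ g : G, (∃ j : ℕ, orderOf g = p ^ j) → g ^ k = g ^ (1 + p)) (P : Sylow p G) (g : G) :
    (QuotientGroup.mk g : G ⧸ pResidual p G) ^ k = (QuotientGroup.mk g) ^ (1 + p) := by
  have htop := Helper34.pResidual_sup_sylow p G P
  have hg : g ∈ pResidual p G ⊔ (P : Subgroup G) := by rw [htop]; trivial
  obtain ⟨n, hn, x, hx, rfl⟩ := Subgroup.mem_sup_of_normal_left.mp hg
  have h1 : (QuotientGroup.mk (n * x) : G ⧸ pResidual p G) = QuotientGroup.mk x := by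
    rw [QuotientGroup.mk_mul, (QuotientGroup.eq_one_iff n).mpr hn, one_mul]
  obtain ⟨j, hj⟩ := (IsPGroup.iff_orderOf.mp P.isPGroup') ⟨x, hx⟩
  have hj' : orderOf x = p ^ j := by
    rw [← hj]; exact Subgroup.orderOf_coe (⟨x, hx⟩ : (P : Subgroup G))
  rw [h1, ← QuotientGroup.mk_pow, ← QuotientGroup.mk_pow, hk₁ x ⟨j, hj'⟩]

theorem exists_sigma_fixed_extension (p : ℕ) [hp : Fact p.Prime] [hN : (pResidual p G).Normal]
    (k : ℕ) (hk : k.Coprime (Nat.card G))
    (θ : pResidual p G → ℂ) (hθ : IsIrrCharacter (pResidual p G) θ)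
    (hinv : ∀ (g : G) (n : pResidual p G),
      θ ⟨g * n * g⁻¹, hN.conj_mem (n : G) n.2 g⟩ = θ n)
    (hdeg : ¬ p ∣ charDegree θ)
    (hfix : ∀ n : pResidual p G, θ (n ^ k) = θ n) :
    ∃ χ : G → ℂ, IsIrrCharacter G χ ∧ (∀ n : pResidual p G, χ n = θ n) ∧
      ∀ g : G, χ (g ^ k) = χ g := by
  have hθc := Helper74.isCharacter_of_isIrr hθ
  have hd : θ 1 = (charDegree θ : ℂ) := (Helper80.IsCharacter.charDegree_cast hθc).symm
  obtain ⟨n, hn⟩ := index_pResidual_eq_pow (G := G) p
  have hcopp : ∀ m : ℕ, ¬ p ∣ m → Nat.Coprime (pResidual p G).index m := by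
    intro m hm
    rw [hn]
    exact Nat.Coprime.pow_left n ((Nat.Prime.coprime_iff_not_dvd hp.out).mpr hm)
  have hcop : Nat.Coprime (pResidual p G).index (detOrder θ * charDegree θ) :=
    Nat.Coprime.mul_right (hcopp _ (Helper74.not_dvd_detOrder_pResidual p hθc)) (hcopp _ hdeg)
  obtain ⟨χ, ⟨hχ, hext, hdet⟩, huniq⟩ :=
    Cfsg.Agent.S0867.result (pResidual p G) θ hθ hinv (charDegree θ) hd hcop
  refine ⟨χ, hχ, hext, ?_⟩
  obtain ⟨τ, hτ⟩ := Helper82.exists_ringAut_complex_pow (Nat.card G) Nat.card_pos k hk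
  have hχc := Helper74.isCharacter_of_isIrr hχ
  have heq : (fun y => τ (χ y)) = fun y => χ (y ^ k) := by
    funext y
    exact Helper82.ringAut_char_eq_pow τ (Nat.card G) k hτ hχc y pow_card_eq_one'
  have hirr : IsIrrCharacter G (fun y => χ (y ^ k)) := Helper82.galoisConj_isIrrCharacter hχ k hk
  have hext' : ∀ m : pResidual p G, (fun y => χ (y ^ k)) m = θ m := by
    intro m
    show χ ((m : G) ^ k) = θ m
    have h1 : ((m : G)) ^ k = ((m ^ k : pResidual p G) : G) := by simp
    rw [h1, hext, hfix]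
  have hdet' : Nat.Coprime (pResidual p G).index (detOrder (fun y => χ (y ^ k))) := by
    rw [← heq, Helper82.detOrder_ringAut τ hχc, hdet]
    exact hcopp _ (Helper74.not_dvd_detOrder_pResidual p hθc)
  have := huniq _ hirr hext' hdet'
  intro g
  exact congrFun this g

end

end Cfsg.Agent.Helper81
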