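import Mathlib
import Cfsg.Agent.Helper15.Gallagher
import Cfsg.Agent.Helper81.LinTwist

/-!
# Gallagher's theorem for an abelian quotient, in terms of homomorphisms `G ⧸ N →* ℂˣ`

* `quotLin N μ`: the linear character of `G` obtained from `μ : G ⧸ N →* ℂˣ`.
* `quotLin_mem_over_one`: it is irreducible and lies over `1_N`.
* `quotLin_twist_injective`: `μ ↦ μ χ` is injective when `χ_N` is irreducible.
* `exists_quotLin_twist_of_restrict_eq`: every `ψ ∈ Irr G` with `ψ_N = χ_N` is `μ χ`.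
-/

set_option autoImplicit false
set_option linter.unusedSectionVars false

namespace Cfsg.Agent.Helper81

open Cfsg
open scoped ComplexConjugate

universe u

section

variable {G : Type u} [Group G] [Fintype G] (N : Subgroup G) [hN : N.Normal]

/-- The linear character of `G` obtained from a homomorphism `G ⧸ N →* ℂˣ`. -/
noncomputable def quotLin (μ : G ⧸ N →* ℂˣ) : G →* ℂˣ := μ.comp (QuotientGroup.mk' N)

omit [Fintype G] in
theorem quotLin_apply (μ : G ⧸ N →* ℂˣ) (g : G) :
    quotLin N μ g = μ (QuotientGroup.mk g) := rfl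

omit [Fintype G] in
theorem quotLin_apply_mem (μ : G ⧸ N →* ℂˣ) (n : N) : quotLin N μ (n : G) = 1 := by
  rw [quotLin_apply, (QuotientGroup.eq_one_iff (n : G)).mpr n.2, map_one]

omit [Fintype G] in
theorem quotLin_injective : Function.Injective (quotLin N) := by
  intro μ₁ μ₂ h
  apply MonoidHom.ext
  intro q
  obtain ⟨g, rfl⟩ := QuotientGroup.mk_surjective q
  have := congrArg (fun f : G →* ℂˣ => f g) h
  simp only [quotLin_apply] at this
  rw [this]

theorem quotLin_mem_over_one [Fintype N] (μ : G ⧸ N →* ℂˣ) :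
    IsIrrCharacter G (fun g => ((quotLin N μ g : ℂˣ) : ℂ)) ∧
      classInner (indFun N (fun _ => (1 : ℂ))) (fun g => ((quotLin N μ g : ℂˣ) : ℂ)) ≠ 0 := by
  have hirr := Helper80.isIrrCharacter_of_monoidHom (quotLin N μ)
  refine ⟨hirr, ?_⟩
  rw [Helper15.frobenius_reciprocity N _ _
    (Helper74.isClassFunction_of_isCharacter (Helper74.isCharacter_of_isIrr hirr))]
  have h1 : (fun h : N => ((quotLin N μ (h : G) : ℂˣ) : ℂ)) = fun _ => (1 : ℂ) := by
    funext n
    rw [quotLin_apply_mem]; rfl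
  rw [h1]
  have := Helper74.irr_inner_self (⟨_, Helper15.isIrrCharacter_one N⟩ : IrrCharacter N)
  rw [this]
  exact one_ne_zero

theorem quotLin_twist_injective [Fintype N] {χ : G → ℂ} (hχ : IsIrrCharacter G χ)
    (hχN : IsIrrCharacter N (fun n : N => χ n)) (μ₁ μ₂ : G ⧸ N →* ℂˣ)
    (h : (fun g => ((quotLin N μ₁ g : ℂˣ) : ℂ) * χ g) = fun g => ((quotLin N μ₂ g : ℂˣ) : ℂ) * χ g) :
    μ₁ = μ₂ := by
  have hb := (Helper15.gallagher_bijOn N hχ hχN).injOn
  have h1 := hb (quotLin_mem_over_one N μ₁) (quotLin_mem_over_one N μ₂) h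
  apply quotLin_injective N
  ext g
  exact congrFun h1 g

theorem exists_quotLin_twist_of_restrict_eq [Fintype N] {χ : G → ℂ} (hχ : IsIrrCharacter G χ)
    (hχN : IsIrrCharacter N (fun n : N => χ n)) {ψ : G → ℂ} (hψ : IsIrrCharacter G ψ)
    (hres : ∀ n : N, ψ n = χ n) :
    ∃ μ : G ⧸ N →* ℂˣ, ψ = fun g => ((quotLin N μ g : ℂˣ) : ℂ) * χ g := by
  have hb := (Helper15.gallagher_bijOn N hχ hχN).surjOn
  have hψc := Helper74.isCharacter_of_isIrr hψ
  have hmem : ψ ∈ {ψ : G → ℂ | IsIrrCharacter G ψ ∧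
      classInner (indFun N (fun n : N => χ n)) ψ ≠ 0} := by
    refine ⟨hψ, ?_⟩
    rw [Helper15.frobenius_reciprocity N _ _ (Helper74.isClassFunction_of_isCharacter hψc)]
    have h1 : (fun h : N => ψ h) = fun n : N => χ n := funext hres
    rw [h1]
    have := Helper74.irr_inner_self (⟨_, hχN⟩ : IrrCharacter N)
    rw [this]
    exact one_ne_zero
  obtain ⟨β, ⟨hβ, hβ1⟩, hβψ⟩ := hb hmem
  have hβψ' : ∀ g, β g * χ g = ψ g := fun g => congrFun hβψ g
  have hβc := Helper74.isCharacter_of_isIrr hβ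
  -- `β` is linear
  have hχ1 : χ 1 ≠ 0 := Helper80.IsIrrCharacter.map_one_ne_zero hχ
  have hβ1' : β 1 = 1 := by
    have h2 := hβψ' 1
    have h3 : ψ 1 = χ 1 := hres 1
    rw [h3] at h2
    have h4 : β 1 * χ 1 = 1 * χ 1 := by rw [h2, one_mul]
    exact mul_right_cancel₀ hχ1 h4
  obtain ⟨φ, hφ⟩ := Helper80.IsCharacter.exists_monoidHom hβc hβ1'
  -- `N` lies in the kernel of `φ`
  have hβN : classInner (fun n : N => β n) (fun _ => (1 : ℂ)) ≠ 0 := by
    rw [Helper15.frobenius_reciprocity N _ _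
      (Helper74.isClassFunction_of_isCharacter hβc)] at hβ1
    intro h0
    apply hβ1
    rw [← Helper15.classInner_conj_symm, h0, map_zero]
  have hker : N ≤ φ.ker := by
    intro n hn
    rw [MonoidHom.mem_ker]
    have h5 := Helper15.normal_mul_of_inner_one_ne_zero N hβ hβN ⟨n, hn⟩ 1
    simp only [mul_one] at h5
    rw [hφ, hφ, map_one] at h5
    exact Units.ext h5
  refine ⟨QuotientGroup.lift N φ hker, ?_⟩
  funext g
  rw [← hβψ' g, hφ g]
  congr 2

end

end Cfsg.Agent.Helper81
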