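import Mathlib
import Cfsg.Agent.Helper81.SigCount1
import Cfsg.Agent.Helper81.SigCount2
import Cfsg.Agent.Helper81.SigCount3
import Cfsg.Agent.Helper81.PBlock1

/-!
# Counting `σ₁`-fixed `p′`-degree characters in the principal block over `O^p(G)` with cyclic quotient
-/

set_option autoImplicit false
set_option linter.unusedSectionVars false

namespace Cfsg.Agent.Helper81

open Cfsg
open scoped ComplexConjugate

universe u

section

variable {G : Type u} [Group G] [Fintype G]

/-- `p`-regular elements lie in `O^p(G)`. -/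
theorem regular_mem_pResidual (p : ℕ) [hp : Fact p.Prime] (y : G) (hy : ¬ p ∣ orderOf y) :
    y ∈ pResidual p G := by
  apply Subgroup.subset_closure
  exact ((Nat.Prime.coprime_iff_not_dvd hp.out).mpr hy).symm

/-- A character of `G` restricting irreducibly to `O^p(G)` lies in the principal block iff its
restriction does. -/
theorem mem_principalBlock_iff_restrict_pResidual (p : ℕ) [hp : Fact p.Prime] {M : Ideal AlgInt}
    (hM : IsPModular p M) [Fintype (pResidual p G)] (ψ : IrrCharacter G)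
    (θ : IrrCharacter (pResidual p G))
    (hres : ∀ n : pResidual p G, (ψ : G → ℂ) n = (θ : pResidual p G → ℂ) n) :
    ψ ∈ principalBlock M G ↔ θ ∈ principalBlock M (pResidual p G) := by
  rw [Helper79.mem_principalBlock_iff_inner_regInd hM, Helper79.mem_principalBlock_iff_inner_regInd hM,
    inner_regInd_ne_zero_iff_of_regular_mem p (pResidual p G) (regular_mem_pResidual p)]
  have h1 : (fun k : pResidual p G => (ψ : G → ℂ) k) = (θ : pResidual p G → ℂ) := funext hres
  rw [h1]

omit [Fintype G] in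
theorem charDegree_eq_of_restrict (N : Subgroup G) {ψ : G → ℂ} {θ : N → ℂ}
    (hres : ∀ n : N, ψ n = θ n) : charDegree ψ = charDegree θ := by
  unfold charDegree
  have : ψ 1 = θ 1 := hres 1
  rw [this]

end

section

variable {G : Type u} [Group G] [Finite G]

/-- Invariance under a Sylow `p`-subgroup implies `G`-invariance for class functions of `O^p(G)`. -/
theorem invariant_of_sylow_invariant (p : ℕ) [hp : Fact p.Prime] [hN : (pResidual p G).Normal]
    (P : Sylow p G) {θ : pResidual p G → ℂ} (hθ : IsClassFunction (pResidual p G) θ)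
    (hP : ∀ x ∈ (P : Subgroup G), ∀ n : pResidual p G,
      θ ⟨x * n * x⁻¹, hN.conj_mem n n.2 x⟩ = θ n) (g : G) (n : pResidual p G) :
    θ ⟨g * n * g⁻¹, hN.conj_mem (n : G) n.2 g⟩ = θ n := by
  have htop := Helper34.pResidual_sup_sylow p G P
  have hg : g ∈ pResidual p G ⊔ (P : Subgroup G) := by rw [htop]; trivial
  obtain ⟨m, hm, x, hx, rfl⟩ := Subgroup.mem_sup_of_normal_left.mp hg
  have h1 : (⟨(m * x) * n * (m * x)⁻¹, hN.conj_mem (n : G) n.2 (m * x)⟩ : pResidual p G) =
      (⟨m, hm⟩ : pResidual p G) * ⟨x * n * x⁻¹, hN.conj_mem n n.2 x⟩ * (⟨m, hm⟩ : pResidual p G)⁻¹ := by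
    apply Subtype.ext
    simp only [Subgroup.coe_mul, Subgroup.coe_inv, mul_inv_rev]
    group
  rw [h1, hθ, hP x hx]

end

end Cfsg.Agent.Helper81

namespace Cfsg.Agent.Helper81

open Cfsg
open scoped ComplexConjugate

universe u

section

variable {G : Type u} [Group G] [Finite G]

/-- The `σ`-twist of a linear character of `G / O^p(G)`. -/
theorem quotLin_pow_hyp (p : ℕ) [hp : Fact p.Prime] [hN : (pResidual p G).Normal] (k : ℕ)
    (hk₁ : ∀ g : G, (∃ j : ℕ, orderOf g = p ^ j) → g ^ k = g ^ (1 + p)) (P : Sylow p G)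
    (μ : G ⧸ pResidual p G →* ℂˣ) (g : G) :
    quotLin (pResidual p G) μ (g ^ k) = quotLin (pResidual p G) (μ ^ (1 + p)) g := by
  rw [quotLin_apply, quotLin_apply, QuotientGroup.mk_pow, mk_pow_eq_of_pow_hyp p k hk₁ P g,
    map_pow, MonoidHom.pow_apply]

/-- For `χ̂` a `σ`-fixed irreducible character with irreducible restriction to `N = O^p(G)`,
the twist `μ χ̂` is `σ`-fixed iff `μ ^ p = 1`. -/
theorem twist_fixed_iff (p : ℕ) [hp : Fact p.Prime] [hN : (pResidual p G).Normal] (k : ℕ)
    (hk₁ : ∀ g : G, (∃ j : ℕ, orderOf g = p ^ j) → g ^ k = g ^ (1 + p)) (P : Sylow p G)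
    {χ : G → ℂ} (hχ : IsIrrCharacter G χ)
    (hχN : IsIrrCharacter (pResidual p G) (fun n : pResidual p G => χ n))
    (hfix : ∀ g : G, χ (g ^ k) = χ g) (μ : G ⧸ pResidual p G →* ℂˣ) :
    (∀ g : G, ((quotLin (pResidual p G) μ (g ^ k) : ℂˣ) : ℂ) * χ (g ^ k) =
      ((quotLin (pResidual p G) μ g : ℂˣ) : ℂ) * χ g) ↔ μ ^ p = 1 := by
  have : Fintype G := Fintype.ofFinite G
  have : Fintype (pResidual p G) := Fintype.ofFinite _
  constructor
  · intro h
    have h1 : (fun g => ((quotLin (pResidual p G) (μ ^ (1 + p)) g : ℂˣ) : ℂ) * χ g) =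
        fun g => ((quotLin (pResidual p G) μ g : ℂˣ) : ℂ) * χ g := by
      funext g
      rw [← h g, quotLin_pow_hyp p k hk₁ P μ g, hfix]
    have h2 := quotLin_twist_injective (pResidual p G) hχ hχN _ _ h1
    rw [pow_add μ 1 p, pow_one μ] at h2
    exact mul_eq_left.mp h2
  · intro h g
    rw [quotLin_pow_hyp p k hk₁ P μ g, hfix, pow_add μ 1 p, pow_one μ, h, mul_one μ]

end

end Cfsg.Agent.Helper81
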