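import Mathlib
import Cfsg.Agent.Helper81.SigCount4

/-!
# The count of `σ₁`-fixed `p′`-degree characters in the principal block (statement S4553)
-/

set_option autoImplicit false
set_option linter.unusedSectionVars false

namespace Cfsg.Agent.Helper81

open Cfsg
open scoped ComplexConjugate

universe u

section

variable {G : Type u} [Group G] [Finite G]

/-- The twists `μ χ̂` of a `σ`-fixed extension `χ̂` of `θ ∈ B₀(N)` by `μ` with `μ ^ p = 1` are
`σ`-fixed members of `B₀(G)` of the same degree. -/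
theorem twist_mem_of_pow_eq_one (p : ℕ) [hp : Fact p.Prime] {M : Ideal AlgInt}
    (hM : IsPModular p M) [hN : (pResidual p G).Normal] (k : ℕ)
    (hk₁ : ∀ g : G, (∃ j : ℕ, orderOf g = p ^ j) → g ^ k = g ^ (1 + p)) (P : Sylow p G)
    (θ : IrrCharacter (pResidual p G)) (hθB : θ ∈ principalBlock M (pResidual p G))
    (hθdeg : ¬ p ∣ charDegree (θ : pResidual p G → ℂ))
    {χ : G → ℂ} (hχ : IsIrrCharacter G χ)
    (hres : ∀ n : pResidual p G, χ n = (θ : pResidual p G → ℂ) n)
    (hfix : ∀ g : G, χ (g ^ k) = χ g) (μ : G ⧸ pResidual p G →* ℂˣ) (hμ : μ ^ p = 1) :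
    ∀ ψ : IrrCharacter G,
      (ψ : G → ℂ) = (fun g => ((quotLin (pResidual p G) μ g : ℂˣ) : ℂ) * χ g) →
      ψ ∈ principalBlock M G ∧ ¬ p ∣ charDegree (ψ : G → ℂ) ∧
        ∀ g : G, (ψ : G → ℂ) (g ^ k) = (ψ : G → ℂ) g := by
  intro ψ hψ
  have : Fintype G := Fintype.ofFinite G
  have : Fintype (pResidual p G) := Fintype.ofFinite _
  have hψres : ∀ n : pResidual p G, (ψ : G → ℂ) n = (θ : pResidual p G → ℂ) n := by
    intro n
    rw [hψ]
    show ((quotLin (pResidual p G) μ (n : G) : ℂˣ) : ℂ) * χ n = _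
    rw [quotLin_apply_mem, Units.val_one, one_mul, hres]
  have hχN : IsIrrCharacter (pResidual p G) (fun n : pResidual p G => χ n) := by
    have h1 : (fun n : pResidual p G => χ n) = (θ : pResidual p G → ℂ) := funext hres
    rw [h1]; exact θ.2
  refine ⟨(mem_principalBlock_iff_restrict_pResidual p hM ψ θ hψres).mpr hθB, ?_, ?_⟩
  · rw [charDegree_eq_of_restrict (pResidual p G) hψres]; exact hθdeg
  · rw [hψ]
    exact (twist_fixed_iff p k hk₁ P hχ hχN hfix μ).mpr hμ

/-- The restriction to `N = O^p(G)` of a `σ`-fixed `p′`-degree member of `B₀(G)`. -/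
theorem restrict_mem_of_mem (p : ℕ) [hp : Fact p.Prime] {M : Ideal AlgInt}
    (hM : IsPModular p M) [hN : (pResidual p G).Normal] (k : ℕ)
    (χ : IrrCharacter G) (hχB : χ ∈ principalBlock M G)
    (hχdeg : ¬ p ∣ charDegree (χ : G → ℂ))
    (hfix : ∀ g : G, (χ : G → ℂ) (g ^ k) = (χ : G → ℂ) g) :
    ∃ θ : IrrCharacter (pResidual p G),
      (∀ n : pResidual p G, (χ : G → ℂ) n = (θ : pResidual p G → ℂ) n) ∧
      θ ∈ principalBlock M (pResidual p G) ∧ ¬ p ∣ charDegree (θ : pResidual p G → ℂ) ∧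
      (∀ (x : G) (n : pResidual p G),
        (θ : pResidual p G → ℂ) ⟨x * n * x⁻¹, hN.conj_mem n n.2 x⟩ =
          (θ : pResidual p G → ℂ) n) ∧
      ∀ n : pResidual p G, (θ : pResidual p G → ℂ) (n ^ k) = (θ : pResidual p G → ℂ) n := by
  have : Fintype G := Fintype.ofFinite G
  have : Fintype (pResidual p G) := Fintype.ofFinite _
  obtain ⟨m, hm⟩ := index_pResidual_eq_pow (G := G) p
  have hcop : (charDegree (χ : G → ℂ)).Coprime (pResidual p G).index := by
    rw [hm]
    exact Nat.Coprime.pow_right m ((Nat.Prime.coprime_iff_not_dvd hp.out).mpr hχdeg).symm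
  have hirr := (Helper74.restrict_irr_of_coprime (pResidual p G) χ.2 hcop).1
  let θ : IrrCharacter (pResidual p G) := ⟨fun n => (χ : G → ℂ) n, hirr⟩
  have hres : ∀ n : pResidual p G, (χ : G → ℂ) n = (θ : pResidual p G → ℂ) n := fun n => rfl
  refine ⟨θ, hres, (mem_principalBlock_iff_restrict_pResidual p hM χ θ hres).mp hχB, ?_, ?_, ?_⟩
  · rw [← charDegree_eq_of_restrict (pResidual p G) hres]; exact hχdeg
  · intro x n
    show (χ : G → ℂ) (x * n * x⁻¹) = (χ : G → ℂ) n
    exact Helper74.isClassFunction_of_isCharacter (Helper74.isCharacter_of_isIrr χ.2) n x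
  · intro n
    show (χ : G → ℂ) ((n ^ k : pResidual p G) : G) = (χ : G → ℂ) n
    rw [Subgroup.coe_pow, hfix]

end

end Cfsg.Agent.Helper81

namespace Cfsg.Agent.Helper81

open Cfsg
open scoped ComplexConjugate

universe u

section

variable {G : Type u} [Group G] [Finite G]

theorem card_sigma_fixed_principal (p : ℕ) [hp : Fact p.Prime] (M : Ideal AlgInt)
    (hM : IsPModular p M) (P : Sylow p G) [hN : (pResidual p G).Normal]
    (hcyc : IsCyclic (G ⧸ pResidual p G)) (hnt : pResidual p G ≠ ⊤) (k : ℕ)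
    (hk₁ : ∀ g : G, (∃ j : ℕ, orderOf g = p ^ j) → g ^ k = g ^ (1 + p))
    (hk₂ : ∀ g : G, Nat.Coprime (orderOf g) p → g ^ k = g) :
    Nat.card {χ : IrrCharacter G // χ ∈ principalBlock M G ∧ ¬ p ∣ charDegree (χ : G → ℂ) ∧
        ∀ g : G, (χ : G → ℂ) (g ^ k) = (χ : G → ℂ) g} =
      p * Nat.card {θ : IrrCharacter (pResidual p G) // θ ∈ principalBlock M (pResidual p G) ∧
        ¬ p ∣ charDegree (θ : pResidual p G → ℂ) ∧
        (∀ x ∈ (P : Subgroup G), ∀ n : pResidual p G,
          (θ : pResidual p G → ℂ) ⟨x * n * x⁻¹, hN.conj_mem n n.2 x⟩ =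
            (θ : pResidual p G → ℂ) n) ∧
        ∀ n : pResidual p G, (θ : pResidual p G → ℂ) (n ^ k) = (θ : pResidual p G → ℂ) n} := by
  classical
  have : Fintype G := Fintype.ofFinite G
  have : Fintype (pResidual p G) := Fintype.ofFinite _
  have hkc : k.Coprime (Nat.card G) := coprime_card_of_pow_hyp p k hk₁ hk₂
  -- `p` divides `|G / N|`
  have hpQ : p ∣ Nat.card (G ⧸ pResidual p G) := by
    obtain ⟨m, hm⟩ := index_pResidual_eq_pow (G := G) p
    rw [← Subgroup.index_eq_card, hm]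
    have hm0 : m ≠ 0 := by
      rintro rfl
      rw [pow_zero, Subgroup.index_eq_one] at hm
      exact hnt hm
    exact dvd_pow_self p hm0
  have hΛ := card_dual_pow_eq_one (Q := G ⧸ pResidual p G) p hpQ
  -- the `σ`-fixed extension of `θ`
  have hext : ∀ θ : {θ : IrrCharacter (pResidual p G) // θ ∈ principalBlock M (pResidual p G) ∧
        ¬ p ∣ charDegree (θ : pResidual p G → ℂ) ∧
        (∀ x ∈ (P : Subgroup G), ∀ n : pResidual p G,
          (θ : pResidual p G → ℂ) ⟨x * n * x⁻¹, hN.conj_mem n n.2 x⟩ =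
            (θ : pResidual p G → ℂ) n) ∧
        ∀ n : pResidual p G, (θ : pResidual p G → ℂ) (n ^ k) = (θ : pResidual p G → ℂ) n},
      ∃ χ : G → ℂ, IsIrrCharacter G χ ∧
        (∀ n : pResidual p G, χ n = ((θ : IrrCharacter (pResidual p G)) : pResidual p G → ℂ) n) ∧
        ∀ g : G, χ (g ^ k) = χ g := by
    intro θ
    obtain ⟨θ, hθB, hθdeg, hθP, hθfix⟩ := θ
    have hθcf := Helper74.isClassFunction_of_isCharacter (Helper74.isCharacter_of_isIrr θ.2)
    exact exists_sigma_fixed_extension p k hkc (θ : pResidual p G → ℂ) θ.2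
      (invariant_of_sylow_invariant p P hθcf hθP) hθdeg hθfix
  choose ext hext1 hext2 hext3 using hext
  -- the bijection
  have key : ∀ x : {θ : IrrCharacter (pResidual p G) // θ ∈ principalBlock M (pResidual p G) ∧
        ¬ p ∣ charDegree (θ : pResidual p G → ℂ) ∧
        (∀ x ∈ (P : Subgroup G), ∀ n : pResidual p G,
          (θ : pResidual p G → ℂ) ⟨x * n * x⁻¹, hN.conj_mem n n.2 x⟩ =
            (θ : pResidual p G → ℂ) n) ∧
        ∀ n : pResidual p G, (θ : pResidual p G → ℂ) (n ^ k) = (θ : pResidual p G → ℂ) n} ×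
        {μ : G ⧸ pResidual p G →* ℂˣ // μ ^ p = 1},
      ∀ ψ : IrrCharacter G,
      (ψ : G → ℂ) = (fun g => ((quotLin (pResidual p G) x.2.1 g : ℂˣ) : ℂ) * ext x.1 g) →
      ψ ∈ principalBlock M G ∧ ¬ p ∣ charDegree (ψ : G → ℂ) ∧
        ∀ g : G, (ψ : G → ℂ) (g ^ k) = (ψ : G → ℂ) g := by
    intro x
    exact twist_mem_of_pow_eq_one p hM k hk₁ P x.1.1 x.1.2.1 x.1.2.2.1 (hext1 x.1) (hext2 x.1)
      (hext3 x.1) x.2.1 x.2.2
  let f : {θ : IrrCharacter (pResidual p G) // θ ∈ principalBlock M (pResidual p G) ∧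
        ¬ p ∣ charDegree (θ : pResidual p G → ℂ) ∧
        (∀ x ∈ (P : Subgroup G), ∀ n : pResidual p G,
          (θ : pResidual p G → ℂ) ⟨x * n * x⁻¹, hN.conj_mem n n.2 x⟩ =
            (θ : pResidual p G → ℂ) n) ∧
        ∀ n : pResidual p G, (θ : pResidual p G → ℂ) (n ^ k) = (θ : pResidual p G → ℂ) n} ×
        {μ : G ⧸ pResidual p G →* ℂˣ // μ ^ p = 1} →
      {χ : IrrCharacter G // χ ∈ principalBlock M G ∧ ¬ p ∣ charDegree (χ : G → ℂ) ∧
        ∀ g : G, (χ : G → ℂ) (g ^ k) = (χ : G → ℂ) g} := fun x =>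
    ⟨⟨fun g => ((quotLin (pResidual p G) x.2.1 g : ℂˣ) : ℂ) * ext x.1 g,
        isIrrCharacter_twist (quotLin (pResidual p G) x.2.1) (hext1 x.1)⟩,
      key x _ rfl⟩
  have hfval : ∀ x g, ((f x : IrrCharacter G) : G → ℂ) g =
      ((quotLin (pResidual p G) x.2.1 g : ℂˣ) : ℂ) * ext x.1 g := fun x g => rfl
  have hfres : ∀ x (n : pResidual p G), ((f x : IrrCharacter G) : G → ℂ) n =
      ((x.1 : IrrCharacter (pResidual p G)) : pResidual p G → ℂ) n := by
    intro x n
    rw [hfval, quotLin_apply_mem, Units.val_one, one_mul, hext2]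
  have hbij : Function.Bijective f := by
    constructor
    · intro x y hxy
      have h1 : ∀ g, ((f x : IrrCharacter G) : G → ℂ) g = ((f y : IrrCharacter G) : G → ℂ) g := by
        intro g; rw [hxy]
      have hθ : x.1 = y.1 := by
        apply Subtype.ext
        apply Subtype.ext
        funext n
        rw [← hfres x n, ← hfres y n, h1]
      obtain ⟨θ₁, μ₁⟩ := x
      obtain ⟨θ₂, μ₂⟩ := y
      simp only at hθ
      subst hθ
      have hχN : IsIrrCharacter (pResidual p G) (fun n : pResidual p G => ext θ₁ n) := by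
        have h2 : (fun n : pResidual p G => ext θ₁ n) =
            ((θ₁ : IrrCharacter (pResidual p G)) : pResidual p G → ℂ) := funext (hext2 θ₁)
        rw [h2]; exact θ₁.1.2
      have h3 := quotLin_twist_injective (pResidual p G) (hext1 θ₁) hχN μ₁.1 μ₂.1
        (funext fun g => by rw [← hfval (θ₁, μ₁) g, ← hfval (θ₁, μ₂) g, h1])
      have h4 : μ₁ = μ₂ := Subtype.ext h3
      rw [h4]
    · rintro ⟨χ, hχB, hχdeg, hχfix⟩
      obtain ⟨θ, hres, hθB, hθdeg, hθinv, hθfix⟩ := restrict_mem_of_mem p hM k χ hχB hχdeg hχfix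
      let θ' : {θ : IrrCharacter (pResidual p G) // θ ∈ principalBlock M (pResidual p G) ∧
        ¬ p ∣ charDegree (θ : pResidual p G → ℂ) ∧
        (∀ x ∈ (P : Subgroup G), ∀ n : pResidual p G,
          (θ : pResidual p G → ℂ) ⟨x * n * x⁻¹, hN.conj_mem n n.2 x⟩ =
            (θ : pResidual p G → ℂ) n) ∧
        ∀ n : pResidual p G, (θ : pResidual p G → ℂ) (n ^ k) = (θ : pResidual p G → ℂ) n} :=
        ⟨θ, hθB, hθdeg, fun x _ n => hθinv x n, hθfix⟩
      have hχN : IsIrrCharacter (pResidual p G) (fun n : pResidual p G => ext θ' n) := by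
        have h2 : (fun n : pResidual p G => ext θ' n) = (θ : pResidual p G → ℂ) :=
          funext (hext2 θ')
        rw [h2]; exact θ.2
      obtain ⟨μ, hμ⟩ := exists_quotLin_twist_of_restrict_eq (pResidual p G) (hext1 θ') hχN χ.2
        (fun n => by rw [hres n, hext2 θ'])
      have hμp : μ ^ p = 1 := by
        apply (twist_fixed_iff p k hk₁ P (hext1 θ') hχN (hext3 θ') μ).mp
        intro g
        have h5 := hχfix g
        rw [hμ] at h5
        exact h5
      refine ⟨(θ', ⟨μ, hμp⟩), ?_⟩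
      apply Subtype.ext
      apply Subtype.ext
      funext g
      rw [hfval]
      exact (congrFun hμ g).symm
  rw [← Nat.card_congr (Equiv.ofBijective f hbij), Nat.card_prod, hΛ, mul_comm]

end

end Cfsg.Agent.Helper81
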