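import Mathlib
import Cfsg.Agent.Helper5.SpBN.Api
import Cfsg.Agent.S0774

set_option autoImplicit false

namespace Cfsg.Agent.Helper81.SpBNCARDB

open Matrix Cfsg.Agent.Helper5.SpBN

variable {F : Type*} [Field F] {m : ℕ}

/-- the Borel subgroup `Bsub` is the subgroup of `Sp` cut out by `BorelCond` of `S0774` -/
theorem mem_Bsub_iff_borelCond [Finite F] (g : SpG m F) :
    g ∈ Bsub m F ↔ Cfsg.Agent.S0774.BorelCond m g.1 := by
  constructor
  · intro hg
    rw [mem_Bsub_iff] at hg
    constructor
    · intro i j hji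
      apply hg
      rw [pos_inl, pos_inl]
      exact hji
    · intro i j
      apply hg
      rw [pos_inl, pos_inr]
      have := i.2
      have := j.2
      omega
  · intro hg
    have hmem : g ∈ (⨅ k : Fin m, Cfsg.stabilizing (Cfsg.spToMat m F)
        (Cfsg.Agent.S0774.flagSet F m k)) := (Cfsg.Agent.S0774.mem_iInf_iff m g).2 hg
    have hinv := (Cfsg.Agent.S0774.mem_iInf_iff m g⁻¹).1 (Subgroup.inv_mem _ hmem)
    rw [mem_Bsub_iff]
    rintro (i | i) (j | j) hab
    · exact hg.1 i j (by rw [pos_inl, pos_inl] at hab; exact hab)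
    · exfalso
      rw [pos_inl, pos_inr] at hab
      have := i.2
      have := j.2
      omega
    · exact hg.2 i j
    · have hij : i < j := by
        rw [pos_inr, pos_inr] at hab
        have := i.2
        have := j.2
        rw [Fin.lt_def]
        omega
      have h1 := inv_apply g (Sum.inl j) (Sum.inl i)
      have h2 : (g⁻¹ : SpG m F).1 (Sum.inl j) (Sum.inl i) = 0 := hinv.1 j i hij
      rw [h2] at h1
      simpa [sgn] using h1.symm

/-- (CARDB) the order of the Borel subgroup of `Sp_{2m}(q)` -/
theorem card_Bsub {F : Type*} [Field F] [Fintype F] {m : ℕ} :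
    Nat.card (Bsub m F) = Fintype.card F ^ (m ^ 2) * (Fintype.card F - 1) ^ m := by
  rw [← Cfsg.Agent.S0774.result (F := F) rfl m]
  exact Nat.card_congr (Equiv.subtypeEquivRight (fun g =>
    (mem_Bsub_iff_borelCond g).trans (Cfsg.Agent.S0774.mem_iInf_iff m g).symm))

end Cfsg.Agent.Helper81.SpBNCARDB
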