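import Mathlib
import Cfsg.Agent.Helper5.SpBN.Api

set_option autoImplicit false

namespace Cfsg.Agent.Helper81.SpBNN2

open Matrix Cfsg.Agent.Helper5.SpBN

variable {F : Type*} [Field F] {m : ℕ}

/-- a permutation of a finite type which does not increase a natural-valued injective function
is the identity -/
theorem perm_eq_one_of_le {α : Type*} [Fintype α] (f : α → ℕ) (hf : Function.Injective f)
    (π : Equiv.Perm α) (h : ∀ b, f (π b) ≤ f b) : π = 1 := by
  have hsum : ∑ b, f (π b) = ∑ b, f b := Equiv.sum_comp π f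
  have heq : ∀ b ∈ (Finset.univ : Finset α), f (π b) = f b := by
    by_contra hne
    push Not at hne
    obtain ⟨b, hb, hbne⟩ := hne
    have hlt : ∑ b, f (π b) < ∑ b, f b :=
      Finset.sum_lt_sum (fun b _ => h b) ⟨b, hb, lt_of_le_of_ne (h b) hbne⟩
    exact absurd hsum (ne_of_lt hlt)
  ext b
  exact hf (heq b (Finset.mem_univ b))

/-- the upper triangular monomial matrices of `Sp` are the diagonal ones -/
theorem Bsub_inf_Mono : Bsub m F ⊓ Mono m F = Tsub m F := by
  apply le_antisymm
  · rintro g ⟨hB, hM⟩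
    have hB' := (mem_Bsub_iff g).1 hB
    obtain ⟨π, hπ⟩ := (mem_Mono_iff g).1 hM
    have hle : ∀ b, pos (π b) ≤ pos b := by
      intro b
      by_contra hlt
      push Not at hlt
      exact mono_apply_ne_zero g π hπ b (hB' (π b) b hlt)
    have h1 : π = 1 := perm_eq_one_of_le pos pos_injective π hle
    rw [mem_Tsub_iff]
    intro a b hab
    apply hπ a b
    rw [h1]
    exact hab
  · exact le_inf Tsub_le_Bsub Tsub_le_Mono

end Cfsg.Agent.Helper81.SpBNN2
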