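import Mathlib
import Cfsg.Agent.Helper5.SpBN.Api

set_option autoImplicit false

namespace Cfsg.Agent.Helper81.SpBNN3

open Matrix Cfsg.Agent.Helper5.SpBN

variable {F : Type*} [Field F] {m : ℕ}

/-- a monomial matrix of `Sp` normalizes the torus -/
theorem conj_mem_Tsub (n : SpG m F) (hn : n ∈ Mono m F) (t : SpG m F) (ht : t ∈ Tsub m F) :
    n * t * n⁻¹ ∈ Tsub m F := by
  obtain ⟨π, hπ⟩ := (mem_Mono_iff n).1 hn
  rw [mem_Tsub_iff] at ht ⊢
  intro a' b' hab
  obtain ⟨a, rfl⟩ := π.surjective a'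
  obtain ⟨b, rfl⟩ := π.surjective b'
  have hab' : a ≠ b := fun h => hab (by rw [h])
  rw [mono_conj_apply' n π hπ t a b, ht a b hab', mul_zero, zero_mul]

end Cfsg.Agent.Helper81.SpBNN3
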