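import Mathlib
import Cfsg.Agent.Helper5.SpBN.Api

set_option autoImplicit false

namespace Cfsg.Agent.Helper81.SpBNS1

open Matrix Cfsg.Agent.Helper5.SpBN

variable {F : Type*} [Field F] {m : ℕ}

/-- the square of a distinguished representative of a simple reflection lies in the torus -/
theorem sq_mem_Tsub (s : SpG m F) (hs : s ∈ Sset m F) : s * s ∈ Tsub m F := by
  obtain ⟨k, hk⟩ := hs
  rw [mem_Tsub_iff]
  intro a b hab
  rw [coe_mul', hk, Matrix.mul_apply]
  apply Finset.sum_eq_zero
  intro c _
  rw [sMat_apply, sMat_apply]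
  by_cases hc : c = sPerm k b
  · have hac : a ≠ sPerm k c := by
      intro h
      apply hab
      rw [h, hc, sPerm_sPerm]
    rw [if_neg hac, zero_mul]
  · rw [if_neg hc, mul_zero]

end Cfsg.Agent.Helper81.SpBNS1
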