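import Mathlib
import Cfsg.Agent.Helper86.Spec4.Defs

/-!
# (M8) of helper86's S2510: a nontrivial idempotent matrix for `2 ≤ n`.
-/

set_option autoImplicit false

namespace Cfsg.Agent.Helper81.Spec4

open Matrix Cfsg.Agent.Helper86.Spec4

variable {F : Type*} [Field F] [Fintype F]

/-- (M8) a nontrivial idempotent (commuting with the identity), `2 ≤ n`. -/
theorem exists_idempotent {n : ℕ} (hn : 2 ≤ n) :
    ∃ e : Matrix (Fin n) (Fin n) F, e * e = e ∧ e ≠ 0 ∧ e ≠ 1 := by
  classical
  have h0 : 0 < n := by omega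
  have h1 : 1 < n := by omega
  let i0 : Fin n := ⟨0, h0⟩
  let i1 : Fin n := ⟨1, h1⟩
  have hne : i1 ≠ i0 := by
    intro h
    have := congrArg Fin.val h
    simp [i0, i1] at this
  refine ⟨Matrix.diagonal (fun i => if i = i0 then (1 : F) else 0), ?_, ?_, ?_⟩
  · rw [Matrix.diagonal_mul_diagonal]
    congr 1
    funext i
    by_cases h : i = i0 <;> simp [h]
  · intro h
    have := congrFun (congrFun h i0) i0
    simp at this
  · intro h
    have := congrFun (congrFun h i1) i1
    simp [hne] at this

end Cfsg.Agent.Helper81.Spec4
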