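import Cfsg.Agent.Helper6.SzChar0
import Cfsg.Agent.Helper15.IndChar
import Cfsg.Agent.Helper79.Linear

/-!
# [MI3] of helper6's S4775 farm (#11435): the principal series characters are irreducible

`szc_ps_irr_of` takes the statements of [MF] (Mackey for linear characters) and [MI2] (a linear
character trivial on `Q` and real on `H` is trivial) as explicit hypotheses.
-/

set_option autoImplicit false
set_option linter.unusedSectionVars false

namespace Cfsg.Agent.Helper81.Szc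

open Cfsg Cfsg.Agent.Helper6
open scoped ComplexConjugate

universe u

variable {G : Type u} [Group G] [Fintype G] {Q H B K₁ K₂ : Subgroup G} {w : G} {T : ℕ}
  [Fintype ↥B]

/-- a linear character has norm one -/
theorem MI3_inner_self (l : ↥B →* ℂ) :
    classInner (fun b : ↥B => l b) (fun b : ↥B => l b) = 1 :=
  Cfsg.Agent.Helper74.irr_inner_self
    (⟨fun b : ↥B => l b, Cfsg.Agent.Helper79.isIrrCharacter_of_monoidHom l⟩ : IrrCharacter ↥B)

/-- a non-trivial linear character trivial on `Q` is not real on `H` -/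
theorem MI3_exists_nonreal
    (hMI2 : ∀ l : ↥B →* ℂ, (∀ x : ↥B, (x : G) ∈ Q → l x = 1) →
      (∀ h : ↥B, (h : G) ∈ H → conj (l h) = l h) → ∀ b : ↥B, l b = 1)
    (l : ↥B →* ℂ) (hl : ∀ x : ↥B, (x : G) ∈ Q → l x = 1) (hne : ∃ b : ↥B, l b ≠ 1) :
    ∃ h : ↥B, (h : G) ∈ H ∧ l h ≠ conj (l h) := by
  by_contra hcon
  obtain ⟨b, hb⟩ := hne
  apply hb
  apply hMI2 l hl
  intro h hh
  by_contra hne'
  exact hcon ⟨h, hh, fun e => hne' e.symm⟩

/-- [MI3] from [MF] and [MI2] -/
theorem szc_ps_irr_of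
    (hMF : ∀ l μ : ↥B →* ℂ, (∀ x : ↥B, (x : G) ∈ Q → l x = 1) →
      (∀ x : ↥B, (x : G) ∈ Q → μ x = 1) → (∃ h : ↥B, (h : G) ∈ H ∧ l h ≠ conj (μ h)) →
      classInner (indFun B (fun b => l b)) (indFun B (fun b => μ b))
        = classInner (fun b : ↥B => l b) (fun b : ↥B => μ b))
    (hMI2 : ∀ l : ↥B →* ℂ, (∀ x : ↥B, (x : G) ∈ Q → l x = 1) →
      (∀ h : ↥B, (h : G) ∈ H → conj (l h) = l h) → ∀ b : ↥B, l b = 1)
    (l : ↥B →* ℂ)
    (hl : ∀ x : ↥B, (x : G) ∈ Q → l x = 1) (hne : ∃ b : ↥B, l b ≠ 1) :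
    IsIrrCharacter G (indFun B (fun b => l b)) := by
  have hsep := MI3_exists_nonreal hMI2 l hl hne
  have h1 := hMF l l hl hl hsep
  rw [MI3_inner_self] at h1
  have hchar : IsCharacter G (indFun B (fun b : ↥B => l b)) :=
    Cfsg.Agent.Helper15.isCharacter_indFun B
      (Cfsg.Agent.Helper74.isCharacter_of_isIrr
        (Cfsg.Agent.Helper79.isIrrCharacter_of_monoidHom l))
  exact Cfsg.Agent.Helper15.isIrrCharacter_of_inner_self_eq_one hchar h1

end Cfsg.Agent.Helper81.Szc
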