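import Cfsg.Agent.Helper81.SzcMI34
import Cfsg.Agent.Helper97.SzcMF

/-!
# [MI3], [MI4] of helper6's S4775 farm (#11435), hypothesis-free (with [MF] of helper97 and [MI2] of
helper24 plugged in)
-/

set_option autoImplicit false
set_option linter.unusedSectionVars false

namespace Cfsg.Agent.Helper81.Szc

open Cfsg Cfsg.Agent.Helper6
open scoped ComplexConjugate

universe u

variable {G : Type u} [Group G] [Fintype G] {Q H B K₁ K₂ : Subgroup G} {w : G} {T : ℕ}
  [Fintype ↥B]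

/-- MI3: the principal series characters are irreducible -/
theorem szc_ps_irr (D : SzHyp Q H B K₁ K₂ w T) (l : ↥B →* ℂ)
    (hl : ∀ x : ↥B, (x : G) ∈ Q → l x = 1) (hne : ∃ b : ↥B, l b ≠ 1) :
    IsIrrCharacter G (indFun B (fun b => l b)) :=
  szc_ps_irr_of_MF D
    (fun l μ hl hμ hs => Cfsg.Agent.Helper97.Szc.szc_mackey_lin D l μ hl hμ hs) l hl hne

/-- MI4: equality of principal series characters -/
theorem szc_ps_eq (D : SzHyp Q H B K₁ K₂ w T) (l μ : ↥B →* ℂ)
    (hl : ∀ x : ↥B, (x : G) ∈ Q → l x = 1) (hμ : ∀ x : ↥B, (x : G) ∈ Q → μ x = 1)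
    (hne : ∃ b : ↥B, l b ≠ 1)
    (h : indFun B (fun b => l b) = indFun B (fun b => μ b)) :
    (∀ b, μ b = l b) ∨ (∀ b, μ b = conj (l b)) :=
  szc_ps_eq_of_MF D
    (fun l μ hl hμ hs => Cfsg.Agent.Helper97.Szc.szc_mackey_lin D l μ hl hμ hs) l μ hl hμ hne h

end Cfsg.Agent.Helper81.Szc
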