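import Cfsg.Agent.Helper81.SzcMI3

/-!
# [MI4] of helper6's S4775 farm (#11435): equality of principal series characters

`szc_ps_eq_of` takes the statements of [MF] and [MI2] as explicit hypotheses.
-/

set_option autoImplicit false
set_option linter.unusedSectionVars false

namespace Cfsg.Agent.Helper81.Szc

open Cfsg Cfsg.Agent.Helper6
open scoped ComplexConjugate

universe u

variable {G : Type u} [Group G] [Fintype G] {Q H B K₁ K₂ : Subgroup G} {w : G} {T : ℕ}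
  [Fintype ↥B]

/-- two linear characters of `B` trivial on `Q` which are conjugate on `H` are conjugate -/
theorem MI4_conj_of_H (D : SzHyp Q H B K₁ K₂ w T) (l μ : ↥B →* ℂ)
    (hl : ∀ x : ↥B, (x : G) ∈ Q → l x = 1) (hμ : ∀ x : ↥B, (x : G) ∈ Q → μ x = 1)
    (hH : ∀ h : ↥B, (h : G) ∈ H → μ h = conj (l h)) : ∀ b, μ b = conj (l b) := by
  intro b
  obtain ⟨x, hx, h, hh, hb⟩ := D.sup (b : G) b.2
  have hb' : b = (⟨x, D.QB hx⟩ : ↥B) * (⟨h, D.HB hh⟩ : ↥B) := Subtype.ext hb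
  rw [hb', map_mul, map_mul, hμ ⟨x, D.QB hx⟩ hx, hl ⟨x, D.QB hx⟩ hx, one_mul, one_mul]
  exact hH ⟨h, D.HB hh⟩ hh

/-- [MI4] from [MF] and [MI2] -/
theorem szc_ps_eq_of (D : SzHyp Q H B K₁ K₂ w T)
    (hMF : ∀ l μ : ↥B →* ℂ, (∀ x : ↥B, (x : G) ∈ Q → l x = 1) →
      (∀ x : ↥B, (x : G) ∈ Q → μ x = 1) → (∃ h : ↥B, (h : G) ∈ H ∧ l h ≠ conj (μ h)) →
      classInner (indFun B (fun b => l b)) (indFun B (fun b => μ b))
        = classInner (fun b : ↥B => l b) (fun b : ↥B => μ b))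
    (hMI2 : ∀ l : ↥B →* ℂ, (∀ x : ↥B, (x : G) ∈ Q → l x = 1) →
      (∀ h : ↥B, (h : G) ∈ H → conj (l h) = l h) → ∀ b : ↥B, l b = 1)
    (l μ : ↥B →* ℂ)
    (hl : ∀ x : ↥B, (x : G) ∈ Q → l x = 1) (hμ : ∀ x : ↥B, (x : G) ∈ Q → μ x = 1)
    (hne : ∃ b : ↥B, l b ≠ 1)
    (h : indFun B (fun b => l b) = indFun B (fun b => μ b)) :
    (∀ b, μ b = l b) ∨ (∀ b, μ b = conj (l b)) := by
  by_cases hc : ∀ h : ↥B, (h : G) ∈ H → μ h = conj (l h)
  · exact Or.inr (MI4_conj_of_H D l μ hl hμ hc)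
  · left
    have hsep : ∃ h : ↥B, (h : G) ∈ H ∧ l h ≠ conj (μ h) := by
      by_contra hcon
      apply hc
      intro h hh
      by_contra hne'
      apply hcon
      refine ⟨h, hh, fun e => hne' ?_⟩
      rw [e, Complex.conj_conj]
    have h1 := hMF l μ hl hμ hsep
    have hirr := szc_ps_irr_of hMF hMI2 l hl hne
    have h2 : classInner (indFun B (fun b => l b)) (indFun B (fun b => μ b)) = 1 := by
      rw [← h]
      exact Cfsg.Agent.Helper74.irr_inner_self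
        (⟨indFun B (fun b : ↥B => l b), hirr⟩ : IrrCharacter G)
    rw [h2] at h1
    by_contra hcon
    have hne2 : (⟨fun b : ↥B => l b, Cfsg.Agent.Helper79.isIrrCharacter_of_monoidHom l⟩ :
        IrrCharacter ↥B) ≠
        ⟨fun b : ↥B => μ b, Cfsg.Agent.Helper79.isIrrCharacter_of_monoidHom μ⟩ := by
      intro e
      apply hcon
      intro b
      have := congrFun (congrArg Subtype.val e) b
      exact this.symm
    have h3 := Cfsg.Agent.Helper74.irr_inner_ne hne2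
    have h4 : (1 : ℂ) = 0 := h1.trans h3
    exact one_ne_zero h4

end Cfsg.Agent.Helper81.Szc
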