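import Mathlib
import Cfsg.Prelude.Def_Blocks
import Cfsg.Agent.Helper81.CliffordInd
import Cfsg.Agent.Helper81.Gallagher
import Cfsg.Agent.Helper81.LinTwist

/-!
# Linear twists of a character induced from an extension to the inertia group

* `hom_trivial_on_minimal_normal`: a homomorphism to `ℂˣ` is trivial on a non-abelian minimal
  normal subgroup;
* `twist_eq_one_on_inertia`: if `ψ ∈ Irr(I)` extends `φ ∈ Irr(N)`, `I` the inertia group of `φ`,
  `ν` a linear character of `G` trivial on `N` with `ν · ψ^G = ψ^G`, then `ν` is trivial on `I`.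
-/

set_option autoImplicit false

namespace Cfsg.Agent.Helper81

open Cfsg Cfsg.Agent.Helper15

universe u

/-- A homomorphism into a commutative group is trivial on a non-abelian minimal normal subgroup. -/
theorem hom_trivial_on_minimal_normal {G : Type*} [Group G] {A : Type*} [CommGroup A]
    (N : Subgroup G) (hN : N.Normal)
    (hmin : ∀ M : Subgroup G, M.Normal → M ≤ N → M = ⊥ ∨ M = N)
    (hna : ¬ IsMulCommutative ↥N) (ν : G →* A) : ∀ n ∈ N, ν n = 1 := by
  have := hN
  have hc : ⁅N, N⁆ = N := by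
    have hnorm : (⁅N, N⁆ : Subgroup G).Normal := Subgroup.commutator_normal N N
    have hle : ⁅N, N⁆ ≤ N := Subgroup.commutator_le_right N N
    rcases hmin _ hnorm hle with h | h
    · exfalso
      apply hna
      rw [Subgroup.commutator_eq_bot_iff_le_centralizer] at h
      refine ⟨⟨fun a b => Subtype.ext ?_⟩⟩
      have := h a.2 (b : G) b.2
      exact this.symm
    · exact h
  have hle : ⁅N, N⁆ ≤ ν.ker := by
    rw [Subgroup.commutator_le]
    intro a _ b _
    rw [MonoidHom.mem_ker, map_commutatorElement]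
    exact commutatorElement_eq_one_iff_commute.mpr (Commute.all _ _)
  intro n hn
  have h1 : n ∈ ⁅N, N⁆ := by rw [hc]; exact hn
  exact MonoidHom.mem_ker.mp (hle h1)

variable {G : Type u} [Group G] [Fintype G]

theorem twist_eq_one_on_inertia (N : Subgroup G) [hN : N.Normal] [Fintype N]
    {φ : N → ℂ} (hφ : IsIrrCharacter N φ) (I : Subgroup G) [Fintype I]
    (hI : I = inertia N φ) (hNI : N ≤ I)
    {ψ : I → ℂ} (hψ : IsIrrCharacter I ψ) (hψφ : resTo N I hNI ψ = φ)
    (ν : G →* ℂˣ) (hνN : ∀ n ∈ N, ν n = 1)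
    (hν : ∀ g : G, ((ν g : ℂˣ) : ℂ) * indFun I ψ g = indFun I ψ g) :
    ∀ i ∈ I, ν i = 1 := by
  classical
  set νI : I →* ℂˣ := ν.comp I.subtype with hνI
  set ψ' : I → ℂ := fun i : I => ((νI i : ℂˣ) : ℂ) * ψ i with hψ'
  have hψ'irr : IsIrrCharacter I ψ' := isIrrCharacter_twist νI hψ
  have hres' : resTo N I hNI ψ' = φ := by
    funext n
    rw [← hψφ]
    show ((ν (n : G) : ℂˣ) : ℂ) * ψ ⟨(n : G), hNI n.2⟩ = ψ ⟨(n : G), hNI n.2⟩
    rw [hνN n n.2, Units.val_one, one_mul]
  have hφφ : classInner φ φ ≠ 0 := by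
    rw [Helper74.irr_inner_self ⟨φ, hφ⟩]
    exact one_ne_zero
  have hνcf : IsClassFunction G (fun g => ((ν g : ℂˣ) : ℂ)) := by
    intro g h
    simp [mul_comm]
  have hind : indFun I ψ' = indFun I ψ := by
    have h1 : ψ' = ψ * fun i : I => (fun g => ((ν g : ℂˣ) : ℂ)) (i : G) := by
      funext i
      simp only [hψ', Pi.mul_apply, hνI, MonoidHom.comp_apply, Subgroup.coe_subtype]
      rw [mul_comm]
    rw [h1, indFun_mul_restrict I ψ _ hνcf]
    funext g
    simp only [Pi.mul_apply]
    rw [mul_comm]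
    exact hν g
  have heq : ψ' = ψ :=
    indFun_inertia_injective N hφ I hI hNI hψ'irr hψ (by rw [hres']; exact hφφ)
      (by rw [hψφ]; exact hφφ) hind
  -- now apply Gallagher's linear lemma inside `I`
  have hψM : IsIrrCharacter (N.subgroupOf I) (fun m : N.subgroupOf I => ψ m) := by
    rw [restrict_subgroupOf N I hNI ψ]
    apply isIrrCharacter_toSub N I hNI
    have : (fun n : N => ψ ⟨(n : G), hNI n.2⟩) = φ := hψφ
    rw [this]
    exact hφ
  have hνM : ∀ m ∈ N.subgroupOf I, νI m = 1 := by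
    intro m hm
    exact hνN (m : G) hm
  have hνψ : ∀ x : I, ((νI x : ℂˣ) : ℂ) * ψ x = ψ x := fun x => congrFun heq x
  intro i hi
  exact linear_eq_one_of_mul_eq hψ (N.subgroupOf I) hψM νI hνM hνψ ⟨i, hi⟩

end Cfsg.Agent.Helper81
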