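import Cfsg.Agent.Helper61.TwoPDefs
import Cfsg.Agent.Helper66.PD2Main
import Cfsg.Agent.Helper66.PD2Group

/-!
# (B4) of helper61's S4707: the standard form of the principal block, from the pieces (B1)-(B3)
taken as hypotheses.
-/

set_option autoImplicit false
set_option linter.unusedSectionVars false
set_option linter.unusedVariables false
set_option linter.style.haveILetI false

namespace Cfsg.Agent.Helper81.TwoP

open Cfsg MulAction Cfsg.Agent.Helper66.PD2 Cfsg.Agent.Helper66.BL Cfsg.Agent.Helper61.TwoP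
open scoped ComplexConjugate

/-- (B4), with (B1), (B2), (B3) as hypotheses. -/
theorem exists_std_of {G : Type*} [Group G] [Finite G] {p : ℕ} [Fact p.Prime] (P : Sylow p G)
    (hp5 : 5 ≤ p) (hP : Nat.card (P : Subgroup G) = p)
    (hC : Subgroup.centralizer ((P : Subgroup G) : Set G) = P)
    (hN : Nat.card (Subgroup.normalizer ((P : Subgroup G) : Set G)) = 2 * p)
    (hB1 : ∀ g : G, p ∣ orderOf g →
      (∃ x : G, x * g * x⁻¹ ∈ (P : Subgroup G) ∧ x * g * x⁻¹ ≠ 1) ∧ orderOf g = p)
    (hB2 : ∀ {M : Ideal AlgInt} {X Y : Set (IrrCharacter G)} {a : IrrCharacter G → ℤ} {d δ : ℤ}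
      {ζ : ((P : Subgroup G) →* ℂˣ) → IrrCharacter G}
      (D : BLData M P 2 X Y a d δ ζ) (hab : IsMulCommutative P) (y : G)
      (hy : y ∈ (P : Subgroup G)) (hy1 : y ≠ 1),
      ∑ᶠ η ∈ Y, (η : G → ℂ) y = (Nat.card Y : ℂ) * (d : ℂ) - (δ : ℂ))
    (hB3 : ∀ {M : Ideal AlgInt} {X Y : Set (IrrCharacter G)} {a : IrrCharacter G → ℤ} {d δ : ℤ}
      {ζ : ((P : Subgroup G) →* ℂˣ) → IrrCharacter G}
      (D : BLData M P 2 X Y a d δ ζ),
      ∃ χ1 : IrrCharacter G, χ1 ≠ Helper79.principalIrr G ∧ X = {Helper79.principalIrr G, χ1} ∧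
        (a χ1 = 1 ∨ a χ1 = -1) ∧ (d = 0 ∨ (d = δ ∧ p = 5))) :
    ∃ (ε δ : ℤ) (χ1 : IrrCharacter G) (Y : Set (IrrCharacter G)), Std G p ε δ χ1 Y := by
  classical
  have hp : p.Prime := Fact.out
  haveI : Finite (IrrCharacter G) := Helper79.irr_finite'
  obtain ⟨M, hM⟩ := Helper74.exists_isPModular p hp
  have hcomm := Helper61.PrimeDegree.comm_of_card_prime (P : Subgroup G) hP
  have hab : IsMulCommutative P :=
    ⟨⟨fun x y => Subtype.ext (hcomm x.1 x.2 y.1 y.2)⟩⟩
  have hcent : ∀ y : G, y ∈ (P : Subgroup G) → y ≠ 1 →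
      Subgroup.centralizer ({y} : Set G) = Subgroup.centralizer ((P : Subgroup G) : Set G) := by
    intro y hy hy1
    apply le_antisymm
    · intro g hg
      rw [Subgroup.mem_centralizer_singleton_iff] at hg
      rw [Subgroup.mem_centralizer_iff]
      intro z hz
      have hy1' : (⟨y, hy⟩ : (P : Subgroup G)) ≠ 1 := fun h => hy1 (congrArg Subtype.val h)
      have htop := zpowers_eq_top_of_prime_card (G := (P : Subgroup G)) hP hy1'
      have hzmem : (⟨z, hz⟩ : (P : Subgroup G)) ∈ Subgroup.zpowers (⟨y, hy⟩ : (P : Subgroup G)) := by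
        rw [htop]; exact Subgroup.mem_top _
      obtain ⟨k, hk⟩ := Subgroup.mem_zpowers_iff.mp hzmem
      have hk' : y ^ k = z := by
        have := congrArg Subtype.val hk
        simpa using this
      rw [← hk']
      have hc : Commute g y := hg
      exact ((hc.zpow_right k).eq).symm
    · exact Subgroup.centralizer_le (Set.singleton_subset_iff.mpr hy)
  have hfrob : ∀ y : G, y ∈ (P : Subgroup G) → y ≠ 1 →
      Subgroup.centralizer ({y} : Set G) ⊓ Subgroup.normalizer ((P : Subgroup G) : Set G) =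
        Subgroup.centralizer ((P : Subgroup G) : Set G) := by
    intro y hy hy1
    rw [hcent y hy hy1]
    exact inf_eq_left.mpr (Subgroup.centralizer_le_normalizer _)
  have hrel : (Subgroup.centralizer ((P : Subgroup G) : Set G)).relIndex
      (Subgroup.normalizer ((P : Subgroup G) : Set G)) = 2 := by
    have h1 := Helper17.card_centralizer_mul_relIndex (P : Subgroup G)
    rw [hC, hP, hN] at h1
    have hpos : 0 < p := hp.pos
    have : p * (Subgroup.centralizer ((P : Subgroup G) : Set G)).relIndex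
        (Subgroup.normalizer ((P : Subgroup G) : Set G)) = p * 2 := by
      rw [hC]; linarith
    exact Nat.eq_of_mul_eq_mul_left hpos this
  obtain ⟨X, Y, a, d, δ, ζ, D⟩ :=
    exists_BLData hM P hab (by rw [show Nat.card P = p from hP]; omega) 2
      (by rw [show Nat.card P = p from hP]; omega) hrel hfrob
  obtain ⟨χ1, hχ1, hX, ha, hd⟩ := hB3 D
  have hcardY : Nat.card Y * 2 = p - 1 := by
    have := D.cardY
    rwa [show Nat.card P = p from hP] at this
  have h1X : Helper79.principalIrr G ∈ X := D.one_mem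
  have hχ1X : χ1 ∈ X := by rw [hX]; exact Set.mem_insert_of_mem _ rfl
  have hXY : ∀ χ, χ ∈ X → χ ∉ Y := fun χ hX hY => (Set.disjoint_left.mp D.disj) hX hY
  -- the coefficient `c = |Y| d - δ = -δ'`
  set δ' : ℤ := δ - (Nat.card Y : ℤ) * d with hδ'
  have hδ'sign : δ' = 1 ∨ δ' = -1 := by
    rcases hd with hd0 | ⟨hdδ, hp5'⟩
    · rw [hδ', hd0, mul_zero, sub_zero]; exact D.sign
    · have hY2 : Nat.card Y = 2 := by omega
      rw [hδ', hY2, hdδ]
      rcases D.sign with h | h <;> rw [h] <;> norm_num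
  have hcoef : (Nat.card Y : ℂ) * (d : ℂ) - (δ : ℂ) = -(δ' : ℂ) := by
    rw [hδ']; push_cast; ring
  -- conjugating p-singular elements into P
  have hconj : ∀ g : G, p ∣ orderOf g → ∃ y : G, y ∈ (P : Subgroup G) ∧ y ≠ 1 ∧
      ∀ χ : IrrCharacter G, (χ : G → ℂ) g = (χ : G → ℂ) y := by
    intro g hg
    obtain ⟨⟨x, hx, hx1⟩, -⟩ := hB1 g hg
    exact ⟨x * g * x⁻¹, hx, hx1, fun χ => (Helper79.irr_isClassFunction χ g x).symm⟩
  refine ⟨a χ1, δ', χ1, Y, ?_⟩
  refine
    { eps := ha
      del := hδ'sign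
      chi_ne := hχ1
      chi_nmem := hXY χ1 hχ1X
      one_nmem := hXY _ h1X
      cardY := hcardY
      chi_sing := ?_
      sum_sing := ?_
      other_sing := ?_
      reg_eq := D.reg_eq
      rel := ?_ }
  · intro g hg
    obtain ⟨y, hy, hy1, hval⟩ := hconj g hg
    rw [hval χ1]
    exact D.valX χ1 hχ1X y y (isPPart_self P hy) hy hy1
  · intro g hg
    obtain ⟨y, hy, hy1, hval⟩ := hconj g hg
    rw [finsum_mem_congr rfl (fun η _ => hval η), hB2 D hab y hy hy1, hcoef]
  · intro χ hχ1' hχχ1 hχY g hg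
    obtain ⟨y, hy, hy1, hval⟩ := hconj g hg
    rw [hval χ]
    have hcard : Nat.card (Subgroup.centralizer ({y} : Set G)) = Nat.card P := by
      rw [hcent y hy hy1, hC]
    refine apply_eq_zero_of_not_mem_principalBlock hM P hab hfrob hy hy1 hcard χ ?_
    rw [D.union, hX]
    rintro ((h | h) | h)
    · exact hχ1' h
    · exact hχχ1 h
    · exact hχY h
  · intro η hη g hg
    have h := D.reg_rel η hη g hg
    rw [hX, finsum_mem_pair (Ne.symm hχ1), D.a_one, hcoef] at h
    have h1 : (Helper79.principalIrr G : G → ℂ) g = 1 := rfl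
    rw [h1] at h
    push_cast at h
    linear_combination h

end Cfsg.Agent.Helper81.TwoP
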