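import Mathlib
import Cfsg.Agent.Helper44.U4Defs
import Cfsg.Agent.Helper66.P4N1
import Cfsg.Agent.Helper81.P4N2V
import Cfsg.Agent.Helper64.P4N3
import Cfsg.Agent.Helper81.P4N4
import Cfsg.Agent.Helper76.P4N5
import Cfsg.Agent.Helper35.P4N6
import Cfsg.Agent.Helper82.P4N7
import Cfsg.Agent.Helper35.P4N9
import Cfsg.Agent.Helper64.P4N10
import Cfsg.Agent.Helper76.P4N11

/-!
Piece (DN) for helper44's S6001 (WANTED #9295): the trace constraint in `N0`
(assembly of helper99's (N1)–(N11); helper81).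
-/

set_option autoImplicit false
open scoped MatrixGroups

namespace Cfsg.Agent.Helper81.U4

open Matrix Polynomial Cfsg.Agent.Helper99.P4 Cfsg.Geo Cfsg.Agent.Helper44.U4

variable {F : Type*} [Field F]

/-- (DN) -/
theorem N0_trace_cases (h2 : (2 : F) ≠ 0) {i : F} (hi : i ^ 2 = -1) (g : GL (Fin 4) F)
    (hg : g ∈ N0 i hi) (r : ℕ) (hr : r.Prime) (hr2 : r ≠ 2)
    (hz : ∃ z : F, ((g ^ r : GL (Fin 4) F) : Matrix (Fin 4) (Fin 4) F) = z • 1)
    (hns : ∀ z : F, (g : Matrix (Fin 4) (Fin 4) F) ≠ z • 1) :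
    (r = 3 ∧ (trT g = 0 ∨ trT g = 1 ∨ trT g = 4)) ∨ (r = 5 ∧ (trT g = 0 ∨ trT g = 1)) := by
  classical
  obtain ⟨z, hz⟩ := hz
  obtain ⟨σ, lam, hσ⟩ := Cfsg.Agent.Helper66.P4.exists_sigma hi g hg
  have hrel : ∀ v, (g : Matrix (Fin 4) (Fin 4) F) * pw v =
      lam v • (pw (σ v) * (g : Matrix (Fin 4) (Fin 4) F)) := fun v => (hσ v).1
  have hadd : ∀ u v, σ (u + v) = σ u + σ v :=
    fun u v => (Cfsg.Agent.Helper64.P4.sigma_add h2 g σ lam hrel u v).1
  have hcoc : ∀ u v, lam (u + v) * sg (eps u v) = lam u * lam v * sg (eps (σ u) (σ v)) :=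
    fun u v => (Cfsg.Agent.Helper64.P4.sigma_add h2 g σ lam hrel u v).2
  have hpow : ∀ v, σ^[r] v = v := fun v => Cfsg.Agent.Helper81.P4.sigma_pow h2 g σ lam hrel r z hz v
  have hbil : ∀ u v, bil (σ u) (σ v) = bil u v :=
    fun u v => Cfsg.Agent.Helper76.P4.sigma_bil h2 g σ lam hrel u v
  obtain ⟨hcard, hmod⟩ := Cfsg.Agent.Helper35.P4.fix_card σ hadd r hr hpow
  have htr : trT g = ∑ v ∈ Finset.univ.filter (fun v : V4 => σ v = v), lam v :=
    Cfsg.Agent.Helper81.P4.trace_identity h2 g σ lam hrel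
  set Fix : Finset V4 := Finset.univ.filter (fun v : V4 => σ v = v) with hFix
  have hσ0 : σ 0 = 0 := by
    have h := hadd 0 0
    rw [add_zero] at h
    exact left_eq_add.mp h
  have h0 : (0 : V4) ∈ Fix := by
    rw [hFix, Finset.mem_filter]
    exact ⟨Finset.mem_univ _, hσ0⟩
  have hFadd : ∀ u ∈ Fix, ∀ v ∈ Fix, u + v ∈ Fix := by
    intro u hu v hv
    rw [hFix, Finset.mem_filter] at hu hv ⊢
    exact ⟨Finset.mem_univ _, by rw [hadd, hu.2, hv.2]⟩
  have hFmul : ∀ u ∈ Fix, ∀ v ∈ Fix, lam (u + v) = lam u * lam v := by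
    intro u hu v hv
    rw [hFix, Finset.mem_filter] at hu hv
    have h := hcoc u v
    rw [hu.2, hv.2] at h
    exact mul_right_cancel₀ (Cfsg.Agent.Helper76.P4.sg_ne_zero (F := F) (eps u v)) h
  have hsum := Cfsg.Agent.Helper82.P4.sum_fix lam Fix h0 hFadd hFmul
  -- the case `Fix = univ` is impossible
  have h16 : Fix.card ≠ 16 := by
    intro hc
    have huniv : Fix = Finset.univ := by
      apply Finset.eq_univ_of_card
      rw [hc]
      decide
    have hid : ∀ v, σ v = v := by
      intro v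
      have hv : v ∈ Fix := by rw [huniv]; exact Finset.mem_univ _
      rw [hFix, Finset.mem_filter] at hv
      exact hv.2
    have hrel' : ∀ v, (g : Matrix (Fin 4) (Fin 4) F) * pw v =
        lam v • (pw v * (g : Matrix (Fin 4) (Fin 4) F)) := by
      intro v
      have h := hrel v
      rwa [hid v] at h
    obtain ⟨s, u, hsu⟩ := Cfsg.Agent.Helper64.P4.scalar_mul_pw_of_sigma_id h2 g lam hrel'
    have hs : s ≠ 0 := by
      intro hs0
      rw [hs0, zero_smul] at hsu
      have h1 : (g : Matrix (Fin 4) (Fin 4) F) * ((g⁻¹ : GL (Fin 4) F) : Matrix (Fin 4) (Fin 4) F) = 1 := by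
        rw [← Units.val_mul, mul_inv_cancel, Units.val_one]
      rw [hsu, Matrix.zero_mul] at h1
      have h00 := congrFun (congrFun h1 0) 0
      simp at h00
    have hodd : Odd r := hr.odd_of_ne_two hr2
    have hpw : (s • (pw u : Matrix (Fin 4) (Fin 4) F)) ^ r = z • 1 := by
      rw [← hsu, ← Units.val_pow_eq_pow_val, hz]
    have hu0 := Cfsg.Agent.Helper76.P4.pw_zero_of_pow_scalar h2 s hs u r hodd z hpw
    rw [hu0, pw_zero] at hsu
    exact hns s hsu
  have hle : Fix.card ≤ 16 := by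
    have : Fix.card ≤ (Finset.univ : Finset V4).card := Finset.card_le_card (Finset.subset_univ _)
    have h16' : (Finset.univ : Finset V4).card = 16 := by decide
    omega
  have hdvd : r ∣ 16 - Fix.card := (Nat.modEq_iff_dvd' hle).1 hmod.symm
  have hr2' := hr.two_le
  -- the possible cardinalities
  have hcases : (r = 3 ∧ (Fix.card = 1 ∨ Fix.card = 4)) ∨ (r = 5 ∧ Fix.card = 1) := by
    simp only [Set.mem_insert_iff, Set.mem_singleton_iff] at hcard
    rcases hcard with hc | hc | hc | hc | hc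
    · rw [hc] at hdvd
      have hle15 : r ≤ 15 := Nat.le_of_dvd (by norm_num) hdvd
      interval_cases r <;> first | omega | (exfalso; revert hr; decide)
    · exfalso
      rw [hc] at hdvd
      have hle14 : r ≤ 14 := Nat.le_of_dvd (by norm_num) hdvd
      have h7 : r = 7 := by
        interval_cases r <;> first | omega | (exfalso; revert hr; decide)
      subst h7
      exact Cfsg.Agent.Helper35.P4.no_fix_two σ hadd hbil hpow hc
    · rw [hc] at hdvd
      have hle12 : r ≤ 12 := Nat.le_of_dvd (by norm_num) hdvd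
      interval_cases r <;> first | omega | (exfalso; revert hr; decide)
    · exfalso
      rw [hc] at hdvd
      have hle8 : r ≤ 8 := Nat.le_of_dvd (by norm_num) hdvd
      interval_cases r <;> first | omega | (exfalso; revert hr; decide)
    · exact absurd hc h16
  rw [htr]
  rcases hcases with ⟨h3, hc | hc⟩ | ⟨h5, hc⟩
  · left
    refine ⟨h3, ?_⟩
    rcases hsum with ⟨hs, _⟩ | hs
    · right; left
      rw [hs, hc, Nat.cast_one]
    · left; exact hs
  · left
    refine ⟨h3, ?_⟩
    rcases hsum with ⟨hs, _⟩ | hs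
    · right; right
      rw [hs, hc]
      norm_num
    · left; exact hs
  · right
    refine ⟨h5, ?_⟩
    rcases hsum with ⟨hs, _⟩ | hs
    · right
      rw [hs, hc, Nat.cast_one]
    · left; exact hs

end Cfsg.Agent.Helper81.U4
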