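import Mathlib
import Cfsg.Agent.Helper44.U4Defs
import Cfsg.Agent.Helper45.GUBasic

/-!
Piece (DX3a) for helper44's S6001 (WANTED #9295): the unitary derangement `diag(ω,ω,ω,1)` of
order three with `tr x * tr x⁻¹ = 7` (helper81).
-/

set_option autoImplicit false
open scoped MatrixGroups

namespace Cfsg.Agent.Helper81.U4

open Matrix Polynomial Cfsg.Agent.Helper99.P4 Cfsg.Geo Cfsg.Agent.Helper44.U4

variable {F : Type*} [Field F]

/-- a unit of order three when `p ≡ 2 (mod 3)` and `|F| = p ^ 2` -/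
theorem exists_omega [Fintype F] {p : ℕ} [Fact p.Prime]
    (hF : Fintype.card F = p ^ 2) (hp3 : p % 3 = 2) :
    ∃ ω : Fˣ, ω ^ 3 = 1 ∧ ω ≠ 1 ∧ ω ^ (p + 1) = 1 ∧ (ω : F) ^ 2 + (ω : F) + 1 = 0 := by
  classical
  have hp : p.Prime := Fact.out
  have hcard : Nat.card Fˣ = p ^ 2 - 1 := by
    rw [Nat.card_eq_fintype_card, Fintype.card_units, hF]
  have h3p : 3 ∣ p + 1 := by omega
  have h3 : 3 ∣ Nat.card Fˣ := by
    rw [hcard]
    have : p ^ 2 - 1 = (p + 1) * (p - 1) := by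
      have h1 : 1 ≤ p := hp.one_le
      obtain ⟨k, rfl⟩ : ∃ k, p = k + 1 := ⟨p - 1, by omega⟩
      simp only [Nat.add_sub_cancel]
      ring_nf
      omega
    rw [this]
    exact Dvd.dvd.mul_right h3p _
  have : Fact (Nat.Prime 3) := ⟨Nat.prime_three⟩
  obtain ⟨ω, hω⟩ := exists_prime_orderOf_dvd_card' (G := Fˣ) 3 h3
  have hω3 : ω ^ 3 = 1 := by rw [← hω]; exact pow_orderOf_eq_one ω
  have hω1 : ω ≠ 1 := by
    intro h
    rw [h, orderOf_one] at hω
    omega
  refine ⟨ω, hω3, hω1, ?_, ?_⟩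
  · obtain ⟨k, hk⟩ := h3p
    rw [hk, pow_mul, hω3, one_pow]
  · have h1 : ((ω : F) - 1) * ((ω : F) ^ 2 + (ω : F) + 1) = 0 := by
      have h : (ω : F) ^ 3 = 1 := by
        rw [← Units.val_pow_eq_pow_val, hω3, Units.val_one]
      linear_combination h
    rcases mul_eq_zero.1 h1 with h | h
    · exfalso
      apply hω1
      apply Units.ext
      rw [Units.val_one]
      exact sub_eq_zero.1 h
    · exact h

/-- (DX3a) `x = diag(ω,ω,ω,1)` -/
theorem exists_derangement_three_a [Fintype F] {p : ℕ} [Fact p.Prime] [CharP F p]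
    (hF : Fintype.card F = p ^ 2) (hp4 : p % 4 = 3) (hp3 : p % 3 = 2) :
    ∃ x ∈ SU4 F p, x ^ 3 = 1 ∧ (∀ z : F, (x : Matrix (Fin 4) (Fin 4) F) ≠ z • 1) ∧ trT x = 7 := by
  classical
  obtain ⟨bar, hbar⟩ := Cfsg.Agent.Helper45.GU.exists_bar hF
  obtain ⟨ω, hω3, hω1, hωp, hω2⟩ := exists_omega (F := F) hF hp3
  set d : Fin 4 → Fˣ := ![ω, ω, ω, 1] with hd
  have hdU : ∀ k, d k ∈ Cfsg.Agent.Helper45.GU.U1 F p := by
    intro k
    rw [Cfsg.Agent.Helper45.GU.U1, MonoidHom.mem_ker, powMonoidHom_apply]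
    fin_cases k
    · exact hωp
    · exact hωp
    · exact hωp
    · exact one_pow _
  have hd3 : ∀ k, d k ^ 3 = 1 := by
    intro k
    fin_cases k
    · exact hω3
    · exact hω3
    · exact hω3
    · exact one_pow _
  refine ⟨Cfsg.Agent.Helper45.GU.dgGL 4 d, ?_, ?_, ?_, ?_⟩
  · refine Subgroup.mem_inf.2 ⟨Cfsg.Agent.Helper45.GU.dgGL_mem 4 bar hbar d hdU, ?_⟩
    rw [Cfsg.Geo.specialLinear, MonoidHom.mem_ker, Cfsg.Agent.Helper45.GU.det_dgGL,
      Fin.prod_univ_four]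
    show ω * ω * ω * 1 = 1
    rw [mul_one, ← hω3, pow_succ, pow_two]
  · apply Units.ext
    rw [Units.val_pow_eq_pow_val, Cfsg.Agent.Helper45.GU.dgGL_coe, Matrix.diagonal_pow,
      Units.val_one, ← Matrix.diagonal_one]
    congr 1
    funext k
    show (d k : F) ^ 3 = 1
    rw [← Units.val_pow_eq_pow_val, hd3 k, Units.val_one]
  · intro z hz
    rw [Cfsg.Agent.Helper45.GU.dgGL_coe] at hz
    have h00 := congrFun (congrFun hz 0) 0
    have h33 := congrFun (congrFun hz 3) 3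
    simp only [Matrix.diagonal_apply_eq, Matrix.smul_apply, Matrix.one_apply_eq, smul_eq_mul,
      mul_one] at h00 h33
    apply hω1
    apply Units.ext
    have e0 : (d 0 : F) = (ω : F) := rfl
    have e3 : (d 3 : F) = 1 := by
      show ((1 : Fˣ) : F) = 1
      exact Units.val_one
    rw [Units.val_one, ← e0, h00, ← h33, e3]
  · have hinv : (((Cfsg.Agent.Helper45.GU.dgGL 4 d)⁻¹ : GL (Fin 4) F) : Matrix (Fin 4) (Fin 4) F)
        = diagonal (fun k => (((d k)⁻¹ : Fˣ) : F)) := rfl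
    rw [trT, hinv, Cfsg.Agent.Helper45.GU.dgGL_coe, Matrix.trace_diagonal, Matrix.trace_diagonal,
      Fin.sum_univ_four, Fin.sum_univ_four]
    have e0 : d 0 = ω := rfl
    have e1 : d 1 = ω := rfl
    have e2 : d 2 = ω := rfl
    have e3 : d 3 = 1 := rfl
    rw [e0, e1, e2, e3]
    have hinvω : ((ω⁻¹ : Fˣ) : F) = (ω : F) ^ 2 := by
      have : ω⁻¹ = ω ^ 2 := by
        rw [inv_eq_iff_mul_eq_one, ← pow_succ', hω3]
      rw [this, Units.val_pow_eq_pow_val]
    rw [hinvω, inv_one, Units.val_one]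
    have h3' : (ω : F) ^ 3 = 1 := by
      rw [← Units.val_pow_eq_pow_val, hω3, Units.val_one]
    linear_combination (9 : F) * h3' + 3 * hω2

end Cfsg.Agent.Helper81.U4
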